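import Cfsg.Agent.AG.B5a

/-! The `N̄`-lemma. -/

set_option autoImplicit false
set_option linter.unusedSectionVars false

namespace CfsgAG

open Subgroup CfsgFT CfsgL0
open scoped commutatorElement

universe u

section
variable {G : Type*} [Group G] [Finite G] {S V T V' T' E : Subgroup G} {h β : G}

protected theorem Spl.cj (hs : Spl S V T) {n : G} (hn : n ∈ 𝒩 S) : Spl S (cj n V) (cj n T) where
  two := hs.two
  comm := hs.comm
  V_le := CfsgH1.cj_le_of_mem_normalizer hn hs.V_le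
  T_le := CfsgH1.cj_le_of_mem_normalizer hn hs.T_le
  disj := by rw [← CfsgH1.cj_inf, hs.disj, CfsgH1.cj_eq_bot_iff]
  split := fun s hs' => by
    obtain ⟨a, ha, b, hb, e⟩ := hs.split _ (conj_mem_of_mem_norm (inv_mem hn) hs')
    refine ⟨_, CfsgH1.conj_mem_cj n ha, _, CfsgH1.conj_mem_cj n hb, ?_⟩
    calc s = n * (n⁻¹ * s * n⁻¹⁻¹) * n⁻¹ := by group
      _ = _ := by rw [e]; group
  sq := by
    rintro _ ⟨v, hv, rfl⟩
    exact conj_inv (hs.sq v hv)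
  four := by rw [CfsgH1.card_cj]; exact hs.four

protected theorem Tor.cj (ht : Tor S V T h) {n : G} (hn : n ∈ 𝒩 S) :
    Tor S (cj n V) (cj n T) (n * h * n⁻¹) where
  norm := mul_mem (mul_mem hn ht.norm) (inv_mem hn)
  normV := by rw [← CfsgH1.cj_normalizer]; exact CfsgH1.conj_mem_cj n ht.normV
  odd := by rw [CfsgH4.orderOf_conj']; exact ht.odd
  cent := by rw [← CfsgH1.cj_centralizer]; exact CfsgH1.conj_mem_cj n ht.cent
  trans := by
    rintro _ ⟨v, hv, rfl⟩ v1 _ ⟨w, hw, rfl⟩ w1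
    obtain ⟨i, rfl⟩ := ht.trans v hv (by rintro rfl; simp at v1) w hw (by rintro rfl; simp at w1)
    exact ⟨i, by rw [conj_pow]; simp [mul_assoc]⟩

theorem norm_le_norm_cent : 𝒩 S ≤ 𝒩 (𝒞 S) := CfsgH2.le_normalizer_centralizer le_rfl

theorem FN_le : FN S ≤ 𝒩 S :=
  qc_le_of_le_qm norm_le_norm_cent (centralizer_le_normalizer _) fittingOf_le

theorem norm_le_norm_FN : 𝒩 S ≤ 𝒩 (FN S) :=
  le_normalizer_qc norm_le_norm_cent le_normalizer_fittingOf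

/-- `F(N(S) / C(S))` is abelian -/
theorem FN_comm (ha : AG (𝒩 S)) : ⁅FN S, FN S⁆ ≤ 𝒞 S := by
  refine (qm_le_centralizer_iff (FN_le.trans norm_le_norm_cent)
    (FN_le.trans norm_le_norm_cent)).1 ?_
  rw [FN, qm_qc]
  exact (ha.qm norm_le_norm_cent).fit_comm

theorem le_FN {F : Subgroup G} (hF : F ≤ 𝒩 S) (hn : 𝒩 S ≤ 𝒩 (𝒞 S ⊔ F)) (hc : ⁅F, F⁆ ≤ 𝒞 S) :
    F ≤ FN S := by
  have h1 := hF.trans norm_le_norm_cent
  exact (qm_le_iff h1).1 (le_fittingOf (qm_mono hF)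
    ((qm_le_normalizer_iff norm_le_norm_cent h1).2 hn)
    (isNilpotent_of_isMulCommutative ((isMulCommutative_qm_iff h1).2 hc)))

protected theorem Reg.cj (hr : Reg S V T) {n : G} (hn : n ∈ 𝒩 S) : Reg S (cj n V) (cj n T) := by
  obtain ⟨h, hh, ht⟩ := hr
  exact ⟨_, conj_mem_of_mem_norm (norm_le_norm_FN hn) hh, ht.cj hn⟩

protected theorem Exc.cj (he : Exc S V T E β) {n : G} (hn : n ∈ 𝒩 S) :
    Exc S (cj n V) (cj n T) (cj n E) (n * β * n⁻¹) := by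
  have e : cj n (S ⊓ 𝒞₁ β) = S ⊓ 𝒞₁ (n * β * n⁻¹) := by
    rw [CfsgH1.cj_inf, CfsgH1.cj_centralizer_singleton, CfsgH1.cj_eq_of_mem_normalizer hn]
  have hs := he.spl.cj hn
  exact
    { four := by rw [CfsgH1.card_cj]; exact he.four
      le := CfsgH1.cj_mono n he.le
      E_le := hs.V_le
      ea := ⟨elem_of_sq hs.sq, by rw [CfsgH1.card_cj]; exact he.ea.2⟩
      mem := conj_mem_of_mem_norm (norm_le_norm_FN hn) he.mem
      tor := e ▸ he.tor.cj hn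
      spl := e ▸ hs
      cent := e ▸ CfsgH1.cj_mono n he.cent }

theorem Exc0.exc (hs : Spl S V T) (hm : β ∈ FN S) (ho : Odd (orderOf β)) (h7 : β ^ 7 ∈ 𝒞 S)
    (h4 : #V = 4) (h8 : #⁅S, zpowers β⁆ = 8) (hsq : ∀ v ∈ ⁅S, zpowers β⁆, v * v = 1)
    (hle : V ≤ ⁅S, zpowers β⁆) (hc : S ⊓ 𝒞₁ β ≤ T) : Exc S V T ⁅S, zpowers β⁆ β := by
  have hn : zpowers β ≤ 𝒩 S := zpowers_le.2 (FN_le hm)
  have hco : (#(zpowers β)).Coprime #S :=
    (coprime_two_of_odd hs.two (by rwa [Nat.card_zpowers])).symm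
  have hb := CfsgH2.commutator_inf_centralizer_eq_bot hn hco
    (le_centralizer_iff_isMulCommutative.1 hs.comm)
  rw [CfsgH2.centralizer_zpowers] at hb
  have hES : ⁅S, zpowers β⁆ ≤ S := commutator_le_left_of_le_normalizer hn
  have hE : zpowers β ≤ 𝒩 ⁅S, zpowers β⁆ := CfsgH2.le_normalizer_commutator hn le_normalizer
  refine ⟨h4, hle, hES, ⟨elem_of_sq hsq, h8⟩, hm, ⟨FN_le hm, hE (mem_zpowers β), ho,
    mem_cent_iff.2 fun b hb => (mem_c1.1 hb.2).symm, fun v hv v1 w hw w1 => ?_⟩,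
    ⟨hs.two, hs.comm, hES, inf_le_left, eq_bot_iff.2 ((inf_le_inf_left _ inf_le_right).trans hb.le),
      fun s hs' => ?_, hsq, by omega⟩, hc⟩
  · have hsub : cl (zpowers β) v ⊆ (⁅S, zpowers β⁆ : Subgroup G) \ {1} := fun y hy => by
      obtain ⟨g, hg, rfl⟩ := mem_cl.1 hy
      exact ⟨conj_mem_of_mem_norm (hE hg) hv, conj_ne_one v1⟩
    have h7' : (((⁅S, zpowers β⁆ : Subgroup G) : Set G) \ {1}).ncard = 7 := by
      rw [Set.ncard_sdiff_singleton_of_mem (one_mem _)]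
      have : ((⁅S, zpowers β⁆ : Subgroup G) : Set G).ncard = 8 := h8
      omega
    have e1 := card_cl_mul (zpowers β) v
    have hpow : β ^ (cl (zpowers β) v).ncard ∈ 𝒞₁ v := by
      rw [← CfsgH1.card_mul_relIndex (inf_le_left : zpowers β ⊓ 𝒞₁ v ≤ _)] at e1
      rw [Nat.eq_of_mul_eq_mul_left Nat.card_pos e1]
      have : ((zpowers β ⊓ 𝒞₁ v).subgroupOf (zpowers β)).Normal :=
        CfsgL0.normal_subgroupOf_of_le_normalizer (((zpowers_comm β).trans (cent_anti inf_le_left)).trans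
          (centralizer_le_normalizer _))
      exact (mem_subgroupOf.1 (((zpowers β ⊓ 𝒞₁ v).subgroupOf (zpowers β)).pow_index_mem
        ⟨β, mem_zpowers β⟩)).2
    have h3 : cl (zpowers β) v = ((⁅S, zpowers β⁆ : Subgroup G) : Set G) \ {1} := by
      refine Set.eq_of_subset_of_ncard_le hsub ?_
      rw [h7']
      by_contra hlt
      have h0 : (cl (zpowers β) v).ncard ≠ 0 := fun e => by
        rw [e, mul_zero] at e1; exact Nat.card_pos.ne e1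
      have hcop : Nat.Coprime (cl (zpowers β) v).ncard 7 :=
        ((Nat.Prime.coprime_iff_not_dvd (by norm_num)).2 fun hd => by
          have := Nat.le_of_dvd (by omega) hd; omega).symm
      have h1 : β ∈ 𝒞₁ v := by
        have h2 : β ^ 7 ∈ 𝒞₁ v := mem_c1.2 (mem_cent_iff.1 h7 v (hES hv))
        have e2 : β = (β ^ (cl (zpowers β) v).ncard) ^ Nat.gcdA (cl (zpowers β) v).ncard 7 *
            (β ^ 7) ^ Nat.gcdB (cl (zpowers β) v).ncard 7 := by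
          rw [← zpow_natCast, ← zpow_natCast, ← zpow_mul, ← zpow_mul, ← zpow_add,
            ← Nat.gcd_eq_gcd_ab, hcop.gcd_eq_one]
          simp
        rw [e2]
        exact mul_mem (zpow_mem hpow _) (zpow_mem h2 _)
      exact v1 (eq_one_of_inf hb hv (mem_c1.2 (mem_c1.1 h1).symm))
    obtain ⟨y, hy, rfl⟩ := mem_cl.1 (h3.ge ⟨hw, w1⟩)
    obtain ⟨i, rfl⟩ := mem_powers_iff_mem_zpowers.2 hy
    exact ⟨i, rfl⟩
  · obtain ⟨a, ha, b, hb, e⟩ := CfsgH2.exists_commutator_mul_centralizer hn hco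
      (Or.inr (solv_two hs.two)) hs'
    rw [CfsgH2.centralizer_zpowers] at hb
    exact ⟨a, ha, b, hb, e⟩

theorem exists_odd_compl_ge {Y D : Subgroup G} (hS : IsSylowOf 2 S Y) (hn : Y ≤ 𝒩 S) (hD : D ≤ Y)
    (ho : Odd #D) : ∃ A ≤ Y, D ≤ A ∧ Odd #A ∧ S ⊔ A = Y := by
  obtain ⟨A, hA, hDA⟩ := CfsgH2.exists_isHallOf_ge (π := {2}ᶜ) (solvable_of_normal_syl hS hn) hD
    (isPi_compl_singleton.2 (by rwa [Nat.two_dvd_ne_zero, ← Nat.odd_iff]))
  refine ⟨A, hA.1, hDA, ?_, ?_⟩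
  · rw [Nat.odd_iff, ← Nat.two_dvd_ne_zero]; exact isPi_compl_singleton.1 hA.2.1
  · apply le_antisymm (sup_le hS.1 hA.1)
    apply CfsgH2.le_of_forall_sylow
    intro q hq _
    have := Fact.mk hq
    by_cases e : q = 2
    · subst e; exact ⟨S, hS, le_sup_left⟩
    · obtain ⟨P, hP⟩ := CfsgH2.exists_isSylowOf (p := q) A
      exact ⟨P, (isSylowOf_hall_iff hA e hP.1).1 hP, hP.1.trans le_sup_right⟩

section quot
variable {D : Subgroup G} (hD : Odd #D) (h2 : IsPGroup 2 S) (hn : S ≤ 𝒩 D)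
include hD h2

theorem qp_two_eq_one {x : 𝒩 D} (hx : (x : G) ∈ S) (h : qp D x = 1) : (x : G) = 1 :=
  eq_one_of_two_odd h2 hD hx (qp_eq_one_iff.1 h)

theorem mem_of_qp_mem {W : Subgroup G} (hW : W ≤ S) {x : 𝒩 D} (hx : (x : G) ∈ S)
    (h : qp D x ∈ qm D W) : (x : G) ∈ W := by
  obtain ⟨y, hy, e⟩ := mem_qm.1 h
  have := eq_one_of_two_odd h2 hD (mul_mem (inv_mem (hW hy)) hx) (qp_eq_iff.1 e)
  rwa [← inv_mul_eq_one.1 this]

include hn in
theorem Spl.qm' (hs : Spl S V T) : Spl (qm D S) (qm D V) (qm D T) where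
  two := isPGroup_qm hs.two
  comm := qm_le_centralizer hs.comm
  V_le := qm_mono hs.V_le
  T_le := qm_mono hs.T_le
  disj := eq_bot_iff.2 fun y hy => by
    obtain ⟨x, hx, rfl⟩ := mem_qm.1 hy.1
    have := eq_one_of_inf hs.disj hx (mem_of_qp_mem hD h2 hs.T_le (hs.V_le hx) hy.2)
    rw [show x = 1 from Subtype.ext this, map_one]
    exact one_mem _
  split := fun y hy => by
    obtain ⟨x, hx, rfl⟩ := mem_qm.1 hy
    obtain ⟨a, ha, b, hb, e⟩ := hs.split x hx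
    exact ⟨_, qp_mem_qm (x := ⟨a, hn (hs.V_le ha)⟩) ha, _, qp_mem_qm (x := ⟨b, hn (hs.T_le hb)⟩) hb,
      by rw [← map_mul]; exact congrArg _ (Subtype.ext e)⟩
  sq := fun y hy => by
    obtain ⟨x, hx, rfl⟩ := mem_qm.1 hy
    rw [← map_mul, show x * x = 1 from Subtype.ext (hs.sq x hx), map_one]
  four := by rw [card_qm_two hD (hs.V_le.trans hn) (hs.two.to_le hs.V_le)]; exact hs.four

end quot

theorem Tor.qm' {D : Subgroup G} {x : 𝒩 D} (ht : Tor S V T (x : G)) :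
    Tor (qm D S) (qm D V) (qm D T) (qp D x) where
  norm := qm_le_normalizer (zpowers_le.2 ht.norm) (qp_mem_qm (mem_zpowers _))
  normV := qm_le_normalizer (zpowers_le.2 ht.normV) (qp_mem_qm (mem_zpowers _))
  odd := Odd.of_dvd_nat ht.odd (by rw [orderOf_coe]; exact orderOf_map_dvd _ _)
  cent := qm_le_centralizer (zpowers_le.2 ht.cent) (qp_mem_qm (mem_zpowers _))
  trans := fun v hv v1 w hw w1 => by
    obtain ⟨a, ha, rfl⟩ := mem_qm.1 hv
    obtain ⟨b, hb, rfl⟩ := mem_qm.1 hw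
    obtain ⟨i, e⟩ := ht.trans a ha (fun e => v1 (by rw [show a = 1 from Subtype.ext e, map_one]))
      b hb fun e => w1 (by rw [show b = 1 from Subtype.ext e, map_one])
    exact ⟨i, by rw [← map_pow, ← map_mul, ← map_inv, ← map_mul]; exact congrArg _ (Subtype.ext e)⟩

/-- b9 -/
theorem reg_or_exc (ha : AG (𝒩 S)) (hS : IsSylowOf 2 S (𝒩 S)) (hs : Spl S V T) (ht : Tor S V T h) :
    Reg S V T ∨ ∃ E β, Exc S V T E β := by
  set D := Oc (𝒞 S) with hD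
  have hDo : Odd #D := odd_oc _
  have hDC : D ≤ 𝒞 S := oc_le
  have hN : 𝒩 S ≤ 𝒩 D := norm_le_norm_cent.trans norm_le_norm_oc
  have hSD : S ≤ 𝒩 D := le_normalizer.trans hN
  have hC : 𝒞 S ≤ D ⊔ S := by
    obtain ⟨B, hB, ho, e⟩ := exists_odd_compl (hS.mono hs.comm (centralizer_le_normalizer _))
      (centralizer_le_normalizer _)
    rw [← e, sup_comm]
    exact sup_le_sup_right (le_oc hB (e.ge.trans (sup_le ((le_centralizer_iff.1 hB).trans
      (centralizer_le_normalizer _)) le_normalizer)) ho) _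
  obtain ⟨A, hA, hhA, ho, e⟩ := exists_odd_compl_ge hS le_rfl (zpowers_le.2 ht.norm)
    (by rw [Nat.card_zpowers]; exact ht.odd)
  have hF : qc D (fittingOf (qm D A)) ≤ FN S := by
    have h1 : qc D (fittingOf (qm D A)) ≤ 𝒩 S :=
      qc_le_of_le_qm hN (hDC.trans (centralizer_le_normalizer _)) (fittingOf_le.trans (qm_mono hA))
    refine le_FN h1 (e.ge.trans (sup_le (hs.comm.trans (le_sup_left.trans le_normalizer))
      (CfsgH2.le_normalizer_sup (hA.trans norm_le_norm_cent)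
        (le_normalizer_qc (hA.trans hN) le_normalizer_fittingOf)))) (le_trans ?_ hDC)
    refine (qm_le_centralizer_iff (h1.trans hN) (h1.trans hN)).1 ?_
    rw [qm_qc]
    exact ((ha.mono hA).qm (hA.trans hN)).fit_comm
  have h0 : qm D A ⊓ 𝒞 (qm D S) = ⊥ := eq_bot_iff.2 fun y hy => by
    obtain ⟨x, hx, rfl⟩ := mem_qm.1 hy.1
    refine eq_one_of_two_odd (isPGroup_qm hs.two) (odd_card_qm ho)
      ((qp_mem_qm_iff hSD).2 (hC (mem_cent_iff.2 fun s hs' => ?_))) hy.1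
    have h1 := mem_cent_iff.1 hy.2 _ (qp_mem_qm (x := ⟨s, hSD hs'⟩) hs')
    have h3 := qp_two_eq_one hDo hs.two (x := x * ⟨s, hSD hs'⟩ * x⁻¹ * ⟨s, hSD hs'⟩⁻¹)
      (mul_mem (conj_mem_of_mem_norm (hA hx) hs') (inv_mem hs'))
      (by rw [map_mul, map_mul, map_mul, h1, map_inv, map_inv]; group)
    exact mul_inv_eq_iff_eq_mul.1 (mul_inv_eq_one.1 h3)
  rcases (Tor.qm' (x := ⟨h, hN ht.norm⟩) ht).core (hs.qm' hDo hs.two hSD)
    ((ha.mono hA).qm (hA.trans hN)) (odd_card_qm ho) (qm_le_normalizer hA) h0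
    (qp_mem_qm (hhA (mem_zpowers h))) with h1 | ⟨b, hb, he⟩
  · exact Or.inl ⟨h, hF (coe_mem_qc.2 h1), ht⟩
  obtain ⟨x, hx, rfl⟩ := mem_qm.1 (fittingOf_le hb)
  have hxS : zpowers (x : G) ≤ 𝒩 S := zpowers_le.2 (hA hx)
  have hES : ⁅S, zpowers (x : G)⁆ ≤ S := commutator_le_left_of_le_normalizer hxS
  have hq : qm D ⁅S, zpowers (x : G)⁆ = ⁅qm D S, zpowers (qp D x)⁆ := by
    rw [qm_commutator hSD (hxS.trans hN), qm_zpowers]
  refine Or.inr ⟨_, x, Exc0.exc hs (hF (coe_mem_qc.2 hb)) (odd_orderOf_of_mem ho hx)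
    (hDC ((qp_eq_one_iff (x := x ^ 7)).1 (by rw [map_pow, he.pow]))) ?_ ?_ (fun v hv => ?_)
    (fun v hv => ?_) fun s hs' => ?_⟩
  · rw [← he.four, card_qm_two hDo (hs.V_le.trans hSD) (hs.two.to_le hs.V_le)]
  · rw [← he.card, ← hq, card_qm_two hDo (hES.trans hSD) (hs.two.to_le hES)]
  · exact qp_two_eq_one hDo hs.two (x := ⟨v, hSD (hES hv)⟩ * ⟨v, hSD (hES hv)⟩)
      (mul_mem (hES hv) (hES hv)) (by rw [map_mul]; exact he.sq _ (hq ▸ qp_mem_qm hv))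
  · exact mem_of_qp_mem hDo hs.two hES (x := ⟨v, hSD (hs.V_le hv)⟩) (hs.V_le hv)
      (hq ▸ he.le (qp_mem_qm hv))
  · exact mem_of_qp_mem hDo hs.two hs.T_le (x := ⟨s, hSD hs'.1⟩) hs'.1
      (he.cent (qm_c1_le x (qp_mem_qm hs')))

theorem reg_reg (ha : AG (𝒩 S)) (hs : Spl S V T) (hs' : Spl S V' T') (hr : Reg S V T)
    (hr' : Reg S V' T') : V = V' ∧ T = T' ∨ V ≤ T' ∧ V' ≤ T := by
  obtain ⟨h, hh, ht⟩ := hr
  obtain ⟨h', hh', ht'⟩ := hr'
  obtain ⟨h1, h2⟩ := hs.norm_of ht.norm ht.normV ht.cent (ht.inf_c1 hs) ht'.norm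
    (FN_comm ha (commutator_mem_commutator hh' hh))
  obtain ⟨h3, h4⟩ := hs'.norm_of ht'.norm ht'.normV ht'.cent (ht'.inf_c1 hs') ht.norm
    (FN_comm ha (commutator_mem_commutator hh hh'))
  have a1 := ht'.le_or hs' hs.V_le h1
  have a2 := ht'.le_or hs' hs.T_le h2
  have a3 := ht.le_or hs hs'.V_le h3
  have a4 := ht.le_or hs hs'.T_le h4
  by_cases e : V ≤ T'
  · exact Or.inr ⟨e, a3.resolve_left fun e' =>
      hs.ne_bot (eq_bot_iff.2 ((le_inf e' e).trans hs'.disj.le))⟩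
  · have e' : ¬ V' ≤ T := fun e' =>
      hs'.ne_bot (eq_bot_iff.2 ((le_inf (a1.resolve_right e) e').trans hs.disj.le))
    exact Or.inl ⟨le_antisymm (a3.resolve_right e') (a1.resolve_right e),
      le_antisymm (a2.resolve_left e') (a4.resolve_left e)⟩

theorem exc_reg (ha : AG (𝒩 S)) (hs' : Spl S V' T') (he : Exc S V T E β) (hr' : Reg S V' T') :
    V' ≤ T ∧ E ≤ T' ∨ V' = E ∧ T' ≤ T := by
  rcases reg_reg ha he.spl hs' ⟨β, he.mem, he.tor⟩ hr' with ⟨h1, h2⟩ | ⟨h1, h2⟩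
  · exact Or.inr ⟨h1.symm, h2.ge.trans he.cent⟩
  · exact Or.inl ⟨h2.trans he.cent, h1⟩

/-- the conjugates of `V` under `β` meet `V` and generate `E` -/
theorem Exc.le_of (he : Exc S V T E β) {W : Subgroup G} (hV : V ≤ W)
    (h : ∀ v ∈ V, v ≠ 1 → β * v * β⁻¹ ∈ W → β ∈ 𝒩 W) : β ∈ 𝒩 W ∧ E ≤ W := by
  have h1 : cj β V ≤ E := CfsgH1.cj_le_of_mem_normalizer he.tor.normV he.le
  have h2 : cj β V ⊓ V ≠ ⊥ := fun e => by
    have h3 := CfsgH2.card_sup_of_disjoint (h1.trans (((comm_of_sq he.spl.sq).trans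
      (cent_anti he.le)).trans (centralizer_le_normalizer _))) e
    have h4 := card_le_of_le (sup_le h1 he.le)
    rw [h3, CfsgH1.card_cj, he.four, he.ea.2] at h4
    omega
  obtain ⟨_, ⟨⟨v, hv, rfl⟩, hw⟩, w1⟩ := exists_ne_one h2
  have h3 := h v hv (by rintro rfl; simp at w1) (hV hw)
  refine ⟨h3, ?_⟩
  rcases he.tor.irr (inf_le_left : E ⊓ W ≤ E) (inf_normalizer_le_normalizer_inf
    (mem_inf.2 ⟨he.tor.normV, h3⟩)) with e | e
  · have := card_le_of_le ((le_inf he.le hV).trans e.le)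
    rw [he.four, card_bot] at this
    omega
  · exact e.ge.trans inf_le_right

end

variable {G : Type u} [Group G] [Finite G] {S X Y K E : Subgroup G} {β : G}

theorem PK.reg_or_exc (c : Ctx G) (hS : IsSylowOf 2 S ⊤) (h : PK S X) :
    Reg S (S ⊓ X) (S ⊓ CO X) ∨ ∃ E β, Exc S (S ⊓ X) (S ⊓ CO X) E β := by
  obtain ⟨g, -, hg⟩ := h.tor c
  exact CfsgAG.reg_or_exc (c.ag.mono le_top) (hS.mono le_normalizer le_top) (h.spl c) hg

/-- a 2-component containing `V` contains `E` if `β` normalises `Y` -/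
theorem Exc.le_c2 (c : Ctx G) {V T : Subgroup G} (he : Exc S V T E β) (hY : Y ≠ ⊤) (hK : C2 Y K)
    (hβ : β ∈ 𝒩 Y) (hV : V ≤ K) : β ∈ 𝒩 K ∧ E ≤ K :=
  he.le_of hV fun v hv v1 h => CfsgH1.mem_normalizer_iff_cj.2
    ((hK.cj_of_mem hβ).eq_of_mem c hY hK (CfsgH1.conj_mem_cj β (hV hv)) h (conj_ne_one v1)
      (conj_inv (he.spl.sq v (he.le hv))))

theorem C2.not_exc (c : Ctx G) {T : Subgroup G} (hY : Y ≠ ⊤) (hK : C2 Y K)
    (he : Exc S (S ⊓ K) T E β) (hβ : β ∈ 𝒩 Y) : False := by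
  have := card_le_of_le (le_inf he.E_le (he.le_c2 c hY hK hβ inf_le_right).2)
  rw [he.four, he.ea.2] at this
  omega

theorem C2.reg (c : Ctx G) (hS : IsSylowOf 2 S ⊤) (hY : Y ≠ ⊤) (hK : C2 Y K) (hN : 𝒩 S ≤ Y) :
    Reg S (S ⊓ K) (S ⊓ CO K) :=
  ((hK.pk c hY (hS.mono (le_normalizer.trans hN) le_top)).reg_or_exc c hS).resolve_right
    fun ⟨_, _, he⟩ => hK.not_exc c hY he (le_normalizer (hN (FN_le he.mem)))

/-- the exceptional case pumps up to a `J₁`-component -/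
theorem PK.exc_pump (c : Ctx G) (hS : IsSylowOf 2 S ⊤) (h : PK S X)
    (he : Exc S (S ⊓ X) (S ⊓ CO X) E β) {b : G} (hb : b ∈ S ⊓ 𝒞₁ β) (h1 : b ≠ 1) :
    ∃ J, C2 (𝒞₁ b) J ∧ CfsgAG.cT X (S ⊓ CO X) ≤ J ∧ TyJ J ∧ S ⊓ J = E ∧ S ⊓ CO J ≤ CO X := by
  have hY := c.simp.cent_ne_top h1
  have hSY : IsSylowOf 2 S (𝒞₁ b) :=
    hS.mono (fun s hs => mem_c1.2 (he.spl.mc hs hb.1)) le_top
  have hT := h.cT c (le_refl (S ⊓ CO X))
  obtain ⟨J, hJ, hle⟩ := pump c hY hSY hT.pqs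
    (fun y hy => mem_c1.2 (mem_cent_iff.1 (cT_le hy).2 b (he.cent hb))) hT.norm
  have e1 := h.inf_cT c (le_refl (S ⊓ CO X))
  have hE := le_inf he.E_le (he.le_c2 c hY hJ (le_normalizer (mem_c1.2 (mem_c1.1 hb.2).symm))
    (e1.ge.trans (inf_le_right.trans hle))).2
  obtain ⟨h2, h3⟩ := hT.le_cases c (hJ.pk c hY hSY) hle
  have h4 := card_le_of_le hE
  refine ⟨J, hJ, hle, ?_⟩
  rcases h3 with ⟨h3, -⟩ | ⟨h3, -, -, h5⟩
  · rw [← h3, e1, he.four, he.ea.2] at h4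
    omega
  · exact ⟨h3, (eq_of_le_of_card_ge hE (by rw [h5, he.ea.2]; norm_num)).symm,
      (le_inf inf_le_left h2).trans ((h.CO_cT c le_rfl).le.trans inf_le_right)⟩

end CfsgAG
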