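import Cfsg.Agent.AG.B0a

/-! Free facts on A-groups: abelian Sylow 2-subgroups. -/

set_option autoImplicit false

namespace CfsgAG

open Subgroup CfsgFT CfsgL0
open scoped commutatorElement

universe u

variable {G : Type*} [Group G] [Finite G] {X Y : Subgroup G}

omit [Finite G] in
theorem orderOf_eq_two' {z : G} (h1 : z ≠ 1) (h2 : z * z = 1) : orderOf z = 2 :=
  orderOf_eq_prime (by rw [pow_two, h2]) h1

/-- a non-trivial 2-group contains an involution -/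
theorem exists_inv {A : Subgroup G} (hA : IsPGroup 2 A) (h0 : A ≠ ⊥) :
    ∃ z ∈ A, z ≠ 1 ∧ z * z = 1 := by
  obtain ⟨n, hn⟩ := IsPGroup.iff_card.1 hA
  have : 2 ∣ #A := by
    rcases n with _ | n
    · exact absurd (card_eq_one.1 hn) h0
    · rw [hn]; exact dvd_pow_self 2 n.succ_ne_zero
  obtain ⟨z, hz⟩ := exists_prime_orderOf_dvd_card' 2 this
  have hz' : orderOf (z : G) = 2 := by rw [orderOf_coe, hz]
  refine ⟨z, z.2, fun e => by simp [e] at hz', ?_⟩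
  rw [← pow_two, ← hz', pow_orderOf_eq_one]

/-- `Z*` for abelian Sylow 2-subgroups -/
theorem zstar_amb {T D : Subgroup G} (hT : IsSylowOf 2 T D) (hc : T ≤ 𝒞 T) {z : G} (hz : z ∈ T)
    (hzz : z * z = 1) (hN : z ∈ 𝒞 (D ⊓ 𝒩 T)) : ∀ g ∈ D, z * g * z⁻¹ * g⁻¹ ∈ Oc D := by
  intro g hg
  by_cases h1 : z = 1
  · simp [h1]
  have fus : ∀ h ∈ D, h * z * h⁻¹ ∈ T → h * z * h⁻¹ = z := by
    intro h hh hm
    obtain ⟨n, hn, e⟩ := fusion_of_comm hT hc hz hh hm
    rw [← e, ← mem_cent_iff.1 hN n hn, mul_inv_cancel_right]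
  let z' : D := ⟨z, hT.1 hz⟩
  have hz' : z' * z' = 1 := Subtype.ext hzz
  have hi : CfsgH4.Isol z' := by
    refine CfsgH4.isol_of_commute (orderOf_eq_two' (fun e => h1 (congrArg Subtype.val e)) hz') ?_
    intro w hw hcw
    obtain ⟨c, rfl⟩ := isConj_iff.1 hw
    have hcw' : z * (c * z * (c : G)⁻¹) = (c * z * (c : G)⁻¹) * z := congrArg Subtype.val hcw.eq
    have hww : ((c : G) * z * (c : G)⁻¹) * (c * z * (c : G)⁻¹) = 1 := by
      calc _ = c * (z * z) * (c : G)⁻¹ := by group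
        _ = 1 := by rw [hzz]; group
    have hp : IsPGroup 2 (zpowers z ⊔ zpowers ((c : G) * z * (c : G)⁻¹) : Subgroup G) :=
      (two_zpowers hzz).to_sup_of_normal_right' (two_zpowers hww)
        (le_normalizer_of_le_centralizer (by
          rw [CfsgH2.centralizer_zpowers]; exact zpowers_le.2 (mem_c1.2 hcw')))
    obtain ⟨h, hh, hle⟩ := hT.exists_cj_le hp (sup_le (zpowers_le.2 (hT.1 hz))
      (zpowers_le.2 (mul_mem (mul_mem c.2 (hT.1 hz)) (inv_mem c.2))))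
    have e1 := fus h hh (hle (CfsgH2.conj_mem_cj h (mem_sup_left (mem_zpowers z))))
    have e2 := fus (h * c) (mul_mem hh c.2) (by
      have := hle (CfsgH2.conj_mem_cj h (mem_sup_right (mem_zpowers ((c : G) * z * (c : G)⁻¹))))
      convert this using 1; group)
    apply Subtype.ext
    show (c : G) * z * (c : G)⁻¹ = z
    calc (c : G) * z * (c : G)⁻¹ = h⁻¹ * (h * c * z * (h * c)⁻¹) * h := by group
      _ = h⁻¹ * (h * z * h⁻¹) * h := by rw [e1, e2]
      _ = z := by group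
  exact ⟨_, CfsgH4.zstar hz' hi ⟨g, hg⟩, rfl⟩

theorem inner_core {L D T : Subgroup G} (hL : Simp L) (hn : D ≤ 𝒩 L)
    (h0 : D ⊓ 𝒞 L = ⊥) (hLD : L ≤ D) (hT : IsSylowOf 2 T D) (hc : T ≤ 𝒞 T) (hD : ⁅D, D⁆ ≤ L) :
    T ≤ L := by
  have hO : Oc D = ⊥ := by
    have h1 : Oc D ⊓ L = ⊥ := hL.eq_bot_of_solvable inf_le_right
      (CfsgH2.le_normalizer_inf (hLD.trans le_normalizer_pPrimeCoreOf) le_normalizer)
      (CfsgH2.isSolvable_of_le inf_le_left (solvable_oc D))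
    rw [← le_bot_iff, ← h0]
    refine le_inf pPrimeCoreOf_le (le_cent_iff_comm.2 (le_bot_iff.1 (h1 ▸ ?_)))
    exact commutator_le_inf_of_le_normalizer (pPrimeCoreOf_le.trans hn)
      (hLD.trans le_normalizer_pPrimeCoreOf)
  have hT' := isSylowOf_iff_isSylowIn.1 (hT.mono (le_inf hT.1 le_normalizer) inf_le_left)
  have h1 := (hT'.commutator_sup_centralizer inf_le_right hc).1
  have h2 : T ⊓ 𝒞 (D ⊓ 𝒩 T) = ⊥ := by
    by_contra h2
    obtain ⟨z, hz, hz1, hzz⟩ := exists_inv (hT.2.1.to_le inf_le_left) h2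
    have : z ∈ D ⊓ 𝒞 L := by
      refine ⟨hT.1 hz.1, mem_cent_iff.2 fun g hg => ?_⟩
      have := zstar_amb hT hc hz.1 hzz hz.2 g (hLD hg)
      rw [hO, mem_bot, mul_inv_eq_one, mul_inv_eq_iff_eq_mul] at this
      exact this
    rw [h0] at this
    exact hz1 this
  rw [h2, sup_bot_eq] at h1
  rw [← h1]
  exact (commutator_mono hT.1 inf_le_left).trans hD

theorem comm_sup_zpowers_le {L : Subgroup G} {v : G} (hv : v ∈ 𝒩 L) :
    ⁅L ⊔ zpowers v, L ⊔ zpowers v⁆ ≤ L := by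
  have hn : L ⊔ zpowers v ≤ 𝒩 L := sup_le le_normalizer (zpowers_le.2 hv)
  rw [← isMulCommutative_qm_iff hn]
  haveI := isCyclic_qm_of_le_sup hv (le_refl (L ⊔ zpowers v))
  infer_instance

protected theorem Simp.qm {L N : Subgroup G} (hL : Simp L) (hn : L ≤ 𝒩 N) (h0 : N ⊓ L = ⊥) :
    Simp (qm N L) := by
  obtain ⟨e⟩ := equiv_qm hn h0
  exact hL.tr e

/-- a 2-element centralising an abelian Sylow 2-subgroup of a simple group is inner (`Z*`) -/
theorem inner_of_cent {L R : Subgroup G} (hL : Simp L) (hR : IsSylowOf 2 R L) (hc : R ≤ 𝒞 R)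
    {v : G} (hv : v ∈ 𝒩 L) (h2 : IsPGroup 2 (zpowers v)) (hvR : v ∈ 𝒞 R) : v ∈ L ⊔ 𝒞 L := by
  have hN : 𝒩 L ≤ 𝒩 (𝒞 L) := CfsgH2.le_normalizer_centralizer le_rfl
  have hLn : L ≤ 𝒩 (𝒞 L) := le_normalizer.trans hN
  have hZ : zpowers v ≤ 𝒩 L := zpowers_le.2 hv
  have hD : L ⊔ zpowers v ≤ 𝒩 L := sup_le le_normalizer hZ
  have hvz : zpowers v ≤ 𝒞 R := zpowers_le.2 hvR
  have hTc : R ⊔ zpowers v ≤ 𝒞 (R ⊔ zpowers v) := by
    rw [CfsgH2.centralizer_sup]
    refine sup_le (le_inf hc (le_centralizer_symm hvz)) (le_inf hvz ?_)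
    rw [CfsgH2.centralizer_zpowers]
    exact zpowers_le.2 (mem_c1.2 rfl)
  have hT : IsSylowOf 2 (R ⊔ zpowers v) (L ⊔ zpowers v) := by
    refine ⟨sup_le_sup_right hR.1 _, hR.2.1.to_sup_of_normal_left' h2
      (le_normalizer_of_le_centralizer hvz), fun h => hR.2.2 ?_⟩
    have e : L ⊔ zpowers v = (R ⊔ zpowers v) ⊔ L := by
      rw [sup_comm R, sup_assoc, sup_eq_right.2 hR.1, sup_comm]
    rw [e, relIndex_sup_of_le_normalizer' (sup_le (hR.1.trans le_normalizer) hZ)] at h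
    exact h.trans (relIndex_dvd_of_le_left L le_sup_left)
  have key := inner_core (L := qm (𝒞 L) L) (D := qm (𝒞 L) (L ⊔ zpowers v))
    (T := qm (𝒞 L) (R ⊔ zpowers v)) (hL.qm hLn (by rw [inf_comm]; exact hL.inf_cent))
    (qm_le_normalizer hD) ?_ (qm_mono le_sup_left) (sylow_qm (hD.trans hN) hT)
    (qm_le_centralizer hTc) ?_
  · rw [qm_le_qm_iff (hT.1.trans (hD.trans hN)) hLn, sup_comm] at key
    rw [sup_comm L]
    exact key (mem_sup_left (mem_zpowers v))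
  · rw [eq_bot_iff]
    rintro y ⟨hy, hy'⟩
    obtain ⟨x, hx, rfl⟩ := mem_qm.1 hy
    have h3 : qm (𝒞 L) (zpowers (x : G)) ≤ 𝒞 (qm (𝒞 L) L) := by
      rw [qm_zpowers]; exact zpowers_le.2 hy'
    rw [qm_le_centralizer_iff (zpowers_le.2 x.2) hLn] at h3
    have h4 : ⁅zpowers (x : G), L⁆ ≤ L ⊓ 𝒞 L :=
      le_inf (commutator_le_right_of_le_normalizer (zpowers_le.2 (hD hx))) h3
    rw [hL.inf_cent, le_bot_iff, ← le_cent_iff_comm] at h4
    exact mem_bot.2 (qp_eq_one_iff.2 (h4 (mem_zpowers _)))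
  · rw [← qm_commutator (hD.trans hN) (hD.trans hN)]
    exact qm_mono (comm_sup_zpowers_le hv)

theorem syl_inf_comp {p : ℕ} [Fact p.Prime] {K R : Subgroup G} (hK : Cfsg.IsComponentOf K Y)
    (hR : IsSylowOf p R Y) : IsSylowOf p (R ⊓ K) K := by
  have h1 := (hR.inf_of_normal layerOf_le le_normalizer_layerOf).inf_of_normal
    (compOf_le_layerOf hK) (layerOf_le_normalizer_compOf hK)
  rwa [inf_assoc, inf_eq_right.2 (compOf_le_layerOf hK)] at h1

omit [Finite G] in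
theorem compOf_cj {K : Subgroup G} (hK : Cfsg.IsComponentOf K Y) (g : G) :
    Cfsg.IsComponentOf (cj g K) (cj g Y) :=
  compOf_map hK _ (by
    rw [(MonoidHom.ker_eq_bot_iff _).2 (MulAut.conj g).injective, le_bot_iff]
    exact qs_ne_bot (compOf_qs hK))

/-- 2-subgroups normalise the components -/
theorem AG.le_norm_comp (h : AG Y) {K R : Subgroup G} (hK : Cfsg.IsComponentOf K Y) (hR : R ≤ Y)
    (h2 : IsPGroup 2 R) : R ≤ 𝒩 K ∧ R ≤ K ⊔ 𝒞 K := by
  obtain ⟨P, hP, hRP⟩ := CfsgH2.exists_isSylowOf_ge h2 hR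
  have hs := h.simp_of_comp hK
  have hPK := syl_inf_comp hK hP
  have hc := h.comm hP.2.1 hP.1
  have hn : R ≤ 𝒩 K := by
    intro v hv
    obtain ⟨⟨z, hz⟩, hz1⟩ := ne_bot_iff_exists_ne_one.1 ((sylow_ne_bot_iff hPK).2 hs.even)
    have hK' := compOf_cj hK v
    rw [cj_eq_of_mem (hR hv)] at hK'
    rcases compOf_eq_or hK hK' with e | e
    · exact mem_normalizer_iff_cj.2 e.symm
    · have h1 : z ∈ cj v K := by
        have := conj_mem_cj v hz.2
        rwa [le_cent_iff.1 hc v (hRP hv) z hz.1, mul_inv_cancel_right] at this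
      have : z ∈ K ⊓ 𝒞 K := ⟨hz.2, le_cent_iff_comm.2 e h1⟩
      rw [hs.inf_cent] at this
      exact absurd (Subtype.ext (mem_bot.1 this)) hz1
  refine ⟨hn, fun v hv => inner_of_cent hs hPK (inf_le_left.trans (hc.trans (cent_anti inf_le_left)))
    (hn hv) (h2.to_le (zpowers_le.2 hv)) (cent_anti inf_le_left (hc (hRP hv)))⟩

/-- the form in which the strongly embedded theorem is used -/
theorem le_or_t2 {G : Type u} [Group G] [Finite G] (hSE : SpecSE.{u}) {X S M : Subgroup G}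
    (hX : Simp X) (hS : IsSylowOf 2 S X) (hc : S ≤ 𝒞 S) (hN : X ⊓ 𝒩 S ≤ M)
    (hC : ∀ v ∈ S, v ≠ 1 → v * v = 1 → X ⊓ 𝒞₁ v ≤ M) : X ≤ M ∨ ∃ H, T2 X S H := by
  by_cases hM : X ≤ M
  · exact Or.inl hM
  right
  have hSM : S ≤ X ⊓ M := le_inf hS.1 ((le_inf hS.1 le_normalizer).trans hN)
  have hS' := hS.mono hSM inf_le_left
  have hse : Cfsg.IsStronglyEmbedded (M.subgroupOf X) := by
    rw [CfsgH4.isStronglyEmbedded_iff]
    refine ⟨fun e => hM (subgroupOf_eq_top.1 e), ?_, ?_⟩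
    · rw [← inf_subgroupOf_left, card_subgroupOf_of_le inf_le_left, even_iff_two_dvd,
        ← sylow_ne_bot_iff hS', sylow_ne_bot_iff hS]
      exact hX.even
    · intro g t ht h2 hg
      have htt : (t : G) * t = 1 := by
        rw [← pow_two, ← h2, ← orderOf_coe, pow_orderOf_eq_one]
      have ht1 : (t : G) ≠ 1 := fun e => by
        rw [show t = 1 from Subtype.ext e, orderOf_one] at h2; exact absurd h2 (by decide)
      have hww : ((g : G)⁻¹ * t * g) * ((g : G)⁻¹ * t * g) = 1 := by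
        calc _ = (g : G)⁻¹ * (t * t) * g := by group
          _ = 1 := by rw [htt]; group
      obtain ⟨a, ha, h1⟩ := hS'.exists_cj_le (two_zpowers htt) (zpowers_le.2 ⟨t.2, ht⟩)
      obtain ⟨b, hb, h3⟩ := hS'.exists_cj_le (two_zpowers hww)
        (zpowers_le.2 ⟨((g⁻¹ * t * g : X)).2, hg⟩)
      have h1 := h1 (CfsgH2.conj_mem_cj a (mem_zpowers _))
      have h3 := h3 (CfsgH2.conj_mem_cj b (mem_zpowers _))
      have hx : b * (g : G)⁻¹ * a⁻¹ ∈ X := mul_mem (mul_mem hb.1 (inv_mem g.2)) (inv_mem ha.1)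
      obtain ⟨n, hn, e⟩ := fusion_of_comm hS hc h1 hx (by convert h3 using 1; group)
      have h4 : n⁻¹ * (b * (g : G)⁻¹ * a⁻¹) ∈ X ⊓ 𝒞₁ (a * t * a⁻¹) := by
        refine ⟨X.mul_mem (X.inv_mem hn.1) hx, mem_c1.2 ?_⟩
        calc _ = n⁻¹ * (b * (g : G)⁻¹ * a⁻¹ * (a * t * a⁻¹) * (b * (g : G)⁻¹ * a⁻¹)⁻¹) *
              (b * (g : G)⁻¹ * a⁻¹) := by group
          _ = _ := by rw [← e]; group
      have h5 := hC _ h1 (fun e => ht1 (by
        have : (t : G) = a⁻¹ * (a * t * a⁻¹) * a := by group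
        rw [this, e]; group)) (by
        calc _ = a * (t * t) * a⁻¹ := by group
          _ = 1 := by rw [htt]; group) h4
      have : (g : G) = a⁻¹ * (n⁻¹ * (b * (g : G)⁻¹ * a⁻¹))⁻¹ * n⁻¹ * b := by group
      show (g : G) ∈ M
      rw [this]
      exact mul_mem (mul_mem (mul_mem (inv_mem ha.2) (inv_mem h5)) (inv_mem (hN hn))) hb.2
  obtain ⟨H, hH⟩ := hSE X (hX.tr topEquiv.symm) (S.subgroupOf X)
    (by rw [← subgroupOf_self X]; exact (sylow_subgroupOf_iff hS.1 le_rfl).2 hS)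
    (fun a ha b hb => Subtype.ext (le_cent_iff.1 hc a ha b hb)) _ hse
  have := hH.tr topEquiv
  rw [show tr topEquiv (S.subgroupOf X) = S from ?_] at this
  · exact ⟨_, this⟩
  · ext y
    rw [mem_tr]
    exact ⟨fun ⟨x, hx, e⟩ => e ▸ hx, fun hy => ⟨⟨⟨y, hS.1 hy⟩, trivial⟩, hy, rfl⟩⟩

/-- `C_S(N(S)) = 1` -/
theorem cent_norm_eq_bot {S : Subgroup G} (hX : ⁅X, X⁆ = X) (hS : IsSylowOf 2 S X) (hc : S ≤ 𝒞 S) :
    S ⊓ 𝒞 (X ⊓ 𝒩 S) = ⊥ := by
  have h1 := (isSylowOf_iff_isSylowIn.1 hS).inf_resIn_of_comm hc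
  have h2 : X ≤ CfsgH1.resIn 2 X :=
    le_of_forall_pPrime_elem (p := 2) hX fun w hw h => CfsgH1.mem_resIn hw h
  rw [inf_eq_left.2 (hS.1.trans h2)] at h1
  have hT' := isSylowOf_iff_isSylowIn.1 (hS.mono (le_inf hS.1 le_normalizer) inf_le_left)
  have h3 := (hT'.commutator_sup_centralizer inf_le_right hc).2
  rwa [← h1] at h3

/-- `N(S) = S A` with `A` of odd order -/
theorem exists_odd_compl {S : Subgroup G} (hS : IsSylowOf 2 S Y) (hn : Y ≤ 𝒩 S) :
    ∃ A ≤ Y, Odd #A ∧ S ⊔ A = Y := by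
  have hs : Group.IsSolvable Y := by
    rw [← qc_qm_of_le hn hS.1]
    refine isSolvable_qc (solv_two hS.2.1) (odd_solvable ?_)
    rw [card_qm hn, Nat.odd_iff, ← Nat.two_dvd_ne_zero]
    exact hS.2.2
  obtain ⟨A, hA⟩ := CfsgH2.exists_isHallOf {2}ᶜ hs
  refine ⟨A, hA.1, ?_, ?_⟩
  · rw [Nat.odd_iff, ← Nat.two_dvd_ne_zero]; exact isPi_compl_singleton.1 hA.2.1
  · apply le_antisymm (sup_le hS.1 hA.1)
    apply CfsgH2.le_of_forall_sylow
    intro q hq _
    haveI := Fact.mk hq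
    by_cases e : q = 2
    · subst e; exact ⟨S, hS, le_sup_left⟩
    · obtain ⟨P, hP⟩ := CfsgH2.exists_isSylowOf (p := q) A
      exact ⟨P, (isSylowOf_hall_iff hA e hP.1).1 hP, hP.1.trans le_sup_right⟩

/-- Lemma H: a hyperplane `W` of `Ω₁(S)` contains a conjugate of every involution -/
theorem lemmaH {S W : Subgroup G} (hX : ⁅X, X⁆ = X) (hS : IsSylowOf 2 S X) (hc : S ≤ 𝒞 S)
    (hW : CfsgH2.IsCocyclic W (Om 2 S)) {t : G} (ht : t ∈ S) (htt : t * t = 1) :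
    ∃ n ∈ X ⊓ 𝒩 S, n * t * n⁻¹ ∈ W := by
  by_contra hne
  push Not at hne
  obtain ⟨A, hA, hodd, hSA⟩ := exists_odd_compl
    (hS.mono (le_inf hS.1 le_normalizer) inf_le_left) inf_le_right
  obtain ⟨j, hj, hcov⟩ := hW.mem_or (elem_Om_two hc)
  have hWS : W ≤ S := hW.1.trans Om_le
  have hmem : ∀ n ∈ X ⊓ 𝒩 S, n * t * n⁻¹ ∈ Om 2 S := fun n hn =>
    (mem_Om_two hc).2 ⟨conj_mem_of_mem_norm hn.2 ht, by
      calc _ = n * (t * t) * n⁻¹ := by group
        _ = 1 := by rw [htt]; group⟩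
  have hprod : ∀ n ∈ X ⊓ 𝒩 S, ∀ m ∈ X ⊓ 𝒩 S, (n * t * n⁻¹) * (m * t * m⁻¹) ∈ W := by
    intro n hn m hm
    obtain ⟨b, hb, e1⟩ := (hcov _ (hmem n hn)).resolve_left (hne n hn)
    obtain ⟨b', hb', e2⟩ := (hcov _ (hmem m hm)).resolve_left (hne m hm)
    have hj' := (mem_Om_two hc).1 hj
    rw [e1, e2, show b * j * (b' * j) = b * (j * b') * j by group,
      le_cent_iff.1 hc j hj'.1 b' (hWS hb'), show b * (b' * j) * j = b * b' * (j * j) by group, hj'.2,
      mul_one]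
    exact mul_mem hb hb'
  let W0 : Subgroup G :=
    { carrier := {x | ∀ n ∈ X ⊓ 𝒩 S, n * x * n⁻¹ ∈ W}
      mul_mem' := fun {a b} ha hb n hn => by
        rw [show n * (a * b) * n⁻¹ = (n * a * n⁻¹) * (n * b * n⁻¹) by group]
        exact mul_mem (ha n hn) (hb n hn)
      one_mem' := fun n _ => by simp
      inv_mem' := fun {a} ha n hn => by
        rw [show n * a⁻¹ * n⁻¹ = (n * a * n⁻¹)⁻¹ by group]
        exact inv_mem (ha n hn) }
  have hW0 : W0 ≤ W := fun x hx => by simpa using hx 1 (one_mem _)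
  have hn0 : A ≤ 𝒩 W0 := fun a ha => mem_normalizer_of_conj_mem fun x hx n hn => by
    have := hx (n * a) (mul_mem hn (hA ha))
    convert this using 1; group
  have hti : t⁻¹ = t := inv_eq_of_mul_eq_one_right htt
  obtain ⟨w, hw, c, hcA, e⟩ := CfsgH2.exists_eq_mul_centralizer hn0
    (coprime_two_of_odd (hS.2.1.to_le (hW0.trans hWS)) hodd).symm (Or.inl (odd_solvable hodd))
    (x := t) (fun a ha n hn => by
      have := hprod n hn (n * a) (mul_mem hn (hA ha))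
      convert this using 1
      rw [commutatorElement_def, hti]; group)
  have hcS : c ∈ S := by
    have : c = w⁻¹ * t := by rw [e]; group
    rw [this]; exact mul_mem (inv_mem (hWS (hW0 hw))) ht
  have : c ∈ S ⊓ 𝒞 (X ⊓ 𝒩 S) := by
    rw [← hSA, CfsgH2.centralizer_sup]
    exact ⟨hcS, hc hcS, hcA⟩
  rw [cent_norm_eq_bot hX hS hc, mem_bot] at this
  rw [this, mul_one] at e
  exact hne 1 (one_mem _) (by simpa [e] using hW0 hw)

end CfsgAG
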