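import Cfsg.Agent.AG.B1a

/-! The known simple A-groups, in ambient form. -/

set_option autoImplicit false

namespace CfsgAG

open Subgroup CfsgFT CfsgL0
open scoped commutatorElement

universe u

variable {G : Type*} [Group G] [Finite G] {X S H K L V : Subgroup G} {t s a : G}

theorem mem_sup_zpowers {A : Subgroup G} {v x : G} (hv : v ∈ 𝒩 A) (hvv : v * v = 1) :
    x ∈ A ⊔ zpowers v ↔ x ∈ A ∨ x * v ∈ A := by
  rw [CfsgH2.mem_sup_of_le_normalizer (zpowers_le.2 hv)]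
  constructor
  · rintro ⟨n, hn, b, hb, rfl⟩
    rcases (mem_zpowers_inv hvv).1 hb with rfl | rfl
    · left; rwa [mul_one]
    · right; rwa [mul_assoc, hvv, mul_one]
  · rintro (h | h)
    · exact ⟨x, h, 1, one_mem _, mul_one x⟩
    · exact ⟨_, h, v, mem_zpowers v, by rw [mul_assoc, hvv, mul_one]⟩

theorem card_sup_zpowers {A : Subgroup G} {v : G} (hv : v ∈ 𝒩 A) (hvv : v * v = 1) (h : v ∉ A) :
    #(A ⊔ zpowers v) = 2 * #A := by
  rw [sup_comm, CfsgH2.card_sup_of_disjoint (zpowers_le.2 hv), Nat.card_zpowers,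
    orderOf_eq_two' (fun (e : v = 1) => h (e ▸ A.one_mem)) hvv]
  rw [eq_bot_iff]
  rintro x ⟨h1, h2⟩
  rcases (mem_zpowers_inv hvv).1 h1 with rfl | rfl
  · exact one_mem _
  · exact absurd h2 h

omit [Finite G] in
theorem closure_pair (t s : G) : closure {t, s} = zpowers t ⊔ zpowers s := by
  rw [zpowers_eq_closure, zpowers_eq_closure, ← Subgroup.closure_union]; rfl

omit [Finite G] in
theorem mem_norm_zpowers (h : t * s = s * t) : s ∈ 𝒩 (zpowers t) :=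
  le_normalizer_of_le_centralizer (H := zpowers s)
    (by rw [CfsgH2.centralizer_zpowers]; exact zpowers_le.2 (mem_c1.2 h.symm)) (mem_zpowers s)

theorem mem_four (ht : t * t = 1) (hs : s * s = 1) (h : t * s = s * t) {v : G} :
    v ∈ closure {t, s} ↔ v = 1 ∨ v = t ∨ v = s ∨ v = t * s := by
  rw [closure_pair, mem_sup_zpowers (mem_norm_zpowers h) hs, mem_zpowers_inv ht,
    mem_zpowers_inv ht, mul_eq_one_iff_eq_inv, ← eq_mul_inv_iff_mul_eq, inv_eq_self hs, or_assoc]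

theorem card_four (h1 : t ≠ 1) (h2 : s ≠ 1) (h3 : t ≠ s) (ht : t * t = 1) (hs : s * s = 1)
    (h : t * s = s * t) : #(closure {t, s}) = 4 := by
  rw [closure_pair, card_sup_zpowers (mem_norm_zpowers h) hs, Nat.card_zpowers,
    orderOf_eq_two' h1 ht]
  rw [mem_zpowers_inv ht]
  exact fun e => e.elim h2 (fun e => h3 e.symm)

theorem sq_four (ht : t * t = 1) (hs : s * s = 1) (h : t * s = s * t) :
    ∀ v ∈ closure {t, s}, v * v = 1 := by
  intro v hv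
  rcases (mem_four ht hs h).1 hv with rfl | rfl | rfl | rfl
  · exact mul_one 1
  · exact ht
  · exact hs
  · calc _ = t * (s * t) * s := by group
      _ = (t * t) * (s * s) := by rw [← h]; group
      _ = 1 := by rw [ht, hs, mul_one]

theorem closure_eq_of_four (h4 : #S = 4) (hsq : ∀ v ∈ S, v * v = 1) (ht : t ∈ S) (hs : s ∈ S)
    (h1 : t ≠ 1) (h2 : s ≠ 1) (h3 : t ≠ s) : closure {t, s} = S :=
  eq_of_le_of_card_ge (by rw [closure_pair]; exact sup_le (zpowers_le.2 ht) (zpowers_le.2 hs))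
    (by rw [h4, card_four h1 h2 h3 (hsq t ht) (hsq s hs) (le_cent_iff.1 (comm_of_sq hsq) t ht s hs)])

theorem mem_of_odd_of_sup {A : Subgroup G} {v x : G} (hv : v ∈ 𝒩 A) (hvv : v * v = 1)
    (hx : x ∈ A ⊔ zpowers v) (ho : Odd (orderOf x)) : x ∈ A := by
  refine ((mem_sup_zpowers hv hvv).1 hx).elim id fun h => mem_of_sq_mem ho ?_
  have : x * x = (x * v) * (v * (x * v) * v⁻¹) := by
    calc x * x = x * (v * v) * x := by rw [hvv]; group
      _ = _ := by group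
  rw [this]
  exact mul_mem h (conj_mem_of_mem_norm hv h)

/-! ### type `L₂(q)`, `q ≡ ±3 (mod 8)` -/

omit [Finite G] in
theorem BH.ts (h : BH X K t s) : t * s = s * t := by
  have := h.inv t h.t_mem
  rw [inv_eq_self h.tt, mul_inv_eq_iff_eq_mul] at this
  exact this.symm

omit [Finite G] in
theorem BH.t_X (h : BH X K t s) : t ∈ X := h.K_le h.t_mem

omit [Finite G] in
theorem BH.s_ne (h : BH X K t s) : s ≠ 1 := fun e => h.s_not (e ▸ K.one_mem)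

omit [Finite G] in
theorem BH.t_ne_s (h : BH X K t s) : t ≠ s := fun e => h.s_not (e ▸ h.t_mem)

omit [Finite G] in
theorem BH.K_comm (h : BH X K t s) : K ≤ 𝒞 K := le_cent_iff.2 h.comm

theorem BH.s_norm (h : BH X K t s) : s ∈ 𝒩 K := mem_norm_of_inv h.inv

theorem BH.cent_eq (h : BH X K t s) : X ⊓ 𝒞₁ t = K ⊔ zpowers s := by
  apply le_antisymm
  · exact fun g hg => (mem_sup_zpowers h.s_norm h.ss).2 (h.cent g hg.1 (mem_c1.1 hg.2))
  · exact sup_le (fun k hk => ⟨h.K_le hk, mem_c1.2 (h.comm k hk t h.t_mem)⟩)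
      (zpowers_le.2 ⟨h.s_mem, mem_c1.2 h.ts.symm⟩)

theorem BH.card_cent (h : BH X K t s) : #(X ⊓ 𝒞₁ t) = 2 * #K := by
  rw [h.cent_eq, card_sup_zpowers h.s_norm h.ss h.s_not]

theorem BH.cent_norm (h : BH X K t s) : X ⊓ 𝒞₁ t ≤ 𝒩 K := by
  rw [h.cent_eq]; exact sup_le le_normalizer (zpowers_le.2 h.s_norm)

theorem BH.oc_eq (h : BH X K t s) : Oc (X ⊓ 𝒞₁ t) = Oc K := by
  have hK : K ≤ X ⊓ 𝒞₁ t := by rw [h.cent_eq]; exact le_sup_left
  refine le_antisymm ((le_inf le_rfl fun x hx => ?_).trans (pPrimeCoreOf_inf_le hK))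
    (pPrimeCoreOf_le_of_le_normalizer hK h.cent_norm)
  exact mem_of_odd_of_sup h.s_norm h.ss (h.cent_eq ▸ pPrimeCoreOf_le hx)
    (odd_orderOf_of_mem (odd_oc _) hx)

/-- changing `s` -/
theorem BH.at_s (h : BH X K t s) {w : G} (hw : w ∈ X) (hK : w ∉ K) (hc : w * t = t * w) :
    BH X K t w := by
  have hk : w * s ∈ K := (h.cent w hw hc).resolve_left hK
  have e : w = (w * s) * s := by rw [mul_assoc, h.ss, mul_one]
  generalize w * s = k at hk e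
  subst e
  refine { h with s_mem := hw, s_not := hK, ss := ?_, inv := fun y hy => ?_, cent := ?_ }
  · calc k * s * (k * s) = k * (s * k * s⁻¹) * (s * s) := by group
      _ = 1 := by rw [h.inv k hk, h.ss]; group
  · calc k * s * y * (k * s)⁻¹ = k * (s * y * s⁻¹) * k⁻¹ := by group
      _ = y⁻¹ := by rw [h.inv y hy, h.comm k hk _ (K.inv_mem hy)]; group
  · refine fun g hg hgt => (h.cent g hg hgt).imp_right fun h1 => ?_
    have : g * (k * s) = (g * s) * (s * k * s⁻¹) := by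
      rw [inv_eq_self h.ss]
      calc g * (k * s) = g * (s * s) * (k * s) := by rw [h.ss]; group
        _ = _ := by group
    rw [this, h.inv k hk]
    exact K.mul_mem h1 (K.inv_mem hk)

theorem BH.solvable_cent (h : BH X K t s) {v : G} (hv : v ∈ X) (h1 : v ≠ 1) (h2 : v * v = 1) :
    Group.IsSolvable (X ⊓ 𝒞₁ v : Subgroup G) := by
  obtain ⟨g, hg, rfl⟩ := h.conj v hv h1 h2
  rw [← cj_inf_c1 hg, h.cent_eq]
  exact solvable_cj (solvable_sup (zpowers_le.2 h.s_norm) (solvable_of_comm h.K_comm)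
    (solvable_of_comm (zpowers_comm s))) g

omit [Finite G] in
theorem TO.ts (h : TO X K t s) : t * s = s * t := h.toBH.ts

theorem TO.card_V (h : TO X K t s) : #(closure {t, s}) = 4 :=
  card_four h.t_ne h.s_ne h.t_ne_s h.tt h.ss h.ts

theorem TO.mem_V (h : TO X K t s) {v : G} :
    v ∈ closure {t, s} ↔ v = 1 ∨ v = t ∨ v = s ∨ v = t * s := mem_four h.tt h.ss h.ts

theorem TO.sq_V (h : TO X K t s) : ∀ v ∈ closure {t, s}, v * v = 1 := sq_four h.tt h.ss h.ts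

theorem TO.cent_eq (h : TO X K t s) : X ⊓ 𝒞₁ t = K ⊔ zpowers s := h.toBH.cent_eq

theorem TO.V_le (h : TO X K t s) : closure {t, s} ≤ X ⊓ 𝒞₁ t := by
  rw [h.cent_eq, closure_pair]
  exact sup_le_sup_right (zpowers_le.2 h.t_mem) _

theorem TO.syl (h : TO X K t s) : IsSylowOf 2 (closure {t, s}) X := by
  refine syl_of_cent (subset_closure (by simp)) h.t_ne h.conj ⟨h.V_le, two_of_sq h.sq_V, ?_⟩
  have := CfsgH1.card_mul_relIndex h.V_le
  rw [h.card_V, h.card_cent] at this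
  have := h.mod
  omega

theorem TO.syl_K (h : TO X K t s) : IsSylowOf 2 (zpowers t) K := by
  refine ⟨zpowers_le.2 h.t_mem, two_zpowers h.tt, ?_⟩
  have := CfsgH1.card_mul_relIndex (zpowers_le.2 h.t_mem)
  rw [Nat.card_zpowers, orderOf_eq_two' h.t_ne h.tt] at this
  have := h.mod
  omega

theorem TO.inv_K (h : TO X K t s) {v : G} (hv : v ∈ K) (hvv : v * v = 1) : v = 1 ∨ v = t :=
  (mem_zpowers_inv h.tt).1 (mem_syl_of_sq h.syl_K hv (mem_norm_zpowers (h.comm t h.t_mem v hv))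
    (by rw [hvv]; exact one_mem _))

theorem TO.oc_eq (h : TO X K t s) : Oc (X ⊓ 𝒞₁ t) = Oc K := h.toBH.oc_eq

theorem TO.K_eq' (h : TO X K t s) : K = Oc K ⊔ zpowers t := by
  refine le_antisymm ?_ (sup_le pPrimeCoreOf_le (zpowers_le.2 h.t_mem))
  haveI := CfsgH1.isMulCommutative_of_le_centralizer h.K_comm
  have hn : Group.IsNilpotent K := by
    letI : CommGroup K := { mul_comm := mul_comm' }
    infer_instance
  conv_lhs => rw [← pCoreOf_sup_pPrimeCoreOf (p := 2) (H := K) hn]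
  exact sup_le ((pCoreOf_le_sylow h.syl_K).trans le_sup_right) le_sup_left

theorem TO.K_eq (h : TO X K t s) : K = Oc (X ⊓ 𝒞₁ t) ⊔ zpowers t := by
  rw [h.oc_eq]; exact h.K_eq'

theorem TO.card_oc (h : TO X K t s) : 2 * #(Oc K) = #K := by
  conv_rhs => rw [h.K_eq']
  rw [card_sup_zpowers (le_normalizer_pPrimeCoreOf h.t_mem) h.tt fun hm =>
    h.t_ne (eq_one_of_odd_of_sq (odd_orderOf_of_mem (odd_oc K) hm) h.tt)]

theorem TO.oc_ne (h : TO X K t s) : Oc K ≠ ⊥ := fun e => by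
  have := h.card_oc
  rw [e, card_bot] at this
  have := h.six
  omega

theorem TO.solvable_cent (h : TO X K t s) {v : G} (hv : v ∈ X) (h1 : v ≠ 1) (h2 : v * v = 1) :
    Group.IsSolvable (X ⊓ 𝒞₁ v : Subgroup G) := h.toBH.solvable_cent hv h1 h2

/-- the data at any pair of commuting involutions -/
theorem TO.at (h : TO X K t s) {v w : G} (hv : v ∈ X) (hw : w ∈ X) (hv1 : v ≠ 1) (hw1 : w ≠ 1)
    (hvw : v ≠ w) (hvv : v * v = 1) (hww : w * w = 1) (hc : v * w = w * v) :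
    TO X (Oc (X ⊓ 𝒞₁ v) ⊔ zpowers v) v w := by
  obtain ⟨g, hg, rfl⟩ := h.conj v hv hv1 hvv
  have h' := h.cj g
  rw [cj_eq_of_mem hg] at h'
  rw [← h'.K_eq]
  exact { h' with toBH := h'.at_s hw (fun hm => (h'.inv_K hm hww).elim hw1 hvw.symm) hc.symm }

theorem TO.cent_V (h : TO X K t s) : X ⊓ 𝒞₁ t ⊓ 𝒞₁ s = closure {t, s} := by
  refine le_antisymm (fun g hg => ?_) (le_inf h.V_le ?_)
  · have key : ∀ k ∈ K, k * s = s * k → k = 1 ∨ k = t := fun k hk e => h.inv_K hk (by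
      have := h.inv k hk
      rw [← e, mul_inv_cancel_right] at this
      exact mul_eq_one_iff_eq_inv.2 this)
    have hs := mem_c1.1 hg.2
    rw [h.mem_V]
    rcases h.cent g hg.1.1 (mem_c1.1 hg.1.2) with h1 | h1
    · rcases key g h1 hs with e | e <;> simp [e]
    · have e0 : g = g * s * s := by rw [mul_assoc, h.ss, mul_one]
      rcases key _ h1 (by rw [← mul_assoc, ← hs]) with e | e <;> rw [e0, e] <;> simp
  · exact fun g hg => mem_c1.2 (le_cent_iff.1 (comm_of_sq h.sq_V) g hg s (subset_closure (by simp)))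

theorem TO.mem_V_of_norm (h : TO X K t s) {g : G} (hg : g ∈ X) (hn : g ∈ 𝒩 (closure {t, s}))
    (ht : g * t * g⁻¹ = t) : g ∈ closure {t, s} := by
  refine mem_syl_of_sq h.syl hg hn ?_
  rw [← h.cent_V]
  have ht' : g * t = t * g := mul_inv_eq_iff_eq_mul.1 ht
  refine ⟨⟨X.mul_mem hg hg, mem_c1.2 (by rw [mul_assoc, ht', ← mul_assoc, ht', mul_assoc])⟩,
    mem_c1.2 (mul_inv_eq_iff_eq_mul.1 ?_)⟩
  have e : g * g * s * (g * g)⁻¹ = g * (g * s * g⁻¹) * g⁻¹ := by group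
  rcases h.mem_V.1 (conj_mem_of_mem_norm hn (subset_closure (by simp : s ∈ ({t, s} : Set G))))
    with e1 | e1 | e1 | e1
  · exact absurd e1 (conj_ne_one h.s_ne)
  · exact absurd (by simpa using e1.trans ht.symm) h.t_ne_s.symm
  · rw [e, e1, e1]
  · rw [e, e1, show g * (t * s) * g⁻¹ = (g * t * g⁻¹) * (g * s * g⁻¹) by group, ht, e1, ← mul_assoc,
      h.tt, one_mul]

theorem TO.rho (h : TO X K t s) :
    ∃ ρ ∈ X, ρ ^ 3 = 1 ∧ ρ * t * ρ⁻¹ = s ∧ ρ * s * ρ⁻¹ = t * s := by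
  have hc := comm_of_sq h.sq_V
  have htV : t ∈ closure {t, s} := subset_closure (by simp)
  have hsV : s ∈ closure {t, s} := subset_closure (by simp)
  obtain ⟨g, hg, e⟩ := h.conj s h.s_mem h.s_ne h.ss
  obtain ⟨ρ, hρ, e1⟩ := fusion_of_comm h.syl hc htV hg (by rw [e]; exact hsV)
  rw [e] at e1
  have e2 : ρ * s * ρ⁻¹ = t * s := by
    rcases h.mem_V.1 (conj_mem_of_mem_norm hρ.2 hsV) with e2 | e2 | e2 | e2
    · exact absurd e2 (conj_ne_one h.s_ne)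
    · have h1 := h.mem_V_of_norm (X.mul_mem hρ.1 hρ.1) (mul_mem hρ.2 hρ.2) (by
        rw [show ρ * ρ * t * (ρ * ρ)⁻¹ = ρ * (ρ * t * ρ⁻¹) * ρ⁻¹ by group, e1, e2])
      have h2 := mem_syl_of_sq h.syl hρ.1 hρ.2 h1
      rw [le_cent_iff.1 hc ρ h2 t htV, mul_inv_cancel_right] at e1
      exact absurd e1 h.t_ne_s
    · exact absurd (by simpa using e2.trans e1.symm) h.t_ne_s.symm
    · exact e2
  have e3 : ρ * (t * s) * ρ⁻¹ = t := by
    rw [show ρ * (t * s) * ρ⁻¹ = (ρ * t * ρ⁻¹) * (ρ * s * ρ⁻¹) by group, e1, e2, ← mul_assoc, ← h.ts,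
      mul_assoc, h.ss, mul_one]
  refine ⟨ρ, hρ.1, ?_, e1, e2⟩
  have h3 := h.mem_V_of_norm (X.pow_mem hρ.1 3) (pow_mem hρ.2 3) (by
    rw [show ρ ^ 3 * t * (ρ ^ 3)⁻¹ = ρ * (ρ * (ρ * t * ρ⁻¹) * ρ⁻¹) * ρ⁻¹ by
      rw [pow_succ, pow_two]; group, e1, e2, e3])
  have e4 : ρ * ρ ^ 3 * ρ⁻¹ = ρ ^ 3 := by group
  rcases h.mem_V.1 h3 with e5 | e5 | e5 | e5
  · exact e5
  · rw [e5, e1] at e4; exact absurd e4.symm h.t_ne_s
  · rw [e5, e2] at e4; exact absurd (by simpa using e4) h.t_ne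
  · rw [e5, e3] at e4; exact absurd (by simpa using e4) h.s_ne

theorem TO.norm_V (h : TO X K t s) {ρ : G} (hρ : ρ ∈ X) (h1 : ρ * t * ρ⁻¹ = s)
    (h2 : ρ * s * ρ⁻¹ = t * s) : X ⊓ 𝒩 (closure {t, s}) = closure {t, s} ⊔ zpowers ρ := by
  have htV : t ∈ closure {t, s} := subset_closure (by simp)
  have hsV : s ∈ closure {t, s} := subset_closure (by simp)
  have hn : ρ ∈ 𝒩 (closure {t, s}) := mem_normalizer_of_cj_le (by
    rw [CfsgH1.cj_closure, closure_le]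
    rintro _ ⟨x, hx | hx, rfl⟩
    · rw [hx]; exact (show ρ * t * ρ⁻¹ ∈ closure {t, s} from h1 ▸ hsV)
    · rw [hx]; exact (show ρ * s * ρ⁻¹ ∈ closure {t, s} from h2 ▸ mul_mem htV hsV))
  refine le_antisymm (fun g hg => ?_) (sup_le (le_inf h.syl.1 le_normalizer)
    (zpowers_le.2 ⟨hρ, hn⟩))
  have key : ∀ x ∈ zpowers ρ, x * t * x⁻¹ = g * t * g⁻¹ → g ∈ closure {t, s} ⊔ zpowers ρ := by
    intro x hx e
    have hx' : x ∈ X ⊓ 𝒩 (closure {t, s}) := (zpowers_le.2 (mem_inf.2 ⟨hρ, hn⟩)) hx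
    have := h.mem_V_of_norm (X.mul_mem (X.inv_mem hx'.1) hg.1) (mul_mem (inv_mem hx'.2) hg.2) (by
      rw [show x⁻¹ * g * t * (x⁻¹ * g)⁻¹ = x⁻¹ * (g * t * g⁻¹) * x by group, ← e]; group)
    rw [show g = x * (x⁻¹ * g) by group]
    exact mul_mem (mem_sup_right hx) (mem_sup_left this)
  rcases h.mem_V.1 (conj_mem_of_mem_norm hg.2 htV) with e | e | e | e
  · exact absurd e (conj_ne_one h.t_ne)
  · exact key 1 (one_mem _) (by rw [e]; group)
  · exact key ρ (mem_zpowers ρ) (by rw [e, h1])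
  · exact key (ρ * ρ) (mul_mem (mem_zpowers ρ) (mem_zpowers ρ)) (by
      rw [e, ← h2, ← h1]; group)

theorem exists_char_abelian {D : Subgroup G} (hs : Group.IsSolvable D) (h0 : D ≠ ⊥) :
    ∃ A ≤ D, A ≠ ⊥ ∧ A ≤ 𝒞 A ∧ 𝒩 D ≤ 𝒩 A := by
  refine ⟨fittingOf D ⊓ 𝒞 (fittingOf D), inf_le_left.trans fittingOf_le, fun e => ?_,
    inf_le_right.trans (cent_anti inf_le_left), CfsgH2.le_normalizer_inf
      normalizer_le_normalizer_fittingOf
      (CfsgH2.le_normalizer_centralizer normalizer_le_normalizer_fittingOf)⟩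
  have hF : fittingOf D = ⊥ := by
    by_contra hF
    haveI : Nontrivial (fittingOf D) := (nontrivial_iff_ne_bot _).2 hF
    haveI := isNilpotent_fittingOf (H := D)
    rw [← map_center_subtype, map_eq_bot_iff_of_injective _ (subtype_injective _)] at e
    exact Group.IsNilpotent.center_ne_bot _ e
  have := inf_centralizer_fittingOf_le hs
  rw [hF] at this
  exact h0 (le_bot_iff.1 ((le_inf le_rfl fun x _ => mem_cent_iff.2 (by simp)).trans this))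

/-- the odd subgroups normalised by the four-group -/
theorem TO.odd_inv (h : TO X K t s) {D : Subgroup G} (hD : Odd #D) (hX : D ≤ X) (h0 : D ≠ ⊥)
    (ht : t ∈ 𝒩 D) (hs : s ∈ 𝒩 D) :
    ∃ u, (u = t ∨ u = s ∨ u = t * s) ∧ D ≤ 𝒞₁ u ∧ X ⊓ 𝒩 D ≤ 𝒞₁ u := by
  obtain ⟨A, hA, hA0, hAc, hAn⟩ := exists_char_abelian (odd_solvable hD) h0
  have hV : closure {t, s} ≤ 𝒩 A := by
    rw [closure_pair]; exact sup_le (zpowers_le.2 (hAn ht)) (zpowers_le.2 (hAn hs))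
  have hAo := odd_of_le hA hD
  obtain ⟨u, hu, hu1, h1⟩ : ∃ u ∈ closure {t, s}, u ≠ 1 ∧ A ⊓ 𝒞₁ u ≠ ⊥ := by
    by_contra hh
    push Not at hh
    exact hA0 (le_bot_iff.1 (le_bot_of_cent h.sq_V h.card_V.ge hAo hV fun v hv h1 => (hh v hv h1).le))
  obtain ⟨w, hw, hw1, hwu⟩ : ∃ w ∈ closure {t, s}, w ≠ 1 ∧ u ≠ w := by
    by_cases e : u = t
    · exact ⟨s, subset_closure (by simp), h.s_ne, e ▸ h.t_ne_s⟩
    · exact ⟨t, subset_closure (by simp), h.t_ne, e⟩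
  have h' := h.at (h.syl.1 hu) (h.syl.1 hw) hu1 hw1 hwu (h.sq_V u hu) (h.sq_V w hw)
    (le_cent_iff.1 (comm_of_sq h.sq_V) u hu w hw)
  generalize Oc (X ⊓ 𝒞₁ u) ⊔ zpowers u = K' at h'
  have hK : ∀ y ∈ A, y ∈ 𝒞₁ u → y ∈ K' := fun y hy hc => mem_of_odd_of_sup h'.s_norm h'.ss
    (h'.cent_eq ▸ ⟨hX (hA hy), hc⟩) (odd_orderOf_of_mem hAo hy)
  obtain ⟨⟨y, hy⟩, hy1⟩ := ne_bot_iff_exists_ne_one.1 h1
  have hy1 : y ≠ 1 := fun e => hy1 (Subtype.ext e)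
  have hAu : A ≤ 𝒞₁ u := fun x hx => mem_c1.2 (h'.ti y (hK y hy.1 hy.2) hy1 x (hX (hA hx)) (by
    rw [le_cent_iff.1 hAc x hx y hy.1, mul_inv_cancel_right]; exact hK y hy.1 hy.2))
  have h3 : X ⊓ 𝒩 D ≤ 𝒞₁ u := fun g hg => mem_c1.2 (h'.ti y (hK y hy.1 hy.2) hy1 g hg.1 (by
    have := conj_mem_of_mem_norm (hAn hg.2) hy.1
    exact hK _ this (hAu this)))
  exact ⟨u, (h.mem_V.1 hu).resolve_left hu1, (le_inf hX le_normalizer).trans h3, h3⟩

/-- no non-trivial odd subgroup inverted by `t` is normalised by `C_X(t)` -/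
theorem TO.eq_bot_of_inv (h : TO X K t s) {D : Subgroup G} (hD : Odd #D) (hX : D ≤ X)
    (hi : ∀ y ∈ D, t * y * t⁻¹ = y⁻¹) (hn : X ⊓ 𝒞₁ t ≤ 𝒩 D) : D = ⊥ := by
  by_contra h0
  have key : ∀ {u : G} {A : Subgroup G}, Odd #A → A ≤ 𝒞₁ u → (∀ y ∈ A, u * y * u⁻¹ = y⁻¹) →
      A = ⊥ := fun {u A} ho hc hi => eq_bot_iff.2 fun y hy => by
    have := hi y hy
    rw [← mem_c1.1 (hc hy), mul_inv_cancel_right] at this
    exact eq_one_of_odd_of_sq (odd_orderOf_of_mem ho hy) (mul_eq_one_iff_eq_inv.2 this)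
  obtain ⟨u, hu, h1, h2⟩ := h.odd_inv hD hX h0 (hn (h.V_le (subset_closure (by simp))))
    (hn (h.V_le (subset_closure (by simp))))
  have hK : Oc K ≤ 𝒞₁ u := pPrimeCoreOf_le.trans ((le_inf h.K_le
    ((le_sup_left.trans h.cent_eq.ge).trans hn)).trans h2)
  rcases hu with rfl | rfl | rfl
  · exact h0 (key hD h1 hi)
  · exact h.oc_ne (key (odd_oc K) hK fun y hy => h.inv y (pPrimeCoreOf_le hy))
  · refine h.oc_ne (key (odd_oc K) hK fun y hy => ?_)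
    rw [show t * s * y * (t * s)⁻¹ = t * (s * y * s⁻¹) * t⁻¹ by group, h.inv y (pPrimeCoreOf_le hy),
      h.comm t h.t_mem _ (K.inv_mem (pPrimeCoreOf_le hy)), mul_inv_cancel_right]

/-! ### type `J₁` -/

omit [Finite G] in
theorem CL.a_cent (h : CL X L a) : a ∈ 𝒞 L :=
  mem_cent_iff.2 fun b hb => (mem_c1.1 (h.L_le hb).2).symm

omit [Finite G] in
theorem CL.a_norm (h : CL X L a) : a ∈ 𝒩 L :=
  le_normalizer_of_le_centralizer (zpowers_le.2 h.a_cent) (mem_zpowers a)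

theorem CL.cent_eq (h : CL X L a) : X ⊓ 𝒞₁ a = L ⊔ zpowers a := by
  apply le_antisymm
  · exact fun g hg => (mem_sup_zpowers h.a_norm h.aa).2 (h.cent g hg.1 (mem_c1.1 hg.2))
  · exact sup_le h.L_le (zpowers_le.2 ⟨h.a_mem, mem_c1.2 rfl⟩)

theorem CL.syl (h : CL X L a) (hV : IsSylowOf 2 V L) : IsSylowOf 2 (V ⊔ zpowers a) X := by
  refine syl_of_cent (mem_sup_right (mem_zpowers a)) h.a_ne h.conj ?_
  rw [h.cent_eq]
  exact syl_sup_zpowers hV h.a_norm (two_zpowers h.aa)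
    (le_normalizer_of_le_centralizer (zpowers_le.2 (cent_anti hV.1 h.a_cent)) (mem_zpowers a))

theorem TJ.syl (h : TJ X L V H a) : IsSylowOf 2 (V ⊔ zpowers a) X := h.toCL.syl h.t2.syl

omit [Finite G] in
theorem TJ.a_norm_V (h : TJ X L V H a) : a ∈ 𝒩 V :=
  le_normalizer_of_le_centralizer (zpowers_le.2 (cent_anti h.t2.cc.le h.a_cent)) (mem_zpowers a)

theorem TJ.sq (h : TJ X L V H a) : ∀ v ∈ V ⊔ zpowers a, v * v = 1 := by
  intro v hv
  rcases (mem_sup_zpowers h.a_norm_V h.aa).1 hv with h1 | h1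
  · exact h.t2.sq v h1
  · have e : v = v * a * a := by rw [mul_assoc, h.aa, mul_one]
    have h2 := mem_cent_iff.1 h.a_cent _ (h.t2.cc.le h1)
    calc v * v = (v * a) * (a * (v * a)) * a := by rw [← mul_assoc (v * a), ← e, mul_assoc, ← e]
      _ = (v * a) * (v * a) * (a * a) := by rw [h2]; group
      _ = 1 := by rw [h.t2.sq _ h1, h.aa, mul_one]

theorem TJ.card (h : TJ X L V H a) : #(V ⊔ zpowers a) = 8 := by
  rw [card_sup_zpowers h.a_norm_V h.aa fun hm => h.a_not (h.t2.cc.le hm), h.card_V]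

theorem TJ.at (h : TJ X L V H a) {v : G} (hv : v ∈ X) (h1 : v ≠ 1) (h2 : v * v = 1) :
    ∃ L' V' H', TJ X L' V' H' v := by
  obtain ⟨g, hg, rfl⟩ := h.conj v hv h1 h2
  have := h.cj g
  rw [cj_eq_of_mem hg] at this
  exact ⟨_, _, _, this⟩

theorem TJ.at_syl (h : TJ X L V H a) (hS : IsSylowOf 2 S X) :
    ∃ L' V' H' a', TJ X L' V' H' a' ∧ S = V' ⊔ zpowers a' := by
  obtain ⟨g, hg, e⟩ := h.syl.exists_cj_eq hS
  have := h.cj g
  rw [cj_eq_of_mem hg] at this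
  refine ⟨_, _, _, _, this, ?_⟩
  rw [← e, CfsgH2.cj, Subgroup.map_sup, MonoidHom.map_zpowers]; rfl

theorem TJ.ea (h : TJ X L V H a) {S : Subgroup G} (hS : IsSylowOf 2 S X) : EA 2 3 S := by
  obtain ⟨L', V', H', a', h', rfl⟩ := h.at_syl hS
  exact ⟨elem_of_sq h'.sq, h'.card⟩

theorem TJ.not_solvable (h : TJ X L V H a) {v : G} (hv : v ∈ X) (h1 : v ≠ 1) (h2 : v * v = 1) :
    ¬ Group.IsSolvable (X ⊓ 𝒞₁ v : Subgroup G) := fun hs => by
  obtain ⟨L', V', H', h'⟩ := h.at hv h1 h2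
  exact h'.t2.simp.not_solvable (CfsgH2.isSolvable_of_le h'.L_le hs)

theorem TJ.odd_inv (h : TJ X L V H a) {S D : Subgroup G} (hS : IsSylowOf 2 S X) (hD : Odd #D)
    (hX : D ≤ X) (hn : S ≤ 𝒩 D) : D = ⊥ := by
  have hE := h.ea hS
  have hsq : ∀ v ∈ S, v * v = 1 := fun v hv => by rw [← pow_two]; exact hE.1.2 v hv
  refine le_bot_iff.1 (le_bot_of_cent hsq (by rw [hE.2]; norm_num) hD hn fun v hv h1 => ?_)
  obtain ⟨L', V', H', h'⟩ := h.at (hS.1 hv) h1 (hsq v hv)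
  have hSC : S ≤ 𝒞₁ v := fun x hx => mem_c1.2 (le_cent_iff.1 (comm_of_sq hsq) x hx v hv)
  have hn' : X ⊓ 𝒞₁ v ≤ 𝒩 L' := by
    rw [h'.cent_eq]; exact sup_le le_normalizer (zpowers_le.2 h'.a_norm)
  obtain ⟨H'', h2⟩ := h'.t2.of_syl
    ((hS.mono (le_inf hS.1 hSC) inf_le_left).inf_of_normal h'.L_le hn')
  refine (h2.odd_inv (odd_of_le inf_le_left hD) (fun x hx => mem_of_odd_of_sup h'.a_norm h'.aa
    (h'.cent_eq ▸ ⟨hX hx.1, hx.2⟩) (odd_orderOf_of_mem hD hx.1)) ?_).le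
  exact inf_le_left.trans (CfsgH2.le_normalizer_inf hn (hSC.trans le_normalizer))

/-- a perfect subgroup of an involution centraliser is `1` or a conjugate of `L` -/
theorem TJ.perfect (h : TJ X L V H a) {v : G} (hv : v ∈ X) (h1 : v ≠ 1) (h2 : v * v = 1)
    {Y : Subgroup G} (hY : Y ≤ X ⊓ 𝒞₁ v) (hp : ⁅Y, Y⁆ = Y) (h0 : Y ≠ ⊥) :
    ∃ V' H', TJ X Y V' H' v := by
  obtain ⟨L', V', H', h'⟩ := h.at hv h1 h2
  rw [h'.cent_eq] at hY
  rw [h'.t2.eq_of_perfect h'.card_V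
    (hp.ge.trans ((commutator_mono hY hY).trans (comm_sup_zpowers_le h'.a_norm))) hp h0]
  exact ⟨_, _, h'⟩

/-! ### all types -/

theorem T2.not_TO (h : T2 X S H) (h' : TO X K t s) : False :=
  h'.oc_ne (by
    rw [← h'.oc_eq, ← two_inf_odd (h.cent_two h'.t_X h'.t_ne h'.tt) (odd_oc (X ⊓ 𝒞₁ t))]
    exact (inf_eq_right.2 pPrimeCoreOf_le).symm)

theorem T2.not_TJ (h : T2 X S H) {H' : Subgroup G} (h' : TJ X L V H' a) : False :=
  h'.not_solvable h'.a_mem h'.a_ne h'.aa (solv_two (h.cent_two h'.a_mem h'.a_ne h'.aa))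

theorem TO.not_TJ (h : TO X K t s) (h' : TJ X L V H a) : False :=
  h'.not_solvable h'.a_mem h'.a_ne h'.aa (h.solvable_cent h'.a_mem h'.a_ne h'.aa)

omit [Finite G] in
theorem KF.simp (h : KF X) : Simp X := by
  rcases h with ⟨_, _, h⟩ | ⟨_, _, _, h⟩ | ⟨_, _, _, _, h⟩
  exacts [h.simp, h.simp, h.simp]

/-- the data at a given Sylow 2-subgroup -/
theorem KF.at (h : KF X) (hS : IsSylowOf 2 S X) : (∃ H, T2 X S H) ∨
    (∃ K t s, TO X K t s ∧ S = closure {t, s}) ∨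
    ∃ L V H a, TJ X L V H a ∧ S = V ⊔ zpowers a := by
  rcases h with ⟨_, _, h⟩ | ⟨K, t, s, h⟩ | ⟨_, _, _, _, h⟩
  · exact Or.inl (h.of_syl hS)
  · obtain ⟨g, hg, e⟩ := h.syl.exists_cj_eq hS
    have := h.cj g
    rw [cj_eq_of_mem hg] at this
    refine Or.inr (Or.inl ⟨_, _, _, this, ?_⟩)
    rw [← e, show CfsgH2.cj g (closure {t, s}) = cj g (closure {t, s}) from rfl, CfsgH1.cj_closure,
      Set.image_pair]
  · exact Or.inr (Or.inr (h.at_syl hS))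

theorem KF.conj (h : KF X) {v w : G} (hv : v ∈ X) (hv1 : v ≠ 1) (hvv : v * v = 1) (hw : w ∈ X)
    (hw1 : w ≠ 1) (hww : w * w = 1) : ∃ g ∈ X, g * v * g⁻¹ = w := by
  have key : ∀ t, (∀ v ∈ X, v ≠ 1 → v * v = 1 → ∃ g ∈ X, g * t * g⁻¹ = v) →
      ∃ g ∈ X, g * v * g⁻¹ = w := fun t hc => by
    obtain ⟨a, ha, rfl⟩ := hc v hv hv1 hvv
    obtain ⟨b, hb, rfl⟩ := hc w hw hw1 hww
    exact ⟨b * a⁻¹, X.mul_mem hb (X.inv_mem ha), by group⟩
  rcases h with ⟨S, H, h⟩ | ⟨_, _, _, h⟩ | ⟨_, _, _, _, h⟩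
  · obtain ⟨a, ha, h1⟩ := exists_conj_mem_syl h.syl hv hvv
    obtain ⟨b, hb, h2⟩ := exists_conj_mem_syl h.syl hw hww
    obtain ⟨c, hc, e⟩ := h.trans _ h1 (conj_ne_one hv1) _ h2 (conj_ne_one hw1)
    refine ⟨b⁻¹ * c * a, X.mul_mem (X.mul_mem (X.inv_mem hb) (h.H_le hc).1) ha, ?_⟩
    rw [show b⁻¹ * c * a * v * (b⁻¹ * c * a)⁻¹ = b⁻¹ * (c * (a * v * a⁻¹) * c⁻¹) * b by group, e]
    group
  · exact key _ h.conj
  · exact key _ h.conj

theorem KF.sq (h : KF X) (hS : IsSylowOf 2 S X) : ∀ v ∈ S, v * v = 1 := by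
  rcases h.at hS with ⟨_, h⟩ | ⟨_, _, _, h, rfl⟩ | ⟨_, _, _, _, h, rfl⟩
  exacts [h.sq, h.sq_V, h.sq]

theorem KF.comm (h : KF X) (hS : IsSylowOf 2 S X) : S ≤ 𝒞 S := comm_of_sq (h.sq hS)

theorem KF.four (h : KF X) (hS : IsSylowOf 2 S X) : 4 ≤ #S := by
  rcases h.at hS with ⟨_, h⟩ | ⟨_, _, _, h, rfl⟩ | ⟨_, _, _, _, h, rfl⟩
  · exact h.four
  · exact h.card_V.ge
  · rw [h.card]; norm_num

theorem T2.cent_S (h : T2 X S H) : X ⊓ 𝒞 S = S := by
  refine le_antisymm ?_ (le_inf h.cc.le h.comm)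
  obtain ⟨z, hz, hz1, -⟩ := exists_inv h.two (by
    rintro rfl; have := h.four; rw [card_bot] at this; omega)
  rw [← h.cc.cent z hz hz1]
  exact fun x hx => ⟨hx.1, mem_c1.2 (mem_cent_iff.1 hx.2 z (by rwa [h.cc.cent z hz hz1]))⟩

theorem KF.cent_S (h : KF X) (hS : IsSylowOf 2 S X) : X ⊓ 𝒞 S = S := by
  refine le_antisymm ?_ (le_inf hS.1 (h.comm hS))
  rcases h.at hS with ⟨_, h⟩ | ⟨_, t, s, h, rfl⟩ | ⟨L, V, _, a, h, rfl⟩
  · exact h.cent_S.le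
  · conv_rhs => rw [← h.cent_V]
    exact fun x hx => ⟨⟨hx.1, mem_c1.2 (mem_cent_iff.1 hx.2 t (subset_closure (by simp)))⟩,
      mem_c1.2 (mem_cent_iff.1 hx.2 s (subset_closure (by simp)))⟩
  · intro x hx
    have hV : x ∈ 𝒞 V := cent_anti le_sup_left hx.2
    rw [mem_sup_zpowers h.a_norm_V h.aa]
    exact (h.cent x hx.1 (mem_cent_iff.1 hx.2 a (mem_sup_right (mem_zpowers a)))).imp
      (fun h1 => h.t2.cent_S.le ⟨h1, hV⟩) fun h1 =>
        h.t2.cent_S.le ⟨h1, mul_mem hV (cent_anti h.t2.cc.le h.a_cent)⟩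

theorem KF.tor (h : KF X) (hS : IsSylowOf 2 S X) : ∃ g ∈ X, Tor S S ⊥ g := by
  have hc : ∀ v ∈ S, v ≠ 1 → ∀ w ∈ S, w ≠ 1 → ∃ g ∈ X, g * v * g⁻¹ = w := fun v hv h1 w hw h2 =>
    h.conj (hS.1 hv) h1 (h.sq hS v hv) (hS.1 hw) h2 (h.sq hS w hw)
  rcases h.at hS with ⟨H, h'⟩ | ⟨_, t, s, h', e⟩ | ⟨L, V, _, a, h', e⟩
  · obtain ⟨g, hg⟩ := (isCyclic_iff_exists_zpowers_eq_top (α := H)).1 h'.cyc
    refine ⟨g, (h'.H_le g.2).1, (h'.H_le g.2).2, (h'.H_le g.2).2, odd_orderOf_of_mem h'.odd_H g.2,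
      mem_cent_iff.2 (by simp), fun v hv h1 w hw h2 => ?_⟩
    obtain ⟨x, hx, e⟩ := h'.trans v hv h1 w hw h2
    obtain ⟨i, hi⟩ := mem_powers_iff_mem_zpowers.2 (hg.ge (mem_top ⟨x, hx⟩))
    exact ⟨i, by rw [show (g : G) ^ i = x from congrArg Subtype.val hi, e]⟩
  · exact tor_of_prime hS (h.sq hS) Nat.prime_three (by norm_num) (by rw [e, h'.card_V]) hc
  · exact tor_of_prime hS (h.sq hS) Nat.prime_seven (by norm_num) (by rw [e, h'.card]) hc

theorem KF.solvable_norm (_h : KF X) (hS : IsSylowOf 2 S X) :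
    Group.IsSolvable (X ⊓ 𝒩 S : Subgroup G) :=
  solvable_of_normal_syl (syl_norm hS) inf_le_right

/-- a group of the list with Sylow 2-subgroups of order four -/
theorem KF.four_cases (h : KF X) (hS : IsSylowOf 2 S X) (h4 : #S = 4) :
    (∃ H, T2 X S H) ∨ ∀ v ∈ S, v ≠ 1 → ∀ w ∈ S, w ≠ 1 → v ≠ w →
      TO X (Oc (X ⊓ 𝒞₁ v) ⊔ zpowers v) v w := by
  rcases h.at hS with h' | ⟨_, t, s, h', -⟩ | ⟨L, V, _, a, h', e⟩
  · exact Or.inl h'
  · exact Or.inr fun v hv h1 w hw h2 h3 => h'.at (hS.1 hv) (hS.1 hw) h1 h2 h3 (h.sq hS v hv)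
      (h.sq hS w hw) (le_cent_iff.1 (h.comm hS) v hv w hw)
  · rw [e, h'.card] at h4; omega

theorem KF.le_or {G : Type u} [Group G] [Finite G] (hSE : SpecSE.{u}) {X S M : Subgroup G}
    (h : KF X) (hS : IsSylowOf 2 S X) (hN : X ⊓ 𝒩 S ≤ M) {v : G} (hv : v ∈ S) (h1 : v ≠ 1)
    (hC : X ⊓ 𝒞₁ v ≤ M) : X ≤ M ∨ (∃ H, T2 X S H) ∧ X ⊓ M ≤ 𝒩 S := by
  obtain ⟨g, hg, ht⟩ := h.tor hS
  rcases le_or_t2 hSE h.simp hS (h.comm hS) hN (fun w hw h2 _ => by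
    obtain ⟨i, rfl⟩ := ht.trans v hv h1 w hw h2
    rw [← cj_inf_c1 (X.pow_mem hg i)]
    exact cj_le_of_mem (M.pow_mem (hN ⟨hg, ht.norm⟩) i) hC) with h2 | ⟨H, h2⟩
  · exact Or.inl h2
  · exact (h2.le_or hN).imp_right fun h3 => ⟨⟨H, h2⟩, h3⟩

/-- lemma KA -/
theorem KF.cent_of_odd {G : Type u} [Group G] [Finite G] (hSE : SpecSE.{u}) {X S D : Subgroup G}
    (h : KF X) (hS : IsSylowOf 2 S X) (hD : Odd #D) (hn : D ≤ 𝒩 X) {v : G}
    (hv : v ∈ S) (h1 : v ≠ 1) (hc : D ≤ 𝒞 (X ⊓ 𝒞₁ v)) : D ≤ 𝒞 X := by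
  have hDS : D ≤ 𝒞 S := hc.trans (cent_anti (le_inf hS.1 fun x hx =>
    mem_c1.2 (le_cent_iff.1 (h.comm hS) x hx v hv)))
  have hN : X ⊓ 𝒩 S ≤ 𝒞 D := CfsgH2.le_centralizer_of_commutator_le
    (coprime_two_of_odd hS.2.1 hD).symm (Or.inl (odd_solvable hD)) (le_centralizer_symm hDS) (by
      conv_rhs => rw [← h.cent_S hS]
      refine le_inf ((commutator_mono inf_le_left le_rfl).trans
        (commutator_le_left_of_le_normalizer hn)) ((commutator_mono inf_le_right hDS).trans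
        (commutator_le_right_of_le_normalizer (CfsgH2.le_normalizer_centralizer le_rfl))))
  rcases h.le_or hSE hS hN hv h1 (le_centralizer_symm hc) with h2 | ⟨⟨H, h2⟩, -⟩
  · exact le_centralizer_symm h2
  · exact h2.cent_of_odd hD hn hDS

end CfsgAG
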