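import Cfsg.Agent.AG.B0
import Cfsg.Agent.AG.CM

/-! The known simple A-groups, in ambient form: general lemmas and type `L₂(2ⁿ)`. -/

set_option autoImplicit false

namespace CfsgAG

open Subgroup CfsgFT CfsgL0
open scoped commutatorElement

universe u

variable {G : Type*} [Group G] [Finite G] {X S H K L V : Subgroup G} {t s a : G}

omit [Finite G] in
theorem conj_inv {g v : G} (h : v * v = 1) : (g * v * g⁻¹) * (g * v * g⁻¹) = 1 := by
  calc _ = g * (v * v) * g⁻¹ := by group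
    _ = 1 := by rw [h]; group

omit [Finite G] in
theorem conj_ne_one {g v : G} (h : v ≠ 1) : g * v * g⁻¹ ≠ 1 := fun e => h (by
  calc v = g⁻¹ * (g * v * g⁻¹) * g := by group
    _ = 1 := by rw [e]; group)

omit [Finite G] in
theorem inv_eq_self {v : G} (h : v * v = 1) : v⁻¹ = v := inv_eq_of_mul_eq_one_right h

omit [Finite G] in
theorem two_of_sq (h : ∀ v ∈ S, v * v = 1) : IsPGroup 2 S :=
  CfsgH2.isPGroup_of_forall_pow fun a ha => by rw [pow_two, h a ha]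

omit [Finite G] in
theorem comm_of_sq (h : ∀ v ∈ S, v * v = 1) : S ≤ 𝒞 S :=
  comm_of_inv (t := 1) fun y hy => by rw [inv_eq_self (h y hy)]; group

theorem elem_of_sq (h : ∀ v ∈ S, v * v = 1) : IsElementaryAbelian 2 S :=
  ⟨CfsgH1.isMulCommutative_of_le_centralizer (comm_of_sq h), fun a ha => by rw [pow_two, h a ha]⟩

theorem not_cyclic_of_sq (h : ∀ v ∈ S, v * v = 1) (h4 : 4 ≤ #S) : ¬ IsCyclic S := by
  intro hc
  obtain ⟨g, hg⟩ := IsCyclic.exists_ofOrder_eq_natCard (α := S)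
  have : orderOf g ∣ 2 := orderOf_dvd_of_pow_eq_one (Subtype.ext (by
    rw [pow_two]; exact h g g.2))
  have := Nat.le_of_dvd two_pos this
  omega

theorem solvable_sup {A B : Subgroup G} (hn : B ≤ 𝒩 A) (hA : Group.IsSolvable A)
    (hB : Group.IsSolvable B) : Group.IsSolvable (A ⊔ B : Subgroup G) := by
  rw [← qc_qm hn]; exact isSolvable_qc hA (isSolvable_qm hB)

omit [Finite G] in
theorem solvable_cj {A : Subgroup G} (h : Group.IsSolvable A) (g : G) :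
    Group.IsSolvable (cj g A) :=
  haveI := h; Group.isSolvable_of_surjective (f := (cjE g A).toMonoidHom) (cjE g A).surjective

theorem solvable_of_comm {A : Subgroup G} (h : A ≤ 𝒞 A) : Group.IsSolvable A :=
  CfsgH2.isSolvable_of_isMulCommutative (CfsgH1.isMulCommutative_of_le_centralizer h)

omit [Finite G] in
theorem zpowers_comm (x : G) : zpowers x ≤ 𝒞 (zpowers x) := by
  rw [CfsgH2.centralizer_zpowers]; exact zpowers_le.2 (mem_c1.2 rfl)

theorem solvable_of_normal_syl {Y : Subgroup G} (hS : IsSylowOf 2 S Y) (hn : Y ≤ 𝒩 S) :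
    Group.IsSolvable Y := by
  obtain ⟨A, -, h1, h2⟩ := exists_odd_compl hS hn
  rw [← h2]
  exact solvable_sup (le_sup_right.trans (h2.le.trans hn)) (solv_two hS.2.1) (odd_solvable h1)

theorem syl_norm {p : ℕ} [Fact p.Prime] (hS : IsSylowOf p S X) : IsSylowOf p S (X ⊓ 𝒩 S) :=
  hS.mono (le_inf hS.1 le_normalizer) inf_le_left

theorem le_syl_of_norm {p : ℕ} [Fact p.Prime] (hS : IsSylowOf p S X) {R : Subgroup G}
    (hR : IsPGroup p R) (hX : R ≤ X) (hn : R ≤ 𝒩 S) : R ≤ S :=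
  le_sup_left.trans (hS.eq_of_le (hR.to_sup_of_normal_right' hS.2.1 hn) le_sup_right
    (sup_le hX hS.1)).le

theorem mem_syl_of_sq (hS : IsSylowOf 2 S X) {g : G} (hg : g ∈ X) (hn : g ∈ 𝒩 S)
    (h2 : g * g ∈ S) : g ∈ S := by
  obtain ⟨k, hk⟩ := hS.2.1 ⟨_, h2⟩
  have hk : (g * g) ^ 2 ^ k = 1 := congrArg Subtype.val hk
  exact le_syl_of_norm hS (CfsgH1.isPGroup_zpowers (k := k + 1)
    (by rw [pow_succ', pow_mul, pow_two, hk])) (zpowers_le.2 hg) (zpowers_le.2 hn) (mem_zpowers g)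

theorem exists_conj_mem_syl (hS : IsSylowOf 2 S X) {v : G} (hv : v ∈ X) (hvv : v * v = 1) :
    ∃ g ∈ X, g * v * g⁻¹ ∈ S := by
  obtain ⟨g, hg, h⟩ := hS.exists_cj_le (two_zpowers hvv) (zpowers_le.2 hv)
  exact ⟨g, hg, h (CfsgH2.conj_mem_cj g (mem_zpowers v))⟩

theorem syl_cj {p : ℕ} [Fact p.Prime] (hS : IsSylowOf p S X) {g : G} (hg : g ∈ X) :
    IsSylowOf p (cj g S) X := hS.cj_of_mem_normalizer (le_normalizer hg)

theorem syl_sup_zpowers {R : Subgroup G} (hR : IsSylowOf 2 R L) {v : G} (hv : v ∈ 𝒩 L)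
    (h2 : IsPGroup 2 (zpowers v)) (hvR : v ∈ 𝒩 R) :
    IsSylowOf 2 (R ⊔ zpowers v) (L ⊔ zpowers v) := by
  refine ⟨sup_le_sup_right hR.1 _, hR.2.1.to_sup_of_normal_left' h2 (zpowers_le.2 hvR),
    fun h => hR.2.2 ?_⟩
  have e : L ⊔ zpowers v = (R ⊔ zpowers v) ⊔ L := by
    rw [sup_comm R, sup_assoc, sup_eq_right.2 hR.1, sup_comm]
  rw [e, relIndex_sup_of_le_normalizer'
    (sup_le (hR.1.trans le_normalizer) (zpowers_le.2 hv))] at h
  exact h.trans (relIndex_dvd_of_le_left L le_sup_left)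

omit [Finite G] in
theorem cj_inf_c1 {g : G} (hg : g ∈ X) (v : G) : cj g (X ⊓ 𝒞₁ v) = X ⊓ 𝒞₁ (g * v * g⁻¹) := by
  rw [cj_inf, cj_eq_of_mem hg, cj_centralizer_singleton]

/-- with one class of involutions a Sylow 2-subgroup of `C(t)` is a Sylow 2-subgroup -/
theorem syl_of_cent {R : Subgroup G} (ht : t ∈ R) (h1 : t ≠ 1)
    (hc : ∀ v ∈ X, v ≠ 1 → v * v = 1 → ∃ g ∈ X, g * t * g⁻¹ = v)
    (hR : IsSylowOf 2 R (X ⊓ 𝒞₁ t)) : IsSylowOf 2 R X := by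
  obtain ⟨P, hP, hle⟩ := CfsgH2.exists_isSylowOf_ge hR.2.1 (hR.1.trans inf_le_left)
  have hP0 : P ⊓ 𝒞 P ≠ ⊥ := by
    haveI : Nontrivial P := (nontrivial_iff_ne_bot P).2 fun e => h1 (mem_bot.1 (e ▸ hle ht))
    have := IsPGroup.center_nontrivial hP.2.1
    rw [← map_center_subtype, Ne, map_eq_bot_iff_of_injective _ P.subtype_injective]
    exact (nontrivial_iff_ne_bot _).1 this
  obtain ⟨z, hz, hz1, hzz⟩ := exists_inv (hP.2.1.to_le inf_le_left) hP0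
  obtain ⟨g, hg, e⟩ := hc z (hP.1 hz.1) hz1 hzz
  have h2 : cj g⁻¹ P ≤ X ⊓ 𝒞₁ t := by
    rw [← le_cj_iff_cj_inv_le, cj_inf_c1 hg, e]
    exact le_inf hP.1 fun x hx => mem_c1.2 (mem_cent_iff.1 hz.2 x hx).symm
  obtain ⟨h, -, h3⟩ := hR.exists_cj_le (isPGroup_cj _ hP.2.1) h2
  have h4 := card_le_of_le h3
  rw [CfsgH2.card_cj, card_cj] at h4
  rwa [eq_of_le_of_card_ge hle h4]

/-- a subgroup with a prime number of involutions permuted transitively -/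
theorem tor_of_prime (hS : IsSylowOf 2 S X) (hsq : ∀ v ∈ S, v * v = 1) {r : ℕ} (hr : r.Prime)
    (hr2 : r ≠ 2) (hcard : #S = r + 1)
    (hc : ∀ v ∈ S, v ≠ 1 → ∀ w ∈ S, w ≠ 1 → ∃ g ∈ X, g * v * g⁻¹ = w) :
    ∃ g ∈ X, Tor S S ⊥ g := by
  haveI := Fact.mk hr
  have hcomm := comm_of_sq hsq
  obtain ⟨⟨v, hv⟩, hv1⟩ := ne_bot_iff_exists_ne_one.1 (show S ≠ ⊥ by
    rintro rfl; rw [card_bot] at hcard; have := hr.pos; omega)
  have hv1 : v ≠ 1 := fun e => hv1 (Subtype.ext e)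
  have hsub : ∀ A ≤ X ⊓ 𝒩 S, cl A v ⊆ (S : Set G) \ {1} := fun A hA w hw => by
    obtain ⟨g, hg, rfl⟩ := mem_cl.1 hw
    exact ⟨conj_mem_of_mem_norm (hA hg).2 hv, conj_ne_one hv1⟩
  have hn : ((S : Set G) \ {1}).ncard = r := by
    rw [Set.ncard_diff_singleton_of_mem S.one_mem]
    have : (S : Set G).ncard = r + 1 := hcard
    omega
  have h1 : cl (X ⊓ 𝒩 S) v = (S : Set G) \ {1} := by
    refine (hsub _ le_rfl).antisymm fun w hw => ?_
    obtain ⟨g, hg, e⟩ := hc v hv hv1 w hw.1 hw.2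
    obtain ⟨n, hn, e'⟩ := fusion_of_comm hS hcomm hv hg (e ▸ hw.1)
    exact mem_cl.2 ⟨n, hn, e'.trans e⟩
  obtain ⟨R, hR⟩ := CfsgH2.exists_isSylowOf (p := r) (X ⊓ 𝒩 S)
  have h2 : ¬ R ≤ 𝒞₁ v := fun hle => hR.2.2 (by
    have e1 := card_cl_mul (X ⊓ 𝒩 S) v
    rw [h1, hn, ← CfsgH1.card_mul_relIndex (inf_le_left : X ⊓ 𝒩 S ⊓ 𝒞₁ v ≤ _)] at e1
    rw [← relIndex_mul_relIndex R _ _ (le_inf hR.1 hle) inf_le_left,
      ← Nat.eq_of_mul_eq_mul_left Nat.card_pos e1]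
    exact dvd_mul_left _ _)
  obtain ⟨g, hg, hgv⟩ := SetLike.not_le_iff_exists.1 h2
  have hz : zpowers g ≤ X ⊓ 𝒩 S := (zpowers_le.2 hg).trans hR.1
  have hp : IsPGroup r (zpowers g) := hR.2.1.to_le (zpowers_le.2 hg)
  obtain ⟨k, hk⟩ := IsPGroup.iff_card.1 hp
  have h3 : cl (zpowers g) v = (S : Set G) \ {1} := by
    refine Set.eq_of_subset_of_ncard_le (hsub _ hz) ?_
    have e1 := card_cl_mul (zpowers g) v
    obtain ⟨j, -, hj⟩ := (Nat.dvd_prime_pow hr).1 (hk ▸ Dvd.intro_left _ e1)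
    rw [hn, hj]
    rcases j with _ | j
    · rw [hj, pow_zero, mul_one] at e1
      exact absurd ((eq_of_le_of_card_ge inf_le_left e1.ge).ge (mem_zpowers g)).2 hgv
    · exact Nat.le_self_pow j.succ_ne_zero r
  refine ⟨g, (hR.1 hg).1, (hR.1 hg).2, (hR.1 hg).2, ?_, mem_cent_iff.2 (by simp),
    fun a ha a1 b hb b1 => ?_⟩
  · rw [← Nat.card_zpowers, hk]
    exact (hr.odd_of_ne_two hr2).pow
  · obtain ⟨x, hx, rfl⟩ := mem_cl.1 (h3.ge ⟨ha, a1⟩)
    obtain ⟨y, hy, rfl⟩ := mem_cl.1 (h3.ge ⟨hb, b1⟩)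
    obtain ⟨i, hi⟩ := mem_powers_iff_mem_zpowers.2 (mul_mem hy (inv_mem hx))
    exact ⟨i, by rw [show g ^ i = y * x⁻¹ from hi]; group⟩

/-! ### type `L₂(2ⁿ)` -/

omit [Finite G] in
theorem T2.comm (h : T2 X S H) : S ≤ 𝒞 S := comm_of_sq h.sq

omit [Finite G] in
theorem T2.two (h : T2 X S H) : IsPGroup 2 S := two_of_sq h.sq

theorem T2.even (h : T2 X S H) : Even #S := by
  obtain ⟨n, hn⟩ := IsPGroup.iff_card.1 h.two
  have := h.four
  rcases n with _ | n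
  · rw [hn] at this; omega
  · rw [hn, pow_succ]; exact Even.mul_left even_two _

theorem T2.odd_H (h : T2 X S H) : Odd #H := by
  have := h.even
  rw [← h.card_H, Nat.even_add_one, Nat.not_even_iff_odd] at this
  exact this

theorem T2.syl (h : T2 X S H) : IsSylowOf 2 S X := by
  refine ⟨h.cc.le, h.two, ?_⟩
  have h1 := CfsgH1.card_mul_relIndex h.cc.le
  rw [h.card_X] at h1
  rw [Nat.eq_of_mul_eq_mul_left Nat.card_pos h1]
  obtain ⟨k, hk⟩ := h.even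
  have h4 := h.four
  have : #S ^ 2 = 2 * (2 * k * k) := by rw [hk]; ring
  have : 0 < #S ^ 2 := by positivity
  omega

theorem T2.of_syl (h : T2 X S H) {S' : Subgroup G} (hS : IsSylowOf 2 S' X) :
    ∃ H', T2 X S' H' := by
  obtain ⟨g, hg, e⟩ := h.syl.exists_cj_eq hS
  have := h.cj g
  rw [cj_eq_of_mem hg] at this
  exact ⟨_, (show cj g S = S' from e) ▸ this⟩

theorem T2.not_le_norm (h : T2 X S H) : ¬ X ≤ 𝒩 S := fun hn => by
  have := h.four
  rw [h.simp.eq_bot_of_solvable h.cc.le hn (solv_two h.two), card_bot] at this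
  omega

theorem T2.aux (h : T2 X S H) {g : G} (hg : g ∈ X) (hg' : g ∉ 𝒩 S) : X ⊓ 𝒩 S = S ⊔ H ∧
    ∀ x ∈ X, x ∉ 𝒩 S → ∃ v ∈ S, ∃ n ∈ X ⊓ 𝒩 S, x = v * g * n := by
  set N := X ⊓ 𝒩 S with hN
  have hSN : S ≤ N := le_inf h.cc.le le_normalizer
  let f : S × N → ((X : Set G) \ N : Set G) := fun x => ⟨x.1 * g * x.2,
    X.mul_mem (X.mul_mem (h.cc.le x.1.2) hg) x.2.2.1, fun hm => hg' (by
      have : g = (x.1 : G)⁻¹ * (x.1 * g * x.2) * (x.2 : G)⁻¹ := by group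
      rw [this]
      exact (N.mul_mem (N.mul_mem (N.inv_mem (hSN x.1.2)) hm) (N.inv_mem x.2.2)).2)⟩
  have hf : Function.Injective f := by
    rintro ⟨v, n⟩ ⟨v', n'⟩ e
    have e : (v : G) * g * n = v' * g * n' := congrArg Subtype.val e
    have hu : (v' : G)⁻¹ * v ∈ S := S.mul_mem (S.inv_mem v'.2) v.2
    have e2 : g⁻¹ * ((v' : G)⁻¹ * v) * g⁻¹⁻¹ = n' * (n : G)⁻¹ := by
      calc _ = g⁻¹ * (v' : G)⁻¹ * (v * g * n) * (n : G)⁻¹ := by group
        _ = _ := by rw [e]; group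
    have hvv : (v' : G)⁻¹ * v = 1 := by
      by_contra h1
      have hm : g⁻¹ * ((v' : G)⁻¹ * v) * g⁻¹⁻¹ ∈ N := e2 ▸ N.mul_mem n'.2 (N.inv_mem n.2)
      have hS := mem_syl_of_sq h.syl hm.1 hm.2 (by rw [conj_inv (h.sq _ hu)]; exact one_mem _)
      have := h.cc.cent _ hS (conj_ne_one h1)
      rw [← cj_inf_c1 (X.inv_mem hg), h.cc.cent _ hu h1] at this
      exact hg' (by simpa using inv_mem (mem_normalizer_iff_cj.2 this))
    rw [hvv] at e2
    refine Prod.ext (Subtype.ext (inv_mul_eq_one.1 hvv).symm) (Subtype.ext ?_)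
    exact (mul_inv_eq_one.1 (by rw [← e2]; group)).symm
  have hc : Nat.card ((X : Set G) \ N : Set G) = #X - #N :=
    Set.ncard_diff (s := (N : Set G)) (t := (X : Set G)) (fun x hx => hx.1)
  have h1 := Nat.card_le_card_of_injective f hf
  rw [Nat.card_prod, hc] at h1
  have hSH : #(S ⊔ H) = #S * #H := by
    rw [sup_comm, CfsgH2.card_sup_of_disjoint (h.H_le.trans inf_le_right)
      (by rw [inf_comm]; exact two_inf_odd h.two h.odd_H), mul_comm]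
  have h2 : #(S ⊔ H) ≤ #N := card_le_of_le (sup_le hSN h.H_le)
  have h3 : #N ≤ #X := card_le_of_le inf_le_left
  have hX : #X = (#S + 1) * (#S * #H) := by
    rw [h.card_X, ← h.card_H, show (#H + 1) ^ 2 - 1 = #H * (#H + 2) from by
      rw [Nat.sub_eq_iff_eq_add (Nat.one_le_pow _ _ (by omega))]; ring]
    ring
  have h4 : #N = #S * #H := by
    have : (#S + 1) * #N ≤ (#S + 1) * (#S * #H) := by rw [← hX, add_mul, one_mul]; omega
    have := Nat.le_of_mul_le_mul_left this (by omega)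
    omega
  refine ⟨(eq_of_le_of_card_ge (sup_le hSN h.H_le) (by omega)).symm, fun x hx hx' => ?_⟩
  have hb := hf.bijective_of_nat_card_le (by
    rw [Nat.card_prod, hc, hX, h4, add_mul, one_mul]; omega)
  obtain ⟨⟨v, n⟩, e⟩ := hb.2 ⟨x, hx, fun hm => hx' hm.2⟩
  exact ⟨v, v.2, n, n.2, (congrArg Subtype.val e).symm⟩

theorem T2.norm_eq (h : T2 X S H) : X ⊓ 𝒩 S = S ⊔ H := by
  obtain ⟨g, hg, hg'⟩ := SetLike.not_le_iff_exists.1 h.not_le_norm
  exact (h.aux hg hg').1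

/-- `S` is transitive on the other Sylow 2-subgroups -/
theorem T2.bruhat (h : T2 X S H) {g x : G} (hg : g ∈ X) (hg' : g ∉ 𝒩 S) (hx : x ∈ X)
    (hx' : x ∉ 𝒩 S) : ∃ v ∈ S, ∃ n ∈ X ⊓ 𝒩 S, x = v * g * n := (h.aux hg hg').2 x hx hx'

/-- the Borel subgroup is maximal -/
theorem T2.le_or (h : T2 X S H) {M : Subgroup G} (hM : X ⊓ 𝒩 S ≤ M) :
    X ≤ M ∨ X ⊓ M ≤ 𝒩 S := by
  refine or_iff_not_imp_right.2 fun hn x hx => ?_
  obtain ⟨g, hg, hg'⟩ := SetLike.not_le_iff_exists.1 hn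
  by_cases hx' : x ∈ 𝒩 S
  · exact hM ⟨hx, hx'⟩
  · obtain ⟨v, hv, n, hn, rfl⟩ := h.bruhat hg.1 hg' hx hx'
    exact M.mul_mem (M.mul_mem (hM ⟨h.cc.le hv, le_normalizer hv⟩) hg.2) (hM hn)

theorem T2.solvable_norm (h : T2 X S H) : Group.IsSolvable (X ⊓ 𝒩 S : Subgroup G) :=
  solvable_of_normal_syl (syl_norm h.syl) inf_le_right

theorem T2.cent_of_odd (h : T2 X S H) {D : Subgroup G} (hD : Odd #D) (hn : D ≤ 𝒩 X)
    (hc : D ≤ 𝒞 S) : D ≤ 𝒞 X := by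
  let W : Subgroup G := ⨅ g : X, 𝒩 (cj (g : G) S)
  have hW : ∀ {x : G}, x ∈ W ↔ ∀ g ∈ X, x ∈ 𝒩 (cj g S) := by
    intro x; simp only [W, mem_iInf, Subtype.forall]
  have hDW : D ≤ W := fun d hd => hW.2 fun g hg => by
    have hdS : d ∈ 𝒩 S := le_normalizer_of_le_centralizer hc hd
    by_cases hg' : g ∈ 𝒩 S
    · rwa [cj_eq_of_mem_normalizer hg']
    obtain ⟨v, hv, n, hn', e⟩ := h.bruhat hg hg' (conj_mem_of_mem_norm (hn hd) hg) (fun hm => hg' (by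
      have : g = d⁻¹ * (d * g * d⁻¹) * d := by group
      rw [this]; exact mul_mem (mul_mem (inv_mem hdS) hm) hdS))
    have e1 : cj d (cj g S) = cj v (cj g S) := by
      rw [cj_cj, cj_cj, show d * g = v * g * (n * d) by rw [← mul_assoc, ← e]; group, ← cj_cj (v * g),
        cj_eq_of_mem_normalizer (mul_mem hn'.2 hdS)]
    refine mem_of_sq_mem (odd_orderOf_of_mem hD hd) (mem_normalizer_iff_cj.2 ?_)
    rw [← cj_cj, e1, cj_cj, le_cent_iff.1 hc d hd v hv, ← cj_cj, e1, cj_cj, h.sq v hv]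
    exact CfsgH2.cj_one _
  have hXW : X ≤ 𝒩 W := fun x hx => mem_normalizer_of_conj_mem fun w hw => hW.2 fun g hg => by
    have := conj_mem_cj x (hW.1 hw (x⁻¹ * g) (mul_mem (inv_mem hx) hg))
    rwa [cj_normalizer, cj_cj, mul_inv_cancel_left] at this
  have h0 : X ⊓ W = ⊥ := (h.simp.normal inf_le_left
    (CfsgH2.le_normalizer_inf le_normalizer hXW)).resolve_right fun e => h.not_le_norm fun x hx => by
      have := hW.1 (e.ge hx).2 1 X.one_mem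
      rwa [show cj (1 : G) S = S from CfsgH2.cj_one _] at this
  rw [le_cent_iff_comm, ← le_bot_iff, ← h0]
  exact le_inf (commutator_le_right_of_le_normalizer hn)
    ((commutator_mono hDW le_rfl).trans (commutator_le_left_of_le_normalizer hXW))

theorem le_bot_of_cent {D : Subgroup G} (hsq : ∀ v ∈ S, v * v = 1) (h4 : 4 ≤ #S) (hD : Odd #D)
    (hn : S ≤ 𝒩 D) {M : Subgroup G} (h : ∀ v ∈ S, v ≠ 1 → D ⊓ 𝒞₁ v ≤ M) : D ≤ M :=
  CfsgH2.le_of_noncyclic (elem_of_sq hsq).1 (not_cyclic_of_sq hsq h4) hn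
    (coprime_two_of_odd (two_of_sq hsq) hD) h

theorem T2.odd_inv (h : T2 X S H) {D : Subgroup G} (hD : Odd #D) (hX : D ≤ X) (hn : S ≤ 𝒩 D) :
    D = ⊥ :=
  le_bot_iff.1 (le_bot_of_cent h.sq h.four hD hn fun v hv h1 => by
    rw [← two_inf_odd h.two hD, ← h.cc.cent v hv h1]
    exact le_inf (inf_le_inf_right _ hX) inf_le_left)

theorem T2.cent_two (h : T2 X S H) {v : G} (hv : v ∈ X) (h1 : v ≠ 1) (h2 : v * v = 1) :
    IsPGroup 2 (X ⊓ 𝒞₁ v : Subgroup G) := by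
  obtain ⟨P, hP, hle⟩ := CfsgH2.exists_isSylowOf_ge (two_zpowers h2) (zpowers_le.2 hv)
  obtain ⟨H', h'⟩ := h.of_syl hP
  rw [h'.cc.cent v (hle (mem_zpowers v)) h1]
  exact hP.2.1

/-- `A₅` has no proper non-trivial perfect subgroup -/
theorem T2.eq_of_perfect (h : T2 X S H) (h4 : #S = 4) {Y : Subgroup G} (hY : Y ≤ X)
    (hp : ⁅Y, Y⁆ = Y) (h0 : Y ≠ ⊥) : Y = X := by
  have hns : ¬ Group.IsSolvable Y := fun hs => h0 (eq_bot_of_perfect_of_solvable hp hs)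
  obtain ⟨R, hR⟩ := CfsgH2.exists_isSylowOf (p := 2) Y
  obtain ⟨P, hP, hle⟩ := CfsgH2.exists_isSylowOf_ge hR.2.1 (hR.1.trans hY)
  obtain ⟨H', h'⟩ := h.of_syl hP
  have hP4 : #P = 4 := by rw [hP.card_eq, ← h.syl.card_eq, h4]
  have hc := cent_norm_eq_bot hp hR (hle.trans (h'.comm.trans (cent_anti hle)))
  have hR0 : R ≠ ⊥ := by
    rw [sylow_ne_bot_iff hR]
    by_contra h2
    exact hns (odd_solvable (by rwa [Nat.two_dvd_ne_zero, ← Nat.odd_iff] at h2))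
  obtain ⟨z, hz, hz1, hzz⟩ := exists_inv hR.2.1 hR0
  obtain ⟨n, hn, hnz⟩ : ∃ n ∈ Y ⊓ 𝒩 R, n * z * n⁻¹ ≠ z := by
    by_contra hh
    push Not at hh
    have : z ∈ R ⊓ 𝒞 (Y ⊓ 𝒩 R) := ⟨hz, mem_cent_iff.2 fun n hn => by
      rw [← hh n hn, inv_mul_cancel_right, hh n hn]⟩
    rw [hc] at this
    exact hz1 this
  have hRP : R = P := by
    refine eq_of_le_of_card_ge hle ?_
    have hd : #R ∣ 2 ^ 2 := by rw [show 2 ^ 2 = #P by rw [hP4]; rfl]; exact card_dvd_of_le hle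
    have h3 : ({1, z, n * z * n⁻¹} : Set G) ⊆ R := by
      rintro x (rfl | rfl | rfl)
      exacts [R.one_mem, hz, conj_mem_of_mem_norm hn.2 hz]
    have h5 : 3 ≤ #R := by
      have := Set.ncard_le_ncard h3
      rwa [Set.ncard_eq_three.2 ⟨_, _, _, hz1.symm, (conj_ne_one hz1).symm, hnz.symm, rfl⟩] at this
    obtain ⟨j, hj, e⟩ := (Nat.dvd_prime_pow Nat.prime_two).1 hd
    interval_cases j <;> omega
  subst hRP
  have hN : X ⊓ 𝒩 R ≤ Y := by
    have h12 : #(X ⊓ 𝒩 R) = 12 := by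
      have := h'.card_H
      rw [h'.norm_eq, sup_comm, CfsgH2.card_sup_of_disjoint (h'.H_le.trans inf_le_right)
        (by rw [inf_comm]; exact two_inf_odd h'.two h'.odd_H), hP4, show #H' = 3 by omega]
    have hlt : R < Y ⊓ 𝒩 R := lt_of_le_of_ne (le_inf hR.1 le_normalizer) fun e => hnz (by
      rw [le_cent_iff.1 h'.comm n (e.ge hn) z hz, mul_inv_cancel_right])
    have h1 := CfsgH1.card_lt_of_lt hlt
    have h2 : #(Y ⊓ 𝒩 R) ∣ 12 := h12 ▸ card_dvd_of_le (inf_le_inf_right _ hY)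
    have h3 : 4 ∣ #(Y ⊓ 𝒩 R) := hP4 ▸ card_dvd_of_le hlt.le
    have h5 : #(Y ⊓ 𝒩 R) = 12 := by
      have := Nat.le_of_dvd (by norm_num) h2
      rw [hP4] at h1
      interval_cases #(Y ⊓ 𝒩 R) <;> simp_all
    exact (eq_of_le_of_card_ge (inf_le_inf_right _ hY) (by omega)).ge.trans inf_le_left
  refine le_antisymm hY ((h'.le_or hN).resolve_right fun hle' => hns ?_)
  exact CfsgH2.isSolvable_of_le (le_inf hY ((le_inf hY le_rfl).trans hle')) h'.solvable_norm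

end CfsgAG
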