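import Cfsg.Agent.AG.B1

/-! 2-quasisimple subgroups normalised by a Sylow 2-subgroup. -/

set_option autoImplicit false

namespace CfsgAG

open Subgroup CfsgFT CfsgL0
open scoped commutatorElement

universe u

section
variable {G : Type*} [Group G] [Finite G] {S X : Subgroup G}

omit [Finite G] in
theorem le_norm_oc : X ≤ 𝒩 (Oc X) := le_normalizer_pPrimeCoreOf

theorem norm_le_norm_oc : 𝒩 X ≤ 𝒩 (Oc X) := normalizer_le_normalizer_pPrimeCoreOf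

omit [Finite G] in
theorem oc_le : Oc X ≤ X := pPrimeCoreOf_le

theorem cj_oc (g : G) (X : Subgroup G) : cj g (Oc X) = Oc (cj g X) := cj_pPrimeCoreOf 2 g X

theorem le_norm_of_comm_le {D : Subgroup G} (h : ⁅D, X⁆ ≤ X) : D ≤ 𝒩 X := fun d hd =>
  mem_normalizer_of_conj_mem fun x hx => by
    have := mul_mem (h (commutator_mem_commutator hd hx)) hx
    rwa [commutatorElement_def, inv_mul_cancel_right] at this

theorem le_CO_iff {D : Subgroup G} : D ≤ CO X ↔ ⁅D, X⁆ ≤ Oc X := by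
  constructor
  · intro h
    have hn : D ≤ 𝒩 (Oc X) := h.trans (qc_le_normalizer _)
    rw [CO, ← qm_le_iff hn, bar, qm_le_centralizer_iff hn le_norm_oc] at h
    exact h
  · intro h
    have hn : D ≤ 𝒩 (Oc X) := (le_norm_of_comm_le (h.trans oc_le)).trans norm_le_norm_oc
    rw [CO, ← qm_le_iff hn, bar, qm_le_centralizer_iff hn le_norm_oc]
    exact h

theorem mem_CO {g : G} : g ∈ CO X ↔ ∀ k ∈ X, g * k * g⁻¹ * k⁻¹ ∈ Oc X := by
  refine ⟨fun h k hk => le_CO_iff.1 le_rfl (commutator_mem_commutator h hk), fun h => ?_⟩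
  have hn : g ∈ 𝒩 X := mem_normalizer_of_conj_mem fun x hx => by
    have := mul_mem (oc_le (h x hx)) hx
    rwa [inv_mul_cancel_right] at this
  refine mem_qc.2 ⟨norm_le_norm_oc hn, mem_cent_iff.2 fun y hy => ?_⟩
  obtain ⟨x, hx, rfl⟩ := mem_qm.1 hy
  rw [← map_mul, ← map_mul, eq_comm, qp_eq_iff]
  have := conj_mem_of_mem_norm (inv_mem (mul_mem x.2 (norm_le_norm_oc hn))) (h x hx)
  convert this using 1
  simp only [coe_mul]; group

theorem CO_le_norm : CO X ≤ 𝒩 X := le_norm_of_comm_le ((le_CO_iff.1 le_rfl).trans oc_le)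

theorem norm_le_norm_CO : 𝒩 X ≤ 𝒩 (CO X) := fun n hn =>
  mem_normalizer_of_conj_mem fun g hg => mem_CO.2 fun k hk => by
    have := conj_mem_of_mem_norm (norm_le_norm_oc hn)
      (mem_CO.1 hg _ (conj_mem_of_mem_norm (inv_mem hn) hk))
    convert this using 1; group

theorem cent_le_CO : 𝒞 X ≤ CO X := le_CO_iff.2 (by
  rw [le_cent_iff_comm.1 le_rfl]; exact bot_le)

theorem oc_le_CO : Oc X ≤ CO X := le_qc _

theorem CO_eq_cent (h : Oc X = ⊥) : CO X = 𝒞 X :=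
  le_antisymm (le_cent_iff_comm.2 (le_bot_iff.1 (h ▸ le_CO_iff.1 le_rfl))) cent_le_CO

theorem cj_CO (g : G) (X : Subgroup G) : cj g (CO X) = CO (cj g X) := by
  have key : ∀ (g : G) (X : Subgroup G), cj g (CO X) ≤ CO (cj g X) := fun g X => by
    rw [le_CO_iff, ← cj_commutator, ← cj_oc]
    exact cj_mono g (le_CO_iff.1 le_rfl)
  refine le_antisymm (key g X) ?_
  have := key g⁻¹ (cj g X)
  rwa [cj_inv_cj, ← le_cj_iff_cj_inv_le] at this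

omit [Finite G] in
theorem cj_ne_top (h : X ≠ ⊤) (g : G) : cj g X ≠ ⊤ := fun e => h (by
  rw [cj_eq_iff_eq_cj_inv] at e; rw [e, CfsgH1.cj_normal])

protected theorem PK.cj (h : PK S X) (g : G) : PK (cj g S) (cj g X) where
  pqs := h.pqs.map_of_injective _ (MulAut.conj g).injective
  ne := cj_ne_top h.ne g
  two := isPGroup_cj g h.two
  norm := by rw [← cj_normalizer]; exact cj_mono g h.norm
  syl := by rw [← cj_inf]; exact h.syl.cj g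

theorem PK.cj_of_mem (h : PK S X) {g : G} (hg : g ∈ 𝒩 S) : PK S (CfsgH1.cj g X) := by
  have := h.cj g
  rwa [cj_eq_of_mem_normalizer hg] at this

theorem bar_equiv_quot (X : Subgroup G) : Nonempty (bar X ≃* X ⧸ Cfsg.pPrimeCore 2 X) :=
  ⟨(QuotientGroup.quotientKerEquivOfSurjective _ (toQm_surj le_norm_oc)).symm.trans
    (QuotientGroup.quotientMulEquivOfEq (by
      rw [ker_toQm, inf_eq_left.2 oc_le, pPrimeCoreOf_subgroupOf_self]))⟩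

theorem bar_equiv_of_equiv {G' : Type*} [Group G'] [Finite G'] {X' : Subgroup G'} (e : X ≃* X') :
    Nonempty (bar X ≃* bar X') := by
  obtain ⟨a⟩ := bar_equiv_quot X
  obtain ⟨b⟩ := bar_equiv_quot X'
  exact ⟨(a.trans (QuotientGroup.congr _ _ e (map_pPrimeCore_equiv e))).trans b.symm⟩

theorem ty2_cj (h : Ty2 X) (g : G) : Ty2 (cj g X) :=
  let ⟨e⟩ := bar_equiv_of_equiv (cjE g X); ex_T2_tr h e

theorem tyO_cj (h : TyO X) (g : G) : TyO (cj g X) :=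
  let ⟨e⟩ := bar_equiv_of_equiv (cjE g X); ex_TO_tr h e

theorem tyJ_cj (h : TyJ X) (g : G) : TyJ (cj g X) :=
  let ⟨e⟩ := bar_equiv_of_equiv (cjE g X); ex_TJ_tr h e

theorem Ty2.not_tyO (h : Ty2 X) (h' : TyO X) : False :=
  let ⟨_, _, h⟩ := h; let ⟨_, _, _, h'⟩ := h'; h.not_TO h'

theorem Ty2.not_tyJ (h : Ty2 X) (h' : TyJ X) : False :=
  let ⟨_, _, h⟩ := h; let ⟨_, _, _, _, h'⟩ := h'; h.not_TJ h'

theorem TyO.not_tyJ (h : TyO X) (h' : TyJ X) : False :=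
  let ⟨_, _, _, h⟩ := h; let ⟨_, _, _, _, h'⟩ := h'; h.not_TJ h'

omit [Finite G] in
theorem equiv_bar (h : Oc X = ⊥) : Nonempty (X ≃* bar X) :=
  equiv_qm le_norm_oc (by rw [h, bot_inf_eq])

theorem ty2_iff (h : Oc X = ⊥) : Ty2 X ↔ ∃ S H, T2 X S H :=
  let ⟨e⟩ := equiv_bar h; ⟨fun h => ex_T2_tr h e.symm, fun h => ex_T2_tr h e⟩

theorem tyO_iff (h : Oc X = ⊥) : TyO X ↔ ∃ K t s, TO X K t s :=
  let ⟨e⟩ := equiv_bar h; ⟨fun h => ex_TO_tr h e.symm, fun h => ex_TO_tr h e⟩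

theorem tyJ_iff (h : Oc X = ⊥) : TyJ X ↔ ∃ L V H a, TJ X L V H a :=
  let ⟨e⟩ := equiv_bar h; ⟨fun h => ex_TJ_tr h e.symm, fun h => ex_TJ_tr h e⟩

theorem not_dvd_odd_inf {N : Subgroup G} (hN : Odd #N) (H : Subgroup G) : ¬ 2 ∣ #(N ⊓ H) := by
  rw [Nat.two_dvd_ne_zero, ← Nat.odd_iff]; exact odd_of_le inf_le_left hN

theorem oc_bar (X : Subgroup G) : Oc (bar X) = ⊥ := pPrime_qm X

omit [Finite G] in
theorem qm_eq_bar {X' : Subgroup G} (h : X' ≤ X) (h' : X ≤ Oc X ⊔ X') : qm (Oc X) X' = bar X :=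
  le_antisymm (qm_mono h) ((qm_le_qm_iff le_norm_oc (h.trans le_norm_oc)).2 h')

theorem oc_eq_of_cover {X' : Subgroup G} (h : X' ≤ X) (h' : X ≤ Oc X ⊔ X') :
    Oc X' = Oc X ⊓ X' := by
  refine le_antisymm (le_inf ?_ oc_le) (pPrimeCoreOf_inf_le h)
  rw [← qm_eq_bot_iff (oc_le.trans (h.trans le_norm_oc)),
    qm_pPrimeCoreOf (h.trans le_norm_oc) (not_dvd_odd_inf (odd_oc X) _), qm_eq_bar h h']
  exact oc_bar X

/-- `X' ≤ X = O(X) X'` has the same quotient -/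
theorem bar_equiv {X' : Subgroup G} (h : X' ≤ X) (h' : X ≤ Oc X ⊔ X') :
    Nonempty (bar X' ≃* bar X) := by
  rw [← qm_eq_bar h h']
  exact qm_equiv le_norm_oc (h.trans le_norm_oc) (by
    rw [inf_eq_left.2 oc_le, oc_eq_of_cover h h'])

theorem CO_le_of_le {X' : Subgroup G} (h : X' ≤ X) : 𝒩 X' ⊓ CO X ≤ CO X' :=
  le_CO_iff.2 ((le_inf ((commutator_mono inf_le_right h).trans (le_CO_iff.1 le_rfl))
    (commutator_le_right_of_le_normalizer inf_le_left)).trans (pPrimeCoreOf_inf_le h))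

theorem CO_le_of_cover {X' : Subgroup G} (h : X' ≤ X) (h' : X ≤ Oc X ⊔ X') :
    𝒩 X ⊓ CO X' ≤ CO X := by
  have hn : 𝒩 X ⊓ CO X' ≤ 𝒩 (Oc X) := inf_le_left.trans norm_le_norm_oc
  refine (qm_le_iff hn).1 ?_
  rw [← qm_eq_bar h h', qm_le_centralizer_iff hn (h.trans le_norm_oc)]
  exact (le_CO_iff.1 inf_le_right).trans ((oc_eq_of_cover h h').le.trans inf_le_left)

theorem pk_of_syl {Y : Subgroup G} (hY : Y ≠ ⊤) (hS : IsSylowOf 2 S Y) (hp : PQS 2 X) (hX : X ≤ Y)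
    (hn : S ≤ 𝒩 X) : PK S X :=
  ⟨hp, fun e => hY (top_le_iff.1 (e ▸ hX)), hS.2.1, hn,
    (hS.mono le_sup_left (sup_le hS.1 hX)).inf_of_normal le_sup_right (sup_le hn le_normalizer)⟩

theorem PK.not_solvable (h : PK S X) : ¬ Group.IsSolvable X := fun hs =>
  h.pqs.not_le_solvable hs le_rfl

theorem pqs_qm {N : Subgroup G} (hN : Odd #N) (hn : X ≤ 𝒩 N) (h : PQS 2 X) : PQS 2 (qm N X) :=
  ((pqs_subgroupOf_iff hn).2 h).map _ (by
    rw [card_ker_inf hn]; exact Nat.coprime_two_right.2 (odd_of_le inf_le_left hN))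

theorem piRes_subgroupOf {π : Set ℕ} {H K : Subgroup G} (h : H ≤ K) :
    (piResidualOf π H).subgroupOf K = piResidualOf π (H.subgroupOf K) := by
  apply map_injective K.subtype_injective
  rw [map_piResidualOf, map_subgroupOf_eq_of_le h, map_subgroupOf_eq_of_le (piResidualOf_le.trans h)]

theorem qm_piRes {π : Set ℕ} {N H : Subgroup G} (h : H ≤ 𝒩 N) :
    qm N (piResidualOf π H) = piResidualOf π (qm N H) := by
  rw [qm, piRes_subgroupOf h, map_piResidualOf]; rfl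

theorem pqs_of_qm {N : Subgroup G} (hN : Odd #N) (hn : X ≤ 𝒩 N) (hr : piResidualOf {2}ᶜ X = X)
    (h : PQS 2 (qm N X)) : PQS 2 X :=
  (pqs_subgroupOf_iff hn).1 (PQS.of_map (by rw [← piRes_subgroupOf hn, hr]) (qp N) (by
    rw [card_ker_inf hn]; exact Nat.coprime_two_right.2 (odd_of_le inf_le_left hN)) h)

theorem card_qm_two {N R : Subgroup G} (hN : Odd #N) (hn : R ≤ 𝒩 N) (hR : IsPGroup 2 R) :
    #(qm N R) = #R := by
  rw [card_qm hn, ← CfsgH2.card_inf_mul_relIndex R N, two_inf_odd hR hN, card_bot, one_mul]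

theorem solvable_of_qm {N H : Subgroup G} (hN : Group.IsSolvable N) (hn : H ≤ 𝒩 N)
    (h : Group.IsSolvable (qm N H)) : Group.IsSolvable H :=
  CfsgH2.isSolvable_of_le (le_qc_qm hn) (isSolvable_qc hN h)

/-- Frattini argument modulo an odd normal subgroup -/
theorem norm_le_sup {N R H : Subgroup G} (hN : Odd #N) (hH : H ≤ 𝒩 N) (hNH : N ≤ H)
    (hn : R ≤ 𝒩 N) (hR : IsPGroup 2 R) : H ⊓ 𝒩 (N ⊔ R) ≤ N ⊔ (H ⊓ 𝒩 R) := by
  have h1 := isSylowOf_sup_pPrime hR (Nat.coprime_two_right.2 hN) hn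
  rw [sup_comm] at h1
  have h2 := h1.frattini (X := 𝒩 (N ⊔ R) ⊓ 𝒩 N) (le_inf le_normalizer (sup_le le_normalizer hn))
    inf_le_left
  intro x hx
  have h3 : x ∈ N ⊔ (𝒩 N ⊓ 𝒩 R) := by
    refine (h2.ge.trans ?_) ⟨hx.2, hH hx.1⟩
    exact sup_le (sup_le le_sup_left ((le_inf hn le_normalizer).trans le_sup_right))
      ((inf_le_inf_right _ inf_le_right).trans le_sup_right)
  obtain ⟨n, hn', y, hy, rfl⟩ := (CfsgH2.mem_sup_of_le_normalizer inf_le_left).1 h3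
  refine mul_mem (mem_sup_left hn') (mem_sup_right ⟨?_, hy.2⟩)
  exact (H.mul_mem_cancel_left (hNH hn')).1 hx.1

theorem qm_cent_one {N H : Subgroup G} (hN : Odd #N) (hH : H ≤ 𝒩 N) (hNH : N ≤ H) (v : 𝒩 N)
    (hv : IsPGroup 2 (zpowers (v : G))) : qm N (H ⊓ 𝒞₁ (v : G)) = qm N H ⊓ 𝒞₁ (qp N v) := by
  rw [← CfsgH2.centralizer_zpowers, qm_inf_centralizer (zpowers_le.2 v.2) hH hNH
    (coprime_two_of_odd hv hN) (Or.inl (solv_two hv)), qm_zpowers, CfsgH2.centralizer_zpowers]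

omit [Finite G] in
theorem qm_c1_le {N H : Subgroup G} (v : 𝒩 N) : qm N (H ⊓ 𝒞₁ (v : G)) ≤ qm N H ⊓ 𝒞₁ (qp N v) := by
  rw [← CfsgH2.centralizer_zpowers, ← CfsgH2.centralizer_zpowers, ← qm_zpowers]
  exact qm_inf_centralizer_le

theorem PK.S_norm (h : PK S X) : S ≤ 𝒩 (Oc X) := h.norm.trans norm_le_norm_oc

theorem PK.bsyl (h : PK S X) : IsSylowOf 2 (qm (Oc X) (S ⊓ X)) (bar X) := sylow_qm le_norm_oc h.syl

theorem PK.bcard (h : PK S X) : #(qm (Oc X) (S ⊓ X)) = #(S ⊓ X) :=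
  card_qm_two (odd_oc X) (inf_le_right.trans le_norm_oc) h.syl.2.1

theorem PK.qp_ne (h : PK S X) {v : 𝒩 (Oc X)} (hv : (v : G) ∈ S) (h1 : (v : G) ≠ 1) :
    qp (Oc X) v ≠ 1 := fun e => h1 (eq_one_of_two_odd h.two (odd_oc X) hv (qp_eq_one_iff.1 e))

theorem comm_le_CO_of_mem {D : Subgroup G} (hn : D ≤ 𝒩 X) {s : G} (hs : s ∈ CO X) :
    ⁅D, zpowers s⁆ ≤ CO X :=
  (commutator_mono le_rfl (zpowers_le.2 hs)).trans
    (commutator_le_right_of_le_normalizer (hn.trans norm_le_norm_CO))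

end

variable {G : Type u} [Group G] [Finite G] {S X : Subgroup G}

theorem Ctx.ag_bar (c : Ctx G) (X : Subgroup G) : AG (bar X) := (c.ag.mono le_top).qm le_norm_oc

theorem pqs_simp {G : Type*} [Group G] [Finite G] {X : Subgroup G} (ha : AG X) (h : PQS 2 X) :
    Simp (bar X) :=
  (ha.qm le_norm_oc).simp_of_qs ((pqs_iff_qs (oc_bar X)).1 (pqs_qm (odd_oc X) le_norm_oc h))

theorem PK.simp (c : Ctx G) (h : PK S X) : Simp (bar X) := pqs_simp (c.ag.mono le_top) h.pqs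

theorem PK.kf (c : Ctx G) (h : PK S X) : KF (bar X) :=
  c.ih.kf ((Nat.le_of_dvd Nat.card_pos (card_qm_dvd _ _)).trans_lt
    ((CfsgH1.card_lt_of_lt h.ne.lt_top).trans_eq card_top)) (c.ag_bar X) (h.simp c)

theorem PK.ty (c : Ctx G) (h : PK S X) : Ty2 X ∨ TyO X ∨ TyJ X := h.kf c

theorem pqs_inf_CO {G : Type*} [Group G] [Finite G] {X : Subgroup G} (ha : AG X) (h : PQS 2 X) :
    X ⊓ CO X = Oc X := by
  refine le_antisymm ?_ (le_inf oc_le oc_le_CO)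
  rw [← qm_eq_bot_iff (inf_le_left.trans le_norm_oc), CO, qm_inf_qc]
  exact (pqs_simp ha h).inf_cent

theorem PK.inf_CO (c : Ctx G) (h : PK S X) : X ⊓ CO X = Oc X := pqs_inf_CO (c.ag.mono le_top) h.pqs

theorem pqs_normal {G : Type*} [Group G] [Finite G] {X : Subgroup G} (ha : AG X) (h : PQS 2 X)
    {N : Subgroup G} (hN : N ≤ X) (hn : X ≤ 𝒩 N) : N ≤ Oc X ∨ N = X :=
  (h.normal N hN hn).imp_left fun e => pqs_inf_CO ha h ▸ le_inf hN (le_CO_iff.2 e)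

/-- normal subgroups of `X` -/
theorem PK.normal (c : Ctx G) (h : PK S X) {N : Subgroup G} (hN : N ≤ X) (hn : X ≤ 𝒩 N) :
    N ≤ Oc X ∨ N = X := pqs_normal (c.ag.mono le_top) h.pqs hN hn

theorem PK.comm (c : Ctx G) (h : PK S X) : S ≤ 𝒞 S := c.ag.comm h.two le_top

/-- b1 -/
theorem PK.spl (c : Ctx G) (h : PK S X) : Spl S (S ⊓ X) (S ⊓ CO X) where
  two := h.two
  comm := h.comm c
  V_le := inf_le_left
  T_le := inf_le_left
  disj := by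
    rw [← le_bot_iff, ← two_inf_odd h.two (odd_oc X), ← h.inf_CO c]
    exact le_inf (inf_le_left.trans inf_le_left) (inf_le_inf inf_le_right inf_le_right)
  split s hs := by
    have kf := h.kf c
    let s' : 𝒩 (Oc X) := ⟨s, h.S_norm hs⟩
    have h1 : qp _ s' ∈ 𝒞 (qm (Oc X) (S ⊓ X)) :=
      qm_le_centralizer ((h.comm c).trans (cent_anti inf_le_left)) (qp_mem_qm hs)
    have h2 := inner_of_cent kf.simp h.bsyl (kf.comm h.bsyl) (qm_le_normalizer h.norm (qp_mem_qm hs))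
      (by rw [← qm_zpowers]; exact isPGroup_qm (h.two.to_le (zpowers_le.2 hs))) h1
    obtain ⟨x, hx, y, hy, e⟩ := (CfsgH2.mem_sup_of_le_normalizer
      (le_normalizer_of_le_centralizer le_rfl)).1 h2
    have h3 : x ∈ bar X ⊓ 𝒞 (qm (Oc X) (S ⊓ X)) := mem_inf.2 ⟨hx, by
      rw [show x = qp _ s' * y⁻¹ by rw [← e]; group]
      exact mul_mem h1 (inv_mem (cent_anti h.bsyl.1 hy))⟩
    rw [kf.cent_S h.bsyl] at h3
    obtain ⟨a, ha, rfl⟩ := mem_qm.1 h3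
    refine ⟨a, ha, (a : G)⁻¹ * s, ⟨S.mul_mem (S.inv_mem ha.1) hs, ?_⟩, by group⟩
    have : qp _ (a⁻¹ * s') = y := by rw [map_mul, map_inv, ← e]; group
    exact (coe_mem_qc (x := a⁻¹ * s')).2 (this ▸ hy)
  sq v hv := eq_one_of_two_odd h.two (odd_oc X) (S.mul_mem hv.1 hv.1) (by
    have := (h.kf c).sq h.bsyl (qp _ ⟨v, h.S_norm hv.1⟩) (qp_mem_qm hv)
    rw [← map_mul, qp_eq_one_iff] at this
    exact this)
  four := h.bcard ▸ (h.kf c).four h.bsyl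

theorem PK.norm_le' (c : Ctx G) (h : PK S X) :
    X ⊓ 𝒩 (Oc X ⊔ (S ⊓ X)) ≤ Oc X ⊔ (X ⊓ 𝒩 S) := by
  refine le_trans (b := X ⊓ 𝒩 (Oc X ⊔ S)) (fun x hx => ⟨hx.1, mem_normalizer_of_cj_le ?_⟩)
    (norm_le_sup (odd_oc X) le_norm_oc oc_le h.S_norm h.two)
  rw [cj_sup, cj_eq_of_mem_normalizer (le_norm_oc hx.1)]
  refine sup_le le_sup_left (cj_le_iff.2 fun s hs => ?_)
  obtain ⟨a, ha, b, hb, rfl⟩ := (h.spl c).split s hs
  have h1 := conj_mem_of_mem_norm hx.2 (mem_sup_right ha)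
  have h2 := inv_mem (mem_CO.1 hb.2 x hx.1)
  rw [show x * (a * b) * x⁻¹ = (x * a * x⁻¹) * (b * x * b⁻¹ * x⁻¹)⁻¹ * b by group]
  exact mul_mem (mul_mem ((show Oc X ⊔ (S ⊓ X) ≤ Oc X ⊔ S from sup_le_sup_left inf_le_left _) h1) (mem_sup_left h2)) (mem_sup_right hb.1)

theorem PK.norm_le (c : Ctx G) (h : PK S X) : X ⊓ 𝒩 (S ⊓ X) ≤ Oc X ⊔ (X ⊓ 𝒩 S) :=
  (le_inf inf_le_left (CfsgH2.le_normalizer_sup (inf_le_left.trans le_norm_oc) inf_le_right)).trans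
    (h.norm_le' c)

theorem PK.bnorm_le (c : Ctx G) (h : PK S X) :
    bar X ⊓ 𝒩 (qm (Oc X) (S ⊓ X)) ≤ qm (Oc X) (X ⊓ 𝒩 S) := by
  rintro y ⟨hy, hn⟩
  obtain ⟨x, hx, rfl⟩ := mem_qm.1 hy
  rw [qp_mem_qm_iff (inf_le_left.trans le_norm_oc)]
  refine h.norm_le' c (mem_inf.2 ⟨hx, ?_⟩)
  rw [← zpowers_le, ← qm_le_normalizer_iff (zpowers_le.2 x.2) (inf_le_right.trans le_norm_oc),
    qm_zpowers]
  exact zpowers_le.2 hn

/-- b2 -/
theorem PK.tor (c : Ctx G) (h : PK S X) : ∃ g ∈ X, Tor S (S ⊓ X) (S ⊓ CO X) g := by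
  obtain ⟨g, hg, ht⟩ := (h.kf c).tor h.bsyl
  obtain ⟨y, hy, rfl⟩ := mem_qm.1 (h.bnorm_le c ⟨hg, ht.norm⟩)
  have hV : (y : G) ∈ 𝒩 (S ⊓ X) :=
    CfsgH2.le_normalizer_inf inf_le_right (inf_le_left.trans le_normalizer) hy
  refine ⟨y, hy.1, hy.2, hV, ?_, mem_cent_iff.2 fun b hb => ?_, fun v hv h1 w hw h2 => ?_⟩
  · have h1 : (y : G) ^ orderOf (qp _ y) ∈ Oc X := by
      have := pow_orderOf_eq_one (qp _ y)
      rw [← map_pow, qp_eq_one_iff] at this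
      exact this
    refine (ht.odd.mul (odd_orderOf_of_mem (odd_oc X) h1)).of_dvd_nat
      (orderOf_dvd_of_pow_eq_one ?_)
    rw [pow_mul, pow_orderOf_eq_one]
  · have := eq_one_of_two_odd h.two (odd_oc X) (x := b * y * b⁻¹ * (y : G)⁻¹) (by
      rw [show b * y * b⁻¹ * (y : G)⁻¹ = b * (y * b⁻¹ * (y : G)⁻¹) by group]
      exact S.mul_mem hb.1 (conj_mem_of_mem_norm hy.2 (S.inv_mem hb.1))) (mem_CO.1 hb.2 y hy.1)
    rw [mul_inv_eq_one, mul_inv_eq_iff_eq_mul] at this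
    exact this.symm
  · obtain ⟨i, hi⟩ := ht.trans (qp _ ⟨v, h.S_norm hv.1⟩) (qp_mem_qm hv) (h.qp_ne hv.1 h1)
      (qp _ ⟨w, h.S_norm hw.1⟩) (qp_mem_qm hw) (h.qp_ne hw.1 h2)
    rw [← map_pow, ← map_inv, ← map_mul, ← map_mul, qp_eq_iff] at hi
    refine ⟨i, inv_mul_eq_one.1 (eq_one_of_two_odd h.two (odd_oc X) ?_ hi)⟩
    exact S.mul_mem (S.inv_mem (conj_mem_of_mem_norm (pow_mem hy.2 i) hv.1)) hw.1

theorem PK.cent_S (c : Ctx G) (h : PK S X) : X ⊓ 𝒞 (S ⊓ X) ≤ Oc X ⊔ (S ⊓ X) := by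
  rw [← qm_le_qm_iff (inf_le_left.trans le_norm_oc) (inf_le_right.trans le_norm_oc)]
  exact qm_inf_centralizer_le.trans ((h.kf c).cent_S h.bsyl).le

theorem PK.solvable_norm (_c : Ctx G) (h : PK S X) :
    Group.IsSolvable (Oc X ⊔ (X ⊓ 𝒩 (S ⊓ X)) : Subgroup G) :=
  solvable_sup (inf_le_left.trans le_norm_oc) (solvable_oc X)
    (solvable_of_normal_syl (syl_norm h.syl) inf_le_right)

theorem PK.ty2_cent (_c : Ctx G) (h : PK S X) (h2 : Ty2 X) {v : G} (hv : v ∈ S ⊓ X) (h1 : v ≠ 1) :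
    X ⊓ 𝒞₁ v ≤ Oc X ⊔ (S ⊓ X) := by
  obtain ⟨_, _, h2⟩ := h2
  obtain ⟨H, h3⟩ := h2.of_syl h.bsyl
  rw [← qm_le_qm_iff (inf_le_left.trans le_norm_oc) (inf_le_right.trans le_norm_oc)]
  exact (qm_c1_le ⟨v, h.S_norm hv.1⟩).trans (h3.cc.cent _ (qp_mem_qm hv) (h.qp_ne hv.1 h1)).le

theorem PK.tyO_four (_c : Ctx G) (h : PK S X) (h2 : TyO X) : #(S ⊓ X) = 4 := by
  obtain ⟨_, _, _, h2⟩ := h2
  rw [← h.bcard, h.bsyl.card_eq, ← h2.syl.card_eq, h2.card_V]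

theorem PK.tyJ_eight (_c : Ctx G) (h : PK S X) (h2 : TyJ X) : #(S ⊓ X) = 8 := by
  obtain ⟨_, _, _, _, h2⟩ := h2
  rw [← h.bcard, (h2.ea h.bsyl).2]; rfl

/-- the centraliser of `v ∈ S ∖ T_X` modulo the core -/
theorem PK.qm_cent (c : Ctx G) (h : PK S X) {v : G} (hv : v ∈ S) (h1 : v ∉ CO X) :
    ∃ a : 𝒩 (Oc X), (a : G) ∈ S ⊓ X ∧ (a : G)⁻¹ * v ∈ S ⊓ CO X ∧ qp _ a ≠ 1 ∧
      qm (Oc X) (X ⊓ 𝒞₁ v) = bar X ⊓ 𝒞₁ (qp _ a) := by
  obtain ⟨a, ha, b, hb, rfl⟩ := (h.spl c).split v hv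
  refine ⟨⟨a, h.S_norm ha.1⟩, ha, by simpa using hb, h.qp_ne ha.1 (by
    rintro (rfl : a = 1); exact h1 (by simpa using hb.2)), ?_⟩
  rw [qm_cent_one (odd_oc X) le_norm_oc oc_le ⟨a * b, h.S_norm hv⟩ (h.two.to_le (zpowers_le.2 hv))]
  have hb' : qp _ ⟨b, h.S_norm hb.1⟩ ∈ 𝒞 (bar X) := coe_mem_qc.1 hb.2
  have e : qp (Oc X) ⟨a * b, h.S_norm hv⟩ = qp _ ⟨a, h.S_norm ha.1⟩ * qp _ ⟨b, h.S_norm hb.1⟩ := by
    rw [← map_mul]; rfl
  ext y
  refine and_congr_right fun hy => ?_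
  have h2 := mem_cent_iff.1 hb' y hy
  show y ∈ 𝒞₁ _ ↔ y ∈ 𝒞₁ _
  rw [mem_c1, mem_c1, e, mul_assoc, h2, ← mul_assoc, ← mul_assoc, mul_left_inj]

/-- the involution centralisers are solvable except in type `J₁` -/
theorem PK.tyJ_iff (c : Ctx G) (h : PK S X) {v : G} (hv : v ∈ S) (h1 : v ∉ CO X) :
    TyJ X ↔ ¬ Group.IsSolvable (X ⊓ 𝒞₁ v : Subgroup G) := by
  obtain ⟨a, ha, -, ha1, e⟩ := h.qm_cent c hv h1
  have hm : qp _ a ∈ qm (Oc X) (S ⊓ X) := qp_mem_qm ha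
  have hsq := (h.kf c).sq h.bsyl _ hm
  constructor
  · rintro ⟨_, _, _, _, hJ⟩ hs
    exact hJ.not_solvable (h.bsyl.1 hm) ha1 hsq (e ▸ isSolvable_qm hs)
  · intro hs
    rcases h.ty c with ⟨_, _, h2⟩ | ⟨_, _, _, h2⟩ | h2
    · exact absurd (solvable_of_qm (solvable_oc X) (inf_le_left.trans le_norm_oc)
        (e ▸ solv_two (h2.cent_two (h.bsyl.1 hm) ha1 hsq))) hs
    · exact absurd (solvable_of_qm (solvable_oc X) (inf_le_left.trans le_norm_oc)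
        (e ▸ h2.solvable_cent (h.bsyl.1 hm) ha1 hsq)) hs
    · exact h2

theorem cT_le {G : Type*} [Group G] {X T : Subgroup G} : cT X T ≤ X ⊓ 𝒞 T := piResidualOf_le

/-- b4 -/
theorem PK.le_sup_cent (_c : Ctx G) (h : PK S X) {T : Subgroup G} (hT : T ≤ S ⊓ CO X) :
    X ≤ Oc X ⊔ cT X T := by
  have h2 := h.two.to_le (hT.trans inf_le_left)
  have h1 : X ≤ Oc X ⊔ (X ⊓ 𝒞 T) := CfsgH2.le_sup_centralizer_of_commutator_le
    ((hT.trans inf_le_left).trans h.S_norm) (coprime_two_of_odd h2 (odd_oc X))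
    (Or.inl (solv_two h2)) oc_le
    (by rw [Subgroup.commutator_comm]; exact le_CO_iff.1 (hT.trans inf_le_right))
  rw [← qm_le_qm_iff le_norm_oc ((cT_le.trans inf_le_left).trans le_norm_oc),
    qm_piRes (inf_le_left.trans le_norm_oc), qm_eq_bar inf_le_left h1]
  exact (pqs_qm (odd_oc X) le_norm_oc h.pqs).res.ge

theorem PK.inf_cT (c : Ctx G) (h : PK S X) {T : Subgroup G} (hT : T ≤ S ⊓ CO X) :
    S ⊓ CfsgAG.cT X T = S ⊓ X := by
  refine le_antisymm (inf_le_inf_left _ (cT_le.trans inf_le_left)) (le_inf inf_le_left ?_)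
  refine le_piResidualOf (le_inf inf_le_right (inf_le_left.trans ((h.comm c).trans
    (cent_anti (hT.trans inf_le_left))))) ?_
  rw [compl_compl]
  exact isPGroup_iff_isPi'.1 h.syl.2.1

protected theorem PK.cT (c : Ctx G) (h : PK S X) {T : Subgroup G} (hT : T ≤ S ⊓ CO X) :
    PK S (cT X T) where
  pqs := pqs_of_qm (odd_oc X) ((cT_le.trans inf_le_left).trans le_norm_oc)
    piResidualOf_piResidualOf (by
      rw [qm_eq_bar (cT_le.trans inf_le_left) (h.le_sup_cent c hT)]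
      exact pqs_qm (odd_oc X) le_norm_oc h.pqs)
  ne e := h.ne (top_le_iff.1 (e.ge.trans (cT_le.trans inf_le_left)))
  two := h.two
  norm := (CfsgH2.le_normalizer_inf h.norm (((h.comm c).trans
    (cent_anti (hT.trans inf_le_left))).trans le_normalizer)).trans
    normalizer_le_normalizer_piResidualOf
  syl := by
    rw [h.inf_cT c hT]
    exact h.syl.mono ((h.inf_cT c hT).ge.trans inf_le_right) (cT_le.trans inf_le_left)

theorem PK.CO_cT (c : Ctx G) (h : PK S X) {T : Subgroup G} (hT : T ≤ S ⊓ CO X) :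
    S ⊓ CO (CfsgAG.cT X T) = S ⊓ CO X :=
  le_antisymm (le_inf inf_le_left ((inf_le_inf_right _ h.norm).trans
    (CO_le_of_cover (cT_le.trans inf_le_left) (h.le_sup_cent c hT))))
    (le_inf inf_le_left ((inf_le_inf_right _ (h.cT c hT).norm).trans
      (CO_le_of_le (cT_le.trans inf_le_left))))

theorem PK.ty2_cT (c : Ctx G) (h : PK S X) {T : Subgroup G} (hT : T ≤ S ⊓ CO X) :
    Ty2 (CfsgAG.cT X T) ↔ Ty2 X :=
  let ⟨e⟩ := bar_equiv (cT_le.trans inf_le_left) (h.le_sup_cent c hT)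
  ⟨fun h => ex_T2_tr h e, fun h => ex_T2_tr h e.symm⟩

theorem PK.tyO_cT (c : Ctx G) (h : PK S X) {T : Subgroup G} (hT : T ≤ S ⊓ CO X) :
    TyO (CfsgAG.cT X T) ↔ TyO X :=
  let ⟨e⟩ := bar_equiv (cT_le.trans inf_le_left) (h.le_sup_cent c hT)
  ⟨fun h => ex_TO_tr h e, fun h => ex_TO_tr h e.symm⟩

theorem PK.tyJ_cT (c : Ctx G) (h : PK S X) {T : Subgroup G} (hT : T ≤ S ⊓ CO X) :
    TyJ (CfsgAG.cT X T) ↔ TyJ X :=
  let ⟨e⟩ := bar_equiv (cT_le.trans inf_le_left) (h.le_sup_cent c hT)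
  ⟨fun h => ex_TJ_tr h e, fun h => ex_TJ_tr h e.symm⟩

theorem PK.conv (h : PK S X) {M : Subgroup G} (hO : Oc X ≤ M) :
    (bar X ≤ qm (Oc X) (X ⊓ M) → X ≤ M) ∧
    (bar X ⊓ qm (Oc X) (X ⊓ M) ≤ 𝒩 (qm (Oc X) (S ⊓ X)) → Group.IsSolvable (X ⊓ M : Subgroup G)) := by
  refine ⟨fun h1 => ((qm_le_qm_iff le_norm_oc (inf_le_left.trans le_norm_oc)).1 h1).trans
    (sup_le hO inf_le_right), fun h1 => solvable_of_qm (solvable_oc X)
      (inf_le_left.trans le_norm_oc) (CfsgH2.isSolvable_of_le ?_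
        (solvable_of_normal_syl (syl_norm h.bsyl) inf_le_right))⟩
  exact le_inf (qm_mono inf_le_left) ((le_inf (qm_mono inf_le_left) le_rfl).trans h1)

/-- b5 -/
theorem PK.le_or (hSE : SpecSE.{u}) (c : Ctx G) (h : PK S X) {M : Subgroup G} (hO : Oc X ≤ M)
    (hN : X ⊓ 𝒩 S ≤ M) {v : G} (hv : v ∈ S) (h1 : v ∉ CO X) (hC : X ⊓ 𝒞₁ v ≤ M) :
    X ≤ M ∨ Ty2 X ∧ Group.IsSolvable (X ⊓ M : Subgroup G) := by
  obtain ⟨a, ha, -, ha1, e⟩ := h.qm_cent c hv h1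
  exact ((h.kf c).le_or hSE (M := qm (Oc X) (X ⊓ M)) h.bsyl
    ((h.bnorm_le c).trans (qm_mono (le_inf inf_le_left hN))) (qp_mem_qm ha) ha1
    (e ▸ qm_mono (le_inf inf_le_left hC))).imp (h.conv hO).1
    fun h2 => ⟨⟨_, h2.1⟩, (h.conv hO).2 h2.2⟩

/-- in type `L₂(2ⁿ)` the Borel subgroup is maximal -/
theorem PK.ty2_le_or (c : Ctx G) (h : PK S X) (h2 : Ty2 X) {M : Subgroup G} (hO : Oc X ≤ M)
    (hN : X ⊓ 𝒩 S ≤ M) : X ≤ M ∨ Group.IsSolvable (X ⊓ M : Subgroup G) := by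
  obtain ⟨_, _, h2⟩ := h2
  obtain ⟨H, h3⟩ := h2.of_syl h.bsyl
  exact (h3.le_or (M := qm (Oc X) (X ⊓ M))
    ((h.bnorm_le c).trans (qm_mono (le_inf inf_le_left hN)))).imp (h.conv hO).1 (h.conv hO).2

theorem Spl.card' {G : Type*} [Group G] [Finite G] {S V T : Subgroup G} (hs : Spl S V T) :
    V ⊔ T = S ∧ #S = #V * #T := by
  have e : V ⊔ T = S := le_antisymm (sup_le hs.V_le hs.T_le) fun s h => by
    obtain ⟨a, ha, b, hb, rfl⟩ := hs.split s h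
    exact mul_mem (mem_sup_left ha) (mem_sup_right hb)
  refine ⟨e, ?_⟩
  rw [← e, CfsgH2.card_sup_of_disjoint (le_normalizer_of_le_centralizer
    (hs.V_le.trans (hs.comm.trans (cent_anti hs.T_le)))) hs.disj]

/-- the pump-up dichotomy -/
theorem PK.le_cases (c : Ctx G) {K : Subgroup G} (h : PK S X) (hK : PK S K) (hle : X ≤ K) :
    S ⊓ CO K ≤ CO X ∧ (S ⊓ X = S ⊓ K ∧ S ⊓ CO X = S ⊓ CO K ∨
      TyJ K ∧ Ty2 X ∧ #(S ⊓ X) = 4 ∧ #(S ⊓ K) = 8) := by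
  have h1 : S ⊓ CO K ≤ CO X := (inf_le_inf_right _ h.norm).trans (CO_le_of_le hle)
  refine ⟨h1, ?_⟩
  by_cases e : S ⊓ X = S ⊓ K
  · refine Or.inl ⟨e, (eq_of_le_of_card_ge (le_inf inf_le_left h1) ?_).symm⟩
    have h2 := (h.spl c).card'.2
    rw [(hK.spl c).card'.2, e] at h2
    exact (Nat.eq_of_mul_eq_mul_left Nat.card_pos h2).ge
  right
  obtain ⟨s, hs, hsX⟩ := SetLike.exists_of_lt (lt_of_le_of_ne (inf_le_inf_left S hle) e)
  obtain ⟨a, ha, j, hj, rfl⟩ := (h.spl c).split s hs.1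
  have hjK : j ∈ S ⊓ K := ⟨hj.1, (K.mul_mem_cancel_left (hle ha.2)).1 hs.2⟩
  have hj1 : j ≠ 1 := by rintro rfl; exact hsX (by simpa using ha)
  have hjC : j ∉ CO K := fun hm => hj1 (mem_bot.1 ((hK.spl c).disj ▸ ⟨hjK, hj.1, hm⟩))
  have hX' := h.cT c (le_refl _)
  set X' := CfsgAG.cT X (S ⊓ CO X) with hX'def
  have hle' : X' ≤ K ⊓ 𝒞₁ j := le_inf ((cT_le.trans inf_le_left).trans hle)
    fun x hx => mem_c1.2 (mem_cent_iff.1 (cT_le hx).2 j hj)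
  have hJ : TyJ K := (hK.tyJ_iff c hj.1 hjC).2 fun hs =>
    hX'.not_solvable (CfsgH2.isSolvable_of_le hle' hs)
  have hn : X' ≤ 𝒩 (Oc K) := (hle'.trans inf_le_left).trans le_norm_oc
  obtain ⟨_, _, _, _, hJ'⟩ := id hJ
  have hm : qp _ ⟨j, hK.S_norm hj.1⟩ ∈ qm (Oc K) (S ⊓ K) := qp_mem_qm hjK
  obtain ⟨V', H', h3⟩ := hJ'.perfect (hK.bsyl.1 hm) (hK.qp_ne hj.1 hj1)
    ((hK.kf c).sq hK.bsyl _ hm) (Y := qm (Oc K) X') ((qm_mono hle').trans (qm_c1_le ⟨j, _⟩))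
    (by rw [← qm_commutator hn hn, hX'.pqs.perfect])
    (fun e => hX'.pqs.not_le_solvable (solvable_oc K) ((qm_eq_bot_iff hn).1 e))
  have h4 : Oc X' ≤ Oc K := by
    rw [← qm_eq_bot_iff (oc_le.trans hn), qm_pPrimeCoreOf hn (not_dvd_odd_inf (odd_oc K) _)]
    exact h3.t2.simp.oc
  obtain ⟨e⟩ := qm_equiv hn le_norm_oc (le_antisymm
    (le_inf (pPrimeCoreOf_inf_le (hle'.trans inf_le_left)) inf_le_right) (inf_le_inf_right _ h4))
  refine ⟨hJ, (h.ty2_cT c le_rfl).1 (ex_T2_tr ⟨_, _, h3.t2⟩ e), ?_, hK.tyJ_eight c hJ⟩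
  rw [← h.inf_cT c le_rfl, ← card_qm_two (odd_oc K) (inf_le_right.trans hn) hX'.syl.2.1,
    (sylow_qm hn hX'.syl).card_eq, ← h3.t2.syl.card_eq, h3.card_V]

theorem pqs_eq_of_le {G : Type*} [Group G] [Finite G] {Y K K' : Subgroup G} (h : PQS 2 K)
    (h' : PQS 2 K') (hY : K' ≤ Y) (hs : (K.subgroupOf Y).IsSubnormal)
    (hs' : (K'.subgroupOf Y).IsSubnormal) (hle : K ≤ K') : K = K' := by
  have := pcomp_eq_of_le ((isPComponent_subgroupOf_iff (hle.trans hY)).2 ⟨hs, h⟩)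
    ((isPComponent_subgroupOf_iff hY).2 ⟨hs', h'⟩) (comap_mono hle)
  rw [← map_subgroupOf_eq_of_le (hle.trans hY), this, map_subgroupOf_eq_of_le hY]

theorem cT_subnormal {G : Type*} [Group G] {X T : Subgroup G} :
    ((cT X T).subgroupOf (X ⊓ 𝒞 T)).IsSubnormal :=
  (CfsgL0.normal_subgroupOf_of_le_normalizer le_normalizer_piResidualOf).isSubnormal

/-- a perfect subnormal subgroup of `C_K(T)`, `T ≤ T_K`, covers `K / O(K)` -/
theorem PK.le_sup_of_subnormal (c : Ctx G) {K T : Subgroup G} (hK : PK S K) (hT : T ≤ S ⊓ CO K)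
    (hp : PQS 2 X) (hle : X ≤ K ⊓ 𝒞 T) (hs : (X.subgroupOf (K ⊓ 𝒞 T)).IsSubnormal) :
    K ≤ Oc K ⊔ X ∧ X = CfsgAG.cT K T := by
  have e : X = CfsgAG.cT K T := pqs_eq_of_le hp (hK.cT c hT).pqs cT_le hs cT_subnormal
    (hp.res.ge.trans (piResidualOf_mono hle))
  exact ⟨e ▸ hK.le_sup_cent c hT, e⟩

/-- types `L₂(2ⁿ)` and `J₁` have no invariant odd subgroups -/
theorem PK.odd_inv (c : Ctx G) (h : PK S X) (hty : ¬ TyO X) {D : Subgroup G} (hD : Odd #D)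
    (hn : D ≤ 𝒩 X) (hS : S ⊓ X ≤ 𝒩 D) : ⁅D, S ⊓ X⁆ ≤ Oc X := by
  refine (le_inf (commutator_le_left_of_le_normalizer hS) ((commutator_mono le_rfl inf_le_right).trans
    (commutator_le_right_of_le_normalizer hn))).trans ?_
  rw [← qm_eq_bot_iff (inf_le_right.trans le_norm_oc)]
  have h1 : Odd #(qm (Oc X) (D ⊓ X)) := odd_card_qm (odd_of_le inf_le_left hD)
  have h2 : qm (Oc X) (S ⊓ X) ≤ 𝒩 (qm (Oc X) (D ⊓ X)) :=
    qm_le_normalizer (CfsgH2.le_normalizer_inf hS (inf_le_right.trans le_normalizer))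
  rcases h.ty c with ⟨_, _, h3⟩ | h3 | ⟨_, _, _, _, h3⟩
  · obtain ⟨H, h4⟩ := h3.of_syl h.bsyl
    exact h4.odd_inv h1 (qm_mono inf_le_right) h2
  · exact absurd h3 hty
  · exact h3.odd_inv h.bsyl h1 (qm_mono inf_le_right) h2

theorem PK.comm_le_CO (c : Ctx G) (h : PK S X) (hty : ¬ TyO X) {D : Subgroup G} (hD : Odd #D)
    (hn : D ≤ 𝒩 X) (hS : S ⊓ X ≤ 𝒩 D) {s : G} (hs : s ∈ S) : ⁅D, zpowers s⁆ ≤ CO X := by
  have h1 := (h.odd_inv c hty hD hn hS).trans oc_le_CO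
  have hD' : D ≤ 𝒩 (CO X) := hn.trans norm_le_norm_CO
  have hS' : S ≤ 𝒩 (CO X) := h.norm.trans norm_le_norm_CO
  refine (commutator_mono le_rfl (zpowers_le.2 hs)).trans ?_
  rw [← qm_le_centralizer_iff hD' (inf_le_left.trans hS')] at h1
  rw [← qm_le_centralizer_iff hD' hS']
  refine h1.trans (cent_anti ((qm_le_qm_iff hS' (inf_le_left.trans hS')).2 ?_))
  conv_lhs => rw [← (h.spl c).card'.1]
  exact sup_le le_sup_right (inf_le_right.trans le_sup_left)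

/-- the component part of the lemma (*) -/
theorem PK.le_CO_of_inv (c : Ctx G) (h : PK S X) {D : Subgroup G} (hD : Odd #D) (hn : D ≤ 𝒩 X)
    {t : G} (ht : t ∈ S) (hi : ∀ y ∈ D, t * y * t⁻¹ = y⁻¹) (hC : X ⊓ 𝒞₁ t ≤ 𝒩 D) :
    D ≤ CO X := by
  have e0 := comm_eq_of_inv hD hi
  by_cases h1 : t ∈ CO X
  · exact e0.ge.trans (comm_le_CO_of_mem hn h1)
  by_cases hty : TyO X
  swap
  · exact e0.ge.trans (h.comm_le_CO c hty hD hn ((le_inf inf_le_right fun x hx =>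
      mem_c1.2 (le_cent_iff.1 (h.comm c) x hx.1 t ht)).trans hC) ht)
  have hsp := h.spl c
  obtain ⟨a, ha, hb, ha1, e⟩ := h.qm_cent c ht h1
  have ha1' : (a : G) ≠ 1 := fun e => ha1 (by rw [show a = 1 from Subtype.ext e, map_one])
  have hN : 𝒩 X ≤ 𝒩 (CO X) := norm_le_norm_CO
  have hXN : X ≤ 𝒩 (CO X) := le_normalizer.trans hN
  obtain ⟨f⟩ := qm_equiv le_norm_oc hXN
    (by rw [inf_eq_left.2 oc_le, inf_comm, h.inf_CO c])
  obtain ⟨K₀, t₀, s₀, hTO⟩ := ex_TO_tr hty f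
  obtain ⟨w, hw, hw1, hwa⟩ : ∃ w ∈ S ⊓ X, w ≠ 1 ∧ w ≠ a := by
    by_contra hh
    push Not at hh
    have : ((S ⊓ X : Subgroup G) : Set G) ⊆ {1, (a : G)} := fun w hw => by
      by_cases e : w = 1
      · exact Or.inl e
      · exact Or.inr (hh w hw e)
    have h2 := (Set.ncard_le_ncard this).trans ((Set.ncard_insert_le _ _).trans (by rw [Set.ncard_singleton]))
    have h3 := hsp.four
    exact absurd (h3.trans h2) (by norm_num)
  have hne : ∀ {x : G} (hx : x ∈ S ⊓ X), x ≠ 1 → qp (CO X) ⟨x, hXN hx.2⟩ ≠ 1 := fun hx hx1 e =>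
    hx1 (mem_bot.1 (hsp.disj ▸ ⟨hx, hx.1, qp_eq_one_iff.1 e⟩))
  let a' : 𝒩 (CO X) := ⟨a, hXN ha.2⟩
  let w' : 𝒩 (CO X) := ⟨w, hXN hw.2⟩
  let t' : 𝒩 (CO X) := ⟨t, hN (h.norm ht)⟩
  have eat : qp _ a' = qp _ t' := qp_eq_iff.2 hb.2
  have h2 := hTO.at (v := qp _ a') (w := qp _ w') (qp_mem_qm ha.2) (qp_mem_qm hw.2) (hne ha ha1')
    (hne hw hw1) (fun e => hne ((S ⊓ X).mul_mem ((S ⊓ X).inv_mem ha) hw)
      (fun e => hwa (inv_mul_eq_one.1 e).symm) (qp_eq_one_iff.2 (qp_eq_iff.1 e)))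
    (by rw [← map_mul, ← map_one (qp _)]; exact congrArg _ (Subtype.ext (hsp.sq _ ha)))
    (by rw [← map_mul, ← map_one (qp _)]; exact congrArg _ (Subtype.ext (hsp.sq _ hw)))
    (by rw [← map_mul, ← map_mul]
        exact congrArg _ (Subtype.ext (le_cent_iff.1 hsp.comm _ ha.1 _ hw.1)))
  rw [← qm_eq_bot_iff (hn.trans hN)]
  refine h2.eq_bot_of_inv (odd_card_qm hD) ?_ ?_ ?_
  · rw [qm_le_qm_iff (hn.trans hN) hXN, ← e0]
    refine (commutator_mono le_rfl (zpowers_le.2 ?_)).trans (commutator_le_right_of_le_normalizer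
      (CfsgH2.le_normalizer_sup (hn.trans hN) hn))
    rw [show t = a * ((a : G)⁻¹ * t) by group]
    exact mul_mem (mem_sup_right ha.2) (mem_sup_left hb.2)
  · intro y hy
    obtain ⟨x, hx, rfl⟩ := mem_qm.1 hy
    rw [eat, ← map_inv, ← map_inv, ← map_mul, ← map_mul]
    exact congrArg _ (Subtype.ext (hi x hx))
  · rintro y ⟨hy, hc⟩
    obtain ⟨x, hx, rfl⟩ := mem_qm.1 hy
    have h3 := mem_c1.1 hc
    rw [← map_mul, ← map_mul, qp_eq_iff] at h3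
    have h4 : ((x : G) * a)⁻¹ * (a * x) ∈ Oc X := (h.inf_CO c).le
      ⟨X.mul_mem (X.inv_mem (X.mul_mem hx ha.2)) (X.mul_mem ha.2 hx), h3⟩
    have h5 : qp (Oc X) ⟨x, le_norm_oc hx⟩ ∈ qm (Oc X) (X ⊓ 𝒞₁ t) := by
      rw [e]
      refine ⟨qp_mem_qm hx, mem_c1.2 ?_⟩
      rw [← map_mul, ← map_mul, qp_eq_iff]
      exact h4
    rw [qp_mem_qm_iff (inf_le_left.trans le_norm_oc)] at h5
    refine qm_le_normalizer hC ((qp_mem_qm_iff (inf_le_left.trans hXN)).2 ?_)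
    exact sup_le_sup_right oc_le_CO _ h5

end CfsgAG
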