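import Cfsg.Agent.AG.B2

/-! The 2-components of a proper subgroup. -/

set_option autoImplicit false

namespace CfsgAG

open Subgroup CfsgFT CfsgL0
open scoped commutatorElement

universe u

section
variable {G : Type*} [Group G] [Finite G] {S X Y K K' : Subgroup G}

protected theorem C2.cj (h : C2 Y K) (g : G) : C2 (cj g Y) (cj g K) :=
  ⟨cj_mono g h.le, subnormal_subgroupOf_map h.le h.sn _,
    h.pqs.map_of_injective _ (MulAut.conj g).injective⟩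

theorem C2.cj_of_mem (h : C2 Y K) {g : G} (hg : g ∈ 𝒩 Y) : C2 Y (CfsgH1.cj g K) := by
  have := h.cj g
  rwa [cj_eq_of_mem_normalizer hg] at this

theorem C2.mono (h : C2 Y K) (h1 : K ≤ X) (h2 : X ≤ Y) : C2 X K :=
  ⟨h1, subnormal_subgroupOf_of_le h.sn h2, h.pqs⟩

theorem C2.oc (h : C2 Y K) : Oc K = Oc Y ⊓ K := by
  simp only [Oc, pPrimeCoreOf_eq_piCoreOf]
  exact piCoreOf_eq_inf_of_isSubnormal' h.le h.sn

theorem C2.eq_of_le (h : C2 Y K) (h' : C2 Y K') (hle : K ≤ K') : K = K' :=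
  pqs_eq_of_le h.pqs h'.pqs h'.le h.sn h'.sn hle

theorem C2.eq_of_le_sup (h : C2 Y K) (h' : C2 Y K') (hle : K ≤ Oc Y ⊔ K') : K = K' := by
  refine h.eq_of_le h' ((pqs_le_or h.pqs h.le h.sn h'.le h'.sn).resolve_right fun h1 => ?_)
  have hK := h.le.trans (le_norm_oc (X := Y))
  have hK' := h'.le.trans (le_norm_oc (X := Y))
  rw [← qm_le_centralizer_iff hK' hK] at h1
  rw [← qm_le_qm_iff hK hK'] at hle
  have := (qm_le_centralizer_iff hK hK).1 (hle.trans h1)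
  rw [h.pqs.perfect] at this
  exact h.pqs.not_le_solvable (solvable_oc Y) this

/-- a subnormal subgroup contains `K` or centralises `K / O(K)` -/
theorem C2.le_or (h : C2 Y K) {N : Subgroup G} (hN : N ≤ Y) (hs : (N.subgroupOf Y).IsSubnormal) :
    K ≤ N ∨ N ≤ CO K := by
  refine (pqs_le_or h.pqs h.le h.sn hN hs).imp_right fun h1 => le_CO_iff.2 ?_
  rw [h.oc]
  refine le_inf h1 (commutator_le_right_of_le_normalizer fun n hn => mem_normalizer_iff_cj.2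
    ((h.cj_of_mem (le_normalizer (hN hn))).eq_of_le_sup h (cj_le_iff.2 fun k hk => ?_)))
  have := mul_mem (mem_sup_left (h1 (commutator_mem_commutator hn hk))) (mem_sup_right hk)
  rwa [commutatorElement_def, inv_mul_cancel_right] at this

theorem C2.le_CO (h : C2 Y K) (h' : C2 Y K') (hne : K ≠ K') : K' ≤ CO K :=
  (h.le_or h'.le h'.sn).resolve_left fun hle => hne (h.eq_of_le h' hle)

theorem C2.le_CO_of_solvable (h : C2 Y K) {N : Subgroup G} (hN : N ≤ Y) (hn : Y ≤ 𝒩 N)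
    (hs : Group.IsSolvable N) : N ≤ CO K :=
  (h.le_or hN (CfsgL0.normal_subgroupOf_of_le_normalizer hn).isSubnormal).resolve_left
    (h.pqs.not_le_solvable hs)

theorem C2.oc_le_CO (h : C2 Y K) : Oc Y ≤ CO K := h.le_CO_of_solvable oc_le le_norm_oc (solvable_oc Y)

theorem C2.le_norm (h : C2 Y K) (h' : C2 Y K') : K' ≤ 𝒩 K := by
  by_cases e : K = K'
  · exact e ▸ le_normalizer
  · exact (h.le_CO h' e).trans CO_le_norm

theorem C2.two_le_cent (h : C2 Y K) : pCoreOf 2 Y ≤ 𝒞 K :=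
  le_cent_iff_comm.2 (pqs_commutator_pCoreOf h.pqs h.le h.sn)

theorem c2_of_comp (h : Cfsg.IsComponentOf K Y) : C2 Y K :=
  ⟨h.1, (isComponentOf_iff.1 h).2.1, pqs_of_qs (compOf_qs h) (by
    by_contra h2
    exact qs_not_solvable (compOf_qs h)
      (odd_solvable (by rwa [Nat.two_dvd_ne_zero, ← Nat.odd_iff] at h2)))⟩

theorem C2.comp (h : C2 Y K) (h0 : Oc K ≤ 𝒞 K) : Cfsg.IsComponentOf K Y :=
  isComponentOf_iff.2 ⟨h.le, h.sn, h.pqs.qs_iff.2 h0⟩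

theorem C2.simp (ha : AG Y) (h : C2 Y K) (h0 : Oc K ≤ 𝒞 K) : Simp K := ha.simp_of_comp (h.comp h0)

omit [Finite G] in
theorem subnormal_qm {N : Subgroup G} (hn : Y ≤ 𝒩 N) (hK : K ≤ Y)
    (h : (K.subgroupOf Y).IsSubnormal) : ((qm N K).subgroupOf (qm N Y)).IsSubnormal := by
  convert h.map (toQm_surj hn) using 1
  ext y
  constructor
  · intro hy
    obtain ⟨x, hx, e⟩ := mem_qm.1 (mem_subgroupOf.1 hy)
    exact ⟨⟨x, hK hx⟩, hx, Subtype.ext e⟩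
  · rintro ⟨x, hx, rfl⟩
    exact mem_subgroupOf.2 (qp_mem_qm hx)

omit [Finite G] in
theorem subnormal_qc {N : Subgroup G} (hn : Y ≤ 𝒩 N) {L : Subgroup (Qt N)}
    (h : (L.subgroupOf (qm N Y)).IsSubnormal) : ((qc N L).subgroupOf Y).IsSubnormal := by
  convert h.comap (toQm hn) using 1
  ext y
  exact coe_mem_qc (N := N) (x := ⟨(y : G), hn y.2⟩)

theorem C2.comp_bar (h : C2 Y K) : Cfsg.IsComponentOf (qm (Oc Y) K) (bar Y) := by
  have h1 : C2 (bar Y) (qm (Oc Y) K) := ⟨qm_mono h.le, subnormal_qm le_norm_oc h.le h.sn,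
    pqs_qm (odd_oc Y) (h.le.trans le_norm_oc) h.pqs⟩
  exact h1.comp (by rw [h1.oc, oc_bar, bot_inf_eq]; exact bot_le)

theorem exists_c2_of_comp {L : Subgroup (Qt (Oc Y))} (h : Cfsg.IsComponentOf L (bar Y)) :
    ∃ K, C2 Y K ∧ qm (Oc Y) K = L := by
  have h1 := c2_of_comp h
  have hle : qc (Oc Y) L ≤ Y := qc_le_of_le_qm le_norm_oc oc_le h.1
  have e : qm (Oc Y) (piResidualOf {2}ᶜ (qc (Oc Y) L)) = L := by
    rw [qm_piRes (qc_le_normalizer L), qm_qc, h1.pqs.res]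
  refine ⟨_, ⟨piResidualOf_le.trans hle, subnormal_subgroupOf_trans piResidualOf_le hle
    (CfsgL0.normal_subgroupOf_of_le_normalizer le_normalizer_piResidualOf).isSubnormal
    (subnormal_qc le_norm_oc h1.sn), pqs_of_qm (odd_oc Y)
      (piResidualOf_le.trans (qc_le_normalizer L)) piResidualOf_piResidualOf
      (by rw [e]; exact h1.pqs)⟩, e⟩

theorem le_CO_iff_bar (h : C2 Y K) {D : Subgroup G} (hD : D ≤ Y) :
    D ≤ CO K ↔ qm (Oc Y) D ≤ 𝒞 (qm (Oc Y) K) := by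
  rw [qm_le_centralizer_iff (hD.trans le_norm_oc) (h.le.trans le_norm_oc), le_CO_iff]
  refine ⟨fun h1 => h1.trans (h.oc.le.trans inf_le_left), fun h1 => ?_⟩
  rw [h.oc]
  refine le_inf h1 (commutator_le_right_of_le_normalizer fun n hn => mem_normalizer_iff_cj.2
    ((h.cj_of_mem (le_normalizer (hD hn))).eq_of_le_sup h (cj_le_iff.2 fun k hk => ?_)))
  have := mul_mem (mem_sup_left (h1 (commutator_mem_commutator hn hk))) (mem_sup_right hk)
  rwa [commutatorElement_def, inv_mul_cancel_right] at this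

theorem fit_eq_of_oc (h0 : Oc Y = ⊥) : fittingOf Y = pCoreOf 2 Y := by
  refine le_antisymm (fittingOf_le_iff.2 fun p _ => ?_) (pCoreOf_le_fittingOf 2)
  by_cases e : p = 2
  · subst e; exact le_rfl
  · exact (le_pPrimeCoreOf pCoreOf_le le_normalizer_pCoreOf
      (coprime_card_of_isPGroup_ne e isPGroup_pCoreOf)).trans (h0.le.trans bot_le)

/-- without odd core the 2-subgroups lie in `F*` -/
theorem AG.two_le_gf (h : AG Y) (h0 : Oc Y = ⊥) {R : Subgroup G} (hR : R ≤ Y) (h2 : IsPGroup 2 R) :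
    R ≤ gfOf Y := by
  intro v hv
  refine ⟨⟨v, hR hv⟩, mem_genFitting_of_inner ?_ fun L hL => ?_, rfl⟩
  · have := h.cent_of_norm h2 isPGroup_pCoreOf hR pCoreOf_le (hR.trans le_normalizer_pCoreOf) hv
    rw [← fit_eq_of_oc h0] at this
    exact mem_cent_iff.2 fun b hb => Subtype.ext (mem_cent_iff.1 this b ⟨b, hb, rfl⟩)
  · have hL' := compOf_map_subtype hL
    obtain ⟨_, ⟨l, hl, rfl⟩, c, hc, e⟩ := (CfsgH2.mem_sup_of_le_normalizer
      (le_normalizer_of_le_centralizer le_rfl)).1 ((h.le_norm_comp hL' hR h2).2 hv)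
    have hcY : c ∈ Y := (Y.mul_mem_cancel_left l.2).1 (e ▸ hR hv)
    rw [show (⟨v, hR hv⟩ : Y) = l * ⟨c, hcY⟩ from Subtype.ext e.symm]
    exact mul_mem (mem_sup_left hl) (mem_sup_right (mem_cent_iff.2 fun b hb =>
      Subtype.ext (mem_cent_iff.1 hc b ⟨b, hb, rfl⟩)))

theorem AG.perfect_le_layer (h : AG Y) (h0 : Oc Y = ⊥) (hX : X ≤ Y) (hp : ⁅X, X⁆ = X) :
    X ≤ layerOf Y := by
  obtain ⟨S, hS⟩ := CfsgH2.exists_isSylowOf (p := 2) Y
  have hn : X ≤ 𝒩 (gfOf Y) := hX.trans le_normalizer_gfOf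
  have h1 : X ≤ gfOf Y := by
    rw [← qm_eq_bot_iff hn]
    refine eq_bot_of_perfect_of_solvable (by rw [← qm_commutator hn hn, hp])
      (odd_solvable (odd_of_le (qm_mono hX) ?_))
    rw [card_qm le_normalizer_gfOf, Nat.odd_iff, ← Nat.two_dvd_ne_zero]
    exact fun h2 => hS.2.2 (h2.trans (relIndex_dvd_of_le_left Y (h.two_le_gf h0 hS.1 hS.2.1)))
  rw [gfOf_eq] at h1
  haveI := isNilpotent_fittingOf (H := Y)
  exact perfect_le_of_le_sup_solvable hp (fittingOf_le.trans le_normalizer_layerOf) inferInstance h1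

theorem layer_bar_le {M : Subgroup G} (hK : ∀ K, C2 Y K → K ≤ M) :
    layerOf (bar Y) ≤ qm (Oc Y) (Y ⊓ M) := layerOf_le_iff.2 fun L hL => by
  obtain ⟨K, h1, rfl⟩ := exists_c2_of_comp hL
  exact qm_mono (le_inf h1.le (hK K h1))

theorem AG.perfect_le (ha : AG Y) (hX : X ≤ Y) (hp : ⁅X, X⁆ = X) {M : Subgroup G}
    (hO : Oc Y ≤ M) (hK : ∀ K, C2 Y K → K ≤ M) : X ≤ M := by
  have hn : X ≤ 𝒩 (Oc Y) := hX.trans le_norm_oc
  have := ((ha.qm le_norm_oc).perfect_le_layer (oc_bar Y) (qm_mono hX)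
    (by rw [← qm_commutator hn hn, hp])).trans (layer_bar_le hK)
  exact ((qm_le_qm_iff hn (inf_le_left.trans le_norm_oc)).1 this).trans (sup_le hO inf_le_right)

theorem AG.gen_le (ha : AG Y) (hS : IsSylowOf 2 S Y) {M : Subgroup G} (hO : Oc Y ≤ M)
    (hN : Y ⊓ 𝒩 S ≤ M) (hK : ∀ K, C2 Y K → K ≤ M) : Y ≤ M := by
  have hD : qc (Oc Y) (gfOf (bar Y)) ≤ Y := qc_le_of_le_qm le_norm_oc oc_le gfOf_le
  have hSD : S ≤ qc (Oc Y) (gfOf (bar Y)) := (qm_le_iff (hS.1.trans le_norm_oc)).1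
    ((ha.qm le_norm_oc).two_le_gf (oc_bar Y) (qm_mono hS.1) (isPGroup_qm hS.2.1))
  rw [← (hS.mono hSD hD).frattini hD (le_normalizer_qc le_norm_oc le_normalizer_gfOf)]
  refine sup_le ((qc_mono ?_).trans ((qc_qm (H := Y ⊓ M) (inf_le_left.trans le_norm_oc)).le.trans
    (sup_le hO inf_le_right))) hN
  rw [gfOf_eq, fit_eq_of_oc (oc_bar Y)]
  exact sup_le (layer_bar_le hK) ((pCoreOf_le_sylow (sylow_qm le_norm_oc hS)).trans
    (qm_mono (le_inf hS.1 ((le_inf hS.1 le_normalizer).trans hN))))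

theorem exists_c2 (h : ¬ Group.IsSolvable Y) (ha : AG Y) : ∃ K, C2 Y K := by
  by_contra hn
  push Not at hn
  obtain ⟨S, hS⟩ := CfsgH2.exists_isSylowOf (p := 2) Y
  exact h (CfsgH2.isSolvable_of_le (ha.gen_le hS (M := Oc Y ⊔ (Y ⊓ 𝒩 S)) le_sup_left le_sup_right
    fun K hK => absurd hK (hn K)) (solvable_sup (inf_le_left.trans le_norm_oc) (solvable_oc Y)
      (solvable_of_normal_syl (syl_norm hS) inf_le_right)))

theorem C2.inf_CO (ha : AG Y) (h : C2 Y K) : K ⊓ CO K = Oc K := pqs_inf_CO (ha.mono h.le) h.pqs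

theorem C2.eq_of_mem' (ha : AG Y) (h : C2 Y K) (h' : C2 Y K') {v : G} (hv : v ∈ K)
    (hv' : v ∈ K') (h1 : v ≠ 1) (hvv : v * v = 1) : K = K' := by
  by_contra e
  exact h1 (eq_one_of_odd_of_sq (odd_orderOf_of_mem (odd_oc K)
    ((h.inf_CO ha).le ⟨hv, h.le_CO h' e hv'⟩)) hvv)

theorem C2.mem_norm_of_bar (h : C2 Y K) {D : Subgroup G} (hD : D ≤ Y)
    (hn : qm (Oc Y) D ≤ 𝒩 (qm (Oc Y) K)) : D ≤ 𝒩 K := fun d hd => by
  rw [qm_le_normalizer_iff (hD.trans le_norm_oc) (h.le.trans le_norm_oc)] at hn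
  exact mem_normalizer_iff_cj.2 ((h.cj_of_mem (le_normalizer (hD hd))).eq_of_le_sup h
    (cj_le_of_mem_normalizer (hn hd) le_sup_right))

theorem C2.two_le_norm (ha : AG Y) (h : C2 Y K) {R : Subgroup G} (hR : R ≤ Y) (h2 : IsPGroup 2 R) :
    R ≤ 𝒩 K :=
  h.mem_norm_of_bar hR ((ha.qm le_norm_oc).le_norm_comp h.comp_bar (qm_mono hR) (isPGroup_qm h2)).1

/-- a 2-quasisimple subgroup acts on some 2-component -/
theorem AG.exists_c2_not_le (ha : AG Y) (hp : ⁅X, X⁆ = X) (h0 : ¬ X ≤ Oc Y) (hX : X ≤ Y) :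
    ∃ K, C2 Y K ∧ ¬ X ≤ CO K := by
  by_contra hn
  push Not at hn
  have hXn : X ≤ 𝒩 (Oc Y) := hX.trans le_norm_oc
  have := ha.perfect_le hX hp (M := qc (Oc Y) (𝒞 (qm (Oc Y) X))) (le_qc _) fun K hK =>
    (qm_le_iff (hK.le.trans le_norm_oc)).1 (le_centralizer_symm ((le_CO_iff_bar hK hX).1 (hn K hK)))
  rw [← qm_le_iff hXn, qm_le_centralizer_iff hXn hXn, hp] at this
  exact h0 this

theorem AG.perfect_le_sup_CO (ha : AG Y) (hX : X ≤ Y) (hp : ⁅X, X⁆ = X) (h : C2 Y K) :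
    X ≤ K ⊔ CO K :=
  ha.perfect_le hX hp (h.oc_le_CO.trans le_sup_right) fun K' h' => by
    by_cases e : K = K'
    · exact e ▸ le_sup_left
    · exact (h.le_CO h' e).trans le_sup_right

/-- an odd group centralising `Ω₁` of an abelian 2-group centralises it -/
theorem cent_of_cent_Om {A D : Subgroup G} (hA : IsPGroup 2 A) (hc : A ≤ 𝒞 A) (hD : Odd #D)
    (hn : D ≤ 𝒩 A) (h : ∀ v ∈ A, v * v = 1 → v ∈ 𝒞 D) : D ≤ 𝒞 A := by
  have h0 := CfsgH2.commutator_inf_centralizer_eq_bot hn (coprime_two_of_odd hA hD).symm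
    (CfsgH1.isMulCommutative_of_le_centralizer hc)
  apply le_centralizer_symm
  rw [le_cent_iff_comm]
  by_contra h1
  have hle : ⁅A, D⁆ ≤ A := commutator_le_left_of_le_normalizer hn
  obtain ⟨z, hz, hz1, hzz⟩ := exists_inv (hA.to_le hle) h1
  exact hz1 (mem_bot.1 (h0 ▸ ⟨hz, h z (hle hz) hzz⟩))

theorem AG.odd_le_oc (ha : AG Y) (hS : IsSylowOf 2 S Y) {D : Subgroup G} (hD : Odd #D)
    (hDY : D ≤ Y) (hn : Om 2 S ≤ 𝒩 D) (hK : ∀ K, C2 Y K → D ≤ CO K) : D ≤ Oc Y := by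
  have hDn : D ≤ 𝒩 (Oc Y) := hDY.trans le_norm_oc
  have hD' : Odd #(qm (Oc Y) D) := odd_card_qm hD
  have h2 : IsPGroup 2 (pCoreOf 2 (bar Y)) := isPGroup_pCoreOf
  have hN : qm (Oc Y) D ≤ 𝒩 (pCoreOf 2 (bar Y)) := (qm_mono hDY).trans le_normalizer_pCoreOf
  rw [← qm_eq_bot_iff hDn, ← le_bot_iff, ← two_inf_odd h2 hD']
  refine le_inf ((le_inf (qm_mono hDY) (le_centralizer_symm ?_)).trans
    (inf_centralizer_gfOf_le.trans (fit_eq_of_oc (oc_bar Y)).le)) le_rfl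
  show gfOf (bar Y) ≤ _
  rw [gfOf_eq, fit_eq_of_oc (oc_bar Y)]
  refine sup_le (layerOf_le_iff.2 fun L hL => ?_) (le_centralizer_symm (cent_of_cent_Om h2
    ((ha.qm le_norm_oc).comm h2 pCoreOf_le) hD' hN fun v hv hvv => ?_))
  · obtain ⟨K, h1, rfl⟩ := exists_c2_of_comp hL
    exact le_centralizer_symm ((le_CO_iff_bar h1 hDY).1 (hK K h1))
  · obtain ⟨s, hs, rfl⟩ := mem_qm.1 (pCoreOf_le_sylow (sylow_qm le_norm_oc hS) hv)
    rw [← map_mul, qp_eq_one_iff] at hvv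
    have hs' : (s : G) ∈ Om 2 S := (mem_Om_two (ha.comm hS.2.1 hS.1)).2
      ⟨hs, eq_one_of_two_odd hS.2.1 (odd_oc Y) (S.mul_mem hs hs) hvv⟩
    have h3 : zpowers (qp _ s) ≤ 𝒩 (qm (Oc Y) D) := by
      rw [← qm_zpowers]; exact qm_le_normalizer (zpowers_le.2 (hn hs'))
    have h4 : ⁅zpowers (qp _ s), qm (Oc Y) D⁆ = ⊥ := by
      rw [← le_bot_iff, ← two_inf_odd h2 hD']
      exact le_inf ((commutator_mono (zpowers_le.2 hv) le_rfl).trans
        (commutator_le_left_of_le_normalizer hN)) (commutator_le_right_of_le_normalizer h3)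
    exact le_cent_iff_comm.2 h4 (mem_zpowers _)

theorem AG.mem_ppCoreOf (ha : AG Y) (hS : IsSylowOf 2 S Y) {s : G} (hs : s ∈ S)
    (hK : ∀ K, C2 Y K → s ∈ CO K) : s ∈ ppCoreOf 2 Y := by
  have hz : zpowers s ≤ Y := zpowers_le.2 (hS.1 hs)
  rw [← qc_pCoreOf, ← zpowers_le, ← qm_le_iff (hz.trans le_norm_oc)]
  refine (le_inf (qm_mono hz) (le_centralizer_symm ?_)).trans
    (inf_centralizer_gfOf_le.trans (fit_eq_of_oc (oc_bar Y)).le)
  show gfOf (bar Y) ≤ _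
  rw [gfOf_eq, fit_eq_of_oc (oc_bar Y)]
  refine sup_le (layerOf_le_iff.2 fun L hL => ?_) (le_centralizer_symm ?_)
  · obtain ⟨K, h1, rfl⟩ := exists_c2_of_comp hL
    exact le_centralizer_symm ((le_CO_iff_bar h1 hz).1 (zpowers_le.2 (hK K h1)))
  · exact (ha.qm le_norm_oc).cent_of_norm (isPGroup_qm (hS.2.1.to_le (zpowers_le.2 hs)))
      isPGroup_pCoreOf (qm_mono hz) pCoreOf_le ((qm_mono hz).trans le_normalizer_pCoreOf)

end

variable {G : Type u} [Group G] [Finite G] {S X Y K K' : Subgroup G}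

theorem C2.pk (c : Ctx G) (hY : Y ≠ ⊤) (hS : IsSylowOf 2 S Y) (h : C2 Y K) : PK S K :=
  pk_of_syl hY hS h.pqs h.le (h.two_le_norm (c.ag.mono le_top) hS.1 hS.2.1)

theorem C2.eq_of_mem (c : Ctx G) (_hY : Y ≠ ⊤) (h : C2 Y K) (h' : C2 Y K') {v : G} (hv : v ∈ K)
    (hv' : v ∈ K') (h1 : v ≠ 1) (hvv : v * v = 1) : K = K' :=
  h.eq_of_mem' (c.ag.mono le_top) h' hv hv' h1 hvv

/-- `C_K(T)` gives a 2-component of `C_Y(T)` -/
protected theorem C2.cT (c : Ctx G) (hY : Y ≠ ⊤) (hS : IsSylowOf 2 S Y) (h : C2 Y K)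
    {T : Subgroup G} (hT : T ≤ S ⊓ CO K) : C2 (Y ⊓ 𝒞 T) (cT K T) := by
  refine ⟨cT_le.trans (inf_le_inf_right _ h.le), subnormal_subgroupOf_trans cT_le
    (inf_le_inf_right _ h.le) cT_subnormal ?_, ((h.pk c hY hS).cT c hT).pqs⟩
  convert subnormal_subgroupOf_of_le h.sn (inf_le_left : Y ⊓ 𝒞 T ≤ Y) using 1
  ext x
  exact ⟨fun hx => hx.1, fun hx => ⟨hx, x.2.2⟩⟩

/-- b3 -/
theorem gen_le (c : Ctx G) (_hY : Y ≠ ⊤) (hS : IsSylowOf 2 S Y) {M : Subgroup G} (hO : Oc Y ≤ M)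
    (hN : Y ⊓ 𝒩 S ≤ M) (hK : ∀ K, C2 Y K → K ≤ M) : Y ≤ M :=
  (c.ag.mono le_top).gen_le hS hO hN hK

/-- a perfect subgroup lies in `O(Y) L(Y)` -/
theorem perfect_le (c : Ctx G) (_hY : Y ≠ ⊤) (hX : X ≤ Y) (hp : ⁅X, X⁆ = X) {M : Subgroup G}
    (hO : Oc Y ≤ M) (hK : ∀ K, C2 Y K → K ≤ M) : X ≤ M :=
  (c.ag.mono le_top).perfect_le hX hp hO hK

/-- pump-up -/
theorem pump (c : Ctx G) (hY : Y ≠ ⊤) (hS : IsSylowOf 2 S Y) (hp : PQS 2 X) (hX : X ≤ Y)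
    (hn : S ≤ 𝒩 X) : ∃ K, C2 Y K ∧ X ≤ K := by
  have ha : AG Y := c.ag.mono le_top
  obtain ⟨K, hK, h1⟩ := ha.exists_c2_not_le hp.perfect (hp.not_le_solvable (solvable_oc Y)) hX
  refine ⟨K, hK, ?_⟩
  have hpk := pk_of_syl hY hS hp hX hn
  have hKp := hK.pk c hY hS
  have h2 := ha.perfect_le_sup_CO hX hp.perfect hK
  have hXK : X ≤ 𝒩 K := h2.trans (sup_le le_normalizer CO_le_norm)
  rcases hpk.normal c (inf_le_left : X ⊓ K ≤ X) (CfsgH2.le_normalizer_inf le_normalizer hXK)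
    with h3 | h3
  swap
  · exact inf_eq_left.1 h3
  exfalso
  have hT : S ⊓ K ≤ S ⊓ CO X := le_inf inf_le_left (le_CO_iff.2 ((le_inf
    (commutator_le_right_of_le_normalizer (inf_le_left.trans hn))
    ((commutator_mono inf_le_right le_rfl).trans
      (commutator_le_left_of_le_normalizer hXK))).trans h3))
  have hX' := hpk.cT c hT
  have hle := cT_le (X := X) (T := S ⊓ K)
  generalize cT X (S ⊓ K) = X' at hX' hle
  have hcov : X ⊓ 𝒞 (S ⊓ K) ≤ CO K ⊔ (S ⊓ K) := by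
    intro x hx
    obtain ⟨k, hk, d, hd, rfl⟩ := (CfsgH2.mem_sup_of_le_normalizer CO_le_norm).1 (h2 hx.1)
    obtain ⟨n, hn', y, hy, e⟩ := CfsgH2.exists_eq_mul_centralizer
      (inf_le_left.trans hKp.S_norm) (coprime_two_of_odd hKp.syl.2.1 (odd_oc K))
      (Or.inl (solv_two hKp.syl.2.1)) (x := k) (fun v hv => by
        have h4 := mem_cent_iff.1 hx.2 v hv
        have h5 := conj_mem_of_mem_norm (le_norm_oc hk) (inv_mem (mem_CO.1 hd v hv.2))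
        convert h5 using 1
        rw [commutatorElement_def]
        calc k * v * k⁻¹ * v⁻¹ = k * v * d * (v * (k * d))⁻¹ := by group
          _ = _ := by rw [← h4]; group)
    have hyK : y ∈ K := (K.mul_mem_cancel_left (oc_le hn')).1 (e ▸ hk)
    have := hKp.cent_S c ⟨hyK, hy⟩
    rw [e]
    exact mul_mem (mul_mem (mem_sup_left (oc_le_CO hn'))
      ((show Oc K ⊔ (S ⊓ K) ≤ CO K ⊔ (S ⊓ K) from sup_le_sup_right oc_le_CO _) this))
      (mem_sup_left hd)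
  have h5 : X' ≤ CO K := perfect_le_of_le_sup_solvable hX'.pqs.perfect
    (inf_le_right.trans (le_normalizer.trans norm_le_norm_CO)) (solv_two hKp.syl.2.1)
    (hle.trans hcov)
  rcases hpk.normal c (inf_le_left : X ⊓ CO K ≤ X)
    (CfsgH2.le_normalizer_inf le_normalizer (hXK.trans norm_le_norm_CO)) with h6 | h6
  · exact hX'.pqs.not_le_solvable (solvable_oc X) ((le_inf (hle.trans inf_le_left) h5).trans h6)
  · exact h1 (inf_eq_left.1 h6)

/-- a 2-quasisimple subgroup embeds its Sylow 2-subgroup in some 2-component -/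
theorem exists_c2_card (c : Ctx G) (hY : Y ≠ ⊤) (hS : IsSylowOf 2 S Y) (hp : PQS 2 X) (hX : X ≤ Y)
    {R : Subgroup G} (hR : R ≤ X) (h2 : IsPGroup 2 R) : ∃ K, C2 Y K ∧ #R ≤ #(S ⊓ K) := by
  have ha : AG Y := c.ag.mono le_top
  obtain ⟨K, hK, h1⟩ := ha.exists_c2_not_le hp.perfect (hp.not_le_solvable (solvable_oc Y)) hX
  have hXK : X ≤ 𝒩 K := (ha.perfect_le_sup_CO hX hp.perfect hK).trans
    (sup_le le_normalizer CO_le_norm)
  have h3 : X ⊓ CO K ≤ Oc X := (pqs_normal (ha.mono hX) hp inf_le_left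
    (CfsgH2.le_normalizer_inf le_normalizer (hXK.trans norm_le_norm_CO))).resolve_right
    fun e => h1 (inf_eq_left.1 e)
  have h4 : R ⊓ CO K = ⊥ := by
    rw [← le_bot_iff, ← two_inf_odd h2 (odd_oc X)]
    exact le_inf inf_le_left ((inf_le_inf_right _ hR).trans h3)
  obtain ⟨y, hy, h5⟩ := hS.exists_cj_le h2 (hR.trans hX)
  have hK' := hK.cj_of_mem (le_normalizer hy)
  refine ⟨_, hK', ?_⟩
  have hsp := (hK'.pk c hY hS).spl c
  have h6 : cj y R ⊓ (S ⊓ CO (cj y K)) = ⊥ := by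
    rw [← le_bot_iff, ← (cj_eq_bot_iff (g := y)).2 h4, cj_inf, cj_CO]
    exact inf_le_inf_left _ inf_le_right
  have h7 := card_le_of_le (sup_le (show cj y R ≤ S from h5) hsp.T_le)
  rw [CfsgH2.card_sup_of_disjoint (le_normalizer_of_le_centralizer
    ((show cj y R ≤ S from h5).trans (hsp.comm.trans (cent_anti hsp.T_le)))) h6, hsp.card'.2,
    card_cj] at h7
  exact Nat.le_of_mul_le_mul_right h7 Nat.card_pos

/-- b6a -/
theorem odd_le_oc (c : Ctx G) (_hY : Y ≠ ⊤) (hS : IsSylowOf 2 S Y) {D : Subgroup G} (hD : Odd #D)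
    (hDY : D ≤ Y) (hn : Om 2 S ≤ 𝒩 D) (hK : ∀ K, C2 Y K → D ≤ CO K) : D ≤ Oc Y :=
  (c.ag.mono le_top).odd_le_oc hS hD hDY hn hK

/-- b6b -/
theorem C2.odd_le_norm (c : Ctx G) (hY : Y ≠ ⊤) (hS : IsSylowOf 2 S Y) (h : C2 Y K)
    {D : Subgroup G} (hD : Odd #D) (hDY : D ≤ 𝒩 Y) (hn : S ⊓ K ≤ 𝒩 D) : D ≤ 𝒩 K := by
  intro d hd
  have hsp := (h.pk c hY hS).spl c
  obtain ⟨v, hv, hv1, hvv⟩ := exists_inv (hS.2.1.to_le (inf_le_left : S ⊓ K ≤ S)) (fun e => by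
    have := hsp.four; rw [e, card_bot] at this; omega)
  have h' := h.cj_of_mem (hDY hd)
  by_contra e
  have hw : d * v * d⁻¹ ∈ CO K :=
    h.le_CO h' (fun e' => e (mem_normalizer_iff_cj.2 e'.symm)) (conj_mem_cj d hv.2)
  have h1 : d * v * d⁻¹ * v ∈ D := by
    have := D.mul_mem hd (conj_mem_of_mem_norm (hn hv) (D.inv_mem hd))
    rw [inv_eq_self hvv] at this
    convert this using 1; group
  have h2 : d * v * d⁻¹ * v ∈ K := mem_of_sq_mem (odd_orderOf_of_mem hD h1) (oc_le (by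
    have := mem_CO.1 hw v hv.2
    rwa [inv_eq_self hvv, inv_eq_self (conj_inv hvv), mul_assoc] at this))
  exact conj_ne_one hv1 (eq_one_of_odd_of_sq (odd_orderOf_of_mem (odd_oc K)
    ((h.inf_CO (c.ag.mono le_top)).le ⟨(K.mul_mem_cancel_right hv.2).1 h2, hw⟩)) (conj_inv hvv))

theorem PK.inf_le_Om (c : Ctx G) (h : PK S X) : S ⊓ X ≤ Om 2 S := fun v hv =>
  (mem_Om_two (h.comm c)).2 ⟨hv.1, (h.spl c).sq v hv⟩

/-- b6 -/
theorem odd_cases (c : Ctx G) (hY : Y ≠ ⊤) (hS : IsSylowOf 2 S Y) {D : Subgroup G} (hD : Odd #D)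
    (hDY : D ≤ Y) (hn : Om 2 S ≤ 𝒩 D) {s : G} (hs : s ∈ S) (he : D ≤ ⁅D, zpowers s⁆) :
    D ≤ Oc Y ∨ ∃ K, C2 Y K ∧ TyO K ∧ s ∉ CO K ∧ ¬ D ≤ CO K ∧ D ≤ 𝒩 K := by
  by_cases h : ∀ K, C2 Y K → D ≤ CO K
  · exact Or.inl (odd_le_oc c hY hS hD hDY hn h)
  push Not at h
  obtain ⟨K, hK, h1⟩ := h
  have hp := hK.pk c hY hS
  have h2 := (hp.inf_le_Om c).trans hn
  have h3 := hK.odd_le_norm c hY hS hD (hDY.trans le_normalizer) h2
  refine Or.inr ⟨K, hK, ?_, fun h4 => h1 (he.trans (comm_le_CO_of_mem h3 h4)), h1, h3⟩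
  by_contra h4
  exact h1 (he.trans (hp.comm_le_CO c h4 hD h3 h2 hs))

/-- an element of `S` centralising all the `K / O(K)` lies in `O_{2',2}(Y)` -/
theorem mem_ppCoreOf (c : Ctx G) (_hY : Y ≠ ⊤) (hS : IsSylowOf 2 S Y) {s : G} (hs : s ∈ S)
    (hK : ∀ K, C2 Y K → s ∈ CO K) : s ∈ ppCoreOf 2 Y :=
  (c.ag.mono le_top).mem_ppCoreOf hS hs hK

end CfsgAG
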