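import Cfsg.Agent.AG.B3

/-! The lemmas (*), (α) and (U). -/

set_option autoImplicit false

namespace CfsgAG

open Subgroup CfsgFT CfsgL0
open scoped commutatorElement

universe u

section
variable {G : Type*} [Group G] [Finite G] {M Y : Subgroup G} {t : G}

theorem odd_of_pGroup {p : ℕ} [hp : Fact p.Prime] (h2 : p ≠ 2) {P : Subgroup G}
    (hP : IsPGroup p P) : Odd #P := by
  obtain ⟨n, hn⟩ := IsPGroup.iff_card.1 hP
  rw [hn]; exact (hp.out.odd_of_ne_two h2).pow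

omit [Finite G] in
/-- if `t` inverts `A` then `[N(A), t]` centralises `A` -/
theorem comm_mem_cent_of_inv {A : Subgroup G} (ht : t * t = 1) (h : ∀ x ∈ A, t * x * t⁻¹ = x⁻¹)
    {y : G} (hy : y ∈ 𝒩 A) : y * t * y⁻¹ * t⁻¹ ∈ 𝒞 A := by
  refine mem_cent_iff.2 fun x hx => mul_inv_eq_iff_eq_mul.1 ?_
  have h1 := h x hx
  have h2 := h _ (conj_mem_of_mem_norm (inv_mem hy) (A.inv_mem hx))
  rw [inv_eq_self ht] at h1 h2 ⊢
  calc y * t * y⁻¹ * t * x * (y * t * y⁻¹ * t)⁻¹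
      = y * (t * (y⁻¹ * (t * x * t⁻¹) * y⁻¹⁻¹) * t⁻¹) * y⁻¹ := by group
    _ = x := by rw [inv_eq_self ht, h1, h2]; group

omit [Finite G] in
theorem sq_eq_comm {y : G} (hi : t * y * t⁻¹ = y⁻¹) : y * y = y * t * y⁻¹ * t⁻¹ := by
  calc y * y = y * (t * y * t⁻¹)⁻¹ := by rw [hi, inv_inv]
    _ = _ := by group

/-- the dihedral argument -/
theorem AG.cent_of_dihedral (ha : AG Y) {P Q : Subgroup G} (hQ : Q ≤ Y) (hQo : Odd #Q)
    (hPo : Odd #P) (hc : (#P).Coprime #Q) (ht : t * t = 1) (hi : ∀ y ∈ P, t * y * t⁻¹ = y⁻¹)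
    (hPQ : P ≤ 𝒩 Q) (htQ : t ∈ 𝒩 Q) (h : Q ⊓ 𝒞₁ t ≤ 𝒞 P) : Q ≤ 𝒞 P := by
  have htP := mem_norm_of_inv hi
  apply CfsgH2.le_of_forall_sylow
  intro r hr _
  haveI := Fact.mk hr
  obtain ⟨R, hR, hn⟩ := CfsgH2.exists_invariant_sylow (p := r) (A := zpowers t ⊔ P) (H := Q)
    (sup_le (zpowers_le.2 htQ) hPQ) (Nat.Coprime.coprime_dvd_left
      (card_sup_dvd_of_le_normalizer (zpowers_le.2 htP))
      (Nat.Coprime.mul_left (coprime_two_of_odd (two_zpowers ht) hQo) hc))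
    (Or.inr (odd_solvable hQo))
  refine ⟨R, hR, ?_⟩
  have hPR : P ≤ 𝒩 R := le_sup_right.trans hn
  have h0 := CfsgH2.commutator_inf_centralizer_eq_bot hPR (CfsgH2.coprime_mono hc le_rfl hR.1)
    (CfsgH1.isMulCommutative_of_le_centralizer (ha.comm hR.2.1 (hR.1.trans hQ)))
  have hle : ⁅R, P⁆ ≤ Q := (commutator_le_left_of_le_normalizer hPR).trans hR.1
  have h1 := inv_of_fpf (odd_of_le hle hQo) ht
    (CfsgH2.le_normalizer_commutator (le_sup_left.trans hn) (zpowers_le.2 htP) (mem_zpowers t))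
    (le_bot_iff.1 (h0 ▸ le_inf inf_le_left ((inf_le_inf_right _ hle).trans h)))
  rw [le_cent_iff_comm, ← h0]
  refine (inf_eq_left.2 (le_centralizer_symm fun y hy => mem_of_sq_mem (odd_orderOf_of_mem hPo hy)
    ?_)).symm
  rw [sq_eq_comm (hi y hy)]
  exact comm_mem_cent_of_inv ht h1 (CfsgH2.le_normalizer_commutator hPR le_normalizer hy)

theorem AG.layer_inf (ha : AG Y) : layerOf Y ⊓ 𝒞 (layerOf Y) = ⊥ := by
  have := (ha.mono (layerOf_le (H := Y))).ctr_inf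
  rwa [layerOf_perfect, inf_eq_left.2 inf_le_left] at this

theorem AG.two_le_layer_sup (h : AG Y) {R : Subgroup G} (hR : R ≤ Y) (h2 : IsPGroup 2 R) :
    R ≤ layerOf Y ⊔ 𝒞 (layerOf Y) := by
  intro v hv
  have key : ∀ {L : Subgroup Y} {k : Y}, k ∈ L ⊔ 𝒞 L → (k : G) ∈ L.map Y.subtype ⊔ 𝒞 (L.map Y.subtype) := by
    intro L k hk
    have : (k : G) ∈ (L ⊔ 𝒞 L).map Y.subtype := ⟨k, hk, rfl⟩
    rw [Subgroup.map_sup, map_centralizer_subtype] at this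
    exact SetLike.le_def.1 (sup_le_sup_left inf_le_right _) this
  refine key (k := ⟨v, hR hv⟩) (mem_layer_sup_centralizer fun L hL => ?_)
  have hL' := compOf_map_subtype hL
  obtain ⟨_, ⟨l, hl, rfl⟩, c, hc, e⟩ := (CfsgH2.mem_sup_of_le_normalizer
    (le_normalizer_of_le_centralizer le_rfl)).1 ((h.le_norm_comp hL' hR h2).2 hv)
  have hcY : c ∈ Y := (Y.mul_mem_cancel_left l.2).1 (e ▸ hR hv)
  rw [show (⟨v, hR hv⟩ : Y) = l * ⟨c, hcY⟩ from Subtype.ext e.symm]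
  exact mul_mem (mem_sup_left hl) (mem_sup_right (mem_cent_iff.2 fun b hb =>
    Subtype.ext (mem_cent_iff.1 hc b ⟨b, hb, rfl⟩)))

omit [Finite G] in
theorem c1_le_norm_zpowers (t : G) : 𝒞₁ t ≤ 𝒩 (zpowers t) :=
  le_normalizer_of_le_centralizer (CfsgH2.centralizer_zpowers t).ge

end

variable {G : Type u} [Group G] [Finite G] {M Y : Subgroup G} {t : G}

/-- b7, the lemma (*) -/
theorem star (c : Ctx G) {p : ℕ} [Fact p.Prime] (hp : p ≠ 2) (ht : t * t = 1) (hM : 𝒞₁ t ≤ M)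
    (hY : Y ≠ ⊤) (htY : t ∈ Y) : ⁅pCoreOf p M ⊓ Y, zpowers t⁆ ≤ pCoreOf p Y := by
  have hA : IsPGroup p (pCoreOf p M ⊓ Y : Subgroup G) := isPGroup_pCoreOf.to_le inf_le_left
  have hCA : Y ⊓ 𝒞₁ t ≤ 𝒩 (pCoreOf p M ⊓ Y) := CfsgH2.le_normalizer_inf
    (inf_le_right.trans (hM.trans le_normalizer_pCoreOf)) (inf_le_left.trans le_normalizer)
  have htA : t ∈ 𝒩 (pCoreOf p M ⊓ Y) := hCA ⟨htY, mem_c1.2 rfl⟩
  have hi := inv_of_mem_comm (c.ag.comm hA le_top) ht htA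
  have hle : ⁅pCoreOf p M ⊓ Y, zpowers t⁆ ≤ pCoreOf p M ⊓ Y :=
    commutator_le_left_of_le_normalizer (zpowers_le.2 htA)
  have hCP : Y ⊓ 𝒞₁ t ≤ 𝒩 ⁅pCoreOf p M ⊓ Y, zpowers t⁆ :=
    CfsgH2.le_normalizer_commutator hCA (inf_le_right.trans (c1_le_norm_zpowers t))
  generalize ⁅pCoreOf p M ⊓ Y, zpowers t⁆ = P at hi hle hCP
  have hP : IsPGroup p P := hA.to_le hle
  have hPo := odd_of_pGroup hp hP
  have hPY : P ≤ Y := hle.trans inf_le_right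
  obtain ⟨S, hS, htS⟩ := CfsgH2.exists_isSylowOf_ge (two_zpowers ht) (zpowers_le.2 htY)
  have htS : t ∈ S := htS (mem_zpowers t)
  have hSP : S ≤ 𝒩 P := (le_inf hS.1 fun x hx =>
    mem_c1.2 (le_cent_iff.1 (c.ag.comm hS.2.1 le_top) x hx t htS)).trans hCP
  have h1 : P ≤ Oc Y := odd_le_oc c hY hS hPo hPY (Om_le.trans hSP) fun K hK =>
    (hK.pk c hY hS).le_CO_of_inv c hPo
      (hK.odd_le_norm c hY hS hPo (hPY.trans le_normalizer) (inf_le_left.trans hSP)) htS hi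
      ((inf_le_inf_right _ hK.le).trans hCP)
  refine ((c.ag.mono le_top).le_pCoreOf_of_cent (solvable_oc Y) hP h1
    (le_centralizer_symm ?_)).trans (pCoreOf_le_of_le_normalizer oc_le le_norm_oc)
  have hn : Y ≤ 𝒩 (pPrimeCoreOf p (Oc Y)) := le_norm_oc.trans normalizer_le_normalizer_pPrimeCoreOf
  refine c.ag.cent_of_dihedral le_top (odd_of_le pPrimeCoreOf_le (odd_oc Y)) hPo
    (CfsgH2.coprime_card_of_isPGroup hP (not_dvd_pPrime _)) ht hi (hPY.trans hn) (hn htY) ?_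
  rw [le_cent_iff_comm, ← le_bot_iff,
    ← CfsgH1.inf_eq_bot_of_pgroup_of_not_dvd hP (not_dvd_pPrime (p := p) (Oc Y))]
  exact le_inf (commutator_le_right_of_le_normalizer
    ((inf_le_inf_right _ (pPrimeCoreOf_le.trans oc_le)).trans hCP))
    ((commutator_mono inf_le_left le_rfl).trans (commutator_le_left_of_le_normalizer (hPY.trans hn)))

/-- b8, the lemma (α) -/
theorem alpha (c : Ctx G) (hM : IsCoatom M) (ht : t * t = 1) (hC : 𝒞₁ t ≤ M)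
    (hF : t ∈ 𝒞 (fittingOf M)) (hMY : gfOf M ≤ Y) (_hY : Y ≠ ⊤) (htY : t ∈ Y) {r : ℕ}
    [Fact r.Prime] (hr : r ≠ 2) (h0 : pCoreOf r M ≠ ⊥) {y : G} (hy : y ∈ Y)
    (hyr : IsPGroup r (zpowers y)) (hi : t * y * t⁻¹ = y⁻¹) : y ∈ layerOf Y := by
  have ha : AG Y := c.ag.mono le_top
  have hyo : Odd (orderOf y) := odd_orderOf_of_mem (odd_of_pGroup hr hyr) (mem_zpowers y)
  have hcm : ∀ {W : Subgroup G}, y ∈ 𝒩 W → t ∈ W → y ∈ W := fun hn h => mem_of_sq_mem hyo (by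
    rw [sq_eq_comm hi]; exact mul_mem (conj_mem_of_mem_norm hn h) (inv_mem h))
  have key : ∀ (s : ℕ) [Fact s.Prime], pCoreOf s M ≠ ⊥ → t ∈ 𝒞 (pCoreOf s Y) := fun s _ h =>
    cent_anti ((pCoreOf_le_of_gf c.simp c.ag hM hMY h).trans (pCoreOf_le_fittingOf s)) hF
  have h1 : y ∈ 𝒞 (fittingOf Y) := by
    rw [← zpowers_le]
    apply le_centralizer_symm
    rw [fittingOf_le_iff]
    intro s _
    apply le_centralizer_symm
    rw [zpowers_le]
    have hn : y ∈ 𝒩 (pCoreOf s Y) := le_normalizer_pCoreOf hy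
    by_cases e : pCoreOf s M = ⊥
    swap
    · exact hcm (CfsgH2.le_normalizer_centralizer le_rfl hn) (key s e)
    by_cases e2 : s = 2
    · subst e2
      exact hcm (CfsgH2.le_normalizer_centralizer le_rfl hn) (ha.cent_of_norm (two_zpowers ht)
        isPGroup_pCoreOf (zpowers_le.2 htY) pCoreOf_le
        (zpowers_le.2 (le_normalizer_pCoreOf htY)) (mem_zpowers t))
    refine mem_of_sq_mem hyo ?_
    rw [sq_eq_comm hi]
    refine comm_mem_cent_of_inv ht (inv_of_fpf (odd_of_pGroup e2 isPGroup_pCoreOf) ht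
      (le_normalizer_pCoreOf htY) (le_bot_iff.1 ((inf_le_inf_left _ hC).trans (e ▸ ?_)))) hn
    exact (c.ag.mono le_top).le_pCoreOf_of_gf inf_le_right (isPGroup_pCoreOf.to_le inf_le_left)
      (CfsgH2.le_normalizer_inf (hMY.trans le_normalizer_pCoreOf) (gfOf_le.trans le_normalizer))
  have h2 : y ∈ layerOf Y ⊔ 𝒞 (layerOf Y) := hcm (CfsgH2.le_normalizer_sup le_normalizer_layerOf
    (CfsgH2.le_normalizer_centralizer le_normalizer_layerOf) hy)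
    (ha.two_le_layer_sup (zpowers_le.2 htY) (two_zpowers ht) (mem_zpowers t))
  obtain ⟨e, he, d, hd, rfl⟩ := (CfsgH2.mem_sup_of_le_normalizer
    (le_normalizer_of_le_centralizer le_rfl)).1 h2
  have hdF : d ∈ fittingOf Y := inf_centralizer_gfOf_le (mem_inf.2
    ⟨(Y.mul_mem_cancel_left (layerOf_le he)).1 hy, by
      rw [gfOf_eq, CfsgH2.centralizer_sup]
      exact ⟨hd, ((𝒞 (fittingOf Y)).mul_mem_cancel_left
        (layerOf_le_centralizer_fittingOf he)).1 h1⟩⟩)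
  have hed : Commute e d := (mem_cent_iff.1 hd e he).symm
  have h3 : ∀ x ∈ layerOf Y, x ∈ 𝒞 (layerOf Y) → x = 1 := fun x h h' =>
    mem_bot.1 (ha.layer_inf ▸ ⟨h, h'⟩)
  obtain ⟨k, hk⟩ := hyr ⟨_, mem_zpowers _⟩
  have hk : (e * d) ^ r ^ k = 1 := congrArg Subtype.val hk
  rw [hed.mul_pow, mul_eq_one_iff_inv_eq] at hk
  have hdr : IsPGroup r (zpowers d) := CfsgH1.isPGroup_zpowers (k := k)
    (h3 _ (hk ▸ inv_mem (pow_mem he _)) (pow_mem hd _))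
  have htd : t * d = d * t := mem_cent_iff.1 (key r h0) d
    (le_pCoreOf_of_le_fittingOf (zpowers_le.2 hdF) hdr (mem_zpowers d))
  have h4 : d * d = (t * e * t⁻¹)⁻¹ * e⁻¹ := by
    have h5 : t * e * t⁻¹ * d = (d * e)⁻¹ := by
      rw [← hed.eq, ← hi, show t * (e * d) * t⁻¹ = t * e * t⁻¹ * (t * d * t⁻¹) by group, htd]; group
    calc d * d = (t * e * t⁻¹)⁻¹ * (t * e * t⁻¹ * d) * d := by group
      _ = _ := by rw [h5]; group
  have h6 : d = 1 := eq_one_of_odd_of_sq (odd_orderOf_of_mem (odd_of_pGroup hr hdr) (mem_zpowers d))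
    (h3 _ (h4 ▸ mul_mem (inv_mem (conj_mem_of_mem_norm (le_normalizer_layerOf htY) he))
      (inv_mem he)) (mul_mem hd hd))
  rwa [h6, mul_one]

/-- (α) for an invariant subgroup: a genuine component of type `TO` -/
theorem alpha_comp (c : Ctx G) (hM : IsCoatom M) (ht : t * t = 1) (hC : 𝒞₁ t ≤ M)
    (hF : t ∈ 𝒞 (fittingOf M)) (hMY : gfOf M ≤ Y) (hY : Y ≠ ⊤) {S : Subgroup G}
    (hS : IsSylowOf 2 S Y) (htS : t ∈ S) {r : ℕ} [Fact r.Prime] (hr : r ≠ 2)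
    (h0 : pCoreOf r M ≠ ⊥) {D : Subgroup G} (hD : D ≤ Y) (hDr : IsPGroup r D) (hD0 : D ≠ ⊥)
    (hn : Om 2 S ≤ 𝒩 D) (hi : ∀ y ∈ D, t * y * t⁻¹ = y⁻¹) :
    D ≤ layerOf Y ∧ ∃ K, Cfsg.IsComponentOf K Y ∧ Simp K ∧ (∃ K₀ t₀ s₀, TO K K₀ t₀ s₀) ∧
      t ∉ 𝒞 K ∧ ¬ D ≤ 𝒞 K ∧ D ≤ 𝒩 K := by
  have ha : AG Y := c.ag.mono le_top
  have h1 : D ≤ layerOf Y := fun y hy => alpha c hM ht hC hF hMY hY (hS.1 htS) hr h0 (hD hy)
    (hDr.to_le (zpowers_le.2 hy)) (hi y hy)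
  refine ⟨h1, ?_⟩
  obtain ⟨K, hK, h2⟩ : ∃ K, Cfsg.IsComponentOf K Y ∧ ¬ D ≤ 𝒞 K := by
    by_contra hh
    push Not at hh
    exact hD0 (le_bot_iff.1 (ha.layer_inf ▸ le_inf h1 (le_centralizer_symm
      (layerOf_le_iff.2 fun K hK => le_centralizer_symm (hh K hK)))))
  have hs := ha.simp_of_comp hK
  have hp := (c2_of_comp hK).pk c hY hS
  have h3 : D ≤ 𝒩 K := h1.trans (layerOf_le_normalizer_compOf hK)
  have hDo := odd_of_pGroup hr hDr
  have e0 := comm_eq_of_inv hDo hi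
  rw [← CO_eq_cent hs.oc] at h2
  refine ⟨K, hK, hs, (tyO_iff hs.oc).1 ?_, fun h4 => h2 ?_, ?_, h3⟩
  · by_contra h4
    exact h2 (e0.ge.trans (hp.comm_le_CO c h4 hDo h3 ((hp.inf_le_Om c).trans hn) htS))
  · exact e0.ge.trans (comm_le_CO_of_mem h3 (cent_le_CO h4))
  · rwa [← CO_eq_cent hs.oc]

theorem comm_core_le {p : ℕ} [Fact p.Prime] (hC : 𝒞₁ t ≤ M) :
    ⁅pCoreOf p M, zpowers t⁆ ≤ pCoreOf p M :=
  commutator_le_left_of_le_normalizer (zpowers_le.2 (le_normalizer_pCoreOf (hC (mem_c1.2 rfl))))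

theorem star' (c : Ctx G) {p : ℕ} [Fact p.Prime] (hp : p ≠ 2) (ht : t * t = 1) (hM : 𝒞₁ t ≤ M)
    (hY : Y ≠ ⊤) (htY : t ∈ Y) (hMY : gfOf M ≤ Y) : ⁅pCoreOf p M, zpowers t⁆ ≤ pCoreOf p Y := by
  have := star c hp ht hM hY htY
  rwa [inf_eq_left.2 (((pCoreOf_le_fittingOf p).trans fittingOf_le_gfOf).trans hMY)] at this

theorem exists_good (c : Ctx G) {p : ℕ} [hp' : Fact p.Prime] (hp : p ≠ 2) (h1 : t ≠ 1)
    (ht : t * t = 1) (hM : IsCoatom M) (hC : 𝒞₁ t ≤ M) (h0 : ⁅pCoreOf p M, zpowers t⁆ ≠ ⊥) :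
    ∃ M', Good t p M' ∧ ⁅pCoreOf p M', zpowers t⁆ = ⁅pCoreOf p M, zpowers t⁆ := by
  have hle := comm_core_le (p := p) hC
  have hR : IsPGroup p (⁅pCoreOf p M, zpowers t⁆ : Subgroup G) := isPGroup_pCoreOf.to_le hle
  obtain ⟨M', hM', hN⟩ := exists_coatom
    (c.simp.norm_ne_top_of_solvable h0 (CfsgH2.isSolvable_of_isPGroup hR))
  have hC' : 𝒞₁ t ≤ M' := (CfsgH2.le_normalizer_commutator (hC.trans le_normalizer_pCoreOf)
    (c1_le_norm_zpowers t)).trans hN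
  have hg : gfOf M ≤ M' := (le_normalizer_of_le_centralizer ((c.ag.mono le_top).gf_le_cent.trans
    (cent_anti (hle.trans (pCoreOf_le_fittingOf p))))).trans hN
  have e : ⁅pCoreOf p M', zpowers t⁆ = ⁅pCoreOf p M, zpowers t⁆ := by
    refine le_antisymm (commutator_mono (pCoreOf_le_of_gf c.simp c.ag hM hg
      fun e => h0 (le_bot_iff.1 (e ▸ hle))) le_rfl) ?_
    rw [← comm_eq_of_inv (odd_of_pGroup hp hR) (inv_of_mem_comm (c.ag.comm isPGroup_pCoreOf le_top)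
      ht (le_normalizer_pCoreOf (hC (mem_c1.2 rfl))))]
    exact commutator_mono (star' c hp ht hC hM'.1 (hC' (mem_c1.2 rfl)) hg) le_rfl
  exact ⟨M', ⟨h1, ht, hp'.out, hp, hM', hC', e ▸ h0, e ▸ hN⟩, e⟩

/-- if `t` does not centralise `F(M)`, some odd prime works -/
theorem exists_good' (c : Ctx G) (h1 : t ≠ 1) (ht : t * t = 1) (hM : IsCoatom M) (hC : 𝒞₁ t ≤ M)
    (h0 : t ∉ 𝒞 (fittingOf M)) : ∃ p M', Good t p M' := by
  by_contra hh
  apply h0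
  rw [← zpowers_le]
  apply le_centralizer_symm
  rw [fittingOf_le_iff]
  intro p _
  by_cases e : p = 2
  · subst e
    exact le_centralizer_symm (c.ag.cent_of_norm (two_zpowers ht) isPGroup_pCoreOf le_top le_top
      (zpowers_le.2 (le_normalizer_pCoreOf (hC (mem_c1.2 rfl)))))
  · rw [le_cent_iff_comm]
    by_contra h2
    obtain ⟨M', h3, -⟩ := exists_good c e h1 ht hM hC h2
    exact hh ⟨p, M', h3⟩

/-- the lemma (U) -/
theorem Good.le (c : Ctx G) {p : ℕ} (h : Good t p M) (hY : Y ≠ ⊤) (htY : t ∈ Y)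
    (hMY : gfOf M ≤ Y) : Y ≤ M := by
  haveI := Fact.mk h.prime
  obtain ⟨Y', hY', hle⟩ := exists_coatom hY
  have h1 := star' c h.odd h.tt h.cent hY'.1 (hle htY) (hMY.trans hle)
  rw [bender_eq c.simp c.ag h.coatom hY' (hMY.trans hle) ((le_normalizer_of_le_centralizer
    ((c.ag.mono le_top).gf_le_cent.trans (cent_anti (h1.trans (pCoreOf_le_fittingOf p))))).trans
    h.norm) fun e => h.ne (le_bot_iff.1 (e ▸ (comm_core_le h.cent).trans (pCoreOf_le_fittingOf p)))]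
  exact hle

theorem Good.norm_le (c : Ctx G) {p : ℕ} (h : Good t p M) {X : Subgroup G} (hX : X ≤ fittingOf M)
    (h0 : X ≠ ⊥) (ht : t ∈ 𝒩 X) : 𝒩 X ≤ M := by
  haveI := isNilpotent_fittingOf (H := M)
  exact h.le c (c.simp.norm_ne_top_of_solvable h0 (CfsgH2.isSolvable_of_le hX inferInstance)) ht
    (le_normalizer_of_le_centralizer ((c.ag.mono le_top).gf_le_cent.trans (cent_anti hX)))

end CfsgAG
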