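import Cfsg.Agent.AG.B3
import Cfsg.Agent.H2.Jor3

/-! The `N̄`-lemma for a faithful action. -/

set_option autoImplicit false

namespace CfsgAG

open Subgroup CfsgFT CfsgL0
open scoped commutatorElement

variable {G : Type*} [Group G] [Finite G] {S V T W A P Q : Subgroup G} {h x : G}

theorem Spl.card (hs : Spl S V T) : #S = #V * #T := hs.card'.2

theorem Spl.sup (hs : Spl S V T) : V ⊔ T = S := hs.card'.1

omit [Finite G] in
theorem Spl.mc (hs : Spl S V T) {a b : G} (ha : a ∈ S) (hb : b ∈ S) : a * b = b * a :=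
  le_cent_iff.1 hs.comm a ha b hb

omit [Finite G] in
theorem Spl.ne_bot (hs : Spl S V T) : V ≠ ⊥ := by
  rintro rfl
  have := hs.four
  rw [card_bot] at this
  omega

omit [Finite G] in
theorem exists_ne_one (h : V ≠ ⊥) : ∃ v ∈ V, v ≠ 1 := by
  obtain ⟨⟨v, hv⟩, h1⟩ := ne_bot_iff_exists_ne_one.1 h
  exact ⟨v, hv, fun e => h1 (Subtype.ext e)⟩

omit [Finite G] in
theorem eq_one_of_inf (h : V ⊓ W = ⊥) {v : G} (h1 : v ∈ V) (h2 : v ∈ W) : v = 1 :=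
  mem_bot.1 (h ▸ mem_inf.2 ⟨h1, h2⟩)

omit [Finite G] in
theorem zp_mc {a b : G} (ha : a ∈ zpowers h) (hb : b ∈ zpowers h) : a * b = b * a := by
  obtain ⟨i, rfl⟩ := ha
  obtain ⟨j, rfl⟩ := hb
  exact (Commute.zpow_zpow_self h i j).eq

omit [Finite G] in
theorem Tor.cent_V (ht : Tor S V T h) (hx : x ∈ zpowers h) {v : G} (hv : v ∈ V) (h1 : v ≠ 1)
    (hc : x * v = v * x) : x ∈ 𝒞 V := by
  refine mem_cent_iff.2 fun w hw => ?_
  by_cases e : w = 1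
  · simp [e]
  obtain ⟨i, rfl⟩ := ht.trans v hv h1 w hw e
  have h2 := zp_mc hx (pow_mem (mem_zpowers h) i)
  calc x * (h ^ i * v * (h ^ i)⁻¹) = (x * h ^ i) * v * (h ^ i)⁻¹ := by group
    _ = h ^ i * (x * v) * (h ^ i)⁻¹ := by rw [h2]; group
    _ = h ^ i * v * (h ^ i)⁻¹ * (h ^ i * x) * (h ^ i)⁻¹ := by rw [hc]; group
    _ = _ := by rw [← h2]; group

theorem Tor.inf_c1 (hs : Spl S V T) (ht : Tor S V T h) : V ⊓ 𝒞₁ h = ⊥ := by
  rw [eq_bot_iff]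
  intro v hv
  by_contra h1
  have hc := ht.cent_V (mem_zpowers h) hv.1 h1 (mem_c1.1 hv.2).symm
  have h2 : (V : Set G) ⊆ {1, v} := fun w hw => by
    by_cases e : w = 1
    · exact Or.inl e
    obtain ⟨i, rfl⟩ := ht.trans v hv.1 h1 w hw e
    exact Or.inr (CfsgH1.conj_eq_of_mem_centralizer (pow_mem hc i) hv.1)
  have h3 := (Set.ncard_le_ncard h2).trans (Set.ncard_insert_le _ _)
  have h4 : 4 ≤ (V : Set G).ncard := hs.four
  rw [Set.ncard_singleton] at h3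
  omega

omit [Finite G] in
theorem Spl.cent_eq (hs : Spl S V T) (hT : x ∈ 𝒞 T) (h0 : V ⊓ 𝒞₁ x = ⊥) : S ⊓ 𝒞₁ x = T := by
  refine le_antisymm (fun s hs' => ?_)
    (le_inf hs.T_le fun b hb => mem_c1.2 (mem_cent_iff.1 hT b hb).symm)
  obtain ⟨a, ha, b, hb, rfl⟩ := hs.split s hs'.1
  have : a = 1 := eq_one_of_inf h0 ha (by
    have := (𝒞₁ x).mul_mem hs'.2 (inv_mem (mem_c1.2 (mem_cent_iff.1 hT b hb).symm))
    rwa [mul_inv_cancel_right] at this)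
  rw [this, one_mul]; exact hb

theorem Spl.mem_V (hs : Spl S V T) (hx : x ∈ 𝒩 V) (hT : x ∈ 𝒞 T) (h0 : V ⊓ 𝒞₁ x = ⊥) {v : G} :
    v ∈ V ↔ ∃ s ∈ S, s * x * s⁻¹ * x⁻¹ = v := by
  refine ⟨fun hv => ?_, ?_⟩
  · obtain ⟨k, hk, e⟩ := exists_comm_eq hx h0 hv
    exact ⟨k, hs.V_le hk, e⟩
  · rintro ⟨s, hs', rfl⟩
    obtain ⟨a, ha, b, hb, rfl⟩ := hs.split s hs'
    have e : a * b * x * (a * b)⁻¹ * x⁻¹ = a * (x * a⁻¹ * x⁻¹) := by
      calc _ = a * (b * x) * b⁻¹ * a⁻¹ * x⁻¹ := by group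
        _ = _ := by rw [← mem_cent_iff.1 hT b hb]; group
    rw [e]
    exact mul_mem ha (conj_mem_of_mem_norm hx (inv_mem ha))

/-- an element that commutes with `x` modulo `C(S)` normalises `[S, x]` and `C_S(x)` -/
theorem Spl.norm_of (hs : Spl S V T) (hxS : x ∈ 𝒩 S) (hx : x ∈ 𝒩 V) (hT : x ∈ 𝒞 T)
    (h0 : V ⊓ 𝒞₁ x = ⊥) {n : G} (hn : n ∈ 𝒩 S) (hc : n * x * n⁻¹ * x⁻¹ ∈ 𝒞 S) :
    n ∈ 𝒩 V ∧ n ∈ 𝒩 T := by
  obtain ⟨c, e⟩ : ∃ c, n * x * n⁻¹ * x⁻¹ = c := ⟨_, rfl⟩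
  rw [e] at hc
  have e' : n * x * n⁻¹ = c * x := by rw [← e]; group
  refine ⟨CfsgH1.mem_normalizer_of_cj_le (CfsgH1.cj_le_iff.2 fun v hv => ?_),
    CfsgH1.mem_normalizer_of_cj_le (CfsgH1.cj_le_iff.2 fun b hb => ?_)⟩
  · obtain ⟨s, hs', rfl⟩ := (hs.mem_V hx hT h0).1 hv
    have h1 := conj_mem_of_mem_norm hn hs'
    refine (hs.mem_V hx hT h0).2 ⟨_, h1, ?_⟩
    have h2 := CfsgH1.conj_eq_of_mem_centralizer hc (conj_mem_of_mem_norm hxS (inv_mem h1))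
    calc _ = n * s * n⁻¹ * (x * (n * s * n⁻¹)⁻¹ * x⁻¹) := by group
      _ = n * s * n⁻¹ * ((c * x) * (n * s * n⁻¹)⁻¹ * (c * x)⁻¹) := by rw [← h2]; group
      _ = _ := by rw [← e']; group
  · have h1 := conj_mem_of_mem_norm hn (hs.T_le hb)
    rw [← hs.cent_eq hT h0]
    refine mem_inf.2 ⟨h1, mem_c1.2 (mul_left_cancel (a := c) ?_)⟩
    calc _ = n * b * n⁻¹ * (c * x) := by rw [← mul_assoc, mem_cent_iff.1 hc _ h1]; group
      _ = n * (b * x) * n⁻¹ := by rw [← e']; group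
      _ = (n * x * n⁻¹) * (n * b * n⁻¹) := by rw [← mem_cent_iff.1 hT b hb]; group
      _ = _ := by rw [e']; group

theorem Tor.cent_eq (hs : Spl S V T) (ht : Tor S V T h) : S ⊓ 𝒞₁ h = T :=
  hs.cent_eq ht.cent (ht.inf_c1 hs)

theorem Tor.comm_eq (hs : Spl S V T) (ht : Tor S V T h) : ⁅S, zpowers h⁆ = V := by
  refine le_antisymm ?_ fun v hv => ?_
  · refine commutator_le.2 fun s hs' y hy => ?_
    obtain ⟨a, ha, b, hb, rfl⟩ := hs.split s hs'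
    have e : ⁅a * b, y⁆ = a * (y * a⁻¹ * y⁻¹) := by
      rw [commutatorElement_def]
      calc _ = a * (b * y) * b⁻¹ * a⁻¹ * y⁻¹ := by group
        _ = _ := by rw [← mem_cent_iff.1 (zpowers_le.2 ht.cent hy) b hb]; group
    rw [e]
    exact mul_mem ha (conj_mem_of_mem_norm (zpowers_le.2 ht.normV hy) (inv_mem ha))
  · obtain ⟨s, hs', rfl⟩ := (hs.mem_V ht.normV ht.cent (ht.inf_c1 hs)).1 hv
    exact commutator_mem_commutator hs' (mem_zpowers h)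

omit [Finite G] in
theorem Tor.irr (ht : Tor S V T h) (hW : W ≤ V) (hn : h ∈ 𝒩 W) : W = ⊥ ∨ W = V := by
  refine or_iff_not_imp_left.2 fun h0 => le_antisymm hW fun v hv => ?_
  obtain ⟨⟨w, hw⟩, h1⟩ := ne_bot_iff_exists_ne_one.1 h0
  by_cases e : v = 1
  · rw [e]; exact one_mem _
  obtain ⟨i, rfl⟩ := ht.trans w (hW hw) (fun e => h1 (Subtype.ext e)) v hv e
  exact conj_mem_of_mem_norm (pow_mem hn i) hw

theorem Tor.le_or (hs : Spl S V T) (ht : Tor S V T h) (hW : W ≤ S) (hn : h ∈ 𝒩 W) :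
    V ≤ W ∨ W ≤ T := by
  rcases ht.irr (inf_le_left : V ⊓ W ≤ V) (inf_normalizer_le_normalizer_inf
    (mem_inf.2 ⟨ht.normV, hn⟩)) with e | e
  · refine Or.inr fun w hw => ?_
    rw [← ht.cent_eq hs]
    have := eq_one_of_inf e ((hs.mem_V ht.normV ht.cent (ht.inf_c1 hs)).2 ⟨w, hW hw, rfl⟩) (by
      have := mul_mem hw (conj_mem_of_mem_norm hn (inv_mem hw))
      rwa [← mul_assoc, ← mul_assoc] at this)
    refine mem_inf.2 ⟨hW hw, mem_c1.2 ?_⟩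
    rw [mul_inv_eq_one, mul_inv_eq_iff_eq_mul] at this
    exact this
  · exact Or.inl (e.ge.trans inf_le_right)

omit [Finite G] in
theorem Spl.cent_S (hs : Spl S V T) (hV : x ∈ 𝒞 V) (hT : x ∈ 𝒞 T) : x ∈ 𝒞 S := by
  refine mem_cent_iff.2 fun s hs' => ?_
  obtain ⟨a, ha, b, hb, rfl⟩ := hs.split s hs'
  rw [← mul_assoc, mem_cent_iff.1 hV a ha, mul_assoc, mem_cent_iff.1 hT b hb, mul_assoc]

omit [Finite G] in
theorem Tor.semiReg (hs : Spl S V T) (ht : Tor S V T h) (h0 : zpowers h ⊓ 𝒞 S = ⊥) :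
    SemiReg V (zpowers h) := fun x hx x1 => by
  rw [eq_bot_iff]
  intro v hv
  by_contra h1
  exact x1 (eq_one_of_inf h0 hx (hs.cent_S (ht.cent_V hx hv.1 h1 (mem_c1.1 hv.2).symm)
    (zpowers_le.2 ht.cent hx)))

theorem Tor.card_eq (hs : Spl S V T) (ht : Tor S V T h) (h0 : zpowers h ⊓ 𝒞 S = ⊥) :
    #(zpowers h) + 1 = #V := by
  obtain ⟨v, hv, h1⟩ := exists_ne_one hs.ne_bot
  have e := card_cl_mul (zpowers h) v
  have e1 : cl (zpowers h) v = (V : Set G) \ {1} := by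
    refine Set.Subset.antisymm (fun w hw => ?_) fun w hw => ?_
    · obtain ⟨g, hg, rfl⟩ := mem_cl.1 hw
      exact ⟨conj_mem_of_mem_norm (zpowers_le.2 ht.normV hg) hv, conj_ne_one h1⟩
    · obtain ⟨i, rfl⟩ := ht.trans v hv h1 w hw.1 hw.2
      exact mem_cl.2 ⟨_, pow_mem (mem_zpowers h) i, rfl⟩
  rw [(ht.semiReg hs h0).symm v hv h1, card_bot, one_mul, e1,
    Set.ncard_sdiff_singleton_of_mem V.one_mem] at e
  have h4 : 4 ≤ (V : Set G).ncard := hs.four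
  have h5 : #V = (V : Set G).ncard := rfl
  omega

theorem le_cent_of_fpf (h0 : Q ⊓ 𝒞₁ x = ⊥) (hx : x ∈ 𝒩 Q) (hW : x ∈ 𝒞 W) (hn : Q ≤ 𝒩 W) :
    Q ≤ 𝒞 W := fun y hy => by
  obtain ⟨k, hk, rfl⟩ := exists_comm_eq hx h0 hy
  exact mul_mem (conj_mem_of_mem_norm (CfsgH2.le_normalizer_centralizer hn hk) hW) (inv_mem hW)

/-- an abelian group of odd order normalised by the torus and faithful on `V` is semiregular -/
theorem Tor.semiReg_of (hs : Spl S V T) (ht : Tor S V T h) (hP : P ≤ 𝒞 P) (ho : Odd #P)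
    (hn : P ≤ 𝒩 V) (h0 : P ⊓ 𝒞 V = ⊥) (hh : h ∈ 𝒩 P) : SemiReg V P := fun y hy y1 => by
  rw [eq_bot_iff]
  intro v hv
  by_contra v1
  set D := P ⊓ 𝒞₁ v with hD
  have hDV : D ≤ 𝒩 V := inf_le_left.trans hn
  have hPD : P ≤ 𝒩 D := (hP.trans (cent_anti inf_le_left)).trans (centralizer_le_normalizer _)
  have hb : ⁅V, D⁆ ⊓ 𝒞 D = ⊥ := CfsgH2.commutator_inf_centralizer_eq_bot hDV
    (coprime_two_of_odd (hs.two.to_le hs.V_le) (odd_of_le inf_le_left ho)).symm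
    (le_centralizer_iff_isMulCommutative.1 (comm_of_sq hs.sq))
  have hvD : v ∈ 𝒞 D := mem_cent_iff.2 fun b hb => (mem_c1.1 hb.2).symm
  obtain ⟨w, hw, w1⟩ := exists_ne_one (V := ⁅V, D⁆) fun e =>
    y1 (eq_one_of_inf h0 hy (le_centralizer_iff.1 (le_cent_iff_comm.2 e)
      (mem_inf.2 ⟨hy, mem_c1.2 (mem_c1.1 hv.2).symm⟩)))
  have hwV : w ∈ V := commutator_le_left_of_le_normalizer hDV hw
  have hne : v * w ≠ 1 := fun e => w1 (eq_one_of_inf hb hw (by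
    rw [eq_inv_of_mul_eq_one_right e]; exact inv_mem hvD))
  have hle : P ⊓ 𝒞₁ (v * w) ≤ D ⊓ 𝒞₁ w := fun z hz => by
    have e := mem_c1.1 hz.2
    have e1 : w * (z * w * z⁻¹)⁻¹ = v⁻¹ * (z * v * z⁻¹) := by
      calc _ = v⁻¹ * (v * w * z) * w⁻¹ * z⁻¹ := by group
        _ = _ := by rw [← e]; group
    have e2 : w * (z * w * z⁻¹)⁻¹ = 1 := eq_one_of_inf hb
      (mul_mem hw (inv_mem (conj_mem_of_mem_norm
        (CfsgH2.le_normalizer_commutator hn hPD hz.1) hw)))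
      (e1 ▸ mul_mem (inv_mem hvD)
        (conj_mem_of_mem_norm (CfsgH2.le_normalizer_centralizer hPD hz.1) hvD))
    have e3 := e1.symm.trans e2
    rw [inv_mul_eq_one, eq_mul_inv_iff_mul_eq] at e3
    rw [mul_inv_eq_one, eq_mul_inv_iff_mul_eq] at e2
    exact mem_inf.2 ⟨mem_inf.2 ⟨hz.1, mem_c1.2 e3.symm⟩, mem_c1.2 e2.symm⟩
  obtain ⟨i, hi⟩ := ht.trans v hv.1 v1 _ (mul_mem hv.1 hwV) hne
  have hc : #(P ⊓ 𝒞₁ (v * w) : Subgroup G) = #D := by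
    rw [← hi, ← CfsgH1.card_cj (h ^ i) D, hD, CfsgH1.cj_inf, CfsgH1.cj_centralizer_singleton,
      CfsgH1.cj_eq_of_mem_normalizer (pow_mem hh i)]
  have he := eq_of_le_of_card_ge (hle.trans inf_le_left) hc.ge
  exact w1 (eq_one_of_inf hb hw (mem_cent_iff.2 fun b hb =>
    (mem_c1.1 (hle (he.ge hb)).2).symm))

theorem Tor.case_cent (hs : Spl S V T) (ht : Tor S V T h) (ha : AG A) (hA : Odd #A) (hn : A ≤ 𝒩 S)
    (h0 : A ⊓ 𝒞 S = ⊥) (hh : h ∈ A) {r : ℕ} [hr : Fact r.Prime] {a b : G} (ha' : a ∈ zpowers h)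
    (hb : b ∈ zpowers h) (hak : ∃ k, a ^ r ^ k = 1) (hbr : (orderOf b).Coprime r) (e : h = a * b)
    (hQ : Q ≤ A) (hp : IsPGroup r Q) (hhQ : h ∈ 𝒩 Q) (hQb : Q ⊓ 𝒞₁ b = ⊥) (hx : x ∈ zpowers h)
    (x1 : x ≠ 1) (hxQ : Q ≤ 𝒞₁ x) : Q = ⊥ := by
  have hH : zpowers h ≤ A := zpowers_le.2 hh
  have h0' : zpowers h ⊓ 𝒞 S = ⊥ := eq_bot_iff.2 ((inf_le_inf_right _ hH).trans h0.le)
  have h1 : ∀ n ∈ Q, n ∈ 𝒩 V ∧ n ∈ 𝒩 T := fun n hn' =>
    hs.norm_of (hn (hH hx)) (zpowers_le.2 ht.normV hx) (zpowers_le.2 ht.cent hx)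
      (ht.semiReg hs h0' x hx x1) (hn (hQ hn')) (by
        rw [mem_c1.1 (hxQ hn'), mul_inv_cancel_right, mul_inv_cancel]; exact one_mem _)
  have h2 : Q ≤ 𝒞 T := le_cent_of_fpf hQb (zpowers_le.2 hhQ hb) (zpowers_le.2 ht.cent hb)
    fun n hn' => (h1 n hn').2
  obtain ⟨k, hk⟩ := hak
  have haH : zpowers a ≤ zpowers h := zpowers_le.2 ha'
  have hP : IsPGroup r (zpowers a ⊔ Q : Subgroup G) :=
    (CfsgH1.isPGroup_zpowers hk).to_sup_of_normal_right' hp (haH.trans (zpowers_le.2 hhQ))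
  have hPA : zpowers a ⊔ Q ≤ A := sup_le (haH.trans hH) hQ
  have hPV : zpowers a ⊔ Q ≤ 𝒩 V :=
    sup_le (haH.trans (zpowers_le.2 ht.normV)) fun n hn' => (h1 n hn').1
  have hsr := ht.semiReg_of hs (ha.comm hP hPA) (odd_of_le hPA hA) hPV
    (eq_bot_iff.2 fun y hy => h0.le (mem_inf.2 ⟨hPA hy.1, hs.cent_S hy.2
      (sup_le (haH.trans (zpowers_le.2 ht.cent)) h2 hy.1)⟩))
    (normalizer_inf_normalizer_le_normalizer_sup _ _ (mem_inf.2 ⟨centralizer_le_normalizer _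
      (mem_cent_iff.2 fun y hy => zp_mc (mem_zpowers h) (haH hy)), hhQ⟩))
  have h3 := hsr.card_dvd_pred hPV
  rw [← ht.card_eq hs h0', Nat.add_sub_cancel, Nat.card_zpowers] at h3
  have h4 : orderOf h ∣ orderOf a * orderOf b := by
    rw [e]; exact Commute.orderOf_mul_dvd_mul_orderOf (zp_mc ha' hb)
  obtain ⟨m, hm⟩ := IsPGroup.iff_card.1 hP
  have h5 : #(zpowers a ⊔ Q : Subgroup G) ∣ #(zpowers a) := by
    rw [Nat.card_zpowers]
    exact Nat.Coprime.dvd_of_dvd_mul_right (hm ▸ (hbr.symm.pow_left m)) (h3.trans h4)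
  have h6 := eq_of_le_of_card_ge (le_sup_left : zpowers a ≤ zpowers a ⊔ Q)
    (Nat.le_of_dvd Nat.card_pos h5)
  rw [← hQb]
  exact (inf_eq_left.2 fun y hy => mem_c1.2 (zp_mc (haH (h6.ge (mem_sup_right hy))) hb)).symm

theorem arith_exc {m c : ℕ} (hm : 4 ≤ m + 1) (hc : 0 < c) (e : (m + 1) * c = c ^ m) :
    m = 3 ∧ c = 2 := by
  obtain ⟨k, rfl⟩ : ∃ k, m = k + 3 := ⟨m - 3, by omega⟩
  have e1 : k + 4 = c ^ (k + 2) := Nat.eq_of_mul_eq_mul_right hc (by rw [← pow_succ]; exact e)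
  have h2 : 2 ≤ c := by
    by_contra h
    have : c = 1 := by omega
    rw [this, one_pow] at e1
    omega
  have h3 : 2 ^ (k + 2) ≤ k + 4 := e1 ▸ Nat.pow_le_pow_left h2 _
  have h4 : k < 2 ^ k := Nat.lt_two_pow_self
  rw [pow_add] at h3
  have h5 : k = 0 := by omega
  subst h5
  norm_num at e1
  exact ⟨rfl, by nlinarith⟩

theorem arith_seven {p d : ℕ} (hp : p.Prime) (h2 : p ≠ 2) (h3 : p ≠ 3) (hd : d ∣ 8) (h8 : d ≠ 8)
    (h : 8 ≡ d [MOD p]) : p = 7 ∧ d = 1 := by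
  have hle := Nat.le_of_dvd (by norm_num) hd
  have hdv := (Nat.modEq_iff_dvd' hle).1 h.symm
  have hp8 := Nat.le_of_dvd (by omega) hdv
  have := hp.two_le
  interval_cases d <;> interval_cases p <;> simp_all (config := {decide := true})

/-- the data of the exceptional case -/
structure Exc0 (S V T : Subgroup G) (β : G) : Prop where
  four : #V = 4
  pow : β ^ 7 = 1
  card : #⁅S, zpowers β⁆ = 8
  sq : ∀ v ∈ ⁅S, zpowers β⁆, v * v = 1
  le : V ≤ ⁅S, zpowers β⁆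
  cent : S ⊓ 𝒞₁ β ≤ T

theorem Tor.case_free (hs : Spl S V T) (ht : Tor S V T h) (hA : Odd #A) (hn : A ≤ 𝒩 S)
    (h0 : A ⊓ 𝒞 S = ⊥) (hh : h ∈ A) (hQ : Q ≤ A) (hp : Group.IsNilpotent Q) (hhQ : h ∈ 𝒩 Q)
    (hQ0 : Q ≠ ⊥) (hsr : SemiReg Q (zpowers h)) : ∃ β ∈ Q, Exc0 S V T β := by
  have h0' : zpowers h ⊓ 𝒞 S = ⊥ :=
    eq_bot_iff.2 ((inf_le_inf_right _ (zpowers_le.2 hh)).trans h0.le)
  have hcard := ht.card_eq hs h0'
  have h1 : h ≠ 1 := by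
    rintro rfl
    have := hs.four
    rw [zpowers_one_eq_bot, card_bot] at hcard
    omega
  have hQS := hQ.trans hn
  have hQo := odd_of_le hQ hA
  have hco := (coprime_two_of_odd hs.two hQo).symm
  have hL : ∀ W ≤ T, Q ≤ 𝒩 W → W ≤ 𝒞 Q := fun W hW hn' => le_centralizer_iff.1
    (le_cent_of_fpf (hsr h (mem_zpowers h) h1) hhQ (cent_anti hW ht.cent) hn')
  set U := ⁅S, Q⁆ with hU
  have hUS : U ≤ S := commutator_le_left_of_le_normalizer hQS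
  have hb : U ⊓ 𝒞 Q = ⊥ := CfsgH2.commutator_inf_centralizer_eq_bot hQS hco
    (le_centralizer_iff_isMulCommutative.1 hs.comm)
  have hsup : U ⊔ (S ⊓ 𝒞 Q) = S :=
    CfsgH2.commutator_sup_centralizer hQS hco (Or.inr (solv_two hs.two))
  have hQU : Q ≤ 𝒩 U := CfsgH2.le_normalizer_commutator hQS le_normalizer
  have hhU : zpowers h ≤ 𝒩 U :=
    CfsgH2.le_normalizer_commutator (zpowers_le.2 ht.norm) (zpowers_le.2 hhQ)
  have hf : ∀ y ∈ Q, y ∈ 𝒞 U → y = 1 := fun y hy hc => eq_one_of_inf h0 (hQ hy) (by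
    have : S ≤ 𝒞₁ y := hsup.ge.trans (sup_le (fun u hu => mem_c1.2 (mem_cent_iff.1 hc u hu).symm)
      fun u hu => mem_c1.2 (mem_cent_iff.1 hu.2 y hy))
    exact mem_cent_iff.2 fun s hs' => (mem_c1.1 (this hs')).symm)
  have hsq : ∀ v ∈ U, v * v = 1 := fun v hv => by
    let W : Subgroup G :=
      { carrier := {g | ∃ s ∈ S, s * s = g}
        one_mem' := ⟨1, one_mem _, mul_one _⟩
        mul_mem' := by
          rintro _ _ ⟨a, ha, rfl⟩ ⟨b, hb, rfl⟩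
          exact ⟨a * b, mul_mem ha hb, by
            rw [mul_assoc, ← mul_assoc b, ← hs.mc ha hb]; group⟩
        inv_mem' := by
          rintro _ ⟨a, ha, rfl⟩
          exact ⟨a⁻¹, inv_mem ha, by group⟩ }
    refine eq_one_of_inf hb (mul_mem hv hv) (hL W ?_ (fun n hn' => ?_) ⟨v, hUS hv, rfl⟩)
    · rintro _ ⟨s, hs', rfl⟩
      obtain ⟨a, ha, b, hb, rfl⟩ := hs.split s hs'
      rw [mul_assoc, ← mul_assoc b, ← hs.mc (hs.V_le ha) (hs.T_le hb), ← mul_assoc, ← mul_assoc,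
        hs.sq a ha, one_mul]
      exact mul_mem hb hb
    · refine CfsgH1.mem_normalizer_of_cj_le (CfsgH1.cj_le_iff.2 ?_)
      rintro _ ⟨s, hs', rfl⟩
      exact ⟨_, conj_mem_of_mem_norm (hQS hn') hs', by group⟩
  have hVU : V ≤ U := (ht.le_or hs hUS (hhU (mem_zpowers h))).resolve_right fun hle =>
    hQ0 (eq_bot_iff.2 fun y hy => hf y hy (le_centralizer_iff.1 (hL U hle hQU) hy))
  have hsU : Spl U V (U ⊓ T) :=
    { two := hs.two.to_le hUS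
      comm := comm_of_sq hsq
      V_le := hVU
      T_le := inf_le_left
      disj := eq_bot_iff.2 ((inf_le_inf_left _ inf_le_right).trans hs.disj.le)
      split := fun s hs' => by
        obtain ⟨a, ha, b, hb, rfl⟩ := hs.split s (hUS hs')
        exact ⟨a, ha, b, mem_inf.2 ⟨(mul_mem_cancel_left (hVU ha)).1 hs', hb⟩, rfl⟩
      sq := hs.sq
      four := hs.four }
  have hform := CfsgH2J.card_eq_pow_of_semiReg (q := 2) hsr (zpowers_le.2 hhQ) hp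
    (by rw [← even_iff_two_dvd, Nat.not_even_iff_odd]; exact hQo) (elem_of_sq hsq) hQU hhU hb
  rw [CfsgH2.centralizer_zpowers, ← inf_eq_left.2 hUS, inf_assoc, ht.cent_eq hs,
    inf_eq_left.2 hUS, hsU.card, ← hcard] at hform
  obtain ⟨h3, h2⟩ := arith_exc (hcard ▸ hs.four) Nat.card_pos hform
  have h8 : #U = 8 := by rw [hsU.card, ← hcard, h3, h2]
  obtain ⟨y, hy, y1⟩ := exists_ne_one hQ0
  obtain ⟨β, hβ, hpr⟩ := exists_prime_pow y1
  have hβQ : β ∈ Q := zpowers_le.2 hy hβ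
  have := Fact.mk hpr
  have hmod := CfsgH1.card_modEq_card_inf_centralizer (T := U)
    (CfsgH1.isPGroup_zpowers (p := orderOf β) (x := β) (k := 1) (by simp))
    (zpowers_le.2 (hQU hβQ))
  rw [CfsgH2.centralizer_zpowers, h8] at hmod
  have hd : #(U ⊓ 𝒞₁ β : Subgroup G) ∣ 8 := h8 ▸ card_dvd_of_le inf_le_left
  have hd8 : #(U ⊓ 𝒞₁ β : Subgroup G) ≠ 8 := fun e => hpr.ne_one (orderOf_eq_one_iff.2
    (hf β hβQ (mem_cent_iff.2 fun u hu => (mem_c1.1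
      ((eq_of_le_of_card_ge inf_le_left (h8.trans e.symm).le).ge hu).2).symm)))
  have hpQ : orderOf β ∣ #Q := orderOf_dvd_natCard _ hβQ
  have hp2 : orderOf β ≠ 2 := fun e => by
    rw [e, ← even_iff_two_dvd, ← Nat.not_odd_iff_even] at hpQ; exact hpQ hQo
  have hp3 : orderOf β ≠ 3 := fun e => by
    have := Nat.Coprime.coprime_dvd_left hpQ (hsr.coprime (zpowers_le.2 hhQ))
    rw [h3, e] at this
    exact absurd this (by norm_num)
  have h7 := arith_seven hpr hp2 hp3 hd hd8 hmod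
  have hfp : U ⊓ 𝒞₁ β = ⊥ := eq_bot_of_card_eq _ h7.2
  have hE : ⁅S, zpowers β⁆ = U := le_antisymm (commutator_mono le_rfl (zpowers_le.2 hβQ))
    fun u hu => by
      obtain ⟨k, hk, rfl⟩ := exists_comm_eq (hQU hβQ) hfp hu
      exact commutator_mem_commutator (hUS hk) (mem_zpowers β)
  refine ⟨β, hβQ, by omega, h7.1 ▸ pow_orderOf_eq_one β, hE ▸ h8, hE ▸ hsq, hE ▸ hVU, ?_⟩
  have hW : S ⊓ 𝒞 Q ≤ T := (ht.le_or hs inf_le_left (inf_normalizer_le_normalizer_inf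
    (mem_inf.2 ⟨ht.norm, CfsgH2.le_normalizer_centralizer le_rfl hhQ⟩))).resolve_left fun hle =>
      hs.ne_bot (eq_bot_iff.2 ((le_inf hVU (hle.trans inf_le_right)).trans hb.le))
  intro s hs'
  obtain ⟨u, hu, c, hc, rfl⟩ := (CfsgH1.mem_sup_of_le_normalizer' (N := U) (H := S ⊓ 𝒞 Q)
    (inf_le_left.trans ((hs.comm.trans (cent_anti hUS)).trans (centralizer_le_normalizer _)))).1
      (hsup.ge hs'.1)
  have : u = 1 := eq_one_of_inf hfp hu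
    ((mul_mem_cancel_right (mem_c1.2 (mem_cent_iff.1 hc.2 β hβQ))).1 hs'.2)
  rw [this, one_mul]
  exact hW hc

theorem Tor.core (hs : Spl S V T) (ht : Tor S V T h) (ha : AG A) (hA : Odd #A) (hn : A ≤ 𝒩 S)
    (h0 : A ⊓ 𝒞 S = ⊥) (hh : h ∈ A) : h ∈ fittingOf A ∨ ∃ β ∈ fittingOf A, Exc0 S V T β := by
  refine or_iff_not_imp_left.2 fun hF => ?_
  have h1 : ¬ fittingOf A ≤ 𝒞₁ h := fun hle => hF (inf_centralizer_fittingOf_le (odd_solvable hA)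
    (mem_inf.2 ⟨hh, mem_cent_iff.2 fun y hy => (mem_c1.1 (hle hy)).symm⟩))
  rw [fittingOf_le_iff] at h1
  push Not at h1
  obtain ⟨r, hr, h1⟩ := h1
  obtain ⟨a, b, ha', hb, ⟨k, hk⟩, hbr, e⟩ := CfsgH1.exists_pPart (p := r) h
  have hH : zpowers h ≤ A := zpowers_le.2 hh
  have hHR : zpowers h ≤ 𝒩 (pCoreOf r A) := hH.trans le_normalizer_pCoreOf
  have h2 : zpowers a ≤ 𝒞 (pCoreOf r A) := ha.cent_of_norm (CfsgH1.isPGroup_zpowers hk)
    isPGroup_pCoreOf (zpowers_le.2 (hH ha')) pCoreOf_le (zpowers_le.2 (hHR ha'))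
  have hle : ⁅pCoreOf r A, zpowers b⁆ ≤ pCoreOf r A :=
    commutator_le_left_of_le_normalizer (zpowers_le.2 (hHR hb))
  have h3 : ⁅pCoreOf r A, zpowers b⁆ ⊓ 𝒞₁ b = ⊥ := by
    rw [← CfsgH2.centralizer_zpowers]
    refine CfsgH2.commutator_inf_centralizer_eq_bot (zpowers_le.2 (hHR hb)) ?_
      (le_centralizer_iff_isMulCommutative.1 (ha.comm isPGroup_pCoreOf pCoreOf_le))
    obtain ⟨m, hm⟩ := IsPGroup.iff_card.1 (isPGroup_pCoreOf (p := r) (H := A))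
    rw [hm, Nat.card_zpowers]
    exact hbr.pow_right m
  have h4 : zpowers h ≤ 𝒩 ⁅pCoreOf r A, zpowers b⁆ := CfsgH2.le_normalizer_commutator hHR
    ((le_cent_iff.2 fun y hy z hz => zp_mc hy (zpowers_le.2 hb hz)).trans
      (centralizer_le_normalizer _))
  obtain ⟨β, hβ, he⟩ := ht.case_free hs hA hn h0 hh (hle.trans pCoreOf_le)
    (isPGroup_pCoreOf.to_le hle).isNilpotent (h4 (mem_zpowers h))
    (fun e0 => h1 fun y hy => by
      rw [mem_c1, e, ← mul_assoc, ← mem_cent_iff.1 (h2 (mem_zpowers a)) y hy, mul_assoc,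
        mem_cent_iff.1 (le_cent_iff_comm.2 e0 hy) b (mem_zpowers b), mul_assoc])
    fun x hx x1 => ht.case_cent hs ha hA hn h0 hh ha' hb ⟨k, hk⟩ hbr e
      (inf_le_left.trans (hle.trans pCoreOf_le)) (isPGroup_pCoreOf.to_le (inf_le_left.trans hle))
      (inf_normalizer_le_normalizer_inf (mem_inf.2 ⟨h4 (mem_zpowers h),
        le_normalizer (mem_c1.2 (zp_mc (mem_zpowers h) hx))⟩))
      (eq_bot_iff.2 ((inf_le_inf_right _ inf_le_left).trans h3.le)) hx x1 inf_le_right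
  exact ⟨β, pCoreOf_le_fittingOf r (hle hβ), he⟩

end CfsgAG
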