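/-
Brauer--Suzuki--Wall, part 4: counting.
-/
import Cfsg.Agent.AG.BSW3

set_option autoImplicit false

namespace CfsgAG.BW

open Subgroup hiding one
open CfsgFT
open scoped ComplexConjugate Classical

variable {G : Type*} [Group G] {X K : Subgroup G} {t s : G}

/-- the non-identity elements not conjugate into `K` -/
def RR (X K : Subgroup G) : Set G := {g | g ∈ X ∧ g ≠ 1 ∧ g ∉ cls (nz K) X}

/-- the part of `RR` where `χ = c` -/
def RC (X K : Subgroup G) (χ : G → ℂ) (c : ℂ) : Set G := {g | g ∈ RR X K ∧ χ g = c}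

theorem RR.conj {g x : G} (hg : g ∈ RR X K) (hx : x ∈ X) : x * g * x⁻¹ ∈ RR X K :=
  ⟨mul_mem (mul_mem hx hg.1) (inv_mem hx), fun e => hg.2.1 (by simpa using e), fun e => hg.2.2 (by
    obtain ⟨a, ha, y, hy, e⟩ := e
    exact ⟨a, ha, x⁻¹ * y, mul_mem (inv_mem hx) hy, by
      calc g = x⁻¹ * (x * g * x⁻¹) * x := by group
        _ = _ := by rw [e]; group⟩)⟩

theorem orderOf_conj' (x g : G) : orderOf (x * g * x⁻¹) = orderOf g :=
  (MulAut.conj x).orderOf_eq g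

theorem CC.comm {T : Subgroup G} (h : CC X T) : ∀ a ∈ T, ∀ b ∈ T, a * b = b * a := fun a ha b hb => by
  by_cases e : b = 1
  · simp [e]
  · exact mc1.1 (h.cent b hb e ▸ ha : a ∈ X ⊓ 𝒞₁ b).2

theorem CC.mem {T : Subgroup G} (h : CC X T) {y g : G} (hy : y ∈ T) (y1 : y ≠ 1) (hg : g ∈ X)
    (e : g * y = y * g) : g ∈ T := h.cent y hy y1 ▸ (⟨hg, mc1.2 e⟩ : g ∈ X ⊓ 𝒞₁ y)

variable [Finite G]

theorem CC.nti {T : Subgroup G} (h : CC X T) (h0 : T ≠ ⊥) : NTI (nz T) X (X ⊓ 𝒩 T) where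
  nonempty := by
    obtain ⟨⟨y, hy⟩, y1⟩ := ne_bot_iff_exists_ne_one.1 h0
    exact ⟨y, hy, fun e => y1 (Subtype.ext e)⟩
  le := inf_le_left
  conj_mem g hg a ha := ⟨(mem_normalizer_iff.1 hg.2 a).1 ha.1, fun e => ha.2 (by simpa using e)⟩
  mem_of g hg a ha e := ⟨hg, mem_normalizer_fintype fun y hy =>
    CC.mem h e.1 e.2 (mul_mem (mul_mem hg (h.le hy)) (inv_mem hg)) (by
      calc _ = g * (y * a) * g⁻¹ := by group
        _ = _ := by rw [CC.comm h y hy a ha.1]; group)⟩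

/-- an element of prime order `r` is conjugate into a subgroup of `r'`-index -/
theorem conj_into {T : Subgroup G} (hT : T ≤ X) {r : ℕ} (hr : r.Prime) (h : ¬ r ∣ T.relIndex X)
    {y : G} (hy : y ∈ X) (o : orderOf y = r) : ∃ g ∈ X, g * y * g⁻¹ ∈ T := by
  haveI := Fact.mk hr
  obtain ⟨S, hS⟩ := CfsgH2.exists_isSylowOf r T
  have h1 : CfsgH2.IsSylowOf r S X := ⟨hS.1.trans hT, hS.2.1, fun e => by
    rw [← relIndex_mul_relIndex S T X hS.1 hT] at e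
    exact (hr.dvd_mul.1 e).elim hS.2.2 h⟩
  obtain ⟨g, hg, e⟩ := h1.exists_cj_le (Q := zpowers y)
    (IsPGroup.of_card (n := 1) (by rw [Nat.card_zpowers, o, pow_one])) (zpowers_le.2 hy)
  exact ⟨g, hg, hS.1 (e (conj_mem_cj g (mem_zpowers y)))⟩

theorem exists_orderOf {T : Subgroup G} {r : ℕ} (hr : r.Prime) (h : r ∣ #T) :
    ∃ y ∈ T, orderOf y = r := by
  haveI := Fact.mk hr
  obtain ⟨y, hy⟩ := exists_prime_orderOf_dvd_card' r h
  exact ⟨y, y.2, by rwa [orderOf_coe]⟩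

theorem orderOf_dvd_of_mem {T : Subgroup G} {y : G} (hy : y ∈ T) : orderOf y ∣ #T :=
  orderOf_mk y hy ▸ orderOf_dvd_natCard (⟨y, hy⟩ : T)

theorem DIrr.omega {ψ : G → ℂ} (h : DIrr X ψ) {g : G} (hg : g ∈ X) {n : ℕ} (n0 : n ≠ 0)
    (e : ψ g / ψ 1 = 1 / n ∨ ψ g / ψ 1 = -(1 / n)) : n ∣ NN X g := by
  have h1 : IsIntegral ℤ (((𝒞₁ g).relIndex X : ℂ) * (ψ g / ψ 1)) := by
    rcases h with h | h
    · simpa only [mul_div_assoc] using CfsgFT.isIntegral_omega h hg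
    · simpa only [mul_div_assoc, Pi.neg_apply, neg_div_neg_eq] using CfsgFT.isIntegral_omega h hg
  rw [NN, inf_relIndex_left]
  refine dvd_of_isIntegral_div n0 ?_
  rcases e with e | e <;> rw [e] at h1
  · simpa [div_eq_mul_inv] using h1
  · simpa [div_eq_mul_inv] using h1.neg

theorem card_mul_NN (X : Subgroup G) (g : G) : #(X ⊓ 𝒞₁ g) * NN X g = #X :=
  CfsgH2.card_mul_relIndex inf_le_left

theorem BB.split (h : BB X K t s) {F : G → ℝ} (hF : ∀ g ∈ X, ∀ x, F (g * x * g⁻¹) = F x) :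
    ∑ x ∈ fs (X : Set G), F x =
      F 1 + NN X t * ∑ x ∈ fs (nz K), F x + ∑ x ∈ fs (RR X K), F x := by
  rw [← h.dt.nti.sum_cls hF, DT.sum_T, add_assoc,
    ← Finset.sum_filter_add_sum_filter_not (fs (nz X)) (· ∈ cls (nz K) X)]
  congr 3 <;> ext g <;> simp only [Finset.mem_filter, mem_fs]
  · refine and_iff_right_of_imp ?_
    rintro ⟨a, ha, y, hy, rfl⟩
    exact ⟨mul_mem (mul_mem hy (h.K_le ha.1)) (inv_mem hy), fun e => ha.2 (by simpa using e)⟩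
  · exact and_assoc

theorem BB.sum_nz {F : G → ℝ} {c : ℝ} (hc : ∀ y ∈ K, y ≠ 1 → F y = c) :
    ∑ x ∈ fs (nz K), F x = (#K - 1) * c := by
  rw [Finset.sum_congr rfl fun y hy => hc y (mem_fs.1 hy).1 (mem_fs.1 hy).2, Finset.sum_const,
    card_fs, ncard_nz, nsmul_eq_mul, Nat.cast_sub Nat.card_pos, Nat.cast_one]

namespace CH

variable {e : ℤ} {q m : ℕ} {χ θ : G → ℂ} (h : CH X K t s e q m χ θ)
include h

theorem card_X : #X = 2 * #K * (q * m) := by rw [h.toBB.card_X, h.N_eq]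

theorem sq_q : q ^ 2 = 4 * #K * m + 1 := by
  have : (q : ℤ) ^ 2 = 4 * #K * m + 1 := by
    rw [h.q_eq, h.m_eq]; rcases h.sign with rfl | rfl <;> ring
  exact_mod_cast this

theorem cop_q : q.Coprime (2 * #K * m) := by
  have : (q ^ 2).Coprime (2 * #K * m) := by
    rw [h.sq_q, show 4 * #K * m + 1 = 1 + (2 * #K * m) * 2 by ring, Nat.coprime_add_mul_left_left]
    exact Nat.coprime_one_left _
  exact this.coprime_dvd_left (dvd_pow_self q two_ne_zero)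

theorem cop_m : m.Coprime (2 * #K) := by
  obtain ⟨j, hj⟩ := h.toBB.two_dvd
  have : IsCoprime (m : ℤ) (2 * #K : ℕ) := by
    rw [h.m_eq, hj]
    rcases h.sign with rfl | rfl
    · exact ⟨1 - 2 * j, j, by push_cast; ring⟩
    · exact ⟨-1 - 2 * j, j, by push_cast; ring⟩
  exact Nat.isCoprime_iff_coprime.1 this

theorem cop_qm : q.Coprime m := h.cop_q.coprime_dvd_right (Dvd.intro_left _ rfl)

theorem cop_qk : q.Coprime (2 * #K) := h.cop_q.coprime_dvd_right (Dvd.intro _ rfl)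

theorem m3 : 3 ≤ m := by have := h.m_eq; have := h.four; rcases h.sign with e | e <;> omega

theorem q7 : 7 ≤ q := by have := h.q_eq; have := h.four; rcases h.sign with e | e <;> omega

theorem CFχ : χ ∈ CF X := vc_mem_CF h.dχ.mem_VC

theorem sums : ∑ x ∈ fs (RR X K), (χ x).re = -(q * #K * (m - 1)) ∧
    ∑ x ∈ fs (RR X K), ‖χ x‖ ^ 2 = q * #K * (m - 1) ∧
    ((fs (RR X K)).card : ℝ) = q * #K * (m - 1) + 4 * #K * m := by
  have e1 := h.toBB.split (F := fun x => (χ x).re) fun g hg x => by rw [h.CFχ.2 g hg]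
  have e2 := h.toBB.split (F := fun x => ‖χ x‖ ^ 2) fun g hg x => by rw [h.CFχ.2 g hg]
  have e3 := h.toBB.split (F := fun _ => 1) fun g hg x => rfl
  have a1 := h.oχ
  have a2 := h.dχ.nrm_eq
  rw [ip_one_right, mul_eq_zero, or_iff_right (inv_ne_zero (card_ne_zero' X))] at a1
  rw [nrm_eq_sum, inv_mul_eq_iff_eq_mul₀ (card_pos_real X).ne', mul_one] at a2
  rw [← Complex.re_sum, a1, BB.sum_nz (c := 1) fun y hy y1 => by rw [h.onK y hy y1, Complex.one_re],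
    h.deg, h.N_eq] at e1
  rw [a2, BB.sum_nz (c := 1) fun y hy y1 => by rw [h.onK y hy y1]; simp, h.deg, h.N_eq,
    h.card_X] at e2
  rw [sum_fs_const, BB.sum_nz (c := 1) fun _ _ _ => rfl, h.N_eq, h.card_X, Finset.sum_const] at e3
  have hq : (q : ℝ) = 2 * #K + e := by exact_mod_cast congrArg (Int.cast : ℤ → ℝ) h.q_eq
  have hm : (m : ℝ) = #K + e := by exact_mod_cast congrArg (Int.cast : ℤ → ℝ) h.m_eq
  rcases h.sign with rfl | rfl <;> simp at e1 e2 e3 <;> rw [hq, hm] at * <;>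
    push_cast at * <;> exact ⟨by linarith, by linarith, by linarith⟩

theorem val01 {g : G} (hg : g ∈ RR X K) : χ g = 0 ∨ χ g = -1 := by
  have e : ∑ x ∈ fs (RR X K), (‖χ x‖ ^ 2 + (χ x).re) = 0 := by
    rw [Finset.sum_add_distrib, h.sums.1, h.sums.2.1, add_neg_cancel]
  have e1 : ∀ x, ∃ n : ℤ, χ x = n ∧ ‖χ x‖ ^ 2 + (χ x).re = (n * (n + 1) : ℤ) := fun x => by
    obtain ⟨n, hn⟩ := h.int x
    exact ⟨n, hn, by rw [hn, Complex.norm_intCast, sq_abs, Complex.intCast_re]; push_cast; ring⟩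
  rw [Finset.sum_eq_zero_iff_of_nonneg fun x _ => by
    obtain ⟨n, -, hn⟩ := e1 x
    rw [hn]
    exact_mod_cast (show 0 ≤ n * (n + 1) by nlinarith [sq_nonneg (2 * n + 1)])] at e
  obtain ⟨n, hn, hn'⟩ := e1 g
  rw [e g (mem_fs.2 hg)] at hn'
  have : n * (n + 1) = 0 := by exact_mod_cast hn'.symm
  rcases mul_eq_zero.1 this with e | e
  · left; rw [hn, e]; simp
  · right; rw [hn, show n = -1 by omega]; simp

theorem split2 {M : Type*} [AddCommMonoid M] (F : G → M) : ∑ x ∈ fs (RR X K), F x =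
    ∑ x ∈ fs (RC X K χ 0), F x + ∑ x ∈ fs (RC X K χ (-1)), F x := by
  rw [← Finset.sum_filter_add_sum_filter_not (fs (RR X K)) (χ · = 0)]
  congr 2 <;> ext g <;> simp only [Finset.mem_filter, mem_fs]
  · rfl
  · exact and_congr_right fun hg => ⟨(h.val01 hg).resolve_left, fun e => by rw [e]; norm_num⟩

theorem card_R1 : (RC X K χ (-1)).ncard = q * #K * (m - 1) := by
  have e := h.sums.1
  rw [h.split2, Finset.sum_eq_zero fun x hx => by rw [(mem_fs.1 hx).2, Complex.zero_re], zero_add,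
    Finset.sum_congr rfl (g := fun _ => (-1 : ℝ)) fun x hx => by rw [(mem_fs.1 hx).2]; simp,
    Finset.sum_const, card_fs, nsmul_eq_mul, mul_neg_one, neg_inj] at e
  have := h.m3
  rw [← Nat.cast_pred (by omega)] at e
  exact_mod_cast e

theorem card_R0 : (RC X K χ 0).ncard = 4 * #K * m := by
  have e := h.sums.2.2
  have := h.m3
  rw [Finset.card_eq_sum_ones, h.split2, ← Finset.card_eq_sum_ones, ← Finset.card_eq_sum_ones,
    card_fs, card_fs, h.card_R1, Nat.cast_add, Nat.cast_mul, Nat.cast_sub (by omega)] at e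
  push_cast at e
  exact_mod_cast (show ((RC X K χ 0).ncard : ℝ) = 4 * #K * m by linarith)

theorem RC_conj {c : ℂ} {g x : G} (hg : g ∈ RC X K χ c) (hx : x ∈ X) : x * g * x⁻¹ ∈ RC X K χ c :=
  ⟨RR.conj hg.1 hx, by rw [h.CFχ.2 x hx, hg.2]⟩

theorem relIndex_K : K.relIndex X = 2 * (q * m) := by
  have := CfsgH2.card_mul_relIndex h.K_le
  rw [h.card_X] at this
  exact Nat.eq_of_mul_eq_mul_left Nat.card_pos (by rw [this]; ring)

theorem inv_cls {v : G} (hv : v ∈ X) (v1 : v ≠ 1) (vv : v * v = 1) : v ∈ cls (nz K) X := by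
  obtain ⟨g, hg, e⟩ := h.conj v hv v1 vv
  exact ⟨t, ⟨h.t_mem, h.t_ne⟩, g, hg, e.symm⟩

theorem cop_c {g : G} (hg : g ∈ RR X K) : (#(X ⊓ 𝒞₁ g)).Coprime (2 * #K) := by
  refine Nat.coprime_of_dvd fun r hr h1 h2 => ?_
  obtain ⟨y, hy, o⟩ := exists_orderOf hr h1
  have y1 : y ≠ 1 := fun e => hr.one_lt.ne' (by rw [← o, e, orderOf_one])
  obtain ⟨x, hx, e⟩ : ∃ x ∈ X, x * y * x⁻¹ ∈ K := by
    by_cases r2 : r = 2
    · obtain ⟨a, ha, x, hx, e⟩ := h.inv_cls hy.1 y1 (by rw [← sq, ← r2, ← o, pow_orderOf_eq_one])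
      exact ⟨x⁻¹, inv_mem hx, by rw [e]; simpa [mul_assoc] using ha.1⟩
    · refine conj_into h.K_le hr (fun e => ?_) hy.1 o
      rw [h.relIndex_K] at e
      rcases hr.dvd_mul.1 e with e | e
      · exact r2 ((Nat.prime_dvd_prime_iff_eq hr Nat.prime_two).1 e)
      · exact hr.one_lt.ne' (Nat.eq_one_of_dvd_coprimes (h.cop_qk.mul_left h.cop_m) e h2)
  have h3 := RR.conj hg hx
  have h4 := h.toBB.dt.ti _ e (fun e => y1 (by simpa using e)) _ h3.1 (by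
    rw [show x * g * x⁻¹ * (x * y * x⁻¹) * (x * g * x⁻¹)⁻¹ = x * (g * y) * g⁻¹ * x⁻¹ by group,
      ← mc1.1 hy.2]
    simpa [mul_assoc] using e)
  by_cases e' : x * g * x⁻¹ ∈ K
  · exact h3.2.2 ⟨_, ⟨e', h3.2.1⟩, 1, one_mem _, by simp⟩
  · exact h3.2.2 (h.inv_cls h3.1 h3.2.1 (h.toBB.dt.sq_of_not h4 e'))

theorem mem_RR {y : G} (hy : y ∈ X) (y1 : y ≠ 1) (o : (orderOf y).Coprime (2 * #K)) :
    y ∈ RR X K := by
  refine ⟨hy, y1, ?_⟩
  rintro ⟨a, ha, g, -, rfl⟩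
  rw [orderOf_conj'] at o
  exact ha.2 (orderOf_eq_one_iff.1 (Nat.eq_one_of_dvd_coprimes o dvd_rfl
    ((orderOf_dvd_of_mem ha.1).mul_left 2)))

theorem c_R1 {g : G} (hg : g ∈ RC X K χ (-1)) : #(X ⊓ 𝒞₁ g) ∣ m := by
  have q0 : q ≠ 0 := by have := h.q7; omega
  obtain ⟨d, hd⟩ := DIrr.omega h.dχ hg.1.1 q0 (by
    rw [hg.2, h.deg]
    rcases h.sign with rfl | rfl
    · right; simp [neg_div]
    · left; simp)
  have e := card_mul_NN X g
  rw [hd, h.card_X] at e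
  refine (h.cop_c hg.1).dvd_of_dvd_mul_left ⟨d, ?_⟩
  exact Nat.eq_of_mul_eq_mul_left (Nat.pos_of_ne_zero q0) (by linarith)

theorem c_R0 {g : G} (hg : g ∈ RC X K χ 0) : #(X ⊓ 𝒞₁ g) = q := by
  have m0 : 2 * m ≠ 0 := by have := h.m3; omega
  have e0 := h.off g hg.1.1 hg.1.2.2
  rw [hg.2, add_zero, add_comm, add_eq_zero_iff_eq_neg] at e0
  obtain ⟨d, hd⟩ := DIrr.omega h.dθ hg.1.1 m0 (by
    rw [e0, h.degθ]
    rcases h.sign with rfl | rfl
    · left; simp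
    · right; simp [neg_div])
  have e := card_mul_NN X g
  have e1 : NN X g ≤ 4 * #K * m := by
    rw [← h.card_R0, NN, ← ncard_cl]
    refine Set.ncard_le_ncard fun v hv => ?_
    obtain ⟨x, hx, rfl⟩ := mem_cl.1 hv
    exact h.RC_conj hg hx
  rw [hd, h.card_X] at e
  obtain ⟨j, hj⟩ : #(X ⊓ 𝒞₁ g) ∣ q := by
    refine ((h.cop_c hg.1).coprime_dvd_right (Dvd.intro_left 2 rfl)).dvd_of_dvd_mul_left ⟨d, ?_⟩
    exact Nat.eq_of_mul_eq_mul_left (Nat.pos_of_ne_zero m0) (by linarith)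
  have c0 : 0 < #(X ⊓ 𝒞₁ g) := Nat.card_pos
  have k0 : 0 < #K := Nat.card_pos
  have e2 : d = #K * j := Nat.eq_of_mul_eq_mul_left (Nat.mul_pos c0 (Nat.pos_of_ne_zero m0)) (by
    rw [hj] at e; linarith)
  have e3 : j ≤ 2 := by
    rw [hd, e2] at e1
    exact Nat.le_of_mul_le_mul_left (by linarith) (Nat.mul_pos k0 (Nat.pos_of_ne_zero m0))
  have e4 : j = 1 := by
    have := h.q7
    have h2 : ¬ 2 ∣ q := fun e => by
      simpa using Nat.eq_one_of_dvd_coprimes h.cop_qk e (Dvd.intro _ rfl)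
    interval_cases j
    · omega
    · rfl
    · exact absurd ⟨_, hj.trans (mul_comm _ _)⟩ h2
  rw [hj, e4, mul_one]

theorem mem_R0 {y : G} (hy : y ∈ X) (y1 : y ≠ 1) (o : orderOf y ∣ q) : y ∈ RC X K χ 0 := by
  have h1 := h.mem_RR hy y1 (h.cop_qk.coprime_dvd_left o)
  refine ⟨h1, (h.val01 h1).resolve_right fun e => y1 (orderOf_eq_one_iff.1 ?_)⟩
  exact Nat.eq_one_of_dvd_coprimes h.cop_qm o
    ((orderOf_dvd_of_mem (T := X ⊓ 𝒞₁ y) ⟨hy, mc1.2 rfl⟩).trans (h.c_R1 ⟨h1, e⟩))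

theorem mem_R1 {y : G} (hy : y ∈ X) (y1 : y ≠ 1) (o : orderOf y ∣ m) : y ∈ RC X K χ (-1) := by
  have h1 := h.mem_RR hy y1 (h.cop_m.coprime_dvd_left o)
  refine ⟨h1, (h.val01 h1).resolve_left fun e => y1 (orderOf_eq_one_iff.1 ?_)⟩
  exact Nat.eq_one_of_dvd_coprimes h.cop_qm
    (h.c_R0 ⟨h1, e⟩ ▸ orderOf_dvd_of_mem (T := X ⊓ 𝒞₁ y) ⟨hy, mc1.2 rfl⟩) o

end CH

end CfsgAG.BW
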