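/-
Brauer--Suzuki--Wall, part 5: real elements.
-/
import Cfsg.Agent.AG.BSW4

set_option autoImplicit false

namespace CfsgAG.BW

open Subgroup hiding one
open CfsgFT
open scoped ComplexConjugate Classical

variable {G : Type*} [Group G] [Finite G] {X K : Subgroup G} {t s : G}

theorem CC.mem_cls {T : Subgroup G} (h : CC X T) (hc : (#T).Coprime (T.relIndex X)) {y : G} :
    y ∈ cls (nz T) X ↔ y ∈ X ∧ y ≠ 1 ∧ orderOf y ∣ #T := by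
  constructor
  · rintro ⟨a, ha, g, hg, rfl⟩
    exact ⟨mul_mem (mul_mem hg (h.le ha.1)) (inv_mem hg), fun e => ha.2 (by simpa using e),
      orderOf_conj' g a ▸ orderOf_dvd_of_mem ha.1⟩
  rintro ⟨hy, y1, o⟩
  obtain ⟨r, hr, d⟩ := Nat.exists_prime_and_dvd (mt orderOf_eq_one_iff.1 y1)
  obtain ⟨x, hx, ox⟩ := exists_orderOf (T := zpowers y) hr (by rwa [Nat.card_zpowers])
  obtain ⟨g, hg, e⟩ := conj_into h.le hr
    (fun e => hr.one_lt.ne' (Nat.eq_one_of_dvd_coprimes hc (d.trans o) e)) (zpowers_le.2 hy hx) ox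
  have x1 : x ≠ 1 := fun e => hr.one_lt.ne' (by rw [← ox, e, orderOf_one])
  refine ⟨g * y * g⁻¹, ⟨CC.mem h e (fun e => x1 (by simpa using e))
    (mul_mem (mul_mem hg hy) (inv_mem hg)) ?_, fun e => y1 (by simpa using e)⟩, g⁻¹, inv_mem hg,
    by group⟩
  obtain ⟨n, rfl⟩ := hx
  group

namespace CH

variable {e : ℤ} {q m : ℕ} {χ θ : G → ℂ} (h : CH X K t s e q m χ θ)
include h

theorem R0_iff {y : G} : y ∈ RC X K χ 0 ↔ y ∈ X ∧ y ≠ 1 ∧ orderOf y ∣ q :=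
  ⟨fun hy => ⟨hy.1.1, hy.1.2.1,
    h.c_R0 hy ▸ orderOf_dvd_of_mem (T := X ⊓ 𝒞₁ y) ⟨hy.1.1, mc1.2 rfl⟩⟩,
    fun hy => h.mem_R0 hy.1 hy.2.1 hy.2.2⟩

theorem R1_iff {y : G} : y ∈ RC X K χ (-1) ↔ y ∈ X ∧ y ≠ 1 ∧ orderOf y ∣ m :=
  ⟨fun hy => ⟨hy.1.1, hy.1.2.1,
    (orderOf_dvd_of_mem (T := X ⊓ 𝒞₁ y) ⟨hy.1.1, mc1.2 rfl⟩).trans (h.c_R1 hy)⟩,
    fun hy => h.mem_R1 hy.1 hy.2.1 hy.2.2⟩

theorem cls_Q {Q : Subgroup G} (hQ : CC X Q) (c : #Q = q) : cls (nz Q) X = RC X K χ 0 := by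
  have e := CfsgH2.card_mul_relIndex hQ.le
  have := h.q7
  rw [h.card_X, c] at e
  have e' : Q.relIndex X = 2 * #K * m := Nat.eq_of_mul_eq_mul_left (by omega : 0 < q) (by linarith)
  ext y
  rw [CC.mem_cls hQ (by rw [c, e']; exact h.cop_q), h.R0_iff, c]

theorem cls_A {A : Subgroup G} (hA : CC X A) (c : #A = m) : cls (nz A) X = RC X K χ (-1) := by
  have e := CfsgH2.card_mul_relIndex hA.le
  have := h.m3
  rw [h.card_X, c] at e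
  have e' : A.relIndex X = 2 * #K * q := Nat.eq_of_mul_eq_mul_left (by omega : 0 < m) (by linarith)
  ext y
  rw [CC.mem_cls hA (by rw [c, e']; exact h.cop_m.mul_right h.cop_qm.symm), h.R1_iff, c]

theorem card_NQ {Q : Subgroup G} (hQ : CC X Q) (c : #Q = q) :
    (e = 1 → #(X ⊓ 𝒩 Q) = q * #K) ∧ (e = -1 → #(X ⊓ 𝒩 Q) = q * m) := by
  have := h.q7
  have e1 := (CC.nti hQ fun e => by rw [e, card_bot] at c; omega).ncard_cls
  have e2 := CfsgH2.card_mul_relIndex (inf_le_left : X ⊓ 𝒩 Q ≤ X)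
  have e3 := h.sq_q
  rw [h.cls_Q hQ c, h.card_R0, ncard_nz, c] at e1
  obtain ⟨j, rfl⟩ : ∃ j, q = j + 1 := ⟨q - 1, by omega⟩
  have e4 : (X ⊓ 𝒩 Q).relIndex X = j + 2 := Nat.eq_of_mul_eq_mul_left (by omega : 0 < j) (by
    rw [Nat.add_sub_cancel] at e1; linarith)
  have e5 := h.q_eq
  have e6 := h.m_eq
  rw [e4, h.card_X] at e2
  constructor <;> rintro rfl <;> refine Nat.eq_of_mul_eq_mul_right (by omega : 0 < j + 2) ?_
  · rw [e2, show j + 2 = 2 * m by omega]; ring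
  · rw [e2, show j + 2 = 2 * #K by omega]; ring

theorem card_NA {A : Subgroup G} (hA : CC X A) (c : #A = m) : #(X ⊓ 𝒩 A) = 2 * m := by
  have := h.m3
  have := h.q7
  have e1 := (CC.nti hA fun e => by rw [e, card_bot] at c; omega).ncard_cls
  have e2 := CfsgH2.card_mul_relIndex (inf_le_left : X ⊓ 𝒩 A ≤ X)
  rw [h.cls_A hA c, h.card_R1, ncard_nz, c, mul_comm] at e1
  rw [← Nat.eq_of_mul_eq_mul_left (by omega) e1, h.card_X] at e2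
  exact Nat.eq_of_mul_eq_mul_right (Nat.mul_pos (by omega : 0 < q) Nat.card_pos) (by rw [e2]; ring)

theorem mem_RR_c {g y : G} (hg : g ∈ RR X K) (hy : y ∈ X ⊓ 𝒞₁ g) (y1 : y ≠ 1) : y ∈ RR X K :=
  h.mem_RR hy.1 y1 ((h.cop_c hg).coprime_dvd_left (orderOf_dvd_of_mem hy))

theorem ne_inv {g : G} (hg : g ∈ RR X K) : g ≠ g⁻¹ := fun e =>
  hg.2.2 (h.inv_cls hg.1 hg.2.1 (mul_eq_one_iff_eq_inv.2 e))

variable {g a : G} (hg : g ∈ RR X K) (ha : a ∈ X) (hi : a * g * a⁻¹ = g⁻¹)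
include hg ha hi

theorem not_c : a ∉ X ⊓ 𝒞₁ g := fun e => h.ne_inv hg (by rw [← hi, mc1.1 e.2]; simp)

theorem inv_sq : a * a = 1 := by
  by_contra e
  have h1 : a * a ∈ X ⊓ 𝒞₁ g := ⟨mul_mem ha ha, mc1.2 (by
    calc a * a * g = a * (a * g * a⁻¹) * a := by group
      _ = (a * g * a⁻¹)⁻¹ * (a * a) := by conv_lhs => rw [hi]
                                          group
      _ = _ := by rw [hi, inv_inv])⟩
  have h2 := (h.cop_c (h.mem_RR_c hg h1 e)).coprime_dvd_left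
    (orderOf_dvd_of_mem (T := X ⊓ 𝒞₁ (a * a)) ⟨ha, mc1.2 (mul_assoc _ _ _).symm⟩)
  exact h.not_c hg ha hi (CfsgH1.mem_of_pow_mem_of_coprime
    (h2.coprime_dvd_right (Dvd.intro _ rfl)) (by rwa [sq]))

theorem inv_c {y : G} (hy : y ∈ X ⊓ 𝒞₁ g) : a * y * a⁻¹ = y⁻¹ := by
  have h1 := h.inv_sq hg (mul_mem ha hy.1) (by
    rw [← hi, mul_assoc a y, mc1.1 hy.2]; group)
  rw [inv_eq_of_mul_eq_one_right (h.inv_sq hg ha hi), eq_inv_iff_mul_eq_one, ← h1]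
  group

theorem comm_c {y z : G} (hy : y ∈ X ⊓ 𝒞₁ g) (hz : z ∈ X ⊓ 𝒞₁ g) : y * z = z * y := by
  rw [← inv_inj, ← h.inv_c hg ha hi (mul_mem hy hz), mul_inv_rev, ← h.inv_c hg ha hi hy,
    ← h.inv_c hg ha hi hz]
  group

theorem cc_c : CC X (X ⊓ 𝒞₁ g) := ⟨inf_le_left, fun y hy y1 => le_antisymm
  (fun z hz => ⟨hz.1, mc1.2 (h.comm_c (h.mem_RR_c hg hy y1) ha (h.inv_c hg ha hi hy) hz
    ⟨hg.1, mc1.2 (mc1.1 hy.2).symm⟩)⟩) fun z hz => ⟨hz.1, mc1.2 (h.comm_c hg ha hi hz hy)⟩⟩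

theorem norm_c : a ∈ X ⊓ 𝒩 (X ⊓ 𝒞₁ g) :=
  ⟨ha, mem_normalizer_fintype fun y hy => by rw [h.inv_c hg ha hi hy]; exact inv_mem hy⟩

theorem pc_c : pc X t g = #(X ⊓ 𝒞₁ g) := by
  rw [pc_eq h.toBB.tX h.t_ne h.tt h.conj hg.1]
  have aa := h.inv_sq hg ha hi
  have : {v | v ∈ X ∧ v ≠ 1 ∧ v * v = 1 ∧ v * g * v⁻¹ = g⁻¹ ∧ v ≠ g} =
      (a * ·) '' (X ⊓ 𝒞₁ g : Subgroup G) := by
    ext v
    constructor
    · rintro ⟨h1, -, -, h4, -⟩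
      refine ⟨a⁻¹ * v, ⟨X.mul_mem (X.inv_mem ha) h1, mc1.2 ?_⟩, by simp⟩
      calc _ = a⁻¹ * (v * g * v⁻¹) * v := by group
        _ = _ := by rw [h4, ← hi]; group
    · rintro ⟨y, hy, rfl⟩
      have h1 : a * y * g * (a * y)⁻¹ = g⁻¹ := by rw [← hi, mul_assoc a y, mc1.1 hy.2]; group
      have h2 := h.not_c hg (mul_mem ha hy.1) h1
      exact ⟨mul_mem ha hy.1, fun e : a * y = 1 => h2 (e ▸ one_mem _),
        h.inv_sq hg (mul_mem ha hy.1) h1, h1, fun e : a * y = g => h2 (by rw [e]; exact ⟨hg.1, mc1.2 rfl⟩)⟩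
  rw [this, Set.ncard_image_of_injective _ (mul_right_injective a)]
  rfl

omit hg ha hi in
theorem pc_ne (hg : g ∈ X) (h0 : pc X t g ≠ 0) : ∃ a ∈ X, a * g * a⁻¹ = g⁻¹ := by
  rw [pc_eq h.toBB.tX h.t_ne h.tt h.conj hg] at h0
  obtain ⟨v, hv⟩ := Set.nonempty_of_ncard_ne_zero h0
  exact ⟨v, hv.1, hv.2.2.2.1⟩

end CH

namespace CH

variable {e : ℤ} {q m : ℕ} {χ θ : G → ℂ} (h : CH X K t s e q m χ θ)
include h

theorem pc_le {g : G} (hg : g ∈ RR X K) : pc X t g ≤ #(X ⊓ 𝒞₁ g) := by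
  by_cases h0 : pc X t g = 0
  · omega
  · obtain ⟨a, ha, hi⟩ := h.pc_ne hg.1 h0
    exact (h.pc_c hg ha hi).le

theorem sum_R : ((∑ g ∈ fs (RC X K χ 0), pc X t g + ∑ g ∈ fs (RC X K χ (-1)), pc X t g : ℕ) : ℤ) =
    #K * (q * m) * (#K + 3 * e + 1) := by
  have e1 := h.toBB.split (F := fun g => pc X t g) fun g hg x => by rw [pc_conj t x hg]
  have e2 : pc X t 1 = NN X t := by
    rw [NN, ← ncard_cl, pc]
    congr 1
    ext v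
    refine and_iff_left_of_imp fun hv => ?_
    rwa [mul_one, inv_eq_of_mul_eq_one_right
      ((mem_cl_iff h.toBB.tX h.t_ne h.tt h.conj).1 hv).2.2]
  rw [← Nat.cast_sum, sum_pc h.toBB.tX, ncard_cl, e2,
    BB.sum_nz (c := #K) fun y hy y1 => by rw [h.toBB.pc_K hy y1], ← Nat.cast_sum, h.split2] at e1
  change ((NN X t ^ 2 : ℕ) : ℝ) = _ at e1
  rw [h.N_eq] at e1
  have hq : (q : ℝ) = 2 * #K + e := by exact_mod_cast congrArg (Int.cast : ℤ → ℝ) h.q_eq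
  have hm : (m : ℝ) = #K + e := by exact_mod_cast congrArg (Int.cast : ℤ → ℝ) h.m_eq
  have ee : (e : ℝ) * e = 1 := by rcases h.sign with rfl | rfl <;> norm_num
  have e3 : (q * m : ℝ) = 2 * #K ^ 2 + 3 * #K * e + 1 := by rw [hq, hm]; linear_combination ee
  refine Int.cast_injective (α := ℝ) ?_
  push_cast at e1 ⊢
  linear_combination (q * m : ℝ) * e3 - e1

theorem not_real (he : e = -1) {g a : G} (hg : g ∈ RC X K χ 0) (ha : a ∈ X) :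
    a * g * a⁻¹ ≠ g⁻¹ := fun hi => by
  have e1 := (h.card_NQ (h.cc_c hg.1 ha hi) (h.c_R0 hg)).2 he
  have e2 := orderOf_dvd_of_mem (h.norm_c hg.1 ha hi)
  haveI := Fact.mk Nat.prime_two
  rw [e1, orderOf_eq_prime (by rw [sq, h.inv_sq hg.1 ha hi])
    fun e : a = 1 => h.not_c hg.1 ha hi (e ▸ one_mem _)] at e2
  simpa using Nat.eq_one_of_dvd_coprimes (h.cop_qk.mul_left h.cop_m) e2 (Dvd.intro _ rfl)

theorem pc_all : (e = 1 → ∀ g ∈ RC X K χ 0, pc X t g = q) ∧ ∀ g ∈ RC X K χ (-1), pc X t g = m := by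
  have l0 : ∀ g ∈ fs (RC X K χ 0), pc X t g ≤ q := fun g hg =>
    h.c_R0 (mem_fs.1 hg) ▸ h.pc_le (mem_fs.1 hg).1
  have l1 : ∀ g ∈ fs (RC X K χ (-1)), pc X t g ≤ m := fun g hg =>
    (h.pc_le (mem_fs.1 hg).1).trans (Nat.le_of_dvd (by have := h.m3; omega) (h.c_R1 (mem_fs.1 hg)))
  have a0 := Finset.sum_le_sum l0
  have a1 := Finset.sum_le_sum l1
  have b0 := Finset.sum_eq_sum_iff_of_le l0
  have b1 := Finset.sum_eq_sum_iff_of_le l1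
  simp only [mem_fs] at b0 b1
  rw [Finset.sum_const, card_fs, smul_eq_mul] at a0 a1 b0 b1
  rw [h.card_R0] at a0 b0
  rw [h.card_R1] at a1 b1
  have e1 := h.sum_R
  have e2 := h.m_eq
  obtain ⟨j, rfl⟩ : ∃ j, m = j + 1 := ⟨m - 1, by have := h.m3; omega⟩
  rw [Nat.add_sub_cancel] at a1 b1
  rcases h.sign with rfl | rfl
  · obtain rfl : j = #K := by omega
    have e3 : ∑ g ∈ fs (RC X K χ 0), pc X t g + ∑ g ∈ fs (RC X K χ (-1)), pc X t g =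
        4 * #K * (#K + 1) * q + q * #K * #K * (#K + 1) := by
      zify at e1 ⊢; linarith
    exact ⟨fun _ => b0.1 (by omega), b1.1 (by omega)⟩
  · refine ⟨by norm_num, b1.1 ?_⟩
    rw [Finset.sum_eq_zero fun g hg => by
      by_contra h0
      obtain ⟨a, ha, hi⟩ := h.pc_ne (mem_fs.1 hg).1.1 h0
      exact h.not_real rfl (mem_fs.1 hg) ha hi, show (#K : ℤ) + 3 * -1 + 1 = j by omega] at e1
    zify at e1 ⊢; linarith

theorem real_R0 (he : e = 1) {g : G} (hg : g ∈ RC X K χ 0) : ∃ a ∈ X, a * g * a⁻¹ = g⁻¹ :=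
  h.pc_ne hg.1.1 (by rw [h.pc_all.1 he g hg]; have := h.q7; omega)

theorem real_R1 {g : G} (hg : g ∈ RC X K χ (-1)) : CC X (X ⊓ 𝒞₁ g) ∧ #(X ⊓ 𝒞₁ g) = m ∧
    ∃ w, DT X (X ⊓ 𝒞₁ g) (X ⊓ 𝒩 (X ⊓ 𝒞₁ g)) w := by
  have e1 := h.pc_all.2 g hg
  obtain ⟨a, ha, hi⟩ := h.pc_ne hg.1.1 (by rw [e1]; have := h.m3; omega)
  have hc := h.cc_c hg.1 ha hi
  have h0 : X ⊓ 𝒞₁ g ≠ ⊥ := fun e => hg.1.2.1 (mem_bot.1 (e ▸ ⟨hg.1.1, mc1.2 rfl⟩ : g ∈ ⊥))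
  rw [h.pc_c hg.1 ha hi] at e1
  have le : X ⊓ 𝒞₁ g ≤ X ⊓ 𝒩 (X ⊓ 𝒞₁ g) := le_inf inf_le_left le_normalizer
  refine ⟨hc, e1, a, le, inf_le_left, h.norm_c hg.1 ha hi, h.not_c hg.1 ha hi,
    h.inv_sq hg.1 ha hi, h0, CC.comm hc, fun y hy => h.inv_c hg.1 ha hi hy, fun x hx => ?_,
    fun y hy y1 x hx e => (CC.nti hc h0).mem_of x hx y ⟨hy, y1⟩ ⟨e, fun e => y1 (by simpa using e)⟩⟩
  have e2 := CfsgH2.card_mul_relIndex le
  rw [h.card_NA hc e1, e1, mul_comm] at e2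
  have e3 := mul_mem_iff_of_index_two (Nat.eq_of_mul_eq_mul_right (by have := h.m3; omega) e2)
    (a := ⟨x, hx⟩) (b := ⟨a, h.norm_c hg.1 ha hi⟩)
  simp only [mem_subgroupOf, coe_mul] at e3
  rw [e3]
  have := h.not_c hg.1 ha hi
  tauto

end CH

end CfsgAG.BW
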