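/-
Brauer--Suzuki--Wall, part 6: the local structure.
-/
import Cfsg.Agent.AG.BSW5

set_option autoImplicit false

namespace CfsgAG.BW

open Subgroup hiding one
open CfsgFT
open scoped ComplexConjugate Classical

variable {G : Type*} [Group G] {X K : Subgroup G} {t s : G}

theorem DT.cj {T H : Subgroup G} (h : DT X T H s) {g : G} (hg : g ∈ X) :
    DT X (cj g T) (cj g H) (g * s * g⁻¹) where
  TH := cj_mono g h.TH
  HX := cj_le_iff.2 fun x hx => mul_mem (mul_mem hg (h.HX hx)) (inv_mem hg)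
  sH := conj_mem_cj g h.sH
  sT := fun e => h.sT (conj_mem_cj_iff.1 e)
  ss := by rw [conj_mul, h.ss]; simp
  ne := mt cj_eq_bot_iff.1 h.ne
  comm := by
    rintro _ ⟨a, ha, rfl⟩ _ ⟨b, hb, rfl⟩
    rw [← map_mul, ← map_mul, h.comm a ha b hb]
  inv := by
    rintro _ ⟨a, ha, rfl⟩
    rw [← map_inv, ← h.inv a ha]
    simp [mul_assoc]
  cov := by
    rintro _ ⟨a, ha, rfl⟩
    exact (h.cov a ha).imp (conj_mem_cj g) fun e => ⟨_, e, by simp [mul_assoc]⟩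
  ti := by
    rintro _ ⟨a, ha, rfl⟩ a1 x hx e
    refine mem_cj.2 (h.ti a ha (fun e => a1 (by simp [e])) _
      (mul_mem (mul_mem (inv_mem hg) hx) hg) ?_)
    simpa [mul_assoc] using mem_cj.1 e

theorem CC.cj {T : Subgroup G} (h : CC X T) {g : G} (hg : g ∈ X) : CC X (cj g T) where
  le := cj_le_iff.2 fun x hx => mul_mem (mul_mem hg (h.le hx)) (inv_mem hg)
  cent := by
    rintro _ ⟨a, ha, rfl⟩ a1
    rw [← h.cent a ha fun e => a1 (by simp [e]), cj_inf, cj_eq_of_mem hg, cj_centralizer_singleton]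
    rfl

theorem DT.mem_of_odd {T H : Subgroup G} (h : DT X T H s) {g : G} (hg : g ∈ H)
    (o : ¬ 2 ∣ orderOf g) : g ∈ T := by
  by_contra e
  haveI := Fact.mk Nat.prime_two
  exact o (orderOf_eq_prime (by rw [sq, h.sq_of_not hg e]) fun e' : g = 1 => e (e' ▸ one_mem T)).symm.dvd

theorem orderOf_inv' {v : G} (v1 : v ≠ 1) (vv : v * v = 1) : orderOf v = 2 :=
  haveI := Fact.mk Nat.prime_two
  orderOf_eq_prime (by rwa [sq]) v1

variable [Finite G]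

theorem closed {p : ℕ} (hp : p.Prime) {H : Subgroup G}
    (h : ∀ r : ℕ, r.Prime → r ≠ p → PNil r H) :
    ∃ W ≤ H, IsPGroup p W ∧ ∀ x ∈ H, (∃ n, x ^ p ^ n = 1) → x ∈ W := by
  refine ⟨closure {x | x ∈ H ∧ ∃ n, x ^ p ^ n = 1}, (closure_le _).2 fun x hx => hx.1,
    IsPGroup.of_card (Nat.eq_prime_pow_of_unique_prime_dvd Nat.card_pos.ne' fun {r} hr d => ?_),
    fun x hx e => subset_closure ⟨hx, e⟩⟩
  by_contra e
  refine h r hr e (d.trans (card_dvd_of_le ((closure_le _).2 ?_)))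
  rintro x ⟨hx, n, hn⟩
  exact CfsgH1.mem_resIn hx ((((Nat.coprime_primes hp hr).2 (Ne.symm e)).pow_left n).coprime_dvd_left
    (orderOf_dvd_of_pow_eq_one hn))

theorem CC.sup_eq {Q B : Subgroup G} (h : CC X Q) (hB : B ≤ X ⊓ 𝒩 Q) (hc : (#Q).Coprime #B)
    (e : #(X ⊓ 𝒩 Q) = #Q * #B) : X ⊓ 𝒩 Q = Q ⊔ B := by
  refine (eq_of_le_of_card_ge (sup_le (le_inf h.le le_normalizer) hB) ?_).symm
  rw [e, sup_comm, CfsgH2.card_sup_of_disjoint (hB.trans inf_le_right)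
    (disjoint_of_coprime_natCard hc.symm).eq_bot, mul_comm]

theorem CC.elem {Q : Subgroup G} (h : CC X Q) {p : ℕ} (hp : p.Prime) (d : p ∣ #Q)
    (e : #Q ≤ 2 * Q.relIndex (X ⊓ 𝒩 Q) + 1) : IsElementaryAbelian p Q := by
  let O : Subgroup G := ⟨⟨⟨{y | y ∈ Q ∧ y ^ p = 1}, fun {a b} ha hb => ⟨mul_mem ha.1 hb.1, by
    rw [Commute.mul_pow (CC.comm h a ha.1 b hb.1), ha.2, hb.2, mul_one]⟩⟩, one_mem Q, one_pow p⟩,
    fun {a} ha => ⟨inv_mem ha.1, by rw [inv_pow, ha.2, inv_one]⟩⟩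
  have le : O ≤ Q := fun y hy => hy.1
  obtain ⟨y, hy, o⟩ := exists_orderOf hp d
  have y1 : y ≠ 1 := fun e => hp.one_lt.ne' (by rw [← o, e, orderOf_one])
  have e1 : Q.relIndex (X ⊓ 𝒩 Q) ≤ #O - 1 := by
    have : X ⊓ 𝒩 Q ⊓ 𝒞₁ y = Q := by
      rw [inf_right_comm, h.cent y hy y1]; exact inf_eq_left.2 le_normalizer
    rw [← ncard_nz]
    nth_rw 1 [← this]
    rw [← ncard_cl]
    refine Set.ncard_le_ncard fun v hv => ?_
    obtain ⟨x, hx, rfl⟩ := mem_cl.1 hv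
    exact ⟨⟨(mem_normalizer_iff.1 hx.2 y).1 hy, by
      rw [conj_pow, ← o, pow_orderOf_eq_one]; simp⟩, fun e => y1 (by simpa using e)⟩
  obtain ⟨j, hj⟩ := card_dvd_of_le le
  have o0 : 0 < #O := Nat.card_pos
  have q0 : 0 < #Q := Nat.card_pos
  have e2 : j < 2 := Nat.lt_of_mul_lt_mul_left (a := #O) (by omega)
  have e3 : O = Q := eq_of_le_of_card_ge le (by interval_cases j <;> omega)
  exact ⟨⟨⟨fun a b => Subtype.ext (CC.comm h a a.2 b b.2)⟩⟩, fun a ha => (e3 ▸ ha : a ∈ O).2⟩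

namespace CH

variable {e : ℤ} {q m : ℕ} {χ θ : G → ℂ} (h : CH X K t s e q m χ θ)
include h

theorem odd_q : ¬ 2 ∣ q := fun e => by
  simpa using Nat.eq_one_of_dvd_coprimes h.cop_qk e (Dvd.intro _ rfl)

theorem odd_m : ¬ 2 ∣ m := fun e => by
  simpa using Nat.eq_one_of_dvd_coprimes h.cop_m e (Dvd.intro _ rfl)

theorem exists_dt {x : G} (hx : x ∈ X) (x1 : x ≠ 1) (o : ¬ orderOf x ∣ q) :
    ∃ T H w, DT X T H w ∧ x ∈ T := by
  by_cases e : x ∈ cls (nz K) X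
  · obtain ⟨a, ha, g, hg, rfl⟩ := e
    exact ⟨_, _, _, h.toBB.dt.cj hg, conj_mem_cj g ha.1⟩
  · have h1 : x ∈ RR X K := ⟨hx, x1, e⟩
    obtain ⟨-, -, w, hw⟩ := h.real_R1 ⟨h1, (h.val01 h1).resolve_left fun e => o (h.R0_iff.1 ⟨h1, e⟩).2.2⟩
    exact ⟨_, _, w, hw, hx, mc1.2 rfl⟩

theorem sub_dt {r : ℕ} (hr : r.Prime) (d : ¬ r ∣ q) {W : Subgroup G} (hW : W ≤ X)
    (pW : IsPGroup r W) (o : ¬ 2 ∣ #W) (h0 : W ≠ ⊥) : ∃ T H w, DT X T H w ∧ W ≤ T := by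
  haveI := Fact.mk hr
  obtain ⟨z, z1, z2, z3, z4⟩ := CfsgH2.exists_mem_centralizer_of_ne_bot pW le_rfl le_normalizer h0
  obtain ⟨T, H, w, hT, hz⟩ := h.exists_dt (hW z1) z2 (by rwa [orderOf_eq_prime z3 z2])
  exact ⟨T, H, w, hT, fun y hy => hT.mem_of_odd (hT.ti z hz z2 y (hW hy) (by
    rwa [z4 y hy, mul_inv_cancel_right])) fun e => o (e.trans (orderOf_dvd_of_mem hy))⟩

theorem pnil {H : Subgroup G} (hH : H ≤ X) (o : ¬ 2 ∣ #H) {r : ℕ} (hr : r.Prime) (d : ¬ r ∣ q) :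
    PNil r H := by
  haveI := Fact.mk hr
  obtain ⟨S, hS⟩ := CfsgH2.exists_isSylowOf r H
  refine (isSylowOf_iff_isSylowIn.1 hS).pNil_of_fusion fun x hx g hg e => ⟨1, one_mem _, ?_⟩
  by_cases x1 : x = 1
  · simp [x1]
  obtain ⟨T, H', w, hT, le⟩ := h.sub_dt hr d (hS.1.trans hH) hS.2.1
    (fun e => o (e.trans (card_dvd_of_le hS.1))) fun e => x1 (mem_bot.1 (e ▸ hx))
  rw [hT.comm g (hT.mem_of_odd (hT.ti x (le hx) x1 g (hH hg) (le e))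
    fun e => o (e.trans (orderOf_dvd_of_mem hg))) x (le hx)]
  simp

theorem ncard_cl0 {g : G} (hg : g ∈ RC X K χ 0) : (cl X g).ncard = 2 * #K * m := by
  have e := card_cl_mul X g
  have := h.q7
  rw [h.c_R0 hg, h.card_X] at e
  exact Nat.eq_of_mul_eq_mul_left (by omega : 0 < q) (by linarith)

theorem exists_p : ∃ p n : ℕ, p.Prime ∧ q = p ^ n := by
  have := h.q7
  obtain ⟨p, hp, d⟩ := Nat.exists_prime_and_dvd (by omega : q ≠ 1)
  refine ⟨p, _, hp, Nat.eq_prime_pow_of_unique_prime_dvd (by omega) fun {r} hr d' => ?_⟩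
  by_contra ne
  have cp := (Nat.coprime_primes hr hp).2 ne
  obtain ⟨y, hy, oy⟩ := exists_orderOf (T := X) hp
    (by rw [h.card_X]; exact (d.mul_right m).mul_left _)
  have a1 : ∀ {x : G} {n : ℕ}, x ∈ X → orderOf x = n → 1 < n → n ∣ q → x ∈ RC X K χ 0 :=
    fun hx o l d => h.mem_R0 hx (fun e => l.ne' (by rw [← o, e, orderOf_one])) (o ▸ d)
  have y0 := a1 hy oy hp.one_lt d
  obtain ⟨z, hz, oz⟩ := exists_orderOf (T := X ⊓ 𝒞₁ y) hr (by rwa [h.c_R0 y0])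
  have z0 := a1 hz.1 oz hr.one_lt d'
  have ow : orderOf (z * y) = r * p := by
    rw [Commute.orderOf_mul_eq_mul_orderOf_of_coprime (mc1.1 hz.2) (by rwa [oz, oy]), oz, oy]
  have w0 := a1 (mul_mem hz.1 hy) ow (one_lt_mul'' hr.one_lt hp.one_lt)
    (cp.mul_dvd_of_dvd_of_dvd d' d)
  have a2 : ∀ {x v : G}, v ∈ cl X x → orderOf v = orderOf x := fun hv => by
    obtain ⟨g, -, rfl⟩ := mem_cl.1 hv
    exact orderOf_conj' _ _
  have a3 : ∀ {x : G}, x ∈ RC X K χ 0 → cl X x ⊆ RC X K χ 0 := fun hx v hv => by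
    obtain ⟨g, hg, rfl⟩ := mem_cl.1 hv
    exact h.RC_conj hx hg
  have a4 := Set.ncard_le_ncard (Set.union_subset (Set.union_subset (a3 y0) (a3 z0)) (a3 w0))
  have l1 : p < r * p := lt_mul_left hp.pos hr.one_lt
  have l2 : r < r * p := lt_mul_right hr.pos hp.one_lt
  rw [Set.ncard_union_eq (Set.disjoint_left.2 fun v hv hv' => by
      have := a2 hv'
      rcases hv with hv | hv <;> have := a2 hv <;> omega),
    Set.ncard_union_eq (Set.disjoint_left.2 fun v hv hv' => by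
      have := a2 hv'; have := a2 hv; omega),
    h.ncard_cl0 y0, h.ncard_cl0 z0, h.ncard_cl0 w0, h.card_R0] at a4
  have := h.m3
  have := h.four
  nlinarith

theorem inv_of_comm {z v : G} (hz : z ∈ X) (hv : v ∈ X) (v1 : v ≠ 1) (vv : v * v = 1)
    (o : orderOf (z * (v * z * v⁻¹)) ∣ q) (c : z * (v * z * v⁻¹) = v * z * v⁻¹ * z) :
    v * z * v⁻¹ = z⁻¹ := by
  by_contra e
  have h1 := h.mem_R0 (mul_mem hz (mul_mem (mul_mem hv hz) (inv_mem hv)))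
    (fun e' => e (eq_inv_of_mul_eq_one_right e')) o
  refine h.odd_q (orderOf_inv' v1 vv ▸ h.c_R0 h1 ▸ orderOf_dvd_of_mem ⟨hv, mc1.2 ?_⟩)
  rw [inv_eq_of_mul_eq_one_right vv] at c ⊢
  calc _ = v * z * v * z * v := by group
    _ = _ := by rw [← c]

theorem inv_Q {Q : Subgroup G} (hQ : CC X Q) (c : #Q = q) {v : G} (hv : v ∈ X ⊓ 𝒩 Q) (v1 : v ≠ 1)
    (vv : v * v = 1) {z : G} (hz : z ∈ Q) : v * z * v⁻¹ = z⁻¹ :=
  have h1 := (mem_normalizer_iff.1 hv.2 z).1 hz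
  h.inv_of_comm (hQ.le hz) hv.1 v1 vv (c ▸ orderOf_dvd_of_mem (mul_mem hz h1)) (CC.comm hQ _ hz _ h1)

variable {p n : ℕ} (hp : p.Prime) (hq : q = p ^ n)
include hp hq

theorem syl {S : Subgroup G} (hS : S ≤ X) (c : #S = q) : IsSylowOf p S X := by
  refine ⟨hS, IsPGroup.of_card (c.trans hq), fun d => ?_⟩
  have e := CfsgH2.card_mul_relIndex hS
  have := h.q7
  rw [h.card_X, c] at e
  rw [show S.relIndex X = 2 * #K * m from
    Nat.eq_of_mul_eq_mul_left (by omega : 0 < q) (by linarith)] at d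
  refine hp.one_lt.ne' (Nat.eq_one_of_dvd_coprimes h.cop_q (hq ▸ dvd_pow_self p fun e => ?_) d)
  rw [e, pow_zero] at hq
  omega

theorem syl_eq (he : e = -1) (D : Subgroup G) : D ≠ ⊥ → ∀ P S, P ≤ X → S ≤ X → #P = q → #S = q →
    D ≤ P → D ≤ S → P = S := by
  haveI := Fact.mk hp
  induction D using WellFoundedGT.induction with | _ D ih => ?_
  intro h0 P S hP hS cP cS l1 l2
  rcases l1.eq_or_lt with rfl | l1
  · exact eq_of_le_of_card_ge l2 (by omega)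
  rcases l2.eq_or_lt with rfl | l2
  · exact (eq_of_le_of_card_ge l1.le (by omega)).symm
  have pP := (h.syl hp hq hP cP).2.1
  have pS := (h.syl hp hq hS cS).2.1
  have o : ¬ 2 ∣ #(X ⊓ 𝒩 D) := fun d => by
    obtain ⟨v, hv, ov⟩ := exists_orderOf Nat.prime_two d
    obtain ⟨z, z1, z2, -, z4⟩ := CfsgH2.exists_mem_centralizer_of_ne_bot (pP.to_le l1.le) le_rfl
      le_normalizer h0
    have h1 := (mem_normalizer_iff.1 hv.2 z).1 z1
    exact h.not_real he (h.mem_R0 (hP (l1.le z1)) z2 (cP ▸ orderOf_dvd_of_mem (l1.le z1))) hv.1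
      (h.inv_of_comm (hP (l1.le z1)) hv.1 (fun e => by simp [e] at ov)
        (by rw [← sq, ← ov, pow_orderOf_eq_one]) (cP ▸ orderOf_dvd_of_mem (l1.le (mul_mem z1 h1)))
        (z4 _ h1).symm)
  obtain ⟨W, w1, w2, w3⟩ := closed hp fun r hr ne => h.pnil inf_le_left o hr fun d =>
    ne ((Nat.prime_dvd_prime_iff_eq hr hp).1 (hr.dvd_of_dvd_pow (hq ▸ d)))
  obtain ⟨U, hU, le⟩ := CfsgH2.exists_isSylowOf_ge w2 (w1.trans inf_le_left)
  have cU : #U = q := by rw [hU.card_eq, ← (h.syl hp hq hP cP).card_eq, cP]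
  have a : ∀ P, P ≤ X → #P = q → D < P → P = U := fun P hP cP l =>
    have pP := (h.syl hp hq hP cP).2.1
    have l' := CfsgH1.lt_inf_normalizer pP l
    ih _ l' (ne_bot_of_gt l') P U hP hU.1 cP cU inf_le_left fun x hx =>
      le (w3 x ⟨hP hx.1, hx.2⟩ ((pP ⟨x, hx.1⟩).imp fun n hn => congrArg Subtype.val hn))
  rw [a P hP cP l1, a S hS cS l2]

omit hp hq in
theorem cc_Q {y : G} (hy : y ∈ RC X K χ 0) : CC X (X ⊓ 𝒞₁ y) := by
  rcases h.sign with he | he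
  · obtain ⟨a, ha, hi⟩ := h.real_R0 he hy
    exact h.cc_c hy.1 ha hi
  · obtain ⟨p, n, hp, hq⟩ := h.exists_p
    exact ⟨inf_le_left, fun z hz z1 => h.syl_eq hp hq he (zpowers z) (zpowers_ne_bot.2 z1) _ _
      inf_le_left inf_le_left (h.c_R0 (h.mem_R0 hz.1 z1 (h.c_R0 hy ▸ orderOf_dvd_of_mem hz)))
      (h.c_R0 hy) (zpowers_le.2 ⟨hz.1, mc1.2 rfl⟩) (zpowers_le.2 hz)⟩

end CH

namespace CH

variable {e : ℤ} {q m : ℕ} {χ θ : G → ℂ} (h : CH X K t s e q m χ θ)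
include h

theorem exists_Q : ∃ Q, CC X Q ∧ #Q = q := by
  obtain ⟨y, hy⟩ := Set.nonempty_of_ncard_ne_zero (s := RC X K χ 0) (by
    rw [h.card_R0]; have := h.m3; have := h.four; positivity)
  exact ⟨_, h.cc_Q hy, h.c_R0 hy⟩

theorem exists_H {Q : Subgroup G} (hQ : CC X Q) (c : #Q = q) {j : ℕ} (hj : q.Coprime j)
    (e : #(X ⊓ 𝒩 Q) = q * j) : ∃ H ≤ X ⊓ 𝒩 Q, #H = j ∧ Q ⊓ H = ⊥ := by
  have le : Q ≤ X ⊓ 𝒩 Q := le_inf hQ.le le_normalizer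
  have e1 := CfsgH2.card_mul_relIndex le
  have := h.q7
  rw [e, c] at e1
  have e2 := Nat.eq_of_mul_eq_mul_left (by omega) e1
  obtain ⟨H, hH⟩ := exists_sdp (K := Q) ⟨le, by rwa [c, e2]⟩ inf_le_right
  exact ⟨H, hH.le_right, by rw [← hH.relIndex, e2], hH.inf_eq⟩

theorem borel_pos (he : e = 1) : ∃ Q, CC X Q ∧ #Q = q ∧ K ≤ X ⊓ 𝒩 Q := by
  obtain ⟨Q, hQ, c⟩ := h.exists_Q
  obtain ⟨H, le, cH, d⟩ := h.exists_H hQ c (h.cop_qk.coprime_dvd_right (Dvd.intro_left 2 rfl))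
    ((h.card_NQ hQ c).1 he)
  obtain ⟨v, hv, ov⟩ := exists_orderOf (T := H) Nat.prime_two (cH ▸ h.toBB.two_dvd)
  have v1 : v ≠ 1 := fun e => by simp [e] at ov
  have vv : v * v = 1 := by rw [← sq, ← ov, pow_orderOf_eq_one]
  obtain ⟨⟨y, hy⟩, y1⟩ := ne_bot_iff_exists_ne_one.1 (show Q ≠ ⊥ from fun e => by
    rw [e, card_bot] at c; have := h.q7; omega)
  have u : ∀ x ∈ H, x ≠ 1 → x * x = 1 → x = v := fun x hx x1 xx => by
    have : x⁻¹ * v ∈ Q ⊓ H := ⟨CC.mem hQ hy (fun e => y1 (Subtype.ext e))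
      (le (mul_mem (inv_mem hx) hv)).1 (by
        calc _ = x⁻¹ * (v * y * v⁻¹) * v := by group
          _ = _ := by rw [h.inv_Q hQ c (le hv) v1 vv hy, ← h.inv_Q hQ c (le hx) x1 xx hy]; group),
      H.mul_mem (H.inv_mem hx) hv⟩
    rwa [d, mem_bot, inv_mul_eq_one] at this
  obtain ⟨g, hg, e⟩ := h.conj v (le hv).1 v1 vv
  have hT := h.toBB.dt.cj hg
  have hvT : v ∈ cj g K := e ▸ conj_mem_cj g h.t_mem
  have l : H ≤ cj g K := fun x hx => by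
    by_contra e'
    exact e' (u x hx (fun e => e' (e ▸ one_mem _)) (hT.sq_of_not (hT.ti v hvT v1 x (le hx).1 (by
      rwa [u _ (mul_mem (mul_mem hx hv) (inv_mem hx)) (fun e => v1 (by simpa using e))
        (by rw [conj_mul, vv]; simp)])) e') ▸ hvT)
  refine ⟨cj g⁻¹ Q, CC.cj hQ (inv_mem hg), by rw [card_cj, c], le_inf h.K_le ?_⟩
  have := CfsgH2.le_normalizer_cj (le.trans inf_le_right) g⁻¹
  rwa [eq_of_le_of_card_ge l (by rw [card_cj, cH]), CfsgH2.cj_inv_cj] at this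

theorem borel_neg (he : e = -1) {Q : Subgroup G} (hQ : CC X Q) (c : #Q = q) :
    ∃ x ∈ RC X K χ (-1), X ⊓ 𝒞₁ x ≤ X ⊓ 𝒩 Q := by
  obtain ⟨H, le, cH, -⟩ := h.exists_H hQ c h.cop_qm ((h.card_NQ hQ c).2 he)
  have := h.m3
  obtain ⟨r, hr, d⟩ := Nat.exists_prime_and_dvd (by omega : m ≠ 1)
  obtain ⟨x, hx, o⟩ := exists_orderOf (T := H) hr (cH ▸ d)
  have x1 : x ≠ 1 := fun e => hr.one_lt.ne' (by rw [← o, e, orderOf_one])
  have nd : ∀ r : ℕ, r.Prime → r ∣ m → ¬ r ∣ q := fun r hr d d' =>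
    hr.one_lt.ne' (Nat.eq_one_of_dvd_coprimes h.cop_qm d' d)
  have oH : ¬ 2 ∣ #H := cH ▸ h.odd_m
  obtain ⟨W, w1, w2, w3⟩ := closed hr (H := H) fun r hr _ => by
    haveI := Fact.mk hr
    by_cases d : r ∣ m
    · exact h.pnil (le.trans inf_le_left) oH hr (nd r hr d)
    · exact CfsgH1.pNil_of_not_dvd (cH ▸ d)
  have xr : x ^ r ^ 1 = 1 := by rw [pow_one, ← o, pow_orderOf_eq_one]
  have xW := w3 x hx ⟨1, xr⟩
  obtain ⟨T, H', w, hT, l⟩ := h.sub_dt hr (nd r hr d) ((w1.trans le).trans inf_le_left) w2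
    (fun e => oH (e.trans (card_dvd_of_le w1))) fun e => x1 (mem_bot.1 (e ▸ xW))
  have x0 := h.mem_R1 (le hx).1 x1 (o ▸ d)
  have l' : H ≤ X ⊓ 𝒞₁ x := fun g hg => ⟨(le hg).1, mc1.2 (hT.comm g (hT.mem_of_odd
    (hT.ti x (l xW) x1 g (le hg).1 (l (w3 _ (mul_mem (mul_mem hg hx) (inv_mem hg))
      ⟨1, by rw [conj_pow, xr]; simp⟩))) fun e => oH (e.trans (orderOf_dvd_of_mem hg))) x (l xW))⟩
  exact ⟨x, x0, eq_of_le_of_card_ge l' (by rw [cH, (h.real_R1 x0).2.1]) ▸ le⟩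

theorem ls0 : ∃ p Q A w, LS0 X K t e q p Q A w := by
  obtain ⟨p, n, hp, hq⟩ := h.exists_p
  obtain ⟨Q, hQ, c, x, hx, l1, l2⟩ : ∃ Q, CC X Q ∧ #Q = q ∧ ∃ x ∈ RC X K χ (-1),
      (e = 1 → K ≤ X ⊓ 𝒩 Q) ∧ (e = -1 → X ⊓ 𝒞₁ x ≤ X ⊓ 𝒩 Q) := by
    obtain ⟨Q, hQ, c⟩ := h.exists_Q
    rcases h.sign with he | he
    · obtain ⟨Q, hQ, c, l⟩ := h.borel_pos he
      obtain ⟨x, hx⟩ := Set.nonempty_of_ncard_ne_zero (s := RC X K χ (-1)) (by
        rw [h.card_R1]; have := h.m3; have := h.four; have := h.q7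
        exact (Nat.mul_pos (by positivity) (by omega)).ne')
      exact ⟨Q, hQ, c, x, hx, fun _ => l, by omega⟩
    · obtain ⟨x, hx, l⟩ := h.borel_neg he hQ c
      exact ⟨Q, hQ, c, x, hx, by omega, fun _ => l⟩
  obtain ⟨hA, cA, w, hw⟩ := h.real_R1 hx
  have q7 := h.q7
  have e1 := CfsgH2.card_mul_relIndex (le_inf hQ.le le_normalizer : Q ≤ X ⊓ 𝒩 Q)
  have e2 := h.card_NQ hQ c
  have e3 := h.q_eq
  have e4 := h.m_eq
  refine ⟨p, Q, _, w, h.sign, h.q_eq, ?_, hp, c, CC.elem hQ hp ?_ ?_, hQ, hA, cA ▸ h.m_eq,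
    hw.sH.1, fun e => hw.sT (e ▸ one_mem _), hw.ss, hw.inv, fun g hg e => hw.cov g ⟨hg, e⟩,
    fun g hg => ?_, fun he => ⟨CC.sup_eq hQ (l1 he) ?_ (c ▸ e2.1 he), fun y hy =>
      h.inv_Q hQ c (l1 he h.t_mem) h.t_ne h.tt hy⟩, fun he => CC.sup_eq hQ (l2 he) ?_ ?_⟩
  · rw [h.card_X, h.sq_q, Nat.add_sub_cancel]; ring
  · rw [c, hq]; exact dvd_pow_self p fun e => by rw [e, pow_zero] at hq; omega
  · rw [c] at e1 ⊢
    rcases h.sign with he | he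
    · have := Nat.eq_of_mul_eq_mul_left (by omega) (e1.trans (e2.1 he)); omega
    · have := Nat.eq_of_mul_eq_mul_left (by omega) (e1.trans (e2.2 he)); omega
  · have a : ∀ {T : Subgroup G}, g ∈ cls (nz T) X → ∃ x ∈ X, x * g * x⁻¹ ∈ T := by
      rintro T ⟨a, ha, y, hy, rfl⟩
      exact ⟨y⁻¹, inv_mem hy, by simpa [mul_assoc] using ha.1⟩
    by_cases g1 : g = 1
    · exact ⟨1, one_mem _, Or.inl (by simp [g1])⟩
    by_cases g2 : g ∈ cls (nz K) X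
    · exact (a g2).imp fun _ e => ⟨e.1, Or.inl e.2⟩
    rcases h.val01 ⟨hg, g1, g2⟩ with e | e
    · exact (a (h.cls_Q hQ c ▸ ⟨⟨hg, g1, g2⟩, e⟩)).imp fun _ e => ⟨e.1, Or.inr (Or.inl e.2)⟩
    · exact (a (h.cls_A hA cA ▸ ⟨⟨hg, g1, g2⟩, e⟩)).imp fun _ e => ⟨e.1, Or.inr (Or.inr e.2)⟩
  · rw [c]; exact h.cop_qk.coprime_dvd_right (Dvd.intro_left 2 rfl)
  · rw [c, cA]; exact h.cop_qm
  · rw [c, cA]; exact e2.2 he

end CH

end CfsgAG.BW

theorem CfsgAG.specBSW0 : CfsgAG.SpecBSW0 := fun _ _ _ _ _ _ _ h => by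
  obtain ⟨e, q, m, χ, θ, h⟩ := CfsgAG.BW.BB.exists_ch ⟨h⟩
  exact ⟨e, q, h.ls0⟩
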