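/-
Brauer--Suzuki--Wall, part 7: the characters of the principal 2-block.
-/
import Cfsg.Agent.AG.BSW6
import Cfsg.Agent.FT.PF1_1

set_option autoImplicit false

namespace CfsgAG.BW

open Subgroup hiding one
open CfsgFT
open scoped ComplexConjugate Classical

variable {G : Type*} [Group G] [Finite G] {X K : Subgroup G} {t s : G}

theorem LS0.dt {e : ℤ} {q p : ℕ} {Q A : Subgroup G} {w : G} (h : LS0 X K t e q p Q A w)
    (o : ¬ 2 ∣ #A) (h0 : A ≠ ⊥) : DT X A (X ⊓ 𝒩 A) w where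
  TH := le_inf h.ccA.le le_normalizer
  HX := inf_le_left
  sH := ⟨h.w_mem, mem_normalizer_fintype fun y hy => by rw [h.w_inv y hy]; exact inv_mem hy⟩
  sT := fun e => o (orderOf_inv' h.w_ne h.ww ▸ orderOf_dvd_of_mem e)
  ss := h.ww
  ne := h0
  comm := CC.comm h.ccA
  inv := h.w_inv
  cov := fun g hg => h.norm_A g hg.1 hg.2
  ti := fun y hy y1 x hx e =>
    (CC.nti h.ccA h0).mem_of x hx y ⟨hy, y1⟩ ⟨e, fun e => y1 (by simpa using e)⟩

theorem BB.exists_sig (h : BB X K t s) (h2 : #K % 4 = 2) : ∃ σ ∈ Lin K, σ ≠ one K ∧ star σ = σ ∧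
    (∀ μ ∈ Lin K, star μ = μ → μ = one K ∨ μ = σ) ∧
    ∀ y ∈ K, (Even (orderOf y) → σ y = -1) ∧ (Odd (orderOf y) → σ y = 1) := by
  obtain ⟨σ, hσ, h1, e⟩ : ∃ σ, σ ∈ (Lin K).filter (fun μ => star μ = μ) ∧ σ ≠ one K ∧
      (Lin K).filter (fun μ => star μ = μ) = {one K, σ} := by
    obtain ⟨a, b, ab, e⟩ := Finset.card_eq_two.1 h.card_real
    have : one K ∈ ({a, b} : Finset (G → ℂ)) :=
      e ▸ Finset.mem_filter.2 ⟨one_mem_Lin K, CfsgFT.star_one K⟩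
    rcases Finset.mem_insert.1 this with rfl | e'
    · exact ⟨b, by simp [e], ab.symm, e⟩
    · rw [Finset.mem_singleton] at e'
      subst e'
      exact ⟨a, by simp [e], ab, by rw [e, Finset.pair_comm]⟩
  obtain ⟨hσ, hr⟩ := Finset.mem_filter.1 hσ
  obtain ⟨j, hj⟩ : ∃ j, #K = (2 * j + 1) * 2 := ⟨#K / 4, by omega⟩
  have a1 : ∀ y ∈ K, σ (y ^ (2 * j + 1)) = σ y := fun y hy => by
    have := congrFun (lin_mul_star hσ) y
    rw [hr, Pi.mul_apply, one_apply_of_mem hy] at this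
    rw [lin_pow hσ hy, pow_succ, pow_mul, sq, this, one_pow, one_mul]
  have a2 : ∀ y ∈ K, y ^ (2 * j + 1) = 1 ∨ y ^ (2 * j + 1) = t := fun y hy =>
    h.uniq (pow_mem hy _) (by
      rw [← sq, ← pow_mul, ← hj]; exact orderOf_dvd_iff_pow_eq_one.1 (orderOf_dvd_of_mem hy))
  have a3 : σ t = -1 := (h.lin_t hσ).resolve_left fun e' => h1 (funext fun y => by
    by_cases hy : y ∈ K
    · rw [one_apply_of_mem hy, ← a1 y hy]
      rcases a2 y hy with e | e <;> rw [e]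
      exacts [(mem_Lin.1 hσ).2, e']
    · rw [(lin_mem_CF hσ).1 y hy, one_apply_of_notMem hy])
  refine ⟨σ, hσ, h1, hr, fun μ hμ e' => by
    simpa using (e ▸ Finset.mem_filter.2 ⟨hμ, e'⟩ : μ ∈ ({one K, σ} : Finset (G → ℂ))),
    fun y hy => ⟨fun o => ?_, fun o => ?_⟩⟩
  · rw [← a1 y hy, (a2 y hy).resolve_left fun e => ?_, a3]
    have := o.two_dvd.trans (orderOf_dvd_of_pow_eq_one e)
    omega
  · have := (Nat.coprime_two_right.2 o).dvd_of_dvd_mul_right (hj ▸ orderOf_dvd_of_mem hy)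
    rw [← a1 y hy, orderOf_dvd_iff_pow_eq_one.1 this, (mem_Lin.1 hσ).2]

theorem orth_tri {ξ ξ' f a b : G → ℂ} (d : DIrr X ξ) (d' : DIrr X ξ') (o : ip X ξ ξ' = 0)
    (o1 : ip X ξ (one X) = 0) (o1' : ip X ξ' (one X) = 0) (ob : ip X ξ b = 0)
    (ob' : ip X ξ' b = 0) (ht : Tri X f a b) (h : ip X (ξ + ξ') f = 0) : ip X ξ f = 0 := by
  rw [ht.eq, ip_add_right, ip_add_right, ip_add_left _ ξ ξ' b, ip_add_left _ ξ ξ' (one X), o1, o1',
    ob, ob'] at h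
  rw [ht.eq, ip_add_right, ip_add_right, o1, ob, orth_of_add d d' ht.da o (by simpa using h)]
  simp

theorem arith3 {q m e k c d d' : ℂ} (he : e = 1 ∨ e = -1) (hq : q = 2 * k + e) (hm : m = k + e)
    (q0 : q ≠ 0) (c0 : c ≠ 0) (d0 : d ≠ 0) (d0' : d' ≠ 0) (e1 : 0 = 1 + e * q + (d + d'))
    (e2 : q * m * (c ^ 2 + c ^ 2 * (e * q)⁻¹ + (c ^ 2 * d⁻¹ + c ^ 2 * d'⁻¹)) = c ^ 2 * (2 * k ^ 2)) :
    2 * d = -(e * q + 1) := by
  have e4 : q * (2 * d + (e * q + 1)) ^ 2 = 0 := by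
    rcases he with rfl | rfl <;> field_simp at e2 <;>
      obtain rfl : d' = _ := (eq_neg_of_add_eq_zero_right ((add_assoc _ _ _).trans e1.symm)) <;>
      subst hq hm
    · linear_combination -2 * e2
    · linear_combination 2 * e2
  linear_combination pow_eq_zero_iff two_ne_zero |>.1 ((mul_eq_zero.1 e4).resolve_left q0)

namespace CH

variable {e : ℤ} {q m : ℕ} {χ θ : G → ℂ} (h : CH X K t s e q m χ θ)
include h

theorem half {σ ξ ξ' : G → ℂ} (hσ : σ ∈ Lin K) (h1 : σ ≠ one K)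
    (hu : ∀ μ ∈ Lin K, star μ = μ → μ = one K ∨ μ = σ) (hr : star σ = σ)
    (d : DIrr X ξ) (d' : DIrr X ξ') (o : ip X ξ ξ' = 0)
    (o1 : ip X ξ (one X) = 0) (o1' : ip X ξ' (one X) = 0) (ob : ip X ξ χ = 0)
    (ob' : ip X ξ' χ = 0) (eq : gam X K σ = one X + χ + (ξ + ξ')) :
    (∀ y ∈ K, y ≠ 1 → ξ y = -σ y) ∧ ∀ {A H : Subgroup G} {w : G}, DT X A H w → #A = m →
      ∀ y ∈ A, y ≠ 1 → ξ y = 0 := by
  have hK := h.toBB.dt
  have hξ := vc_mem_CF d.mem_VC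
  have a : ∀ f, ip X (ξ + ξ') f = ip X (gam X K σ) f - ip X (one X) f - ip X χ f := fun f => by
    rw [eq, ip_add_left X (one X + χ), ip_add_left X (one X)]; ring
  refine ⟨fun y hy y1 => ?_, fun {A H w} hA cA y hy y1 => ?_⟩
  · rw [hK.val_ind hξ {σ} (by simpa using hσ) (fun μ hμ => ?_) hy y1, Finset.sum_singleton]
    simp only [Finset.mem_singleton]
    split_ifs with e
    · rw [e, eq, ip_add_right, ip_add_right, ip_add_right, o1, ob, o, d.ip_self]; simp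
    by_cases hm : star μ = μ
    · rw [(hu μ hμ hm).resolve_right e, DT.gam_triv, ip_zero_right]
    obtain ⟨b1, b2, b3⟩ := hK.tri hμ hm
    have b4 := hK.ip_const h.CFχ h.onK hμ b1
    obtain ⟨a', ht⟩ := exists_tri' (hK.gam_VC hμ) b2 b3 h.dχ h.oχ b4
    refine orth_tri d d' o o1 o1' ob ob' ht ?_
    rw [a, hK.ip_gam_gam hσ hμ h1 b1, hr, if_neg (Ne.symm e), b4, ← conj_ip, b3]
    norm_num
  · rw [hA.val_ind hξ ∅ (by simp) (fun μ hμ => ?_) hy y1, Finset.sum_empty, neg_zero]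
    rw [if_neg (by simp)]
    by_cases hm : star μ = μ
    · rw [pf1_1 (by rw [cA]; exact Nat.odd_iff.2 (Nat.two_dvd_ne_zero.1 h.odd_m)) (mem_Lin.1 hμ).1 hm,
        DT.gam_triv, ip_zero_right]
    obtain ⟨b1, b2, b3⟩ := hA.tri hμ hm
    have b0 : ∀ y ∈ A, y ≠ 1 → y ∈ RC X K χ (-1) := fun y hy y1 =>
      h.mem_R1 (hA.TX hy) y1 (cA ▸ orderOf_dvd_of_mem hy)
    have b4 := hA.ip_const h.CFχ (fun y hy y1 => (b0 y hy y1).2) hμ b1
    have b5 := hA.ip_const (hK.gam_CF σ) (fun y hy y1 => hK.gam_off hσ (b0 y hy y1).1.2.2) hμ b1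
    obtain ⟨a', ht⟩ := exists_tri' (hA.gam_VC hμ) b2 b3 h.dχ.neg
      (by rw [ip_neg_left, h.oχ, neg_zero]) (by rw [ip_neg_left, b4, neg_neg])
    refine orth_tri d d' o o1 o1' (by rw [ip_neg_right, ob, neg_zero])
      (by rw [ip_neg_right, ob', neg_zero]) ht ?_
    rw [a, b5, b4, ← conj_ip, b3]
    norm_num

theorem lc (h2 : #K % 4 = 2) {p : ℕ} {Q A : Subgroup G} {w : G} (l : LS0 X K t e q p Q A w) :
    ∃ φ₂ φ₃, LC X K Q A (e * q) χ φ₂ φ₃ := by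
  have hK := h.toBB.dt
  obtain ⟨σ, hσ, h1, hr, hu, hv⟩ := h.toBB.exists_sig h2
  have cA : #A = m := by have := l.card_A; have := h.m_eq; omega
  have hA := LS0.dt l (cA ▸ h.odd_m) fun e => by
    rw [e, card_bot] at cA; have := h.m3; omega
  have d1 : DIrr X (one X) := Or.inl (one_mem_Irr X)
  have b1 := hK.ip_gam_one hσ h1
  have b2 := hK.ip_const h.CFχ h.onK hσ h1
  have b1' : ip X (one X) (gam X K σ) = 1 := by rw [← conj_ip, b1, map_one]
  have b2' : ip X (gam X K σ) χ = 1 := by rw [← conj_ip, b2, map_one]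
  have b3 := ip_eq_zero_comm.1 h.oχ
  obtain ⟨ξ, ξ', d, d', o, eq⟩ := exists_two
    (sub_mem (sub_mem (hK.gam_VC hσ) d1.mem_VC) h.dχ.mem_VC) (by
      simp only [ip_sub_left, ip_sub_right]
      rw [hK.ip_gam_gam hσ hσ h1 h1, if_pos rfl, if_pos hr, b1, b2, b1', b2', b3, h.oχ, ip_one_one,
        h.dχ.ip_self]
      norm_num)
  have o' := ip_eq_zero_comm.1 o
  have c1 : ip X (ξ + ξ') (one X) = 0 := by
    rw [← eq, ip_sub_left, ip_sub_left, b1, ip_one_one, h.oχ]; norm_num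
  have c2 : ip X (ξ + ξ') χ = 0 := by
    rw [← eq, ip_sub_left, ip_sub_left, b2', b3, h.dχ.ip_self]; norm_num
  have o1 := orth_of_add d d' d1 o c1
  have o1' := orth_of_add d' d d1 o' (by rwa [add_comm])
  have ob := orth_of_add d d' h.dχ o c2
  have ob' := orth_of_add d' d h.dχ o' (by rwa [add_comm])
  have eq' : gam X K σ = one X + χ + (ξ + ξ') := by rw [← eq]; abel
  obtain ⟨k1, a1⟩ := h.half hσ h1 hu hr d d' o o1 o1' ob ob' eq'
  obtain ⟨k2, a2⟩ := h.half hσ h1 hu hr d' d o' o1' o1 ob' ob (by rwa [add_comm ξ'])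
  have st : σ t = -1 := (hv t h.t_mem).1 (by rw [orderOf_inv' h.t_ne h.tt]; exact even_two)
  have e1 := congrFun eq' 1
  have e2 := h.toBB.lam_gam hσ h1
  rw [hK.gam_one hσ] at e1
  simp only [Pi.add_apply, one_apply_one, h.deg] at e1
  rw [eq', map_add, map_add, map_add, Lam_one h.toBB.tX, Lam_dIrr h.toBB.tX h.dχ,
    Lam_dIrr h.toBB.tX d, Lam_dIrr h.toBB.tX d', k1 t h.t_mem h.t_ne, k2 t h.t_mem h.t_ne, st,
    h.onK t h.t_mem h.t_ne, h.deg, h.N_eq] at e2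
  have hq : (q : ℂ) = 2 * #K + e := by exact_mod_cast congrArg (Int.cast : ℤ → ℂ) h.q_eq
  have hm : (m : ℂ) = #K + e := by exact_mod_cast congrArg (Int.cast : ℤ → ℂ) h.m_eq
  have e3 : 2 * ξ 1 = -(e * q + 1) :=
    arith3 (by rcases h.sign with rfl | rfl <;> simp) hq hm
      (by have := h.q7; exact_mod_cast (by omega : q ≠ 0)) (card_ne_zero' X) d.apply_one_ne_zero
      d'.apply_one_ne_zero e1 (by simpa using e2)
  refine ⟨ξ, ξ', h.dχ, d, d', h.oχ, o1, o1', ip_eq_zero_comm.1 ob, ip_eq_zero_comm.1 ob', o,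
    by rw [h.deg]; push_cast; rfl, by rw [e3]; push_cast; rfl,
    by push_cast; linear_combination -2 * e1 - e3, fun g hg o => ?_,
    fun g hg o => ?_, fun g hg g1 o => ?_, fun g hg g1 => ⟨?_, a1 hA cA g hg g1, a2 hA cA g hg g1⟩,
    fun g hg g1 => (h.mem_R0 (l.ccQ.le hg) g1 (l.card_Q ▸ orderOf_dvd_of_mem hg)).2⟩
  · obtain ⟨y, hy, x, hx, rfl⟩ : g ∈ cls (nz K) X := by
      by_contra e
      have := (h.cop_c ⟨hg, fun e => by simp [e] at o, e⟩).coprime_dvd_left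
        (orderOf_dvd_of_mem (T := X ⊓ 𝒞₁ g) ⟨hg, mc1.2 rfl⟩)
      simpa using Nat.eq_one_of_dvd_coprimes this o.two_dvd (Dvd.intro _ rfl)
    rw [orderOf_conj'] at o
    rw [h.CFχ.2 x hx, (vc_mem_CF d.mem_VC).2 x hx, (vc_mem_CF d'.mem_VC).2 x hx, h.onK y hy.1 hy.2,
      k1 y hy.1 hy.2, k2 y hy.1 hy.2, (hv y hy.1).1 o]
    simp
  · have e := congrFun eq' g
    simp only [Pi.add_apply, one_apply_of_mem hg] at e
    rw [add_assoc, ← e]
    by_cases e' : g ∈ cls (nz K) X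
    · obtain ⟨y, hy, x, hx, rfl⟩ := e'
      rw [orderOf_conj'] at o
      rw [(hK.gam_CF σ).2 x hx, hK.gam_apply hσ hy.1, (hv y hy.1).2 o]
      norm_num
    · exact hK.gam_off hσ e'
  · rw [h.onK g hg g1, k1 g hg g1, k2 g hg g1, (hv g hg).2 o]; simp
  · exact (h.mem_R1 (l.ccA.le hg) g1 (cA ▸ orderOf_dvd_of_mem hg)).2

theorem eq_of_ls0 {e' : ℤ} {q' p : ℕ} {Q A : Subgroup G} {w : G} (l : LS0 X K t e' q' p Q A w) :
    e' = e ∧ q' = q := by
  have a1 := l.card_X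
  have a2 := l.q_eq
  have a3 := h.q_eq
  have a4 := h.m_eq
  have a5 := h.four
  have a6 : 1 ≤ q' ^ 2 := Nat.one_le_pow _ _ (by rcases l.sign with e | e <;> omega)
  rw [h.card_X] at a1
  zify [a6] at a1 a5
  rw [a2, a3, a4] at a1
  have : e' = e := by
    rcases l.sign with rfl | rfl <;> rcases h.sign with rfl | rfl <;> first | rfl | nlinarith
  exact ⟨this, by omega⟩

end CH

end CfsgAG.BW

theorem CfsgAG.specLC : CfsgAG.SpecLC := fun _ _ _ _ _ _ _ h _ _ _ _ _ _ l => by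
  obtain ⟨e, q, m, χ, θ, h'⟩ := CfsgAG.BW.BB.exists_ch ⟨h.toBH⟩
  obtain ⟨rfl, rfl⟩ := h'.eq_of_ls0 l
  exact ⟨χ, h'.lc h.mod l⟩
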