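import Cfsg.Agent.AG.Z
import Cfsg.Agent.AG.BSW7

/-! The Brauer--Suzuki--Wall theorem. -/

namespace CfsgAG

universe u

theorem specBSW : SpecBSW.{u} := specBSW_of specBSW0

end CfsgAG
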