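/-
Minimal non-CA groups (S4369): general lemmas.
-/
import Cfsg.Agent.AG.Defs
import Cfsg.Agent.BS.Final
import Cfsg.Agent.HH.M1
import Cfsg.Agent.SF.ZD1
import Cfsg.Agent.H4.Homo2
import Cfsg.Agent.H4.BSLocal

set_option autoImplicit false

namespace CfsgCA

open Subgroup CfsgFT CfsgHH CfsgBS
open scoped commutatorElement

universe u

section r1

variable {G Ω : Type*} [Group G] [Finite G] [MulAction G Ω] [FaithfulSMul G Ω] (X : R1 G Ω)

omit [Finite G] in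
theorem r1_eq_one {y : G} (hy : y ∈ X.H) (hc : y ∈ 𝒞 X.Q) (hb : y • X.b = X.b) : y = 1 :=
  eq_of_smul_eq_smul fun c : Ω => by
    rw [one_smul]
    by_cases h : c = X.a
    · rw [h]; exact hy
    · obtain ⟨x, hx, rfl⟩ := X.exists_Q_smul X.b_ne_a h
      rw [smul_smul, ← hc x hx, mul_smul, hb]

theorem r1_mem_H {y : G} (hc : y ∈ 𝒞 X.Q) : y ∈ X.H := by
  obtain ⟨s, hs⟩ := X.I_nonempty
  exact X.mem_H_of_comm (X.I_subset_Q hs) hs.2.1 (hc s (X.I_subset_Q hs)).symm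

theorem r1_odd (h2 : IsPGroup 2 X.Q) {y : G} (hc : y ∈ 𝒞 X.Q) (ho : Odd (orderOf y)) : y = 1 := by
  obtain ⟨x, hx, d, hd, e⟩ := X.exists_Q_mul_D (r1_mem_H X hc)
  obtain ⟨k, hk⟩ := h2 ⟨x⁻¹, inv_mem hx⟩
  have h1 : d ^ 2 ^ k = y ^ 2 ^ k := by
    rw [show d = x⁻¹ * y by rw [e]; group, (Commute.mul_pow (hc _ (inv_mem hx))),
      show x⁻¹ ^ 2 ^ k = 1 from congrArg Subtype.val hk, one_mul]
  exact r1_eq_one X (r1_mem_H X hc) hc (CfsgH1.mem_of_pow_mem_of_coprime (K := X.D)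
    ((Nat.coprime_two_right.2 ho).pow_right k) (h1 ▸ pow_mem hd _)).2

theorem r1_cent (hQ : X.Q ≤ 𝒞 X.Q) : 𝒞 X.Q ≤ X.Q := fun y hc => by
  obtain ⟨x, hx, d, hd, e⟩ := X.exists_Q_mul_D (r1_mem_H X hc)
  have := r1_eq_one X (X.D_le_H hd) (by
    rw [show d = x⁻¹ * y by rw [e]; group]; exact mul_mem (inv_mem (hQ hx)) hc) hd.2
  rwa [e, this, mul_one]

omit [FaithfulSMul G Ω] in
theorem r1_three (hQ : ∀ x ∈ X.Q, x * x = 1) {b₁ b₂ b₃ c₁ c₂ c₃ : Ω} (h12 : b₁ ≠ b₂)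
    (h13 : b₃ ≠ b₁) (h23 : b₃ ≠ b₂) (k12 : c₁ ≠ c₂) (k13 : c₃ ≠ c₁) (k23 : c₃ ≠ c₂) :
    ∃ g : G, g • b₁ = c₁ ∧ g • b₂ = c₂ ∧ g • b₃ = c₃ := by
  obtain ⟨g, rfl, rfl⟩ := X.exists_smul_eq_two X.b_ne_a.symm h12
  obtain ⟨g', rfl, rfl⟩ := X.exists_smul_eq_two X.b_ne_a.symm k12
  obtain ⟨x, hx, e⟩ := X.exists_Q_smul (d := g⁻¹ • b₃) X.b_ne_a fun e => h13 (by rw [← e]; simp)
  obtain ⟨y, hy, e'⟩ := X.exists_Q_smul (d := g'⁻¹ • c₃) X.b_ne_a fun e => k13 (by rw [← e]; simp)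
  obtain ⟨k, hk, f⟩ := X.exists_Kset_conj'
    (X.mem_I_of_mem_Q hx (fun h => h23 (by rw [h, one_smul] at e; rw [e]; simp)) (hQ x hx))
    (X.mem_I_of_mem_Q hy (fun h => k23 (by rw [h, one_smul] at e'; rw [e']; simp)) (hQ y hy))
  have hD := X.mem_D.1 (X.mem_Kset.1 hk).1
  refine ⟨g' * k * g⁻¹, by simp [mul_smul, hD.1], by simp [mul_smul, hD.2], ?_⟩
  rw [mul_smul, ← e, mul_smul, smul_smul k x, show k * x = y * k by rw [← f]; group, mul_smul y k,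
    hD.2, e', smul_inv_smul]

end r1

variable {G : Type*} [Group G] [Finite G]

omit [Finite G] in
theorem even_of_swap {Ω : Type*} [MulAction G Ω] {k : G} {c d : Ω} (h : c ≠ d) (h1 : k • c = d)
    (h2 : k • d = c) : ¬ Odd (orderOf k) := fun ho => h (by
  have : k ∈ MulAction.stabilizer G c := CfsgH1.mem_of_pow_mem_of_coprime
    (Nat.coprime_two_right.2 ho) (by
      rw [MulAction.mem_stabilizer_iff, pow_two, mul_smul, h1, h2])
  rw [← h1]; exact this.symm)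

theorem exists_invol_pow {g : G} (h : ¬ Odd (orderOf g)) :
    ∃ n : ℕ, g ^ n ≠ 1 ∧ g ^ n * g ^ n = 1 := by
  obtain ⟨u, hu, h1, h2⟩ := exists_invol_of_even (X := zpowers g)
    (by rw [Nat.card_zpowers]; exact Nat.not_odd_iff_even.1 h)
  obtain ⟨n, rfl⟩ := mem_powers_iff_mem_zpowers.2 hu
  exact ⟨n, h1, h2⟩

omit [Finite G] in
theorem pg_invol {u : G} (h : u * u = 1) : IsPGroup 2 (zpowers u) :=
  CfsgH1.isPGroup_zpowers (k := 1) (by simpa [sq])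

theorem se_of {H : Subgroup G} (h1 : H ≠ ⊤) (h2 : ¬ Odd #H)
    (h : ∀ g u, u ∈ H → g * u * g⁻¹ ∈ H → u ≠ 1 → u * u = 1 → g ∈ H) :
    Cfsg.IsStronglyEmbedded H :=
  ⟨h1, Nat.not_odd_iff_even.1 h2, fun g hg => odd_card_iff.2 fun u hu e => by_contra fun u1 =>
    hg ((inv_mem_iff (x := g)).1 (h _ u hu.1 (by simpa using mem_cj.1 hu.2) u1 e))⟩

theorem exists_r1 {G : Type u} [Group G] [Finite G] (h4 : HasFour G) {H : Subgroup G}
    (hH : Cfsg.IsStronglyEmbedded H) (hc : H.normalCore = ⊥) :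
    FaithfulSMul G (G ⧸ H) ∧ ∃ X : R1 G (G ⧸ H), X.H = H ∧ X.Concl := by
  haveI : FaithfulSMul G (G ⧸ H) := ⟨fun h => (MonoidHom.ker_eq_bot_iff _).1
    (H.normalCore_eq_ker.symm.trans hc) (Equiv.ext h)⟩
  haveI : Nontrivial (G ⧸ H) := by
    obtain ⟨g, hg⟩ := not_forall.1 (mt (eq_top_iff' H).2 hH.1)
    exact ⟨g, (1 : G), fun e => hg (by simpa using QuotientGroup.eq.1 e.symm)⟩
  obtain ⟨X, hX⟩ := thmA G (G ⧸ H) (sea_of_se hH) h4 ((1 : G) : G ⧸ H)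
  exact ⟨inferInstance, X, by rw [R1.H, hX, MulAction.stabilizer_quotient],
    thmS _ _ _ X (Nat.lt_succ_self _) h4⟩

/-- no element of odd order is central in a strongly embedded subgroup -/
theorem se_odd {G : Type u} [Group G] [Finite G] (h4 : HasFour G) {H : Subgroup G}
    (hH : Cfsg.IsStronglyEmbedded H) (hc : H.normalCore = ⊥) {y : G} (hy : H ≤ 𝒞₁ y)
    (ho : Odd (orderOf y)) : y = 1 := by
  obtain ⟨_, X, e, hX⟩ := exists_r1 h4 hH hc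
  exact r1_odd X hX.two (fun x hx => (mem_c1.1 (hy (e.le (X.Q_le_H hx)))).symm) ho

theorem inv_of_fpf' {P : Subgroup G} (hP : Odd #P) {t : G} (ht : t * t = 1) (hn : t ∈ 𝒩 P)
    (h0 : ∀ y ∈ P, t * y = y * t → y = 1) {y : G} (hy : y ∈ P) : t * y * t = y⁻¹ := by
  obtain ⟨a, b, ha, e, -, hb, rfl⟩ := exists_cent_mul_inv ht hP
    (fun x hx => conj_mem_of_invol ht hn hx) hy
  rwa [h0 a ha e, one_mul]

/-- groups with abelian TI Sylow `2`-subgroups -/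
theorem ri_top {G : Type u} [Group G] [Finite G] (h4 : HasFour G) {S : Subgroup G}
    (hS : IsSylowOf 2 S ⊤) (h0 : S ≠ ⊥) (hc : (𝒩 S).normalCore = ⊥)
    (h : ∀ u ∈ S, u ≠ 1 → u * u = 1 → 𝒞₁ u ≤ 𝒞 S) {v : G} (v1 : v ≠ 1) (vo : Odd (orderOf v)) :
    ∃ j : G, j ≠ 1 ∧ j * j = 1 ∧ ∀ y ∈ 𝒞₁ v, j * y * j = y⁻¹ := by
  haveI := Fact.mk Nat.prime_two
  have ev : ∀ K : Subgroup G, S ≤ K → ¬ Odd #K := fun K hK ho =>
    (ho.of_dvd_nat (card_dvd_of_le hK)).not_two_dvd_nat (by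
      obtain ⟨_ | n, hn⟩ := hS.2.1.exists_card_eq
      · exact (h0 (card_eq_one.1 hn)).elim
      · rw [hn]; exact dvd_pow_self 2 n.succ_ne_zero)
  have ab : S ≤ 𝒞 S := by
    obtain ⟨z, hz, z1⟩ := (ctr S).bot_or_exists_ne_one.resolve_left
      (ctr_ne_bot hS.2.1.isNilpotent h0)
    obtain ⟨k, hk⟩ := hS.2.1 ⟨z, hz.1⟩
    obtain ⟨n, h1, h2⟩ := exists_invol_pow (g := z) fun ho => z1 (mem_bot.1
      (CfsgH1.mem_of_pow_mem_of_coprime ((Nat.coprime_two_right.2 ho).pow_right k)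
        (mem_bot.2 (congrArg Subtype.val hk))))
    exact fun s hs => h _ (pow_mem hz.1 n) h1 h2 (mem_c1.2 ((pow_mem hz n).2 s hs).symm)
  have inS : ∀ u ∈ 𝒩 S, u * u = 1 → u ∈ S := fun u hu e => (hS.eq_of_le
    (hS.2.1.to_sup_of_normal_left' (pg_invol e) (zpowers_le.2 hu)) le_sup_left le_top).le
      (mem_sup_right (mem_zpowers u))
  have nt : 𝒩 S ≠ ⊤ := fun e => h0 (eq_bot_iff.2 (le_top.trans (by
    rw [← hc, e, normalCore_eq_self])))
  have se : Cfsg.IsStronglyEmbedded (𝒩 S) := se_of nt (ev _ le_normalizer) fun g u hu hg u1 e => by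
    have h1 : cj g S ≤ 𝒞 S := fun x hx => h _ (inS _ hg (by
      rw [show g * u * g⁻¹ * (g * u * g⁻¹) = g * (u * u) * g⁻¹ by group, e]; group))
      (fun f => u1 (by rw [show u = g⁻¹ * (g * u * g⁻¹) * g by group, f]; group))
      (by rw [show g * u * g⁻¹ * (g * u * g⁻¹) = g * (u * u) * g⁻¹ by group, e]; group)
      (mem_c1.2 (by
        have := ab (inS u hu e) _ (mem_cj.1 hx)
        calc _ = g * (u * (g⁻¹ * x * g)) * g⁻¹ := by group
          _ = _ := by rw [← this]; group))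
    have h2 := hS.eq_of_le (hS.2.1.to_sup_of_normal_left' (hS.cj g).2.1
      (h1.trans (centralizer_le_normalizer _))) le_sup_left le_top
    exact CfsgH2.cj_eq_iff.1 (eq_of_le_of_card_ge (le_sup_right.trans h2.le) (CfsgH2.card_cj g S).ge)
  obtain ⟨_, X, hH, hX⟩ := exists_r1 h4 se hc
  have hQ : X.Q = S := hS.eq_of_le hX.two (X.le_Q_of_isPGroup hS.2.1 (le_normalizer.trans hH.ge)) le_top
  have sq : ∀ x ∈ X.Q, x * x = 1 := by
    have nc : ¬ ∃ x ∈ X.Q, ∃ y ∈ X.Q, x * y ≠ y * x := fun ⟨x, hx, y, hy, e⟩ =>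
      e (ab (hQ.le hy) x (hQ.le hx))
    rcases hX.cases with c | c | c
    · exact fun x hx => X.Q0_sq h4 (c.Q_eq.le hx)
    · exact (nc c.noncomm).elim
    · exact (nc c.noncomm).elim
  have cS : 𝒞 S ≤ S := by have := r1_cent X (by rw [hQ]; exact ab); rwa [hQ] at this
  have cu : ∀ u g : G, u ≠ 1 → u * u = 1 → u * g = g * u → g * g = 1 := fun u g u1 e f => by
    obtain ⟨a, -, ha⟩ := hS.exists_cj_le (pg_invol e) le_top
    have := sq _ (hQ.ge (cS (h _ (ha (CfsgH2.conj_mem_cj a (mem_zpowers u)))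
      (fun f => u1 (by rw [show u = a⁻¹ * (a * u * a⁻¹) * a by group, f]; group))
      (by rw [show a * u * a⁻¹ * (a * u * a⁻¹) = a * (u * u) * a⁻¹ by group, e]; group)
      (mem_c1.2 (show a * u * a⁻¹ * (a * g * a⁻¹) = a * g * a⁻¹ * (a * u * a⁻¹) by
        calc _ = a * (u * g) * a⁻¹ := by group
          _ = _ := by rw [f]; group)))))
    calc g * g = a⁻¹ * (a * g * a⁻¹ * (a * g * a⁻¹)) * a := by group
      _ = 1 := by rw [this]; group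
  have ce : ∀ g : G, ¬ Odd (orderOf g) → g * g = 1 := fun g hg =>
    let ⟨n, h1, h2⟩ := exists_invol_pow hg
    cu _ g h1 h2 ((Commute.refl g).pow_left n)
  have v2 : v * v ≠ 1 := fun e => v1 (eq_one_of_odd_of_sq (X := zpowers v)
    (by rwa [Nat.card_zpowers]) (mem_zpowers v) e)
  obtain ⟨b, hb⟩ : ∃ b : G ⧸ 𝒩 S, v • b ≠ b := by
    by_contra! hh
    exact v1 (eq_of_smul_eq_smul fun c : G ⧸ 𝒩 S => by rw [hh, one_smul])
  have hb2 : v • b ≠ v⁻¹ • b := fun e => even_of_swap hb.symm rfl (by rw [e, smul_inv_smul]) vo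
  have hb' : b ≠ v⁻¹ • b := fun e => hb (by nth_rw 1 [e]; rw [smul_inv_smul])
  obtain ⟨k, k1, k2, k3⟩ := r1_three X sq (c₃ := v⁻¹ • v⁻¹ • b) hb' hb hb2 hb'.symm
    (fun e => hb' (MulAction.injective _ e).symm)
    (fun e => hb2 (by nth_rw 1 [← e]; rw [smul_inv_smul]))
  have kk := ce k (even_of_swap hb' k1 k2)
  have jj := ce (v * k) (even_of_swap hb2 (by rw [mul_smul, k3, smul_inv_smul])
    (by rw [mul_smul, k2]))
  have kv : k * v * k = v⁻¹ := eq_inv_of_mul_eq_one_right (by rw [← jj]; group)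
  have k1' : k ≠ 1 := fun e => hb' (by rw [← k1, e, one_smul])
  have od : Odd #(𝒞₁ v) := odd_card_iff.2 fun u hu e => by_contra fun u1 =>
    v2 (cu u v u1 e (mem_c1.1 hu).symm)
  refine ⟨k, k1', kk, fun y hy => inv_of_fpf' od kk (mem_normalizer_of_invol kk fun x hx =>
    mem_c1.2 ?_) (fun y hy e => eq_one_of_odd_of_sq od hy (cu k y k1' kk e)) hy⟩
  have h1 : v = k * v⁻¹ * k := by rw [← kv]; simp [mul_assoc, kk, ← mul_assoc k k]
  have h2 : v⁻¹ * x = x * v⁻¹ := (Commute.inv_left (mem_c1.1 hx)).eq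
  calc v * (k * x * k) = k * v⁻¹ * (k * k) * x * k := by nth_rw 1 [h1]; group
    _ = k * x * (k * k) * v⁻¹ * k := by rw [kk, mul_one, mul_one, mul_assoc k, h2]; group
    _ = _ := by nth_rw 2 [h1]; group

end CfsgCA
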