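/-
Minimal non-CA groups (S4369): the solvable radical is the centre; the structure on `G / Z(G)`.
-/
import Cfsg.Agent.AG.CA0

set_option autoImplicit false

namespace CfsgCA

open Subgroup CfsgFT CfsgHH CfsgBS CfsgAG
open scoped commutatorElement

universe u

variable {G : Type*} [Group G] [Finite G]

theorem solv_of_cent {X S : Subgroup G} (hS : IsSylowOf 2 S X) (h : X ⊓ 𝒩 S ≤ 𝒞 S) :
    Group.IsSolvable X := by
  haveI := Fact.mk Nat.prime_two
  have s := PNil_sdp (bg1_18 hS h) hS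
  rw [← s.sup_eq]
  exact CfsgBS.solv_sup s.norm (CfsgL0.odd_solvable (odd_O X))
    (CfsgH2.isSolvable_of_isPGroup hS.2.1)

omit [Finite G] in
theorem nrm_all {N : Subgroup G} (h : N.Normal) (g : G) : g ∈ 𝒩 N := by simp [normalizer_eq_top]

omit [Finite G] in
theorem normal_of {N : Subgroup G} (h : ∀ g, g ∈ 𝒩 N) : N.Normal :=
  normalizer_eq_top_iff.1 (eq_top_iff.2 fun g _ => h g)

omit [Finite G] in
theorem solv_top (h : Group.IsSolvable (⊤ : Subgroup G)) : Group.IsSolvable G :=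
  Group.isSolvable_of_surjective (f := (⊤ : Subgroup G).subtype) fun g => ⟨⟨g, trivial⟩, rfl⟩

theorem ne_top_of_solv (hG : ¬ Group.IsSolvable G) {H : Subgroup G} (h : Group.IsSolvable H) :
    H ≠ ⊤ := fun e => hG (solv_top (e ▸ h))

theorem exists_pair {X S : Subgroup G} (hS : IsSylowOf 2 S X) (h : ¬ Group.IsSolvable X) :
    ∃ n ∈ X ⊓ 𝒩 S, ∃ s ∈ S, n * s ≠ s * n := by
  by_contra! hh
  exact h (solv_of_cent hS fun n hn s hs => (hh n hn s hs).symm)

theorem norm_ne_top {X S : Subgroup G} (hS : IsSylowOf 2 S X) (h : ¬ Group.IsSolvable X) :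
    ¬ X ≤ 𝒩 S := fun e => by
  haveI := Fact.mk Nat.prime_two
  refine h (CfsgH2.isSolvable_of_le (le_qc_qm e) (isSolvable_qc
    (CfsgH2.isSolvable_of_isPGroup hS.2.1) (CfsgL0.odd_solvable ?_)))
  rw [card_qm e, ← Nat.not_even_iff_odd, even_iff_two_dvd]
  exact hS.2.2

/-- all proper subgroups are CA-groups -/
def PCA (G : Type*) [Group G] : Prop :=
  ∀ H : Subgroup G, H ≠ ⊤ → ∀ a ∈ H, ∀ b ∈ H, ∀ c ∈ H, a * b = b * a → a * c = c * a →
    b * c ≠ c * b → H ≤ 𝒞₁ a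

/-- non-central elements with non-abelian centraliser -/
def Bd (x : G) : Prop := x ∉ center G ∧ ∃ a b, x * a = a * x ∧ x * b = b * x ∧ a * b ≠ b * a

theorem PCA.cent_le (h : PCA G) {N : Subgroup G} (hN : N.Normal) (hs : ¬ Group.IsSolvable N) :
    𝒞 N ≤ center G := fun c hc => by
  haveI := Fact.mk Nat.prime_two
  obtain ⟨S, hS⟩ := CfsgH2.exists_isSylowOf 2 N
  obtain ⟨n, hn, s, hs', e⟩ := exists_pair hS hs
  have h1 := h (𝒩 S) (fun e => norm_ne_top hS hs (le_top.trans e.ge)) c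
    (nrm_of_comm fun a ha => (hc a (hS.1 ha)).symm) n hn.2 s (le_normalizer hs')
    (hc n hn.1).symm (hc s (hS.1 hs')).symm e
  have h2 := hS.frattini le_top fun g _ => nrm_all hN g
  exact mem_center_iff.2 fun g => (mem_c1.1 ((sup_le (fun a ha => mem_c1.2 (hc a ha).symm)
    (inf_le_right.trans h1) : _ ≤ 𝒞₁ c) (h2.ge (mem_top g)))).symm

theorem PCA.le_of_solv (h : PCA G) (hG : ¬ Group.IsSolvable G) {x : G} (hx : Bd x)
    {N : Subgroup G} (hN : N.Normal) (hs : Group.IsSolvable N) : N ≤ 𝒞₁ x := by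
  haveI := Fact.mk Nat.prime_two
  obtain ⟨B, hB, sB, a, ha, b, hb, e⟩ : ∃ B ≤ 𝒞₁ x, Group.IsSolvable B ∧
      ∃ a ∈ B, ∃ b ∈ B, a * b ≠ b * a := by
    by_cases hM : Group.IsSolvable (𝒞₁ x)
    · obtain ⟨-, a, b, h1, h2, h3⟩ := hx
      exact ⟨_, le_rfl, hM, a, mem_c1.2 h1, b, mem_c1.2 h2, h3⟩
    · obtain ⟨S, hS⟩ := CfsgH2.exists_isSylowOf 2 (𝒞₁ x)
      obtain ⟨n, hn, s, hs', e⟩ := exists_pair hS hM
      exact ⟨S ⊔ zpowers n, sup_le hS.1 (zpowers_le.2 hn.1), CfsgBS.solv_sup (zpowers_le.2 hn.2)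
        (CfsgH2.isSolvable_of_isPGroup hS.2.1) (solv_zpowers n), n, mem_sup_right (mem_zpowers n),
        s, mem_sup_left hs', e⟩
  refine le_sup_left.trans (h (N ⊔ (B ⊔ zpowers x)) (ne_top_of_solv hG (CfsgBS.solv_sup
    (fun g _ => nrm_all hN g) hs (CfsgBS.solv_sup (zpowers_le.2 (nrm_of_comm fun a ha =>
      mem_c1.1 (hB ha))) sB (solv_zpowers x)))) x (mem_sup_right (mem_sup_right (mem_zpowers x)))
    a (mem_sup_right (mem_sup_left ha)) b (mem_sup_right (mem_sup_left hb)) (mem_c1.1 (hB ha))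
    (mem_c1.1 (hB hb)) e)

omit [Finite G] in
theorem Bd.conj {x : G} (hx : Bd x) (g : G) : Bd (g * x * g⁻¹) := by
  obtain ⟨h0, a, b, h1, h2, h3⟩ := hx
  refine ⟨fun h => h0 (by
      simpa [mul_assoc] using (inferInstance : (center G).Normal).conj_mem' _ h g),
    g * a * g⁻¹, g * b * g⁻¹, ?_, ?_, fun e => h3 ?_⟩
  · simpa [mul_assoc] using congrArg (fun y => y * g⁻¹) h1
  · simpa [mul_assoc] using congrArg (fun y => y * g⁻¹) h2
  · simpa [mul_assoc] using congrArg (fun y => g⁻¹ * y * g) e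

theorem PCA.rad (h : PCA G) (hG : ¬ Group.IsSolvable G) {x : G} (hx : Bd x) {V : Subgroup G}
    (hV : V.Normal) (hs : Group.IsSolvable V) : V ≤ center G := by
  by_contra hne
  set K : Subgroup G := closure {y | Bd y} with hK
  have nK : K.Normal := normal_of fun g => CfsgH1.mem_normalizer_of_cj_le (by
    rw [hK, CfsgH1.cj, MonoidHom.map_closure]
    exact closure_mono (by rintro _ ⟨y, hy, rfl⟩; exact Bd.conj hy g))
  have mR : ∀ {g}, (∀ y, Bd y → g ∈ 𝒞₁ y) → g ∈ 𝒞 K := fun {g} hg =>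
    le_centralizer_iff.1 (((closure_le (𝒞₁ g)).2 fun y hy =>
      mem_c1.2 (mem_c1.1 (hg y hy)).symm).trans (c_zp g).ge) (mem_zpowers g)
  have key : ∀ N : Subgroup G, N.Normal → Group.IsSolvable N → N ≤ 𝒞 K := fun N h1 h2 g hg =>
    mR fun y hy => h.le_of_solv hG hy h1 h2 hg
  have sC : Group.IsSolvable (𝒞 V) := by_contra fun hh =>
    hne ((le_centralizer_iff.1 le_rfl).trans (h.cent_le inferInstance hh))
  have KR : K ≤ 𝒞 K := (le_centralizer_iff.1 (key V hV hs)).trans (key _ inferInstance sC)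
  have sR : Group.IsSolvable (𝒞 K) := by_contra fun hh => hx.1 (h.cent_le inferInstance hh
    (le_centralizer_iff.1 le_rfl (subset_closure hx : x ∈ K)))
  set R := 𝒞 K
  have nR : R.Normal := inferInstance
  have ab : ∀ a ∈ R, ∀ b ∈ R, a * b = b * a := fun a ha b hb => by_contra fun e =>
    ne_top_of_solv hG sR (eq_top_iff.2 fun g _ => mR fun y hy => h _ (ne_top_of_solv hG
      (CfsgBS.solv_sup (fun g _ => nrm_all nR g) sR (solv_zpowers g))) y
      (mem_sup_left (KR (subset_closure hy))) a (mem_sup_left ha) b (mem_sup_left hb)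
      (ha y (subset_closure hy)) (hb y (subset_closure hy)) e (mem_sup_right (mem_zpowers g)))
  have CR : 𝒞 R ≤ R := centralizer_le KR
  obtain ⟨u, uR, u2⟩ : ∃ u, u ∉ R ∧ u * u ∈ R := by
    obtain ⟨u, -, h1, h2⟩ := exists_invol_of_even (X := (⊤ : Subgroup (G ⧸ R)))
      (Nat.not_odd_iff_even.1 fun ho => hG (by
        haveI := CfsgL0.odd_solvable (G := G ⧸ R) (by rwa [card_top] at ho)
        exact Group.isSolvable_of_ker_le_range R.subtype (QuotientGroup.mk' R) (by simp)))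
    obtain ⟨u, rfl⟩ := QuotientGroup.mk_surjective u
    exact ⟨u, fun e => h1 ((QuotientGroup.eq_one_iff u).2 e), (QuotientGroup.eq_one_iff _).1 h2⟩
  have same : ∀ u v : G, u ∉ R → u * u ∈ R → v * v ∈ R → R ⊓ 𝒞₁ u ≤ 𝒞₁ v := by
    intro u v uR u2 v2 y hy
    obtain ⟨r, hr, e⟩ : ∃ r ∈ R, r * u ≠ u * r := by
      by_contra! hh
      exact uR (CR hh)
    have n1 : u ∈ 𝒩 (R ⊔ zpowers (u * v) : Subgroup G) := CfsgH1.mem_normalizer_of_cj_le (by
      rw [CfsgH1.cj_sup, CfsgH1.cj_zpowers]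
      refine sup_le ((CfsgH2.cj_eq_iff.2 (nrm_all nR u)).le.trans le_sup_left) (zpowers_le.2 ?_)
      rw [show u * (u * v) * u⁻¹ = u * u * (v * v) * (u * v)⁻¹ by group]
      exact mul_mem_sup (mul_mem u2 v2) (inv_mem (mem_zpowers _)))
    have := h _ (ne_top_of_solv hG (CfsgBS.solv_sup (zpowers_le.2 n1) (CfsgBS.solv_sup
      (fun g _ => nrm_all nR g) sR (solv_zpowers _)) (solv_zpowers u))) y
      (mem_sup_left (mem_sup_left hy.1)) r (mem_sup_left (mem_sup_left hr)) u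
      (mem_sup_right (mem_zpowers u)) (ab y hy.1 r hr) (mem_c1.1 hy.2).symm e
    have h1 : v ∈ 𝒞₁ y := by
      rw [show v = u⁻¹ * (u * v) by group]
      exact mul_mem (inv_mem (this (mem_sup_right (mem_zpowers u))))
        (this (mem_sup_left (mem_sup_right (mem_zpowers _))))
    exact mem_c1.2 (mem_c1.1 h1).symm
  have c1 : ∀ g, g * u * g⁻¹ ∉ R := fun g e => uR (by simpa [mul_assoc] using nR.conj_mem' _ e g)
  have c2 : ∀ g, g * u * g⁻¹ * (g * u * g⁻¹) ∈ R := fun g => by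
    simpa [mul_assoc] using nR.conj_mem _ u2 g
  set W := R ⊓ 𝒞₁ u
  have nW : W.Normal := ⟨fun y hy g => ⟨nR.conj_mem _ hy.1 g, mem_c1.2 (by
    have := mem_c1.1 (same u _ uR u2 (c2 g⁻¹) hy)
    calc _ = g * (g⁻¹ * u * g⁻¹⁻¹ * y) * g⁻¹ := by group
      _ = _ := by rw [this]; group)⟩⟩
  have inv : ∀ v : G, v * v ∈ R → ∀ r ∈ R, r * (v * r * v⁻¹) ∈ 𝒞₁ v := fun v v2 r hr =>
    mem_c1.2 (by
      calc _ = v * r * v⁻¹ * (v * v * r) * v⁻¹ := by group
        _ = v * r * v⁻¹ * r * v := by rw [ab _ v2 r hr]; group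
        _ = _ := by rw [ab _ (nR.conj_mem r hr v) r hr])
  set T := cMod R W ⊓ 𝒞 W
  have nT : T.Normal := normal_of fun g =>
    nrm_inf (nrm_cMod (nrm_all nR g) (nrm_all nW g)) (nrm_c (nrm_all nW g))
  have t1 : ⁅⁅R, T⁆, T⁆ = ⊥ := commutator_eq_bot_iff_le_centralizer.2
    ((commutator_comm R T).le.trans ((show ⁅T, R⁆ ≤ W from
      commutator_le.2 fun g hg r hr => hg.1.2 r hr).trans
      (le_centralizer_iff.1 inf_le_right)))
  have sT : Group.IsSolvable T := solv_of_comm_le (fun g _ => nrm_all nR g) sR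
    ((commutator_eq_bot_iff_le_centralizer.1 (commutator_commutator_eq_bot_of_rotate
      (by rwa [commutator_comm T R]) t1)).trans CR)
  have t2 : ∀ g, g * u * g⁻¹ * u⁻¹ ∈ R := fun g => key T nT sT ⟨⟨nrm_all nW _, fun r hr => by
    have hr' := nR.conj_mem' r hr u
    have w1 : _ ∈ W := ⟨mul_mem hr' (nR.conj_mem _ hr' (g * u * g⁻¹)),
      same _ u (c1 g) (c2 g) u2 ⟨mul_mem hr' (nR.conj_mem _ hr' _), inv _ (c2 g) _ hr'⟩⟩
    have w2 : _ ∈ W := ⟨mul_mem hr' (nR.conj_mem _ hr' u), inv _ u2 _ hr'⟩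
    convert mul_mem w1 (inv_mem w2) using 1
    rw [ab _ hr' _ (nR.conj_mem _ hr' (g * u * g⁻¹)), ab _ hr' _ (nR.conj_mem _ hr' u),
      commutatorElement_def]
    group⟩, fun y hy => (Commute.mul_right (mem_c1.1 (same u _ uR u2 (c2 g) hy)).symm
      (Commute.inv_right (mem_c1.1 hy.2).symm)).eq⟩
  refine uR (key (R ⊔ zpowers u) (normal_of fun g => CfsgH1.mem_normalizer_of_cj_le ?_)
    (CfsgBS.solv_sup (fun g _ => nrm_all nR g) sR (solv_zpowers u)) (mem_sup_right (mem_zpowers u)))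
  rw [CfsgH1.cj_sup, CfsgH1.cj_zpowers]
  refine sup_le ((CfsgH2.cj_eq_iff.2 (nrm_all nR g)).le.trans le_sup_left) (zpowers_le.2 ?_)
  simpa using mul_mem_sup (t2 g) (mem_zpowers u)

/-- the commuting structure on `G / Z(G)` -/
structure CS {Γ : Type*} [Group Γ] (A : Γ → Subgroup Γ) : Prop where
  symm : ∀ {a b}, b ∈ A a → a ∈ A b
  self : ∀ a, a ∈ A a
  conj : ∀ (g) {a b}, b ∈ A a → g * b * g⁻¹ ∈ A (g * a * g⁻¹)
  le : ∀ a, A a ≤ 𝒞₁ a
  pow : ∀ {a g} {n : ℕ}, a * g = g * a → a ^ n = 1 → g ^ n ∈ A a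
  comm : ∀ {a g h}, a * g = g * a → a * h = h * a → ⁅g, h⁆ ∈ A a
  top : ∀ {a}, A a = ⊤ → a = 1
  ca : ∀ {H : Subgroup Γ}, H ≠ ⊤ → ∀ {a b c}, a ∈ H → b ∈ H → c ∈ H → b ∈ A a → c ∈ A a →
    c ∉ A b → H ≤ A a
  rad : ∀ N : Subgroup Γ, N.Normal → Group.IsSolvable N → N = ⊥

/-- the image of the centraliser of a lift -/
noncomputable def up (a : G ⧸ center G) : Subgroup (G ⧸ center G) :=
  (𝒞₁ a.out).map (QuotientGroup.mk' _)

omit [Finite G] in
theorem comm_congr {a a' b : G} (e : (a : G ⧸ center G) = a') (h : a * b = b * a) :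
    a' * b = b * a' := by
  have := mem_center_iff.1 (QuotientGroup.eq.1 e) b
  calc a' * b = a * (a⁻¹ * a' * b) := by group
    _ = _ := by rw [← this, ← mul_assoc, h]; group

omit [Finite G] in
theorem mem_up {a b : G} : (b : G ⧸ center G) ∈ up (a : G ⧸ center G) ↔ a * b = b * a :=
  ⟨fun ⟨_, hc, e⟩ => comm_congr (QuotientGroup.out_eq' _) (comm_congr e (mem_c1.1 hc).symm).symm,
    fun h => ⟨b, mem_c1.2 (comm_congr (QuotientGroup.out_eq' _).symm h), rfl⟩⟩

omit [Finite G] in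
theorem cm_central {a g : G} (h : (a : G ⧸ center G) * g = g * a) : ⁅g, a⁆ ∈ center G := by
  rw [← QuotientGroup.eq_one_iff]
  exact commutatorElement_eq_one_iff_mul_comm.2 h.symm

theorem PCA.cs (h : PCA G) (hG : ¬ Group.IsSolvable G) {x : G} (hx : Bd x) :
    CS (up (G := G)) where
  symm := by rintro ⟨a⟩ ⟨b⟩ e; exact mem_up.2 (mem_up.1 e).symm
  self := by rintro ⟨a⟩; exact mem_up.2 rfl
  conj := by
    rintro ⟨g⟩ ⟨a⟩ ⟨b⟩ e
    exact (mem_up (a := g * a * g⁻¹) (b := g * b * g⁻¹)).2 (by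
      simpa [mul_assoc] using congrArg (fun y => y * g⁻¹) (mem_up.1 e))
  le := by rintro ⟨a⟩ ⟨b⟩ e; exact mem_c1.2 (congrArg QuotientGroup.mk (mem_up.1 e))
  pow := by
    rintro ⟨a⟩ ⟨g⟩ n e e'
    have h1 := mem_center_iff.1 (cm_central e)
    have h2 := mem_center_iff.1 ((QuotientGroup.eq_one_iff (a ^ n)).1 e')
    have h3 : ∀ k : ℕ, g ^ k * a = ⁅g, a⁆ ^ k * a * g ^ k := fun k => by
      induction k with
      | zero => simp
      | succ k ih =>
        calc _ = g * (⁅g, a⁆ ^ k * a * g ^ k) := by rw [pow_succ', mul_assoc, ih]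
          _ = ⁅g, a⁆ ^ k * (g * a) * g ^ k := by
            rw [← mul_assoc, ← mul_assoc, (Commute.pow_right (h1 g) k).eq]; group
          _ = _ := by
            rw [show g * a = ⁅g, a⁆ * a * g by rw [commutatorElement_def]; group, pow_succ, pow_succ' g]
            simp only [mul_assoc]
    have h4 : ⁅g, a⁆ ^ n = 1 := by
      have : g * a ^ n * g⁻¹ = ⁅g, a⁆ ^ n * a ^ n := by
        rw [← conj_pow, ← Commute.mul_pow (h1 a).symm, commutatorElement_def]; group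
      rw [h2 g, mul_inv_cancel_right] at this
      exact (right_eq_mul.1 this)
    exact (mem_up (b := g ^ n)).2 (by rw [h3, h4, one_mul])
  comm := by
    rintro ⟨a⟩ ⟨g⟩ ⟨k⟩ e e'
    have h1 := mem_center_iff.1 (cm_central e)
    have h2 := mem_center_iff.1 (cm_central e')
    refine (mem_up (b := ⁅g, k⁆)).2 ?_
    have e1 : g * a = ⁅g, a⁆ * a * g := by rw [commutatorElement_def]; group
    have e2 : k * a = ⁅k, a⁆ * a * k := by rw [commutatorElement_def]; group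
    generalize ⁅g, a⁆ = z at *
    generalize ⁅k, a⁆ = w at *
    have e3 : g * k * a = z * w * a * (g * k) := by
      rw [mul_assoc, e2, ← mul_assoc, ← mul_assoc, h2 g, mul_assoc w, e1, ← mul_assoc, ← mul_assoc,
        h1 w]; group
    have e4 : k * g * a = z * w * a * (k * g) := by
      rw [mul_assoc, e1, ← mul_assoc, ← mul_assoc, h1 k, mul_assoc z, e2]; group
    have e5 : Commute (z * w) (g * k * (k * g)⁻¹) :=
      Commute.mul_left (h1 _).symm (h2 _).symm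
    calc a * ⁅g, k⁆ = (z * w)⁻¹ * (z * w * a * (g * k)) * (k * g)⁻¹ := by
          rw [commutatorElement_def]; group
      _ = (z * w)⁻¹ * (g * k * (k * g)⁻¹) * (k * g * a) * (k * g)⁻¹ := by rw [← e3]; group
      _ = _ := by rw [e4, e5.inv_left.eq, commutatorElement_def]; group
  top := by
    rintro ⟨a⟩ e
    exact (QuotientGroup.eq_one_iff a).2 (mem_center_iff.2 fun g =>
      (mem_up.1 (e.ge (mem_top (g : G ⧸ center G)))).symm)
  ca := by
    rintro H hH ⟨a⟩ ⟨b⟩ ⟨c⟩ ha hb hc e1 e2 e3 ⟨g⟩ hg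
    exact mem_up.2 (mem_c1.1 (h (H.comap (QuotientGroup.mk' _)) (fun e => hH (by
      rw [← map_comap_eq_self_of_surjective (QuotientGroup.mk'_surjective _) H, e,
        map_top_of_surjective _ (QuotientGroup.mk'_surjective _)])) a ha b hb c hc (mem_up.1 e1)
      (mem_up.1 e2) (mt mem_up.2 e3) hg))
  rad N hN hs := by
    haveI : Group.IsSolvable (center G) := CfsgH2.isSolvable_of_isMulCommutative inferInstance
    have s : Group.IsSolvable (N.comap (QuotientGroup.mk' (center G))) :=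
      Group.isSolvable_of_ker_le_range (inclusion (show center G ≤ _ from fun z hz => by
        rw [mem_comap, QuotientGroup.mk'_apply, (QuotientGroup.eq_one_iff z).2 hz]; exact N.one_mem))
        ((QuotientGroup.mk' (center G)).subgroupComap N) fun g hg =>
          ⟨⟨g, (QuotientGroup.eq_one_iff _).1 (congrArg Subtype.val hg)⟩, rfl⟩
    have := h.rad hG hx (hN.comap _) s
    exact eq_bot_iff.2 (by rintro ⟨g⟩ hg; exact (QuotientGroup.eq_one_iff g).2 (this hg))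

end CfsgCA
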