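/-
Minimal non-CA groups (S4369): the socle, isolation, and the final step for odd centralisers.
-/
import Cfsg.Agent.AG.CA1

set_option autoImplicit false

namespace CfsgCA

open Subgroup CfsgFT CfsgHH CfsgBS CfsgAG
open scoped commutatorElement

universe u

section gen

variable {G : Type*} [Group G] [Finite G]

omit [Finite G] in
theorem conj_ne_one {a : G} (g : G) (h : a ≠ 1) : g * a * g⁻¹ ≠ 1 := by simpa using h

omit [Finite G] in
theorem conj_sq {a : G} (g : G) (h : a * a = 1) : g * a * g⁻¹ * (g * a * g⁻¹) = 1 := by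
  rw [show g * a * g⁻¹ * (g * a * g⁻¹) = g * (a * a) * g⁻¹ by group, h]; group

omit [Finite G] in
theorem conj_comm {a b : G} (g : G) (h : a * b = b * a) :
    g * a * g⁻¹ * (g * b * g⁻¹) = g * b * g⁻¹ * (g * a * g⁻¹) := by
  calc _ = g * (a * b) * g⁻¹ := by group
    _ = _ := by rw [h]; group

theorem exists_invol_pow' {K : Subgroup G} (hK : IsPGroup 2 K) {z : G} (hz : z ∈ K) (z1 : z ≠ 1) :
    ∃ n : ℕ, z ^ n ≠ 1 ∧ z ^ n * z ^ n = 1 := by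
  obtain ⟨k, hk⟩ := hK ⟨z, hz⟩
  exact exists_invol_pow fun ho => z1 (mem_bot.1 (CfsgH1.mem_of_pow_mem_of_coprime
    ((Nat.coprime_two_right.2 ho).pow_right k) (mem_bot.2 (congrArg Subtype.val hk))))

theorem exists_ctr_invol {K : Subgroup G} (hK : IsPGroup 2 K) (h0 : K ≠ ⊥) :
    ∃ t ∈ ctr K, t ≠ 1 ∧ t * t = 1 := by
  haveI := Fact.mk Nat.prime_two
  obtain ⟨z, hz, z1⟩ := (ctr K).bot_or_exists_ne_one.resolve_left (ctr_ne_bot hK.isNilpotent h0)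
  obtain ⟨n, h1, h2⟩ := exists_invol_pow' hK hz.1 z1
  exact ⟨_, pow_mem hz n, h1, h2⟩

omit [Finite G] in
theorem simp_of {X : Subgroup G} (h0 : ¬ X ≤ 𝒞 X)
    (h : ∀ N ≤ X, X ≤ 𝒩 N → N = ⊥ ∨ N = X) : Simp X := by
  obtain ⟨a, ha, b, hb, e⟩ : ∃ a ∈ X, ∃ b ∈ X, a * b ≠ b * a := by
    by_contra! hh
    exact h0 fun a ha b hb => hh b hb a ha
  haveI : Nontrivial X := ⟨⟨a, ha⟩, 1, fun f => e (by rw [show a = 1 from congrArg Subtype.val f]; simp)⟩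
  refine ⟨⟨fun N hN => ?_⟩, a, ha, b, hb, e⟩
  rcases h (N.map X.subtype) (map_subtype_le N) (CfsgL0.le_normalizer_map_subtype N) with f | f
  · exact Or.inl ((map_eq_bot_iff_of_injective _ X.subtype_injective).1 f)
  · exact Or.inr (map_injective X.subtype_injective (by rw [f, ← MonoidHom.range_eq_map, range_subtype]))

theorem simp_nsol {X : Subgroup G} (hX : Simp X) : ¬ Group.IsSolvable X := fun hs => by
  haveI := hX.simple
  obtain ⟨a, ha, b, hb, e⟩ := hX.nc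
  exact e (congrArg Subtype.val ((IsSimpleGroup.comm_iff_isSolvable (G := X)).2 hs ⟨a, ha⟩ ⟨b, hb⟩))

theorem simp_even {X : Subgroup G} (hX : Simp X) : ¬ Odd #X := fun ho =>
  simp_nsol hX (CfsgL0.odd_solvable ho)

theorem simp_four {X : Subgroup G} (hX : Simp X) : HasFour X := by
  haveI := hX.simple
  obtain ⟨a, ha, b, hb, e⟩ := hX.nc
  exact hasFour_of_simple ⟨⟨a, ha⟩, ⟨b, hb⟩, fun f => e (congrArg Subtype.val f)⟩
    (Nat.not_odd_iff_even.1 (simp_even hX))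

theorem ri {G : Type u} [Group G] [Finite G] {X S : Subgroup G} (hX : Simp X)
    (hS : IsSylowOf 2 S X) (h0 : S ≠ ⊥) (h : ∀ u ∈ S, u ≠ 1 → u * u = 1 → X ⊓ 𝒞₁ u ≤ 𝒞 S) {v : G}
    (hv : v ∈ X) (v1 : v ≠ 1) (vo : Odd (orderOf v)) :
    ∃ j ∈ X, j ≠ 1 ∧ j * j = 1 ∧ ∀ y ∈ X ⊓ 𝒞₁ v, j * y * j = y⁻¹ := by
  haveI := hX.simple
  obtain ⟨j, h1, h2, h3⟩ := ri_top (G := X) (simp_four hX) (S := S.subgroupOf X) (by
      rw [← subgroupOf_self]; exact (sylow_subgroupOf_iff hS.1 le_rfl).2 hS)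
    (fun f => h0 (by rwa [subgroupOf_eq_bot, disjoint_iff, inf_eq_left.2 hS.1] at f))
    ((Normal.eq_bot_or_eq_top inferInstance).resolve_right fun e => norm_ne_top hS (simp_nsol hX)
      fun g hg => CfsgL0.mem_normalizer_of_conj_mem fun s hs => conj_mem (K := S.subgroupOf X)
        (g := ⟨g, hg⟩) (a := ⟨s, hS.1 hs⟩) (normalCore_le _ (e.ge (mem_top _))) hs)
    (fun u hu u1 u2 g hg s hs => Subtype.ext (h u hu (fun f => u1 (Subtype.ext f))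
      (congrArg Subtype.val u2) ⟨g.2, mem_c1.2 (congrArg Subtype.val (mem_c1.1 hg))⟩ s hs))
    (v := ⟨v, hv⟩) (fun f => v1 (congrArg Subtype.val f)) (by rwa [← orderOf_coe])
  exact ⟨j, j.2, fun f => h1 (Subtype.ext f), congrArg Subtype.val h2, fun y hy =>
    congrArg Subtype.val (h3 ⟨y, hy.1⟩ (mem_c1.2 (Subtype.ext (mem_c1.1 hy.2))))⟩

end gen

variable {Γ : Type u} [Group Γ] [Finite Γ] {A : Γ → Subgroup Γ}

/-- abelian upstairs -/
def Ab (A : Γ → Subgroup Γ) (H : Subgroup Γ) : Prop := ∀ a ∈ H, H ≤ A a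

/-- non-abelian centraliser upstairs -/
def Bad (A : Γ → Subgroup Γ) (x : Γ) : Prop := x ≠ 1 ∧ ¬ Ab A (A x)

omit [Finite Γ] in
theorem Ab.mono {H K : Subgroup Γ} (h : Ab A K) (hH : H ≤ K) : Ab A H :=
  fun a ha => hH.trans (h a (hH ha))

omit [Finite Γ] in
theorem not_ab {H : Subgroup Γ} (h : ¬ Ab A H) : ∃ b ∈ H, ∃ c ∈ H, c ∉ A b := by
  by_contra! hh
  exact h fun a ha c hc => hh a ha c hc

structure Soc (L : Subgroup Γ) : Prop where
  normal : L.Normal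
  simp : Simp L
  min : ∀ N : Subgroup Γ, N.Normal → N ≠ ⊥ → L ≤ N

namespace CS

variable (h : CS A)
include h

omit [Finite Γ] in
theorem cm {a b : Γ} (e : b ∈ A a) : a * b = b * a := mem_c1.1 (h.le a e)

omit [Finite Γ] in
theorem pow_le (a : Γ) (n : ℕ) : A a ≤ A (a ^ n) := fun _ hb => h.symm (pow_mem (h.symm hb) n)

omit [Finite Γ] in
theorem cj_A (g a : Γ) : cj g (A a) = A (g * a * g⁻¹) := Subgroup.ext fun b =>
  ⟨fun hb => by simpa [mul_assoc] using h.conj g (mem_cj.1 hb),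
    fun hb => mem_cj.2 (by simpa [mul_assoc] using h.conj g⁻¹ hb)⟩

omit [Finite Γ] in
theorem ab_le {H : Subgroup Γ} (hH : Ab A H) : H ≤ 𝒞 H := fun _ ha b hb => h.cm (hH b hb ha)

omit [Finite Γ] in
theorem ab_cj {H : Subgroup Γ} (hH : Ab A H) (g : Γ) : Ab A (cj g H) := fun a ha b hb => by
  simpa [mul_assoc] using h.conj g (hH _ (mem_cj.1 ha) (mem_cj.1 hb))

omit [Finite Γ] in
theorem nrm_A {g a : Γ} (e : A (g * a * g⁻¹) = A a) : g ∈ 𝒩 (A a) :=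
  CfsgH2.cj_eq_iff.1 ((h.cj_A g a).trans e)

omit [Finite Γ] in
theorem norm_ne {K : Subgroup Γ} (h0 : K ≠ ⊥) (hs : Group.IsSolvable K) : 𝒩 K ≠ ⊤ :=
  fun e => h0 (h.rad K (normalizer_eq_top_iff.1 e) hs)

theorem nz_ne {a : Γ} (h0 : a ≠ 1) : 𝒩 (zpowers a) ≠ ⊤ :=
  h.norm_ne (by rwa [Ne, zpowers_eq_bot]) (solv_zpowers a)

theorem c1_ne {a : Γ} (h0 : a ≠ 1) : 𝒞₁ a ≠ ⊤ := fun e =>
  h.nz_ne h0 (eq_top_iff.2 fun g _ => nrm_zp (mem_c1.1 (e.ge (mem_top g))).symm)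

omit [Finite Γ] in
theorem ab_or {H : Subgroup Γ} (hH : H ≠ ⊤) {a : Γ} (ha : a ∈ H) : Ab A (H ⊓ A a) ∨ H ≤ A a :=
  (em _).imp_right fun e => let ⟨_, hb, _, hc, f⟩ := not_ab e; h.ca hH ha hb.1 hc.1 hb.2 hc.2 f

omit [Finite Γ] in
theorem max {x : Γ} (hx : Bad A x) {H : Subgroup Γ} (hH : H ≠ ⊤) (hle : A x ≤ H) : H ≤ A x :=
  (h.ab_or hH (hle (h.self x))).resolve_left fun e => hx.2 (e.mono (le_inf hle le_rfl))

theorem cent {x : Γ} (hx : Bad A x) : 𝒞₁ x ≤ A x := h.max hx (h.c1_ne hx.1) (h.le x)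

theorem nz_le {x : Γ} (hx : Bad A x) : 𝒩 (zpowers x) ≤ A x :=
  h.max hx (h.nz_ne hx.1) fun _ hg => nrm_zp (h.cm hg).symm

theorem sq_of_inv {x g : Γ} (hx : Bad A x) (e : g * x * g⁻¹ = x⁻¹) : x * x = 1 := by
  have := h.cm (h.nz_le hx (CfsgH1.mem_normalizer_of_cj_le (g := g) (by
    rw [CfsgH1.cj_zpowers, e, zpowers_inv])))
  rw [← this, mul_inv_cancel_right] at e
  exact mul_eq_one_iff_eq_inv.2 e

omit [Finite Γ] in
theorem bad_conj {x : Γ} (hx : Bad A x) (g : Γ) : Bad A (g * x * g⁻¹) :=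
  ⟨conj_ne_one g hx.1, fun e => hx.2 (by
    have := h.ab_cj e g⁻¹
    rwa [h.cj_A, show g⁻¹ * (g * x * g⁻¹) * g⁻¹⁻¹ = x by group] at this)⟩

omit [Finite Γ] in
theorem bad_pow {x : Γ} (hx : Bad A x) {n : ℕ} (h1 : x ^ n ≠ 1) : Bad A (x ^ n) :=
  ⟨h1, fun e => hx.2 (e.mono (h.pow_le x n))⟩

theorem fratt {N : Subgroup Γ} (hN : N.Normal) (h0 : N ≠ ⊥) {c : Γ} (hc : N ≤ A c) : c = 1 := by
  haveI := Fact.mk Nat.prime_two
  have hs : ¬ Group.IsSolvable N := fun e => h0 (h.rad N hN e)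
  obtain ⟨S, hS⟩ := CfsgH2.exists_isSylowOf 2 N
  obtain ⟨n, hn, s, hs', e⟩ := exists_pair hS hs
  have h1 := h.ca (H := 𝒩 S) (fun e => norm_ne_top hS hs (le_top.trans e.ge))
    (nrm_of_comm fun a ha => h.cm (hc (hS.1 ha))) hn.2 (le_normalizer hs') (hc hn.1)
    (hc (hS.1 hs')) fun f => e (h.cm f)
  exact h.top (eq_top_iff.2 ((hS.frattini le_top fun g _ => nrm_all hN g).ge.trans
    (sup_le hc (inf_le_right.trans h1))))

theorem same {x y b c : Γ} (x1 : x ≠ 1) (y1 : y ≠ 1) (h1 : b ∈ A x) (h2 : c ∈ A x) (h3 : b ∈ A y)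
    (h4 : c ∈ A y) (e : c ∉ A b) : A x ≤ A y := by
  have key : ∀ z, b ∈ A z → c ∈ A z → zpowers b ⊔ zpowers c ≤ A z := fun z h1 h2 =>
    sup_le (zpowers_le.2 h1) (zpowers_le.2 h2)
  have h5 := h.ca (H := 𝒩 (zpowers b ⊔ zpowers c : Subgroup Γ)) (fun f => x1 (h.fratt
      (normalizer_eq_top_iff.1 f) (fun f => e (by
        rw [mem_bot.1 (f.le (mem_sup_right (mem_zpowers c)))]; exact one_mem _)) (key x h1 h2)))
    (nrm_of_comm fun a ha => h.cm (key x h1 h2 ha))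
    (le_normalizer (mem_sup_left (mem_zpowers b))) (le_normalizer (mem_sup_right (mem_zpowers c)))
    h1 h2 e (nrm_of_comm fun a ha => h.cm (key y h3 h4 ha))
  exact h.ca (fun f => x1 (h.top f)) h5 h1 h2 h3 h4 e

theorem mem_of_eq {x g : Γ} (hx : Bad A x) (e : A (g * x * g⁻¹) = A x) : g ∈ A x :=
  h.max hx (fun f => hx.1 (h.fratt (normalizer_eq_top_iff.1 f)
    (fun f => hx.1 (mem_bot.1 (f.le (h.self x)))) le_rfl)) le_normalizer (h.nrm_A e)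

theorem mem_of_nab {x g : Γ} (x1 : x ≠ 1) {T : Subgroup Γ} (hT : ¬ Ab A T) (h1 : T ≤ A x)
    (h2 : T ≤ A (g * x * g⁻¹)) : g ∈ A x := by
  obtain ⟨b, hb, c, hc, e⟩ := not_ab hT
  exact h.mem_of_eq ⟨x1, fun f => hT (f.mono h1)⟩ (le_antisymm
    (h.same (conj_ne_one g x1) x1 (h2 hb) (h2 hc) (h1 hb) (h1 hc) e)
    (h.same x1 (conj_ne_one g x1) (h1 hb) (h1 hc) (h2 hb) (h2 hc) e))

theorem norm_le {x : Γ} (x1 : x ≠ 1) {T : Subgroup Γ} (hT : ¬ Ab A T) (h1 : T ≤ A x) :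
    𝒩 T ≤ A x := fun g hg => h.mem_of_nab x1 hT h1 (by
  rw [← h.cj_A, ← CfsgH2.cj_eq_iff.2 hg]; exact cj_mono g h1)

theorem c_le {p k : ℕ} [Fact p.Prime] {a : Γ} (ha : a ^ p ^ k = 1) {P X : Subgroup Γ}
    (hP : IsSylowOf p P X) (h1 : P ≤ A a) : X ⊓ 𝒞₁ a ≤ A a := by
  rw [← (isSylowOf_iff_isSylowIn.1 (hP.mono (le_inf hP.1 (h1.trans (h.le a))) inf_le_left)).sup_resIn]
  exact sup_le h1 (CfsgH1.resIn_le_of_pow_mem fun g hg => ⟨k, h.pow (mem_c1.1 hg.2) ha⟩)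

/-- isolation -/
theorem isol {p k : ℕ} [Fact p.Prime] {y g : Γ} (y1 : y ≠ 1) (hy : y ^ p ^ k = 1) {P : Subgroup Γ}
    (hP : IsSylowOf p P (A y)) (hn : ¬ Ab A P) (hg : g * y * g⁻¹ ∈ A y) : g ∈ A y := by
  by_contra ne
  have ab : Ab A (A y ⊓ A (g * y * g⁻¹)) := by_contra fun e =>
    ne (h.mem_of_nab y1 e inf_le_left inf_le_right)
  have hy' : (g * y * g⁻¹) ^ p ^ k = 1 := by rw [conj_pow, hy]; simp
  obtain ⟨T, hT, hyT⟩ := CfsgH2.exists_isSylowOf_ge (H := A y ⊓ A (g * y * g⁻¹))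
    ((CfsgH1.isPGroup_zpowers hy).to_sup_of_normal_left' (CfsgH1.isPGroup_zpowers hy')
      (zpowers_le.2 (nrm_zp (h.cm hg).symm)))
    (sup_le (zpowers_le.2 ⟨h.self y, h.symm hg⟩) (zpowers_le.2 ⟨hg, h.self _⟩))
  have m1 : y ∈ T := hyT (mem_sup_left (mem_zpowers y))
  have m2 : g * y * g⁻¹ ∈ T := hyT (mem_sup_right (mem_zpowers _))
  have nT := h.norm_ne (fun e => y1 (mem_bot.1 (e.le m1))) (CfsgH2.isSolvable_of_isPGroup hT.2.1)
  have key : ∀ z w : Γ, z ∈ T → w ∈ T → A y ⊓ A (g * y * g⁻¹) = A z ⊓ A w → ∀ Q,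
      IsSylowOf p Q (A z) → ¬ Ab A Q → ∃ n ∈ 𝒩 T, n ∉ A w ∧ 𝒩 T ≤ A z := by
    intro z w hz hw e Q hQ nQ
    obtain ⟨a, ha, hle⟩ := hQ.exists_cj_le hT.2.1 (hT.1.trans (e.le.trans inf_le_left))
    have hQ' := hQ.cj_of_mem_normalizer (le_normalizer (inv_mem ha))
    have hTQ : T ≤ cj a⁻¹ Q := fun t ht => mem_cj.2 (by simpa using hle (CfsgH2.conj_mem_cj a ht))
    by_contra! hh
    have : cj a⁻¹ Q ⊓ 𝒩 T ≤ A w := fun n hn => by_contra fun f => hh n hn.2 f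
      (h.ca nT (le_normalizer hz) (le_normalizer hw) hn.2 (e.le (hT.1 hw)).1 (hQ'.1 hn.1) f)
    have h3 := CfsgH1.le_of_inf_normalizer_le hQ'.2.1 hTQ (hT.eq_of_le (hQ'.2.1.to_le inf_le_left)
      (le_inf hTQ le_normalizer) ((le_inf (inf_le_left.trans hQ'.1) this).trans e.ge)).le
    have := h.ab_cj (ab.mono (h3.trans hT.1)) a
    rw [cj_cj_inv] at this
    exact nQ this
  obtain ⟨n, hn', n1, -⟩ := key _ _ m1 m2 rfl P hP hn
  obtain ⟨_, -, -, n2⟩ := key _ _ m2 m1 (inf_comm _ _) (cj g P) (h.cj_A g y ▸ hP.cj g) fun e => by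
    have := h.ab_cj e g⁻¹
    rw [cj_inv_cj] at this
    exact hn this
  exact n1 (n2 hn')

theorem exists_soc {x : Γ} (x1 : x ≠ 1) : ∃ L : Subgroup Γ, Soc L := by
  obtain ⟨L, ⟨nL, L0⟩, mL⟩ := WellFounded.has_min (wellFounded_lt (α := Subgroup Γ))
    {N | N.Normal ∧ N ≠ ⊥} ⟨⊤, inferInstance, fun e => x1 (mem_bot.1 (e.le (mem_top x)))⟩
  have mL' : ∀ N ≤ L, N.Normal → N = ⊥ ∨ N = L := fun N h1 h2 =>
    (em _).imp_right fun e => h1.eq_of_not_lt (mL N ⟨h2, e⟩)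
  have ab : ∀ J ≤ L, L ≤ 𝒩 J → J ≤ 𝒞 J → J = ⊥ := fun J h1 h2 h3 => by
    haveI := isMulCommutative_iff_le.2 h3
    haveI := CfsgL0.isNilpotent_fittingOf (H := L)
    exact eq_bot_iff.2 ((CfsgL0.le_fittingOf h1 h2 (CfsgL0.isNilpotent_of_isMulCommutative ‹_›)).trans (h.rad _
      (normal_of fun g => CfsgL0.normalizer_le_normalizer_fittingOf (nrm_all nL g))
      inferInstance).le)
  have perf : ⁅L, L⁆ = L := (mL' _ (commutator_le_left L L) inferInstance).resolve_left fun e =>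
    L0 (ab L le_rfl le_normalizer (commutator_eq_bot_iff_le_centralizer.1 e))
  have mn : ∀ N : Subgroup Γ, N.Normal → N ≠ ⊥ → L ≤ N := fun N hN N0 =>
    inf_eq_right.1 ((mL' (N ⊓ L) inf_le_right inferInstance).resolve_left fun e => N0
      (eq_bot_iff.2 fun c hc => h.fratt nL L0 (perf.ge.trans (commutator_le.2 fun a ha b hb =>
        have := commutator_eq_bot_iff_le_centralizer.1
          (eq_bot_iff.2 ((commutator_le_inf N L).trans e.le)) hc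
        h.comm (this a ha).symm (this b hb).symm))))
  refine ⟨L, nL, simp_of (fun e => L0 (ab L le_rfl le_normalizer e)) fun J0 h1 h2 => ?_, mn⟩
  by_contra! hh
  obtain ⟨J, ⟨J1, J2, J3⟩, mJ⟩ := WellFounded.has_min (wellFounded_lt (α := Subgroup Γ))
    {J | J ≠ ⊥ ∧ J ≤ J0 ∧ L ≤ 𝒩 J} ⟨J0, hh.1, le_rfl, h2⟩
  have mJ' : ∀ N ≤ J, L ≤ 𝒩 N → N = ⊥ ∨ N = J := fun N h1 h2 =>
    (em _).imp_right fun e => h1.eq_of_not_lt (mJ N ⟨e, h1.trans J2, h2⟩)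
  have JL := J2.trans h1
  obtain ⟨g, hg⟩ : ∃ g, g ∉ 𝒩 J := by
    by_contra! f
    exact hh.2 (le_antisymm h1 ((mn J (normal_of f) J1).trans J2))
  have J4 : L ≤ 𝒩 (cj g J) := fun a ha => CfsgH1.mem_normalizer_of_cj_le (by
    rw [cj_cj, show a * g = g * (g⁻¹ * a * g) by group, ← cj_cj,
      show cj (g⁻¹ * a * g) J = J from CfsgH2.cj_eq_iff.2 (J3 (nL.conj_mem' a ha g))])
  have J5 : cj g J ≤ L := fun a ha => by simpa [mul_assoc] using nL.conj_mem _ (JL (mem_cj.1 ha)) g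
  have ne : ¬ J ≤ cj g J := fun e =>
    hg (CfsgH2.cj_eq_iff.1 (eq_of_le_of_card_ge e (CfsgH2.card_cj g J).le).symm)
  have i0 : J ⊓ cj g J = ⊥ := (mJ' _ inf_le_left fun a ha => nrm_inf (J3 ha) (J4 ha)).resolve_right
    fun e => ne (inf_eq_left.1 e)
  have cc : ∀ a ∈ J, ∀ y ∈ cj g J, y * a = a * y := fun a ha y hy =>
    commutatorElement_eq_one_iff_mul_comm.1 (mem_bot.1 (i0.le
      ⟨comm_mem_r (J3 (J5 hy)) ha, comm_mem_l (J4 (JL ha)) hy⟩))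
  have pJ : ⁅J, J⁆ = J := (mJ' _ (commutator_le.2 fun a ha b hb => comm_mem_l (le_normalizer hb) ha)
    fun a ha => nrm_comm (J3 ha) (J3 ha)).resolve_left fun e =>
      J1 (ab J JL J3 (commutator_eq_bot_iff_le_centralizer.1 e))
  have nab : ¬ J ≤ 𝒞 J := fun e => J1 (ab J JL J3 e)
  obtain ⟨b, hb, c, hc, e⟩ := not_ab (A := A) fun e => nab (h.ab_le e)
  have JA : ∀ y ∈ cj g J, J ≤ A y := fun y hy => pJ.ge.trans (commutator_le.2 fun a ha b hb =>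
    h.comm (cc a ha y hy) (cc b hb y hy))
  have nt : J ⊔ cj g J ≠ ⊤ := fun f => ne (JL.trans (mn _ (normal_of fun a =>
    (sup_le (fun a ha => nrm_of_comm fun y hy => (cc a ha y hy).symm) le_normalizer :
      _ ≤ 𝒩 (cj g J)) (f.ge (mem_top a))) fun f => J1 (by simpa [cj_inv_cj] using congrArg (cj g⁻¹) f)))
  refine nab fun a ha a' ha' => ?_
  have := h.cm (h.ca nt (mem_sup_right (conj_mem_cj g ha')) (mem_sup_left hb) (mem_sup_left hc)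
    (JA _ (conj_mem_cj g ha') hb) (JA _ (conj_mem_cj g ha') hc) e (mem_sup_right (conj_mem_cj g ha)))
  simpa [mul_assoc] using conj_comm g⁻¹ this

end CS

/-- the data of the final step -/
structure Fv (A : Γ → Subgroup Γ) (L : Subgroup Γ) (x v : Γ) : Prop where
  bad : Bad A x
  odd : Odd #(A x)
  ne : v ≠ 1
  mem : v ∈ L
  memA : v ∈ A x
  cm : ∀ g ∈ A x, v * (g * v * g⁻¹) = g * v * g⁻¹ * v

theorem CS.exists_fv (h : CS A) {L : Subgroup Γ} (hL : Soc L) {x : Γ} (hx : Bad A x)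
    (ho : Odd #(A x)) : ∃ x v, Fv A L x v := by
  obtain ⟨n, hn⟩ := exists_pow_prime hx.1
  have hx' := h.bad_pow hx (n := n) fun e => hn.ne_one (by rw [e, orderOf_one])
  have e : A (x ^ n) = A x := le_antisymm (h.max hx (fun f => hx'.1 (h.top f)) (h.pow_le x n))
    (h.pow_le x n)
  have Y0 : L ⊓ A x ≠ ⊥ := fun f => by
    haveI := thompson_nilpotent (K := L) (R := zpowers (x ^ n)) (fun g _ => nrm_all hL.normal g)
      (by rwa [Nat.card_zpowers]) (eq_bot_iff.2 (by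
        rw [c_zp, ← f, ← e]; exact inf_le_inf_left _ (h.cent hx')))
    obtain ⟨a, ha, b, hb, f⟩ := hL.simp.nc
    rw [h.rad L hL.normal inferInstance, mem_bot] at ha
    exact f (by simp [ha])
  obtain ⟨v, hv, v1⟩ := (ctr (fittingOf (L ⊓ A x))).bot_or_exists_ne_one.resolve_left
    (ctr_ne_bot CfsgL0.isNilpotent_fittingOf (fittingOf_ne_bot (CfsgL0.odd_solvable
      (ho.of_dvd_nat (card_dvd_of_le inf_le_right))) Y0))
  have := CfsgL0.fittingOf_le hv.1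
  exact ⟨x, v, hx, ho, v1, this.1, this.2, fun g hg => (hv.2 _ (conj_mem
    (CfsgL0.normalizer_le_normalizer_fittingOf (nrm_inf (nrm_all hL.normal g) (le_normalizer hg)))
    hv.1)).symm⟩

omit [Finite Γ] in
theorem Fv.conj (h : CS A) {L : Subgroup Γ} (hL : Soc L) {x v : Γ} (f : Fv A L x v) (g : Γ) :
    Fv A L (g * x * g⁻¹) (g * v * g⁻¹) :=
  ⟨h.bad_conj f.bad g, by rw [← h.cj_A, CfsgH1.card_cj]; exact f.odd, conj_ne_one g f.ne,
    hL.normal.conj_mem _ f.mem g, h.conj g f.memA, fun a ha => by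
      rw [← h.cj_A] at ha
      simpa [mul_assoc] using conj_comm g (f.cm _ (mem_cj.1 ha))⟩

theorem Fv.norm (h : CS A) {L T : Subgroup Γ} (hL : Soc L) {x v : Γ} (f : Fv A L x v)
    (hT : L ⊓ 𝒞₁ v = T) (ab : T ≤ 𝒞 T) : 𝒩 T ≤ A x := by
  subst hT
  haveI := isMulCommutative_iff_le.2 ab
  refine h.max f.bad (h.norm_ne (fun e => f.ne (mem_bot.1 (e.le ⟨f.mem, mem_c1.2 rfl⟩)))
    (CfsgH2.isSolvable_of_isMulCommutative inferInstance)) fun g hg =>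
      CfsgL0.mem_normalizer_of_conj_mem fun y hy => ⟨hL.normal.conj_mem _ hy.1 g, mem_c1.2 ?_⟩
  have := ab hy _ (⟨hL.normal.conj_mem _ f.mem g⁻¹, mem_c1.2 (f.cm _ (inv_mem hg))⟩ : _ ∈ L ⊓ 𝒞₁ v)
  simpa [mul_assoc] using conj_comm g this

theorem Fv.not_inv (h : CS A) {L T : Subgroup Γ} (hL : Soc L) {x v : Γ} (f : Fv A L x v)
    (hT : L ⊓ 𝒞₁ v = T) {j : Γ} (j1 : j ≠ 1) (jj : j * j = 1) (hj : ∀ y ∈ T, j * y * j⁻¹ = y⁻¹) :
    False := by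
  refine j1 (eq_one_of_odd_of_sq f.odd (f.norm h hL hT (fun a ha b hb => ?_)
    (CfsgL0.mem_normalizer_of_conj_mem fun y hy => by rw [hj y hy]; exact inv_mem hy)) jj)
  have := hj _ (mul_mem ha hb)
  rw [show j * (a * b) * j⁻¹ = j * a * j⁻¹ * (j * b * j⁻¹) by group, hj a ha, hj b hb] at this
  simpa using congrArg (·⁻¹) this

/-- abelian TI Sylow `2`-subgroups in the socle -/
theorem CS.fin_ti (h : CS A) {L S : Subgroup Γ} (hL : Soc L) {x : Γ} (hx : Bad A x)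
    (ho : Odd #(A x)) (hS : IsSylowOf 2 S L) (h0 : S ≠ ⊥)
    (hc : ∀ u ∈ S, u ≠ 1 → u * u = 1 → L ⊓ 𝒞₁ u ≤ 𝒞 S) : False := by
  obtain ⟨x, v, f⟩ := h.exists_fv hL hx ho
  obtain ⟨j, -, j1, jj, hj⟩ := ri hL.simp hS h0 hc f.mem f.ne
    (f.odd.of_dvd_nat (orderOf_dvd_natCard _ f.memA))
  exact f.not_inv h hL rfl j1 jj fun y hy => by rw [inv_eq_of_sq jj]; exact hj y hy

end CfsgCA
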