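/-
Minimal non-CA groups (S4369): non-abelian Sylow `2`-subgroups.
-/
import Cfsg.Agent.AG.CA2

set_option autoImplicit false

namespace CfsgCA

open Subgroup CfsgFT CfsgHH CfsgBS CfsgAG
open scoped commutatorElement

universe u

section gen

variable {G : Type*} [Group G] [Finite G]

theorem syl_ne_bot {X S : Subgroup G} (hX : Simp X) (hS : IsSylowOf 2 S X) : S ≠ ⊥ := fun e =>
  simp_even hX (Nat.not_even_iff_odd.1 fun f => hS.2.2 (by rw [e, relIndex_bot_left]; exact f.two_dvd))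

theorem thompson {X S T : Subgroup G} (hX : Simp X) (hS : IsSylowOf 2 S X)
    (hT : T.relIndex S = 2) {u : G} (hu : u ∈ X) (uu : u * u = 1) : ∃ g ∈ X, g * u * g⁻¹ ∈ T := by
  haveI := Fact.mk Nat.prime_two
  haveI := hX.simple
  by_contra! hh
  obtain ⟨P, hP, -⟩ := hS.exists_sylow
  obtain ⟨M, hM, h2, -⟩ := CfsgH4.thompson_transfer P (Q := T.subgroupOf X)
    (by rw [hP, relIndex_subgroupOf hS.1, hT]) (u := ⟨u, hu⟩) (Subtype.ext uu) fun g => hh g g.2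
  rcases hM.eq_bot_or_eq_top with e | e
  · rw [e, index_bot] at h2
    haveI := isCyclic_of_prime_card (p := 2) h2
    obtain ⟨a, ha, b, hb, e⟩ := hX.nc
    exact e (congrArg Subtype.val (IsCyclic.commutative.1.1 (⟨a, ha⟩ : X) ⟨b, hb⟩))
  · rw [e, index_top] at h2
    exact absurd h2 (by norm_num)

theorem exists_sqrt' {X : Subgroup G} (ho : Odd #X) {b : G} (hb : b ∈ X) : ∃ a ∈ X, a * a = b := by
  obtain ⟨k, hk⟩ := ho
  refine ⟨b ^ (k + 1), pow_mem hb _, ?_⟩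
  have : b ^ #X = 1 := congrArg Subtype.val (pow_card_eq_one' (x := (⟨b, hb⟩ : X)))
  rw [← pow_add, show k + 1 + (k + 1) = #X + 1 by omega, pow_succ, this, one_mul]

omit [Finite G] in
theorem comm_of_sq {a b : G} (ha : a * a = 1) (hb : b * b = 1) (h : a * b * (a * b) = 1) :
    a * b = b * a := by
  rw [← inv_eq_of_sq h, mul_inv_rev, inv_eq_of_sq ha, inv_eq_of_sq hb]

omit [Finite G] in
theorem sq_of_inv3 {a g g' : G} (h1 : g * a * g⁻¹ = a⁻¹) (h2 : g' * a * g'⁻¹ = a⁻¹)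
    (h3 : g * g' * a * (g * g')⁻¹ = a⁻¹) : a * a = 1 := by
  rw [show g * g' * a * (g * g')⁻¹ = (g * (g' * a * g'⁻¹)⁻¹ * g⁻¹)⁻¹ by group, h2, inv_inv, h1,
    inv_inv] at h3
  exact mul_eq_one_iff_eq_inv.2 h3

end gen

variable {Γ : Type u} [Group Γ] [Finite Γ] {A : Γ → Subgroup Γ}

namespace CS

variable (h : CS A)
include h

theorem not_isol {u : Γ} (u1 : u ≠ 1) (uu : u * u = 1) : ¬ CfsgZD.IsolIn ⊤ u := fun hi =>
  h.c1_ne u1 (eq_top_iff.2 fun m _ => mem_c1.2 (commutatorElement_eq_one_iff_mul_comm.1 (mem_bot.1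
    ((h.rad _ (normalizer_eq_top_iff.1 (top_le_iff.1 CfsgL0.le_normalizer_pPrimeCoreOf))
      (CfsgL0.odd_solvable (odd_O ⊤))).le (hi.comm_mem_O trivial uu trivial)))))

theorem ex_v {T : Subgroup Γ} (hT : IsPGroup 2 T) (nz : ∀ w ∈ T, T ≤ A w → w = 1) {u : Γ}
    (hu : u ∈ T) (u1 : u ≠ 1) (uu : u * u = 1) : ∃ v ∈ T, u * v = v * u ∧ v ∉ A u := by
  haveI := Fact.mk Nat.prime_two
  have T0 : T ≠ ⊥ := fun e => u1 (mem_bot.1 (e.le hu))
  have nt : T ≠ ⊤ := fun e =>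
    h.norm_ne T0 (CfsgH2.isSolvable_of_isPGroup hT) (top_le_iff.1 (e.ge.trans le_normalizer))
  obtain ⟨t, ht, t1, tt⟩ := exists_ctr_invol hT T0
  by_cases e : t ∈ A u
  · obtain ⟨s, hs, hs'⟩ := SetLike.not_le_iff_exists.1 fun f => t1 (nz t ht.1 f)
    have key : ∀ s ∈ T, s ∉ A t → s * s = 1 := fun s hs hs' => nz _ (mul_mem hs hs)
      (h.ca nt (mul_mem hs hs) ht.1 hs (h.symm (by
        rw [← sq]; exact h.pow (ht.2 s hs).symm (by rwa [sq])))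
        (h.symm (mul_mem (h.self s) (h.self s))) hs')
    exact ⟨s, hs, comm_of_sq uu (key s hs hs') (key _ (mul_mem hu hs) fun f =>
      hs' ((mul_mem_cancel_left (h.symm e)).1 f)), fun f => u1 (nz u hu (h.ca nt hu ht.1 hs e f hs'))⟩
  · exact ⟨t, ht.1, ht.2 u hu, e⟩

end CS

/-- non-abelian Sylow `2`-subgroups -/
structure NA (A : Γ → Subgroup Γ) (L : Subgroup Γ) : Prop extends CS A where
  soc : Soc L
  na : ∀ S, IsSylowOf 2 S ⊤ → ¬ Ab A S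

namespace NA

variable {L : Subgroup Γ} (h : NA A L)
include h

theorem nz {S : Subgroup Γ} (hS : IsSylowOf 2 S ⊤) {w : Γ} (hw : w ∈ S) (e : S ≤ A w) : w = 1 := by
  haveI := Fact.mk Nat.prime_two
  by_contra w1
  obtain ⟨n, u1, uu⟩ := exists_invol_pow' hS.2.1 hw w1
  have e' := e.trans (h.pow_le w n)
  refine h.not_isol u1 uu fun m _ f => ?_
  have := h.cm (h.isol (p := 2) (k := 1) u1 (by simpa [sq] using uu) (hS.mono e' le_top) (h.na S hS)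
    (h.cent ⟨u1, fun f => h.na S hS (f.mono e')⟩ (mem_c1.2 f.symm)))
  rw [← this, mul_inv_cancel_right]

theorem ex_v' {u : Γ} (u1 : u ≠ 1) (uu : u * u = 1) :
    ∃ T : Subgroup Γ, IsPGroup 2 T ∧ u ∈ T ∧ ∃ v ∈ T, u * v = v * u ∧ v ∉ A u := by
  haveI := Fact.mk Nat.prime_two
  obtain ⟨S, hS, e⟩ := CfsgH2.exists_isSylowOf_ge (pg_invol uu) le_top
  exact ⟨S, hS.2.1, e (mem_zpowers u),
    h.ex_v hS.2.1 (fun w hw => h.nz hS hw) (e (mem_zpowers u)) u1 uu⟩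

theorem ab_inv {u : Γ} (u1 : u ≠ 1) (uu : u * u = 1) : Ab A (A u) := by_contra fun e =>
  let ⟨_, _, _, _, _, h1, h2⟩ := h.ex_v' u1 uu
  h2 (h.cent ⟨u1, e⟩ (mem_c1.2 h1))

theorem lemY {y : Γ} (y1 : y ≠ 1) (yo : Odd (orderOf y)) {T : Subgroup Γ} (hT : IsPGroup 2 T)
    (hle : T ≤ A y) : Ab A T := by
  haveI := Fact.mk Nat.prime_two
  by_contra nT
  have key : ∀ u ∈ A y, u ≠ 1 → u * u = 1 → 𝒞₁ u ≤ A y := fun u hu u1 uu => by
    obtain ⟨S, hS, e⟩ := CfsgH2.exists_isSylowOf_ge (pg_invol uu) (zpowers_le.2 hu)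
    obtain ⟨a, -, ha⟩ := hS.exists_cj_le hT hle
    obtain ⟨v, hv, h1, h2⟩ := h.ex_v hS.2.1 (fun w hw f => by_contra fun w1 => by
      obtain ⟨n, u1, uu⟩ := exists_invol_pow' hS.2.1 hw w1
      have := h.ab_cj ((h.ab_inv u1 uu).mono (ha.trans (f.trans (h.pow_le w n)))) a⁻¹
      rw [cj_inv_cj] at this
      exact nT this) (e (mem_zpowers u)) u1 uu
    exact h.ca (h.c1_ne u1) (h.le u (h.symm hu)) (mem_c1.2 rfl) (mem_c1.2 h1) hu (hS.1 hv) h2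
  refine y1 (se_odd (simp_four h.soc.simp).of_subgroup (se_of (fun e => y1 (h.top e)) (fun ho => ?_)
    fun g u hu hg u1 uu => ?_) (by_contra fun e => y1 (h.fratt inferInstance e (normalCore_le _)))
    (h.le y) yo)
  · obtain ⟨b, hb, c, hc, e⟩ := not_ab nT
    obtain ⟨n, h1, h2⟩ := exists_invol_pow' hT hc fun f => e (f ▸ one_mem _)
    exact h1 (eq_one_of_odd_of_sq ho (hle (pow_mem hc n)) h2)
  · obtain ⟨-, -, -, v, -, h1, h2⟩ := h.ex_v' u1 uu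
    refine h.mem_of_nab y1 (fun f => h2 ?_) inf_le_left inf_le_right
    have := h.conj g⁻¹ (f _ ⟨hg, h.conj g hu⟩ ⟨key _ hg (conj_ne_one g u1) (conj_sq g uu)
      (mem_c1.2 (conj_comm g h1)), h.conj g (key u hu u1 uu (mem_c1.2 h1))⟩)
    simpa [mul_assoc] using this

theorem sq_out {u g : Γ} (u1 : u ≠ 1) (uu : u * u = 1) (e : u * g = g * u) (hg : g ∉ A u) :
    g * g = 1 := by
  by_contra w1
  have hle : 𝒞₁ u ≤ A (g * g) := h.ca (h.c1_ne u1) (mul_mem (mem_c1.2 e) (mem_c1.2 e)) (mem_c1.2 rfl)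
    (mem_c1.2 e) (h.symm (by rw [← sq]; exact h.pow e (by rwa [sq])))
    (h.symm (mul_mem (h.self g) (h.self g))) hg
  by_cases ho : Odd (orderOf (g * g))
  · obtain ⟨T, hT, hu, v, hv, h1, h2⟩ := h.ex_v' u1 uu
    exact h2 (h.lemY w1 ho (hT.to_le inf_le_left) (inf_le_right.trans hle) u ⟨hu, mem_c1.2 rfl⟩
      ⟨hv, mem_c1.2 h1⟩)
  · obtain ⟨n, h1, h2⟩ := exists_invol_pow ho
    exact hg ((h.ab_inv h1 h2).mono (hle.trans (h.pow_le _ n)) u (mem_c1.2 rfl) (mem_c1.2 e))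

theorem inv_out {u g a : Γ} (u1 : u ≠ 1) (uu : u * u = 1) (e : u * g = g * u) (hg : g ∉ A u)
    (ha : a ∈ A u) : g * a * g⁻¹ = a⁻¹ := by
  have := h.sq_out u1 uu (g := a * g) (by rw [← mul_assoc, h.cm ha, mul_assoc, e, mul_assoc])
    fun f => hg ((mul_mem_cancel_left ha).1 f)
  rw [inv_eq_of_sq (h.sq_out u1 uu e hg)]
  exact eq_inv_of_mul_eq_one_right (by rw [← this]; group)

theorem A_eq {u a : Γ} (u1 : u ≠ 1) (uu : u * u = 1) (ha : a ∈ A u) (a1 : a ≠ 1) : A a = A u := by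
  obtain ⟨-, -, -, v, -, h1, h2⟩ := h.ex_v' u1 uu
  have : Ab A (A a) := by_contra fun e =>
    e (h.ab_inv a1 (h.sq_of_inv ⟨a1, e⟩ (h.inv_out u1 uu h1 h2 ha)))
  exact le_antisymm (this u (h.symm ha)) (h.ab_inv u1 uu a ha)

theorem odd {x : Γ} (hx : Bad A x) : Odd #(A x) := odd_card_iff.2 fun u hu uu => by_contra fun u1 =>
  hx.2 (h.A_eq u1 uu (h.symm hu) hx.1 ▸ h.ab_inv u1 uu)

theorem ti {u : Γ} (u1 : u ≠ 1) (uu : u * u = 1) (un : ∀ t ∈ A u, t * t = 1 → t = 1 ∨ t = u)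
    {y g : Γ} (hy : y ∈ A u) (y1 : y ≠ 1) (hg : g * y * g⁻¹ ∈ A u) : g * u = u * g := by
  have := h.nrm_A ((h.A_eq u1 uu hg (conj_ne_one g y1)).trans (h.A_eq u1 uu hy y1).symm)
  rw [h.A_eq u1 uu hy y1] at this
  rw [← mul_inv_eq_iff_eq_mul]
  exact (un _ (conj_mem this (h.self u)) (conj_sq g uu)).resolve_left (conj_ne_one g u1)

theorem exists_bh {x : Γ} (hx : Bad A x) : ∃ t s, BH L (L ⊓ A t) t s ∧ s ∉ A t ∧
    ∀ t' ∈ A t, t' * t' = 1 → t' = 1 ∨ t' = t := by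
  haveI := Fact.mk Nat.prime_two
  obtain ⟨S, hS⟩ := CfsgH2.exists_isSylowOf 2 L
  have S0 := syl_ne_bot h.soc.simp hS
  have fin := h.fin_ti h.soc hx (h.odd hx) hS S0
  by_cases c1 : ∃ t ∈ ctr S, t ≠ 1 ∧ t * t = 1 ∧ ∃ a ∈ L ⊓ A t, a * a ≠ 1
  swap
  · push Not at c1
    have key : ∀ t ∈ ctr S, t ≠ 1 → t * t = 1 → ∀ g ∈ L ⊓ 𝒞₁ t, g * g = 1 := fun t ht t1 tt g hg =>
      (em (g ∈ A t)).elim (fun e => c1 t ht t1 tt g ⟨hg.1, e⟩) (h.sq_out t1 tt (mem_c1.1 hg.2))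
    have key2 : ∀ t ∈ ctr S, t ≠ 1 → t * t = 1 → L ⊓ 𝒞₁ t ≤ 𝒞 S := fun t ht t1 tt g hg s hs =>
      have : s ∈ L ⊓ 𝒞₁ t := ⟨hS.1 hs, mem_c1.2 (ht.2 s hs).symm⟩
      comm_of_sq (key t ht t1 tt s this) (key t ht t1 tt g hg) (key t ht t1 tt _ (mul_mem this hg))
    obtain ⟨t, ht, t1, tt⟩ := exists_ctr_invol hS.2.1 S0
    exact (fin fun u hu => key2 u ⟨hu, key2 t ht t1 tt ⟨hS.1 hu, mem_c1.2 (ht.2 u hu).symm⟩⟩).elim
  obtain ⟨t, ht, t1, tt, a, ha, aa⟩ := c1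
  by_cases c2 : S ≤ A t
  · refine (fin fun u hu u1 uu => ?_).elim
    have e := h.A_eq t1 tt (c2 hu) u1
    exact (h.c_le (p := 2) (k := 1) (by simpa [sq] using uu) hS (c2.trans e.ge)).trans
      (e.le.trans ((h.ab_le (h.ab_inv t1 tt)).trans (centralizer_le c2)))
  obtain ⟨s, hs, hs'⟩ := SetLike.not_le_iff_exists.1 c2
  have ts : t * s = s * t := (ht.2 s hs).symm
  have ss := h.sq_out t1 tt ts hs'
  have two : ∀ g, t * g = g * t → g ∉ A t → g * s ∈ A t := fun g e hg => by_contra fun f =>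
    aa (sq_of_inv3 (h.inv_out t1 tt e hg ha.2) (h.inv_out t1 tt ts hs' ha.2)
      (h.inv_out t1 tt (by rw [← mul_assoc, e, mul_assoc, ts, mul_assoc]) f ha.2))
  have idx : (A t).relIndex S = 2 := index_eq_two_iff.2 ⟨⟨s, hs⟩, fun b => by
    by_cases e : (b : Γ) ∈ A t
    · exact Or.inr ⟨e, fun f => hs' ((mul_mem_cancel_left e).1 f)⟩
    · exact Or.inl ⟨two b (ht.2 b b.2).symm e, e⟩⟩
  have s1 : s ≠ 1 := fun e => hs' (e ▸ one_mem _)
  have un : ∀ t' ∈ A t, t' * t' = 1 → t' = 1 ∨ t' = t := fun t' ht' tt' => by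
    by_contra! hh
    obtain ⟨g, -, hg⟩ := thompson h.soc.simp hS idx (hS.1 hs) ss
    have h1 : g⁻¹ * a * g⁻¹⁻¹ ∈ A s := by
      simpa [mul_assoc] using h.conj g⁻¹ ((h.A_eq t1 tt hg (conj_ne_one g s1)).ge ha.2)
    have out : ∀ w ∈ A t, w ≠ 1 → w * w = 1 → w * (g⁻¹ * a * g⁻¹⁻¹) * w⁻¹ = (g⁻¹ * a * g⁻¹⁻¹)⁻¹ :=
      fun w hw w1 ww => h.inv_out s1 ss (by
        rw [← mul_inv_eq_iff_eq_mul, h.inv_out t1 tt ts hs' hw, inv_eq_of_sq ww])
        (fun f => hs' ((h.A_eq t1 tt hw w1).le (h.symm f))) h1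
    have := conj_sq g (sq_of_inv3 (out t (h.self t) t1 tt)
      (out t' ht' hh.1 tt') (out _ (mul_mem (h.self t) ht')
        (fun e => hh.2 (by rw [eq_inv_of_mul_eq_one_right e, inv_eq_of_sq tt]))
        (by rw [mul_assoc, ← mul_assoc t', ← h.cm ht', mul_assoc, tt', mul_one, tt])))
    exact aa (by simpa [mul_assoc] using this)
  refine ⟨t, s, ⟨h.soc.simp, inf_le_left, ⟨hS.1 ht.1, h.self t⟩, hS.1 hs, fun e => hs' e.2, t1, tt, ss,
    fun a ha b hb => h.cm (h.ab_inv t1 tt a ha.2 hb.2), fun y hy => h.inv_out t1 tt ts hs' hy.2,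
    fun g hg e => (em (g ∈ A t)).imp (fun f => ⟨hg, f⟩) fun f =>
      ⟨mul_mem hg (hS.1 hs), two g e.symm f⟩, fun y hy y1 g _ e => h.ti t1 tt un hy.2 y1 e.2,
    fun v hv v1 vv => ?_, ?_⟩, hs', un⟩
  · obtain ⟨g, hg, e⟩ := thompson h.soc.simp hS idx hv vv
    exact ⟨g⁻¹, inv_mem hg, by
      rw [← (un _ e (conj_sq g vv)).resolve_left (conj_ne_one g v1)]; group⟩
  · have h1 : 2 ∣ #(L ⊓ A t) := by
      rw [← orderOf_eq_prime (p := 2) (by rwa [sq]) t1]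
      exact orderOf_dvd_natCard _ (⟨hS.1 ht.1, h.self t⟩ : t ∈ L ⊓ A t)
    have h2 : #(L ⊓ A t) ≠ 2 := fun e => aa (by
      rw [← sq, ← e]; exact congrArg Subtype.val (pow_card_eq_one' (x := (⟨a, ha⟩ : ↥(L ⊓ A t)))))
    have h3 : 0 < #(L ⊓ A t) := Nat.card_pos
    omega

theorem false_of (hB : SpecBSW.{u}) {x : Γ} (hx : Bad A x) : False := by
  obtain ⟨t, s, bh, hs, un⟩ := h.exists_bh hx
  obtain ⟨e, q, p, Q, B, w, ls⟩ := hB Γ _ _ t s bh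
  obtain ⟨x, v, f⟩ := h.exists_fv h.soc hx (h.odd hx)
  obtain ⟨g, -, hg⟩ := ls.cover v f.mem
  replace f := f.conj h.toCS h.soc g
  generalize g * x * g⁻¹ = x at f
  generalize g * v * g⁻¹ = v at f hg
  have ts : t * s = s * t := by
    rw [eq_comm, ← mul_inv_eq_iff_eq_mul, bh.inv t bh.t_mem, inv_eq_of_sq bh.tt]
  rcases hg with hg | hg | hg
  · refine f.not_inv h.toCS h.soc (T := L ⊓ A t) (le_antisymm
      (fun y hy => ⟨hy.1, by_contra fun e => ?_⟩) fun y hy => ⟨hy.1, mem_c1.2 (bh.comm v hg y hy)⟩)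
      (j := s) (fun e => hs (e ▸ one_mem _)) bh.ss bh.inv
    have h1 : y * v * y⁻¹ = v := by rw [← mem_c1.1 hy.2, mul_inv_cancel_right]
    have := h.inv_out bh.t_ne bh.tt (h.ti bh.t_ne bh.tt un hg.2 f.ne (h1.symm ▸ hg.2)).symm e hg.2
    exact f.ne (eq_one_of_odd_of_sq f.odd f.memA (mul_eq_one_iff_eq_inv.2 (h1.symm.trans this)))
  swap
  · exact f.not_inv h.toCS h.soc (ls.ccA.cent v hg f.ne) ls.w_ne ls.ww ls.w_inv
  have hN := f.norm h.toCS h.soc (ls.ccQ.cent v hg f.ne) (isMulCommutative_iff_le.1 ls.elem.1)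
  rcases ls.sign with he | he
  · exact bh.t_ne (eq_one_of_odd_of_sq f.odd (hN ((ls.borel_pos he).1.ge
      (mem_sup_right bh.t_mem)).2) bh.tt)
  have hB : B ≤ A x := fun b hb => hN ((ls.borel_neg he).ge (mem_sup_right hb)).2
  have oB : Odd #B := f.odd.of_dvd_nat (card_dvd_of_le hB)
  obtain ⟨y, hy, y1⟩ := B.bot_or_exists_ne_one.resolve_left fun e' => by
    have h1 := ls.card_A
    have h2 := bh.four
    rw [e', card_bot, he] at h1
    omega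
  have cB : ∀ a ∈ B, ∀ b ∈ B, a * b = b * a := fun a ha b hb => (em (a = 1)).elim
    (fun e => by simp [e]) fun e => mem_c1.1 ((ls.ccA.cent a ha e).ge hb).2
  have hb : x * w * x⁻¹ * w ∈ B := (ls.norm_A _ (h.soc.normal.conj_mem _ ls.w_mem x)
    (CfsgL0.mem_normalizer_of_conj_mem fun b hb => by
      have := h.cm (hB hb)
      rw [show x * w * x⁻¹ * b * (x * w * x⁻¹)⁻¹ = x * (w * (x⁻¹ * (b * x)) * w⁻¹) * x⁻¹ by group,
        ← this, inv_mul_cancel_left, ls.w_inv b hb, h.cm (hB (inv_mem hb)), mul_inv_cancel_right]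
      exact inv_mem hb)).resolve_left fun e =>
    conj_ne_one x ls.w_ne (eq_one_of_odd_of_sq oB e (conj_sq x ls.ww))
  obtain ⟨a, ha, aa⟩ := exists_sqrt' oB (inv_mem hb)
  have cw : w * (a * x) = a * x * w := by
    have h1 := ls.w_inv a ha
    have h2 := cB a ha _ hb
    rw [inv_eq_of_sq ls.ww] at h1
    calc w * (a * x) = (x * w * x⁻¹ * w)⁻¹ * (x * w * x⁻¹ * w) * (w * a * w) * w⁻¹ * x := by group
      _ = a * (a * (x * w * x⁻¹ * w)) * a⁻¹ * w⁻¹ * x := by rw [← aa, h1]; group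
      _ = _ := by rw [h2]; group
  have hc : a * x ∈ A x := mul_mem (hB ha) (h.self x)
  by_cases c1 : a * x = 1
  · have : x ∈ B := by rw [eq_inv_of_mul_eq_one_right c1]; exact inv_mem ha
    exact f.bad.1 (eq_one_of_odd_of_sq oB this (h.sq_of_inv f.bad (ls.w_inv x this)))
  have hcw : a * x ∈ A w := by_contra fun e =>
    c1 (eq_one_of_odd_of_sq f.odd hc (h.sq_out ls.w_ne ls.ww cw e))
  obtain ⟨k, -, rfl⟩ := bh.conj w ls.w_mem ls.w_ne ls.ww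
  have := h.ti ls.w_ne ls.ww (fun t' ht' tt' => (un (k⁻¹ * t' * k⁻¹⁻¹)
    (by simpa [mul_assoc] using h.conj k⁻¹ ht') (conj_sq _ tt')).imp
      (fun e => by simpa [mul_assoc] using congrArg (fun y => k * y * k⁻¹) e)
      fun e => by rw [← e]; group) hcw c1 (g := y) (by
    rw [← mul_assoc, cB y hy a ha, mul_assoc a, ← h.cm (hB hy), ← mul_assoc, mul_inv_cancel_right]
    exact hcw)
  have h2 := ls.w_inv y hy
  rw [← this, mul_inv_cancel_right] at h2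
  exact y1 (eq_one_of_odd_of_sq oB hy (mul_eq_one_iff_eq_inv.2 h2))

end NA

end CfsgCA
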