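/-
Minimal non-CA groups (S4369): abelian Sylow `2`-subgroups, first part.
-/
import Cfsg.Agent.AG.CA3

set_option autoImplicit false

namespace CfsgCA

open Subgroup CfsgFT CfsgHH CfsgBS CfsgAG
open scoped commutatorElement

universe u

section gen

variable {G : Type*} [Group G] [Finite G]

theorem fus {p : ℕ} [Fact p.Prime] {S : Subgroup G} (hS : IsSylowOf p S ⊤) (ab : S ≤ 𝒞 S) {v g : G}
    (hv : v ∈ S) (hg : g * v * g⁻¹ ∈ S) : ∃ n ∈ 𝒩 S, n * v * n⁻¹ = g * v * g⁻¹ := by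
  obtain ⟨c, hc, e⟩ := ((hS.cj_of_mem_normalizer (nrm_all inferInstance g)).mono
    (K := 𝒞₁ (g * v * g⁻¹)) (fun a ha => mem_c1.2 (by
      simpa [mul_assoc] using conj_comm g (ab (mem_cj.1 ha) v hv))) le_top).exists_cj_eq
    (hS.mono (fun a ha => mem_c1.2 (ab ha _ hg)) le_top)
  refine ⟨c * g, CfsgH2.cj_eq_iff.1 (by rw [CfsgH2.cj_mul, e]), ?_⟩
  rw [show c * g * v * (c * g)⁻¹ = c * (g * v * g⁻¹) * c⁻¹ by group, ← mem_c1.1 hc,
    mul_inv_cancel_right]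

/-- transfer into an abelian Sylow subgroup -/
theorem tr_eq_one {p : ℕ} [hp : Fact p.Prime] {P X : Subgroup G} (hP : IsSylowOf p P X)
    (ab : P ≤ 𝒞 P) {y : G} (hy : y ∈ P) (hc : y ∈ ⁅X, X⁆)
    (key : ∀ (k : ℕ), ∀ g ∈ X, g * y ^ k * g⁻¹ ∈ P → g * y ^ k * g⁻¹ = y ^ k) : y = 1 := by
  haveI : IsMulCommutative (P.subgroupOf X) :=
    ⟨⟨fun a b => Subtype.ext (Subtype.ext (ab b.2 _ a.2))⟩⟩
  open scoped IsMulCommutative in
  have h1 := MonoidHom.transfer_eq_pow (MonoidHom.id (P.subgroupOf X)) (⟨y, hP.1 hy⟩ : X)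
    fun k g e => Subtype.ext (by
      simpa using key k _ (inv_mem g.2) (by simpa [mem_subgroupOf] using e))
  open scoped IsMulCommutative in
  have h2 := h1.symm.trans (Abelianization.commutator_subset_ker _
    (show (⟨y, hP.1 hy⟩ : X) ∈ _root_.commutator X by rw [← commutator_subgroupOf_self]; exact hc))
  have h3 : y ^ P.relIndex X = 1 := congrArg (fun a => ((a : P.subgroupOf X) : X).1) h2
  obtain ⟨k, hk⟩ := hP.2.1 ⟨y, hy⟩
  exact mem_bot.1 (mem_of_two_pow (n := 1) ((hp.out.coprime_iff_not_dvd).2 hP.2.2)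
    (congrArg Subtype.val hk) (by rwa [pow_one]))

end gen

variable {Γ : Type u} [Group Γ] [Finite Γ] {A : Γ → Subgroup Γ}

/-- abelian Sylow `2`-subgroups -/
structure AB (A : Γ → Subgroup Γ) (L : Subgroup Γ) : Prop extends CS A where
  soc : Soc L
  ab : ∀ S, IsSylowOf 2 S ⊤ → Ab A S

namespace AB

variable {L : Subgroup Γ} (h : AB A L)
include h

theorem cu {u : Γ} (uu : u * u = 1) : 𝒞₁ u ≤ A u := by
  haveI := Fact.mk Nat.prime_two
  obtain ⟨S, hS, e⟩ := CfsgH2.exists_isSylowOf_ge (pg_invol uu) le_top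
  exact (le_inf le_top le_rfl).trans (h.c_le (p := 2) (k := 1) (by simpa [sq] using uu) hS
    (h.ab S hS u (e (mem_zpowers u))))

theorem exists_bad {x : Γ} (hx : Bad A x) : ∃ t, t * t = 1 ∧ Bad A t := by
  haveI := Fact.mk Nat.prime_two
  by_contra! hh
  obtain ⟨S, hS⟩ := CfsgH2.exists_isSylowOf 2 (⊤ : Subgroup Γ)
  have hL := hS.inf_of_normal le_top fun g _ => nrm_all h.soc.normal g
  by_cases ho : Odd (orderOf x)
  · obtain ⟨j, -, jj, hj⟩ := ri_top (simp_four h.soc.simp).of_subgroup hS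
      (fun e => syl_ne_bot h.soc.simp hL (by simp [e])) (by_contra fun e => norm_ne_top hL
        (simp_nsol h.soc.simp) fun g hg => nrm_inf (normalCore_le _ (h.soc.min _ inferInstance e hg))
          (nrm_all h.soc.normal g))
      (fun u hu u1 uu => (h.cu uu).trans ((h.ab_le (by_contra fun e => hh u uu ⟨u1, e⟩)).trans
        (centralizer_le (h.ab S hS u hu)))) hx.1 ho
    exact hx.1 (eq_one_of_odd_of_sq (X := zpowers x) (by rwa [Nat.card_zpowers]) (mem_zpowers x)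
      (h.sq_of_inv hx (by rw [inv_eq_of_sq jj]; exact hj x (mem_c1.2 rfl))))
  · obtain ⟨n, h1, h2⟩ := exists_invol_pow ho
    exact hh _ h2 (h.bad_pow hx h1)

theorem move {S : Subgroup Γ} (hS : IsSylowOf 2 S ⊤) {u : Γ} (hu : u ∈ S) (u1 : u ≠ 1)
    (uu : u * u = 1) : ∃ n ∈ 𝒩 S, n * u * n⁻¹ ≠ u := by
  haveI := Fact.mk Nat.prime_two
  have ab := h.ab_le (h.ab S hS)
  by_contra! hh
  refine h.not_isol u1 uu fun m _ e => ?_
  obtain ⟨c, hc, f⟩ := (hS.mono (K := 𝒞₁ u) (fun a ha => mem_c1.2 (ab ha u hu)) le_top).exists_cj_le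
    (pg_invol (conj_sq m uu)) (zpowers_le.2 (mem_c1.2 e.symm))
  obtain ⟨n, hn, e⟩ := fus hS ab hu (g := c * m) (by
    simpa [mul_assoc] using f (CfsgH2.conj_mem_cj c (mem_zpowers _)))
  rw [hh n hn] at e
  calc _ = c⁻¹ * (c * m * u * (c * m)⁻¹ * c) := by group
    _ = u := by rw [← e, mem_c1.1 hc]; group

end AB

/-- a bad involution `t` and a conjugate `s = n t n⁻¹` -/
structure BT (A : Γ → Subgroup Γ) (L S : Subgroup Γ) (t n : Γ) : Prop extends AB A L where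
  syl : IsSylowOf 2 S ⊤
  tS : t ∈ S
  tt : t * t = 1
  bad : Bad A t
  nN : n ∈ 𝒩 S
  ne : n * t * n⁻¹ ≠ t

namespace BT

variable {L S : Subgroup Γ} {t n : Γ} (h : BT A L S t n)
include h

theorem At : A t = 𝒞₁ t := le_antisymm (h.le t) (h.cent h.bad)

omit [Finite Γ] in
theorem abS : S ≤ 𝒞 S := h.ab_le (h.ab S h.syl)

omit [Finite Γ] in
theorem SM : S ≤ A t := h.ab S h.syl t h.tS

omit [Finite Γ] in
theorem sS : n * t * n⁻¹ ∈ S := conj_mem h.nN h.tS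

omit [Finite Γ] in
theorem nM : n ∉ A t := fun e => h.ne (by rw [← h.cm e, mul_inv_cancel_right])

omit [Finite Γ] in
theorem Mt : A t ≠ ⊤ := fun e => h.bad.1 (h.top e)

theorem abD : Ab A (𝒩 S ⊓ A t) := by
  haveI := Fact.mk Nat.prime_two
  exact (h.ab_or (h.norm_ne (fun e => h.bad.1 (mem_bot.1 (e.le h.tS)))
    (CfsgH2.isSolvable_of_isPGroup h.syl.2.1)) (le_normalizer h.tS)).resolve_right fun e =>
      h.nM (e h.nN)

omit [Finite Γ] in
theorem SD : S ≤ 𝒩 S ⊓ A t := le_inf le_normalizer h.SM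

theorem DC : 𝒩 S ⊓ A t ≤ 𝒞 S := (h.ab_le h.abD).trans (centralizer_le h.SD)

theorem CD : 𝒞 S ≤ 𝒩 S ⊓ A t :=
  le_inf (centralizer_le_normalizer _) fun _ hg => h.cent h.bad (mem_c1.2 (hg t h.tS))

theorem sdp : SDP (pPrimeCoreOf 2 (A t)) S (A t) := by
  haveI := Fact.mk Nat.prime_two
  have hS := h.syl.mono h.SM le_top
  exact PNil_sdp (bg1_18 hS ((inf_comm _ _).le.trans h.DC)) hS

theorem key1 {a : Γ} (ha : a ∈ 𝒩 S ⊓ A t) (z : ¬ A t ≤ A a) : A t ⊓ A a ≤ 𝒩 S ⊓ A t :=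
  (h.ab_le ((h.ab_or h.Mt ha.2).resolve_right z)).trans
    ((centralizer_le (le_inf h.SM (h.SD.trans (h.abD a ha)))).trans h.CD)

theorem key2 {a m : Γ} (ha : a ∈ 𝒩 S ⊓ A t) (z : ¬ A t ≤ A a) (hm : m ∈ A t)
    (e : m * a * m⁻¹ ∈ 𝒩 S ⊓ A t) : m ∈ 𝒩 S ⊓ A t := by
  haveI := Fact.mk Nat.prime_two
  have h1 : cj m S ≤ 𝒞 S := (le_inf ((cj_mono m h.SM).trans (CfsgH2.cj_eq_iff.2
    (le_normalizer hm)).le) ((cj_mono m (h.SD.trans (h.abD a ha))).trans (h.cj_A m a).le)).trans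
    ((h.key1 e fun f => z fun g hg => by
      simpa [mul_assoc] using h.conj m⁻¹ (f (mul_mem (mul_mem hm hg) (inv_mem hm)))).trans h.DC)
  have h2 := h.syl.eq_of_le (h.syl.2.1.to_sup_of_normal_left' (h.syl.cj m).2.1
    (h1.trans (centralizer_le_normalizer _))) le_sup_left le_top
  exact ⟨CfsgH1.mem_normalizer_of_cj_le (le_sup_right.trans h2.le), hm⟩

omit [Finite Γ] in
theorem A_eq {a : Γ} (a1 : a ≠ 1) (z : A t ≤ A a) : A a = A t :=
  le_antisymm (h.max h.bad (fun e => a1 (h.top e)) z) z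

theorem Z0 {a : Γ} (z : A t ≤ A a) (z' : A t ≤ A (n⁻¹ * a * n⁻¹⁻¹)) : a = 1 := by_contra fun a1 =>
  h.nM ((inv_mem_iff (x := n)).1 (h.mem_of_nab h.bad.1 h.bad.2 le_rfl (by
    rw [← h.cj_A, ← h.A_eq a1 z, h.cj_A, h.A_eq a1 z]; exact z')))

theorem nK : ¬ pPrimeCoreOf 2 (A t) ≤ 𝒩 S ⊓ A t := fun e =>
  h.bad.2 (h.abD.mono (h.sdp.sup_eq.ge.trans (sup_le e h.SD)))

omit [Finite Γ] in
theorem Zmul {a b : Γ} (ha : A t ≤ A a) (hb : A t ≤ A b) : A t ≤ A (a * b) := fun _ hg =>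
  h.symm (mul_mem (h.symm (ha hg)) (h.symm (hb hg)))

theorem star {v w : Γ} (hv : v ∈ S) (hw : w ∈ S) (vv : v * v = 1) (ww : w * w = 1)
    (h1 : ¬ A t ≤ A v) (h2 : ¬ A t ≤ A w) : A t ≤ A (v * w) := by
  by_contra h3
  have one : A t ≤ A 1 := fun g _ => h.symm (one_mem _)
  have c := h.abS hw v hv
  have key : ∀ u ∈ S, u * u = 1 → ¬ A t ≤ A u → pPrimeCoreOf 2 (A t) ⊓ 𝒞₁ u ≤ 𝒩 S ⊓ A t :=
    fun u hu uu z => (inf_le_inf h.sdp.le_left (h.cu uu)).trans (h.key1 (h.SD hu) z)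
  exact h.nK (le_of_four (e := v) (f := w) (fun e => h1 (e ▸ one)) (fun e => h2 (e ▸ one))
    (fun e => h3 (by rw [← e, vv]; exact one)) vv ww c (odd_O _) (h.sdp.norm hv) (h.sdp.norm hw)
    (key v hv vv h1) (key w hw ww h2) (key _ (mul_mem hv hw)
      (by rw [mul_assoc, ← mul_assoc w, ← c, mul_assoc, ww, mul_one, vv]) h3))

theorem s_not : ¬ A t ≤ A (n * t * n⁻¹) := fun e => h.nM (h.mem_of_nab h.bad.1 h.bad.2 le_rfl e)

theorem eq_t {v : Γ} (hv : v ∈ S) (vv : v * v = 1) (z : A t ≤ A v) : v = 1 ∨ v = t := by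
  refine (em _).imp_right fun v1 => ?_
  have := h.star (conj_mem (inv_mem h.nN) hv) (conj_mem (inv_mem h.nN) h.tS) (conj_sq _ vv)
    (conj_sq _ h.tt) (fun e => v1 (h.Z0 z e)) fun e => h.bad.1 (h.Z0 le_rfl e)
  rw [show n⁻¹ * v * n⁻¹⁻¹ * (n⁻¹ * t * n⁻¹⁻¹) = n⁻¹ * (v * t) * n⁻¹⁻¹ by group] at this
  rw [eq_inv_of_mul_eq_one_left (h.Z0 (h.Zmul z le_rfl) this), inv_eq_of_sq h.tt]

theorem four {v : Γ} (hv : v ∈ S) (vv : v * v = 1) :
    v = 1 ∨ v = t ∨ v = n * t * n⁻¹ ∨ v = t * (n * t * n⁻¹) := by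
  by_cases z : A t ≤ A v
  · rcases h.eq_t hv vv z with e | e <;> simp [e]
  have ss := conj_sq n h.tt
  rcases h.eq_t (mul_mem hv h.sS) (by
    rw [mul_assoc, ← mul_assoc _ v, ← h.abS h.sS v hv, mul_assoc, ss, mul_one, vv])
    (h.star hv h.sS vv ss z h.s_not) with e | e
  · exact Or.inr (Or.inr (Or.inl (by rw [eq_inv_of_mul_eq_one_left e, inv_eq_of_sq ss])))
  · exact Or.inr (Or.inr (Or.inr (by rw [eq_mul_inv_of_mul_eq e, inv_eq_of_sq ss])))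

theorem sq {v : Γ} (hv : v ∈ S) : v * v = 1 := by
  classical
  haveI := Fact.mk Nat.prime_two
  by_contra e
  obtain ⟨P, rfl⟩ := h.syl.exists_sylow_top
  haveI := CfsgH4.abR2_solvable _ Γ P rfl ⟨isMulCommutative_iff_le.2 h.abS, fun T hT => by
    rw [← Finset.card_map (Function.Embedding.subtype _)]
    refine (Finset.card_le_card (t := {1, t, n * t * n⁻¹, t * (n * t * n⁻¹)}) fun y hy => ?_).trans
      Finset.card_le_four
    obtain ⟨y, hy', rfl⟩ := Finset.mem_map.1 hy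
    simpa using h.four y.2 (by rw [← _root_.sq]; exact congrArg Subtype.val (hT y hy'))⟩
    ⟨v, hv, by rwa [_root_.sq]⟩
  exact simp_nsol h.soc.simp inferInstance

theorem conj_all {v : Γ} (v1 : v ≠ 1) (vv : v * v = 1) : ∃ g, g * t * g⁻¹ = v := by
  haveI := Fact.mk Nat.prime_two
  have key : ∀ v ∈ S, v ≠ 1 → v ≠ t * (n * t * n⁻¹) → ∃ g, g * t * g⁻¹ = v := fun v hv v1 v2 => by
    rcases h.four hv (h.sq hv) with e | e | e | e
    exacts [(v1 e).elim, ⟨1, by simp [e]⟩, ⟨n, e.symm⟩, (v2 e).elim]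
  obtain ⟨a, -, ha⟩ := h.syl.exists_cj_le (pg_invol vv) le_top
  replace ha : a * v * a⁻¹ ∈ S := ha (CfsgH2.conj_mem_cj a (mem_zpowers v))
  by_cases e : a * v * a⁻¹ = t * (n * t * n⁻¹)
  · obtain ⟨m, hm, f⟩ := h.move h.syl ha (conj_ne_one a v1) (conj_sq a vv)
    obtain ⟨g, hg⟩ := key _ (conj_mem hm ha) (conj_ne_one m (conj_ne_one a v1)) (e ▸ f)
    exact ⟨(m * a)⁻¹ * g, by
      rw [show (m * a)⁻¹ * g * t * ((m * a)⁻¹ * g)⁻¹ = (m * a)⁻¹ * (g * t * g⁻¹) * (m * a) by group,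
        hg]; group⟩
  · obtain ⟨g, hg⟩ := key _ ha (conj_ne_one a v1) e
    exact ⟨a⁻¹ * g, by
      rw [show a⁻¹ * g * t * (a⁻¹ * g)⁻¹ = a⁻¹ * (g * t * g⁻¹) * a by group, hg]; group⟩

theorem U_le : pPrimeCoreOf 2 (A t) ⊓ 𝒞₁ (n * t * n⁻¹) ≤ 𝒩 S ⊓ A t :=
  (inf_le_inf h.sdp.le_left (h.cu (conj_sq n h.tt))).trans (h.key1 (h.SD h.sS) h.s_not)

theorem B_ne : ⁅⁅pPrimeCoreOf 2 (A t), zpowers (n * t * n⁻¹)⁆, zpowers (n * t * n⁻¹)⁆ ≠ ⊥ := by
  rw [CfsgH2.commutator_commutator_eq (zpowers_le.2 (h.sdp.norm h.sS))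
    (coprime_zpowers_invol (conj_sq n h.tt) (odd_O _)) (solR _ _)]
  exact fun e => h.nK ((le_inf le_rfl (comm_zp_eq_bot.1 e)).trans h.U_le)

theorem L_eq : L = ⊤ := by
  by_contra ne
  obtain ⟨u, hu, u1, uu⟩ := exists_invol_of_even (Nat.not_odd_iff_even.1 (simp_even h.soc.simp))
  obtain ⟨g, rfl⟩ := h.conj_all u1 uu
  have tL : t ∈ L := by simpa [mul_assoc] using h.soc.normal.conj_mem' _ hu g
  have sL := h.soc.normal.conj_mem _ tL n
  haveI := h.soc.normal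
  have := (h.ab_or ne tL).resolve_right fun e =>
    h.bad.1 (h.fratt h.soc.normal (fun f => h.bad.1 (mem_bot.1 (f.le tL))) e)
  exact h.B_ne (comm_zp_eq_bot.2 ((le_inf ((commutator_mono le_rfl (zpowers_le.2 sL)).trans
    (commutator_le_right _ L)) ((comm_zp_le (h.sdp.norm h.sS)).trans h.sdp.le_left)).trans
      ((this _ ⟨sL, h.SM h.sS⟩).trans (h.le _))))

end BT

end CfsgCA
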