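/-
Minimal non-CA groups (S4369): abelian Sylow `2`-subgroups, second part.
-/
import Cfsg.Agent.AG.CA4

set_option autoImplicit false

namespace CfsgCA

open Subgroup CfsgFT CfsgHH CfsgBS CfsgAG
open scoped commutatorElement

universe u

variable {Γ : Type u} [Group Γ] [Finite Γ] {A : Γ → Subgroup Γ}

omit [Finite Γ] in
theorem pg_zp (x : Γ) : IsPGroup (orderOf x) (zpowers x) :=
  IsPGroup.of_card (by rw [Nat.card_zpowers, pow_one])

namespace BT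

variable {L S : Subgroup Γ} {t n : Γ} (h : BT A L S t n)
include h

set_option hygiene false in
local notation "𝐊" => pPrimeCoreOf 2 (A t)
set_option hygiene false in
local notation "𝐬" => n * t * n⁻¹
set_option hygiene false in
local notation "𝐁" => ⁅pPrimeCoreOf 2 (A t), zpowers (n * t * n⁻¹)⁆

theorem BK : 𝐁 ≤ 𝐊 := comm_zp_le (h.sdp.norm h.sS)

theorem nB : A t ≤ 𝒩 𝐁 := h.sdp.sup_eq.ge.trans (sup_le (normalizer_commutator_ge_left _ _)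
  fun a ha => nrm_comm (h.sdp.norm ha) (nrm_zp (h.abS h.sS a ha)))

theorem BU {y : Γ} (hy : y ∈ 𝐁) (e : 𝐬 * y = y * 𝐬) : y = 1 := by
  by_contra y1
  obtain ⟨k, hp⟩ := exists_pow_prime y1
  have hB := pow_mem hy k
  have hD := pow_mem (h.U_le ⟨h.BK hy, mem_c1.2 e⟩) k
  generalize y ^ k = y at hp hB hD
  haveI := Fact.mk hp
  have hc : y ∈ ⁅A t, A t⁆ := commutator_mono h.sdp.le_left (zpowers_le.2 (h.SM h.sS)) hB
  have y1 : y ≠ 1 := fun e => hp.ne_one (by rw [e, orderOf_one])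
  by_cases z : A t ≤ A y
  · obtain ⟨P, hP, hyP⟩ := CfsgH2.exists_isSylowOf_ge (pg_zp _) (zpowers_le.2 hD.2)
    by_cases ab : Ab A P
    · exact y1 (tr_eq_one hP (h.ab_le ab) (hyP (mem_zpowers y)) hc fun k g hg _ => by
        rw [← h.cm (h.pow_le y k (z hg)), mul_inv_cancel_right])
    · have e := h.A_eq y1 z
      exact h.nM (e.le (h.isol (k := 1) y1 (by simp) (e.symm ▸ hP) ab
        (e.ge (h.CD (conj_mem (nrm_c h.nN) (h.DC hD))).2)))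
  · obtain ⟨P, hP, hyP⟩ := CfsgH2.exists_isSylowOf_ge (pg_zp _) (zpowers_le.2 hD)
    replace hyP := hyP (mem_zpowers y)
    refine y1 (tr_eq_one (CfsgH2.IsSylowOf.of_normalizer (hP.1.trans inf_le_right) (hP.mono
      (le_inf (hP.1.trans inf_le_right) le_normalizer) fun g hg =>
        h.key2 hD z hg.1 (hP.1 (conj_mem hg.2 hyP)))) (h.ab_le (h.abD.mono hP.1)) hyP hc
      fun k g hg e => ?_)
    by_cases z' : A t ≤ A (y ^ k)
    · rw [← h.cm (z' hg), mul_inv_cancel_right]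
    · rw [← h.cm (h.abD _ (pow_mem hD k) (h.key2 (pow_mem hD k) z' hg (hP.1 e))),
        mul_inv_cancel_right]

theorem oB : Odd #𝐁 := (odd_O _).of_dvd_nat (card_dvd_of_le h.BK)

theorem invB {y : Γ} (hy : y ∈ 𝐁) : 𝐬 * y * (𝐬)⁻¹ = y⁻¹ := by
  rw [inv_eq_of_sq (conj_sq n h.tt)]
  exact inv_of_fpf' h.oB (conj_sq n h.tt) (h.nB (h.SM h.sS)) (fun y hy e => h.BU hy e) hy

theorem not_comm {v b : Γ} (hv : v ∈ A t) (v1 : v ≠ 1) (vt : v ≠ t) (vv : v * v = 1) (hb : b ∈ 𝐁)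
    (e : v * b = b * v) : b = 1 := by
  haveI := Fact.mk Nat.prime_two
  obtain ⟨m, hm, f⟩ := (h.syl.mono h.SM le_top).exists_cj_le (pg_invol vv) (zpowers_le.2 hv)
  have hb' := conj_mem (h.nB hm) hb
  have e' := conj_comm m e
  by_contra b1
  rcases h.four (f (CfsgH2.conj_mem_cj m (mem_zpowers v))) (conj_sq m vv) with g | g | g | g
  · exact conj_ne_one m v1 g
  · exact vt (by rw [show v = m⁻¹ * (m * v * m⁻¹ * m) by group, g, h.cm hm]; group)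
  · exact conj_ne_one m b1 (h.BU hb' (g ▸ e'))
  · refine conj_ne_one m b1 (h.BU hb' (mul_left_cancel (a := t) ?_))
    rw [← mul_assoc, ← g, e', g, ← mul_assoc, ← h.cm (h.sdp.le_left (h.BK hb')), mul_assoc]

theorem norm_syl {p : ℕ} [Fact p.Prime] {P : Subgroup Γ} (hP : IsSylowOf p P (A t)) {b : Γ}
    (hb : b ∈ 𝐁) (hbP : b ∈ P) (b1 : b ≠ 1) : 𝒩 P ≤ A t := by
  by_cases ab : Ab A P
  swap
  · exact h.norm_le h.bad.1 ab hP.1
  have nb : Ab A (A b) := by_contra fun e =>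
    b1 (eq_one_of_odd_of_sq h.oB hb (h.sq_of_inv ⟨b1, e⟩ (h.invB hb)))
  have tb : t ∈ A b := h.symm (h.sdp.le_left (h.BK hb))
  intro g hg
  have h1 : g * t * g⁻¹ ∈ A b := (h.cj_A g b ▸ h.ab_cj nb g : Ab A (A (g * b * g⁻¹))) _
    (h.symm (ab b hbP (conj_mem hg hbP))) (h.conj g tb)
  by_contra ne
  exact b1 (h.not_comm (nb t tb h1) (conj_ne_one g h.bad.1)
    (fun e => ne (h.At.ge (mem_c1.2 (mul_inv_eq_iff_eq_mul.1 e).symm))) (conj_sq g h.tt) hb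
    (h.cm h1).symm)

theorem simp : Simp (⊤ : Subgroup Γ) := h.L_eq ▸ h.soc.simp

theorem U_eq (hV : SpecV4.{u}) : 𝐊 ⊓ 𝒞₁ 𝐬 = ⊥ := by
  by_contra U0
  have v4 : V4 t 𝐬 𝐊 (𝐊 ⊓ 𝒞₁ 𝐬) := ⟨h.simp, h.bad.1, conj_ne_one n h.bad.1, h.ne.symm, h.tt,
    conj_sq n h.tt, h.abS h.sS t h.tS, by
      rw [show closure {t, 𝐬} = S from le_antisymm ((closure_le _).2 (by
        rintro _ (rfl | rfl); exacts [h.tS, h.sS])) fun v hv => by
          have h1 : t ∈ closure {t, 𝐬} := subset_closure (by simp)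
          have h2 : 𝐬 ∈ closure {t, 𝐬} := subset_closure (by simp)
          rcases h.four hv (h.sq hv) with e | e | e | e <;> rw [e]
          exacts [one_mem _, h1, h2, mul_mem h1 h2]]
      exact h.syl, by rw [h.At], rfl⟩
  have dv := (hV Γ t _ _ _ v4).2.2 (eq_bot_iff.2 fun y hy => h.BU hy.1 (mem_c1.1 hy.2.2)) U0
  obtain ⟨b, hb, b1⟩ := (𝐁).bot_or_exists_ne_one.resolve_left fun e => h.B_ne (by rw [e]; simp)
  obtain ⟨k, hp⟩ := exists_pow_prime b1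
  replace hb := pow_mem hb k
  generalize b ^ k = b at hp hb
  haveI := Fact.mk hp
  have b1 : b ≠ 1 := fun e => hp.ne_one (by rw [e, orderOf_one])
  have d1 : orderOf b ∣ (𝐊 ⊓ 𝒞₁ 𝐬).relIndex 𝐊 := by
    by_contra e
    obtain ⟨P, hP⟩ := CfsgH2.exists_isSylowOf (orderOf b) (𝐊 ⊓ 𝒞₁ 𝐬)
    have hP' : IsSylowOf (orderOf b) P 𝐊 := ⟨hP.1.trans inf_le_left, hP.2.1, by
      rw [← relIndex_mul_relIndex P _ _ hP.1 inf_le_left]
      exact fun f => (hp.dvd_mul.1 f).elim hP.2.2 e⟩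
    obtain ⟨m, hm, f⟩ := hP'.exists_cj_le (pg_zp _) (zpowers_le.2 (h.BK hb))
    exact conj_ne_one m b1 (h.BU (conj_mem (h.nB (h.sdp.le_left hm)) hb)
      (mem_c1.1 (hP.1 (f (CfsgH2.conj_mem_cj m (mem_zpowers b)))).2))
  obtain ⟨P, hP, hbP⟩ := CfsgH2.exists_isSylowOf_ge (pg_zp _)
    (zpowers_le.2 (h.sdp.le_left (h.BK hb)))
  have := CfsgH2.IsSylowOf.of_normalizer le_top (hP.mono (le_inf le_top le_normalizer)
    (inf_le_right.trans (h.norm_syl hP hb (hbP (mem_zpowers b)) b1)))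
  refine this.2.2 ?_
  rw [relIndex_top_right, ← relIndex_mul_index hP.1, h.At]
  exact ((d1.trans (dvd_pow_self _ two_ne_zero)).trans dv).mul_left _

theorem to' (hV : SpecV4.{u}) : TO ⊤ (𝐊 ⊔ zpowers t) t 𝐬 := by
  have U := h.U_eq hV
  have ss := conj_sq n h.tt
  have ts := h.abS h.sS t h.tS
  have inv : ∀ y ∈ 𝐊, 𝐬 * y * (𝐬)⁻¹ = y⁻¹ := fun y hy => by
    rw [inv_eq_of_sq ss]
    exact inv_of_fpf' (odd_O _) ss (h.sdp.norm h.sS) (fun y hy e => U.le ⟨hy, mem_c1.2 e⟩) hy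
  have mem : ∀ {y}, y ∈ 𝐊 ⊔ zpowers t → ∃ k ∈ 𝐊, y = k ∨ y = k * t := fun hy => by
    obtain ⟨k, hk, a, ha, rfl⟩ := (mem_sup_l (zpowers_le.2 (h.sdp.norm h.tS))).1 hy
    rcases (mem_zpowers_invol h.tt).1 ha with rfl | rfl
    exacts [⟨k, hk, Or.inl (mul_one k)⟩, ⟨k, hk, Or.inr rfl⟩]
  have inv' : ∀ y ∈ 𝐊 ⊔ zpowers t, 𝐬 * y * (𝐬)⁻¹ = y⁻¹ := fun y hy => by
    obtain ⟨k, hk, rfl | rfl⟩ := mem hy
    · exact inv _ hk
    · rw [← h.cm (h.sdp.le_left hk), ← mul_assoc, ← ts, mul_assoc t, mul_assoc t, inv k hk,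
        mul_inv_rev, inv_eq_of_sq h.tt, ← (Commute.inv_right (h.cm (h.sdp.le_left hk))).eq]
  have le : 𝐊 ⊔ zpowers t ≤ A t := sup_le h.sdp.le_left (zpowers_le.2 (h.self t))
  have cm : ∀ a ∈ 𝐊 ⊔ zpowers t, ∀ b ∈ 𝐊 ⊔ zpowers t, a * b = b * a := fun a ha b hb => by
    have := inv' _ (mul_mem ha hb)
    rw [show 𝐬 * (a * b) * (𝐬)⁻¹ = 𝐬 * a * (𝐬)⁻¹ * (𝐬 * b * (𝐬)⁻¹) by group, inv' a ha,
      inv' b hb] at this
    simpa using (congrArg (·⁻¹) this).symm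
  have K0 : 𝐊 ≠ ⊥ := fun e => h.nK (e.le.trans bot_le)
  have cent : ∀ g ∈ A t, g ∈ 𝐊 ⊔ zpowers t ∨ g * 𝐬 ∈ 𝐊 ⊔ zpowers t := fun g hg => by
    obtain ⟨k, hk, v, hv, rfl⟩ := (mem_sup_l h.sdp.norm).1 (h.sdp.sup_eq.ge hg)
    rcases h.four hv (h.sq hv) with e | e | e | e <;> rw [e]
    · exact Or.inl (mem_sup_left (by simpa using hk))
    · exact Or.inl (mul_mem_sup hk (mem_zpowers t))
    · exact Or.inr (by rw [mul_assoc k, ss, mul_one]; exact mem_sup_left hk)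
    · exact Or.inr (by rw [mul_assoc k, mul_assoc t, ss, mul_one]; exact mul_mem_sup hk (mem_zpowers t))
  have nz : ∀ y ∈ 𝐊 ⊔ zpowers t, A t ≤ 𝒩 (zpowers y) := fun y hy g hg => by
    have hs : 𝐬 ∈ 𝒩 (zpowers y) := CfsgH1.mem_normalizer_of_cj_le (by
      rw [CfsgH1.cj_zpowers, inv' y hy, zpowers_inv])
    rcases cent g hg with e | e
    · exact nrm_zp (cm g e y hy)
    · exact (mul_mem_cancel_right hs).1 (nrm_zp (cm _ e y hy))
  have card : #(𝐊 ⊔ zpowers t) = 2 * #𝐊 := by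
    have := CfsgH2.card_sup_mul_card_inf (zpowers_le.2 (h.sdp.norm h.tS))
    rwa [show zpowers t ⊓ 𝐊 = ⊥ from eq_bot_iff.2 ((le_inf inf_le_right (inf_le_left.trans
      (zpowers_le.2 h.tS))).trans h.sdp.inf_eq.le), card_bot, mul_one, sup_comm, Nat.card_zpowers,
      orderOf_eq_prime (p := 2) (by rw [_root_.sq, h.tt]) h.bad.1] at this
  have o := odd_O (A t)
  have c1 : #𝐊 ≠ 1 := fun e => K0 (card_eq_one.1 e)
  obtain ⟨c, hc⟩ := o
  refine ⟨⟨h.simp, le_top, mem_sup_right (mem_zpowers t), trivial, fun e => K0 (eq_bot_iff.2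
    ((le_inf le_rfl fun k hk => mem_c1.2 (cm _ e k (mem_sup_left hk))).trans U.le)), h.bad.1, h.tt,
    ss, cm, inv', fun g _ e => cent g (h.At.ge (mem_c1.2 e.symm)), fun y hy y1 g _ e => ?_,
    fun v _ v1 vv => let ⟨g, e⟩ := h.conj_all v1 vv; ⟨g, trivial, e⟩, by omega⟩, by omega, by omega⟩
  refine (h.cm (h.mem_of_nab h.bad.1 h.bad.2 le_rfl fun m hm => ?_)).symm
  rw [← h.cj_A, mem_cj]
  refine h.max h.bad (h.nz_ne y1) (nz y hy) (CfsgH2.cj_eq_iff.1 ?_)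
  have := CfsgH2.cj_eq_iff.2 (nz _ e hm)
  rw [← CfsgH1.cj_zpowers] at this
  rw [CfsgH2.cj_mul, CfsgH2.cj_mul, this, CfsgH2.cj_inv_cj]

end BT

theorem CS.exists_to (h : CS A) (hB : SpecBSW.{u}) (hV : SpecV4.{u}) {x : Γ} (hx : Bad A x) :
    (∀ S, IsSylowOf 2 S ⊤ → Ab A S) ∧ ∃ K t s, TO (⊤ : Subgroup Γ) K t s := by
  haveI := Fact.mk Nat.prime_two
  obtain ⟨L, hL⟩ := h.exists_soc hx.1
  have ab : ∀ S, IsSylowOf 2 S ⊤ → Ab A S := fun S hS => by_contra fun e =>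
    NA.false_of ⟨h, hL, fun T hT f => e (by
      obtain ⟨g, -, rfl⟩ := hT.exists_cj_eq hS
      exact h.ab_cj f g)⟩ hB hx
  have h' : AB A L := ⟨h, hL, ab⟩
  obtain ⟨t, tt, ht⟩ := h'.exists_bad hx
  obtain ⟨S, hS, e⟩ := CfsgH2.exists_isSylowOf_ge (pg_invol tt) le_top
  obtain ⟨n, hn, f⟩ := h'.move hS (e (mem_zpowers t)) ht.1 tt
  exact ⟨ab, _, _, _, BT.to' ⟨h', hS, e (mem_zpowers t), tt, ht, hn, f⟩ hV⟩

end CfsgCA
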