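/-
Minimal non-CA groups (S4369): the centre is trivial.
-/
import Cfsg.Agent.AG.CA5
import Cfsg.Agent.FT.BG3_1

set_option autoImplicit false

namespace CfsgCA

open Subgroup CfsgFT CfsgHH CfsgBS CfsgAG
open scoped commutatorElement

universe u

/-- maximal isotropic subgroups of an alternating pairing -/
theorem alt_sq {H : Type*} [Group H] [Finite H] (β : H → H →* ℂ)
    (hm : ∀ a a' b, β (a * a') b = β a b * β a' b) (ha : ∀ a, β a a = 1) {R : Subgroup H}
    (hR : ∀ a, a ∈ R ↔ ∀ b, β a b = 1) : ∃ W : Subgroup H, #W * #W = #R * Nat.card H := by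
  classical
  haveI := Fintype.ofFinite H
  have sym : ∀ a b, β a b = 1 → β b a = 1 := fun a b e => by
    have := ha (a * b)
    rwa [hm, map_mul, map_mul, ha, ha, e, one_mul, one_mul, mul_one] at this
  let γ : H → H →* ℂ := fun b =>
    { toFun := fun a => β a b
      map_one' := sym _ _ (map_one _)
      map_mul' := fun a a' => hm a a' b }
  obtain ⟨W, hW, mW⟩ := WellFounded.has_min (wellFounded_gt (α := Subgroup H))
    {W | ∀ a ∈ W, W ≤ (β a).ker} ⟨⊥, fun _ _ => bot_le⟩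
  have perp : ∀ a, W ≤ (β a).ker → a ∈ W := fun a h1 => by
    have h2 : ∀ c ∈ W ⊔ zpowers a, W ⊔ zpowers a ≤ (β c).ker := fun c hc =>
      sup_le (fun b hb => sym _ _ ((sup_le (hW b hb) (zpowers_le.2 (sym _ _ (h1 hb))) :
        _ ≤ (β b).ker) hc)) (zpowers_le.2 (sym _ _ ((sup_le h1 (zpowers_le.2 (ha a)) :
          _ ≤ (β a).ker) hc)))
    exact (le_sup_left.eq_of_not_lt (mW _ h2)).ge (mem_sup_right (mem_zpowers a))
  refine ⟨W, ?_⟩
  have e1 : ∑ a : H, ∑ b : W, β a b = #W * #W := by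
    have : ∀ a : H, ∑ b : W, β a b = if a ∈ W then (#W : ℂ) else 0 := fun a => by
      have := sum_hom_units ((β a).comp W.subtype)
      rw [Nat.cast_ite, Nat.cast_zero, ← Nat.card_eq_fintype_card] at this
      exact this.trans (if_congr ⟨fun e => perp a fun b hb => (DFunLike.congr_fun e ⟨b, hb⟩ :),
        fun e => MonoidHom.ext fun b => hW a e b.2⟩ rfl rfl)
    simp only [this]
    rw [← Finset.sum_filter, Finset.sum_const, nsmul_eq_mul, Nat.card_eq_fintype_card,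
      Fintype.card_subtype]
  have e2 : ∑ b : W, ∑ a : H, β a b = #R * Nat.card H := by
    have : ∀ b : W, ∑ a : H, β a b = if (b : H) ∈ R then (Nat.card H : ℂ) else 0 := fun b => by
      have := sum_hom_units (γ b)
      rw [Nat.cast_ite, Nat.cast_zero, ← Nat.card_eq_fintype_card] at this
      exact this.trans (if_congr ⟨fun e => (hR _).2 fun a => sym _ _ (DFunLike.congr_fun e a),
        fun e => MonoidHom.ext fun a => sym _ _ ((hR _).1 e a)⟩ rfl rfl)
    simp only [this]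
    rw [← Finset.sum_filter, Finset.sum_const, nsmul_eq_mul, ← Fintype.card_subtype,
      ← Nat.card_eq_fintype_card]
    congr 2
    exact Nat.card_congr (subgroupOfEquivOfLe fun a ha => perp a fun b _ => (hR a).1 ha b).toEquiv
  rw [Finset.sum_comm, e2] at e1
  exact_mod_cast e1.symm

variable {G : Type*} [Group G] [Finite G]

theorem exists_E {X K Q B : Subgroup G} {t s w : G} {e : ℤ} {q p : ℕ} (bh : BH X K t s)
    (ls : LS0 X K t e q p Q B w) : ∃ E ≤ X ⊓ 𝒩 Q, 2 * #E + 1 = q ∧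
      ∀ y ∈ E, ∀ v ∈ Q, v ≠ 1 → y * v = v * y → y = 1 := by
  obtain ⟨E, h1, h2⟩ : ∃ E ≤ X ⊓ 𝒩 Q, 2 * #E + 1 = q := by
    have h1 := ls.q_eq
    have h2 := ls.card_A
    rcases ls.sign with rfl | rfl
    · exact ⟨K, le_sup_right.trans (ls.borel_pos rfl).1.ge, by omega⟩
    · exact ⟨B, le_sup_right.trans (ls.borel_neg rfl).ge, by omega⟩
  refine ⟨E, h1, h2, fun y hy v hv v1 e => orderOf_eq_one_iff.1 (Nat.eq_one_of_dvd_coprimes
    (a := #E) (b := #Q) ?_ (orderOf_dvd_natCard _ hy) (orderOf_dvd_natCard _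
      ((ls.ccQ.cent v hv v1).le ⟨(h1 hy).1, mem_c1.2 e.symm⟩)))⟩
  rw [ls.card_Q, ← h2]
  simp

theorem irr_Q {X K Q B R : Subgroup G} {t s w : G} {e : ℤ} {q p : ℕ} (bh : BH X K t s)
    (ls : LS0 X K t e q p Q B w) (hR : R < Q) (hn : X ⊓ 𝒩 Q ≤ 𝒩 R) : R = ⊥ := by
  obtain ⟨E, h1, h2, h3⟩ := exists_E bh ls
  obtain ⟨k, hk⟩ := SemiReg.card_dvd_pred (K := R) (R := E) (fun y hy y1 => eq_bot_iff.2 fun v hv =>
    by_contra fun v1 => y1 (h3 y hy v (hR.le hv.1) v1 (mem_c1.1 hv.2))) (h1.trans hn)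
  have h4 : #R < q := ls.card_Q ▸ (card_le_of_le hR.le).lt_of_ne fun e =>
    hR.ne (eq_of_le_of_card_ge hR.le e.ge)
  have h5 : #R ∣ q := ls.card_Q ▸ card_dvd_of_le hR.le
  have h6 : 0 < #R := Nat.card_pos
  have h7 : 0 < #E := Nat.card_pos
  rcases k with _ | _ | k
  · exact card_eq_one.1 (by omega)
  · have : #R ∣ 1 := (Nat.dvd_add_right h5).1 (by rw [show q + 1 = #R * 2 by omega]; simp)
    exact card_eq_one.1 (Nat.dvd_one.1 this)
  · exact absurd hk (by nlinarith [Nat.sub_add_cancel h6])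

theorem CS.ab_cyc {A : G → Subgroup G} (h : CS A) {H : Subgroup G} (hH : IsCyclic H) : Ab A H := by
  obtain ⟨g, rfl⟩ := (Subgroup.isCyclic_iff_exists_zpowers_eq_top H).1 hH
  exact fun a ha => zpowers_le.2 (h.symm (zpowers_le.2 (h.self g) ha))

theorem CS.not_ab_Q {A : G → Subgroup G} (h : CS A) {K Q B P : Subgroup G} {t s w : G} {e : ℤ}
    {q p r : ℕ} [hr : Fact r.Prime] (bh : BH ⊤ K t s) (ls : LS ⊤ K t e q p Q B w) (r2 : r ≠ 2)
    (hP : IsPGroup r P) (hn : ¬ Ab A P) : ¬ Ab A Q := fun hQ => by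
  obtain ⟨y, hy, y1⟩ := (ctr P).bot_or_exists_ne_one.resolve_left
    (ctr_ne_bot hP.isNilpotent fun e => hn (by rw [e]; exact fun _ _ => bot_le))
  obtain ⟨g, -, hg⟩ := ls.cover y trivial
  have key : ∀ T : Subgroup G, Ab A T → ¬ ∀ a ∈ P, g * a * g⁻¹ ∈ T := fun T hT f => hn (by
    have := h.ab_cj (hT.mono (show cj g P ≤ T from CfsgH2.cj_le_iff.2 f)) g⁻¹
    rwa [cj_inv_cj] at this)
  have cm : ∀ a ∈ P, g * a * g⁻¹ ∈ ⊤ ⊓ 𝒞₁ (g * y * g⁻¹) := fun a ha =>
    ⟨trivial, mem_c1.2 (conj_comm g (hy.2 a ha).symm)⟩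
  rcases hg with hg | hg | hg
  · refine key K (h.ab_cyc ls.cyc_K) fun a ha => ?_
    refine (bh.cent _ trivial (bh.ti _ hg (conj_ne_one g y1) _ trivial (by
      rw [← mem_c1.1 (cm a ha).2, mul_inv_cancel_right]; exact hg))).elim id fun f => ?_
    obtain ⟨k, hk⟩ := hP ⟨a, ha⟩
    refine mem_of_two_pow (l := r) (j := k) (q := 2) (n := 1)
      ((Nat.coprime_primes hr.out Nat.prime_two).2 r2)
      (by rw [conj_pow, show a ^ r ^ k = 1 from congrArg Subtype.val hk]; simp) ?_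
    generalize g * a * g⁻¹ = b at f
    rw [pow_one, sq, show b * b = b * s * (s⁻¹ * s⁻¹) * (s * (b * s) * s⁻¹) by group, bh.inv _ f,
      inv_eq_of_sq bh.ss, bh.ss]
    simp
  · exact key Q hQ fun a ha => (ls.ccQ.cent _ hg (conj_ne_one g y1)).le (cm a ha)
  · exact key B (h.ab_cyc ls.cyc_A) fun a ha => (ls.ccA.cent _ hg (conj_ne_one g y1)).le (cm a ha)

omit [Finite G] in
theorem PCA.perfect (h : PCA G) {x : G} (hx : Bd x) (hs : Simp (⊤ : Subgroup (G ⧸ center G))) :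
    ⁅(⊤ : Subgroup G), (⊤ : Subgroup G)⁆ = ⊤ := by
  by_contra ne
  have dec : ∀ g : G, ∃ a ∈ ⁅(⊤ : Subgroup G), (⊤ : Subgroup G)⁆, (g : G ⧸ center G) = a := fun g => by
    have h1 : ⁅(⊤ : Subgroup (G ⧸ center G)), (⊤ : Subgroup (G ⧸ center G))⁆ = ⊤ := by
      haveI := hs.simple
      haveI := (topEquiv (G := G ⧸ center G)).symm.isSimpleGroup
      refine (Normal.eq_bot_or_eq_top inferInstance).resolve_left fun e => ?_
      obtain ⟨a, ha, b, hb, f⟩ := hs.nc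
      exact f (commutator_eq_bot_iff_le_centralizer.1 e hb a ha)
    have := h1.ge (mem_top (g : G ⧸ center G))
    rw [← map_top_of_surjective _ (QuotientGroup.mk'_surjective (center G)), ← map_commutator] at this
    obtain ⟨a, ha, e⟩ := this
    exact ⟨a, ha, e.symm⟩
  obtain ⟨h0, a, b, h1, h2, h3⟩ := hx
  obtain ⟨x', hx', ex⟩ := dec x
  obtain ⟨a', ha', ea⟩ := dec a
  obtain ⟨b', hb', eb⟩ := dec b
  have := h _ ne x' hx' a' ha' b' hb' (comm_congr ex (comm_congr ea h1.symm).symm)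
    (comm_congr ex (comm_congr eb h2.symm).symm) fun e =>
      h3 (comm_congr ea.symm (comm_congr eb.symm e.symm).symm)
  refine h0 (mem_center_iff.2 fun g => ?_)
  obtain ⟨g', hg', eg⟩ := dec g
  exact comm_congr eg.symm (comm_congr ex.symm (mem_c1.1 (this hg'))).symm

theorem sq_of_not_ab {K Q B : Subgroup (G ⧸ center G)} {t s w : G ⧸ center G} {e : ℤ} {q p : ℕ}
    (bh : BH ⊤ K t s) (ls : LS0 ⊤ K t e q p Q B w) (hn : ¬ Ab up Q) : IsSquare q := by
  obtain ⟨⟨a₀⟩, ha, ⟨b₀⟩, hb, e₀⟩ := not_ab hn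
  set π := QuotientGroup.mk' (center G)
  have ab := isMulCommutative_iff_le.1 ls.elem.1
  have hz : ∀ a b : Q.comap π, ⁅(a : G), (b : G)⁆ ∈ center G := fun a b => cm_central (ab a.2 _ b.2)
  open scoped IsMulCommutative in
  obtain ⟨l, hl⟩ := CommGroup.exists_apply_ne_one_of_hasEnoughRootsOfUnity (center G) ℂ
    (a := ⟨_, hz ⟨a₀, ha⟩ ⟨b₀, hb⟩⟩) fun f =>
      e₀ (mem_up.2 (commutatorElement_eq_one_iff_mul_comm.1 (congrArg Subtype.val f :)))
  have l1 : ∀ h, l ⟨1, h⟩ = 1 := fun _ => l.map_one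
  let β : Q.comap π → Q.comap π →* ℂ := fun a =>
    { toFun := fun b => l ⟨_, hz a b⟩
      map_one' := by simp [l1]
      map_mul' := fun b c => by
        rw [← Units.val_mul, ← map_mul]
        congr 2
        refine Subtype.ext ?_
        have := mem_center_iff.1 (hz a c) b
        calc ⁅(a : G), (b : G) * c⁆ = ⁅(a : G), (b : G)⁆ * (b * ⁅(a : G), (c : G)⁆) * (b : G)⁻¹ := by
              simp only [commutatorElement_def]; group
          _ = _ := by rw [this]; simp [mul_assoc] }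
  have hm : ∀ a a' b, β (a * a') b = β a b * β a' b := fun a a' b => by
    change ((l ⟨_, hz _ b⟩ : ℂˣ) : ℂ) = l ⟨_, hz a b⟩ * l ⟨_, hz a' b⟩
    rw [← Units.val_mul, ← map_mul, mul_comm]
    congr 2
    refine Subtype.ext ?_
    have := mem_center_iff.1 (hz a' b) a
    calc ⁅(a : G) * a', (b : G)⁆ = (a * ⁅(a' : G), (b : G)⁆) * (a : G)⁻¹ * ⁅(a : G), (b : G)⁆ := by
          simp only [commutatorElement_def]; group
      _ = _ := by rw [this]; simp
  let R : Subgroup G :=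
    { carrier := {a | ∃ h : a ∈ Q.comap π, ∀ b, β ⟨a, h⟩ b = 1}
      one_mem' := ⟨one_mem _, fun b => by simp [β, l1]⟩
      mul_mem' := fun {a a'} ⟨h, e⟩ ⟨h', e'⟩ => ⟨mul_mem h h', fun b => by
        rw [show (⟨a * a', _⟩ : Q.comap π) = ⟨a, h⟩ * ⟨a', h'⟩ from rfl, hm, e, e', one_mul]⟩
      inv_mem' := fun {a} ⟨h, e⟩ => ⟨inv_mem h, fun b => by
        have := hm ⟨a⁻¹, inv_mem h⟩ ⟨a, h⟩ b
        rw [e, mul_one] at this
        rw [← this]; simp [β, l1]⟩ }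
  have ZR : center G ≤ R := fun z hz' => ⟨by
    rw [mem_comap, show π z = 1 from (QuotientGroup.eq_one_iff z).2 hz']; exact one_mem _, fun b => by
      simp [β, l1, commutatorElement_eq_one_iff_mul_comm.2 (mem_center_iff.1 hz' (b : G)).symm]⟩
  have cR : (R.map π).comap π = R := comap_map_eq_self (by rwa [QuotientGroup.ker_mk'])
  have R0 : R.map π = ⊥ := irr_Q bh ls (lt_of_le_of_ne (map_le_iff_le_comap.2 fun a ha => ha.1)
    fun f => hl (Units.ext ((cR.le (show a₀ ∈ _ from f.ge ha)).2 ⟨b₀, hb⟩))) (by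
      rintro ⟨g⟩ hg'
      have hg : g ∈ 𝒩 (Q.comap π) := CfsgL0.mem_normalizer_of_conj_mem fun a ha =>
        (conj_mem hg'.2 ha : π g * π a * (π g)⁻¹ ∈ Q)
      refine CfsgL0.mem_normalizer_of_conj_mem ?_
      rintro _ ⟨a, ⟨h, e⟩, rfl⟩
      refine ⟨g * a * g⁻¹, ⟨conj_mem hg h, fun b => ?_⟩, rfl⟩
      rw [← e ⟨g⁻¹ * b * g, conj_mem' hg b.2⟩]
      change ((l _ : ℂˣ) : ℂ) = l _
      congr 2
      refine Subtype.ext ?_
      have := mem_center_iff.1 (hz ⟨a, h⟩ ⟨g⁻¹ * b * g, conj_mem' hg b.2⟩) g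
      calc ⁅g * a * g⁻¹, (b : G)⁆ = g * ⁅a, g⁻¹ * b * g⁆ * g⁻¹ := by
            simp only [commutatorElement_def]; group
        _ = _ := by rw [this]; simp)
  have RZ : R = center G := le_antisymm (by rw [← cR, R0, MonoidHom.comap_bot, QuotientGroup.ker_mk']) ZR
  obtain ⟨W, hW⟩ := alt_sq β hm (fun a => by simp [β, l1]) (R := R.subgroupOf _)
    fun a => ⟨fun h => h.2, fun h => ⟨a.2, h⟩⟩
  have RQ : R ≤ Q.comap π := fun a ha => ha.1
  rw [Nat.card_congr (subgroupOfEquivOfLe RQ).toEquiv, RZ,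
    ← CfsgH2.card_mul_relIndex (RZ.ge.trans RQ),
    ← mul_assoc] at hW
  have h1 : (center G).relIndex (Q.comap π) = q := by
    have := relIndex_comap (⊥ : Subgroup (G ⧸ center G)) π (Q.comap π)
    rwa [MonoidHom.comap_bot, QuotientGroup.ker_mk', relIndex_bot_left,
      map_comap_eq_self_of_surjective (QuotientGroup.mk'_surjective _), ls.card_Q] at this
  rw [h1] at hW
  obtain ⟨c, hc⟩ : #(center G) ∣ #W := (Nat.pow_dvd_pow_iff two_ne_zero).1 ⟨q, by rw [sq, sq, hW]⟩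
  exact ⟨c, Nat.eq_of_mul_eq_mul_left (Nat.mul_pos Nat.card_pos Nat.card_pos)
    (by rw [← hW, hc]; ring)⟩

theorem not_sq {X K Q B : Subgroup G} {t s w : G} {e : ℤ} {q p : ℕ} (h : TO X K t s)
    (ls : LS0 X K t e q p Q B w) : (q % 8 = 3 ∨ q % 8 = 5) ∧ 11 ≤ q := by
  have h1 := ls.q_eq
  have h2 := h.six
  have h3 := h.mod
  rcases ls.sign with rfl | rfl <;> omega

theorem PCA.fwd {G : Type u} [Group G] [Finite G] (h : PCA G) (hB : SpecBSW.{u}) (hV : SpecV4.{u})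
    (hG : ¬ Group.IsSolvable G) {x : G} (hx : Bd x) : ∃ K t s, TO (⊤ : Subgroup G) K t s := by
  have Z0 : center G = ⊥ := by
    have cs := h.cs hG hx
    obtain ⟨ab, K, t, s, ho⟩ := cs.exists_to hB hV (x := x) ⟨fun e =>
      hx.1 ((QuotientGroup.eq_one_iff x).1 e), fun e => let ⟨_, a, b, h1, h2, h3⟩ := hx
        h3 (mem_up.1 (e a (mem_up.2 h1) (mem_up.2 h2)))⟩
    obtain ⟨e, q, p, Q, B, w, ls⟩ := hB _ _ _ t s ho.toBH
    by_contra ne
    obtain ⟨z, hz, z1⟩ := (center G).bot_or_exists_ne_one.resolve_left ne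
    obtain ⟨k, hp⟩ := exists_pow_prime z1
    replace hz := pow_mem hz k
    generalize z ^ k = z at hz hp
    haveI := Fact.mk hp
    obtain ⟨P, hP, hzP⟩ := CfsgH2.exists_isSylowOf_ge (pg_zp z) le_top
    have hn : ¬ Ab up (P.map (QuotientGroup.mk' _)) := fun f => hp.ne_one (by
      rw [tr_eq_one hP (fun a ha b hb => mem_up.1 (f _ ⟨b, hb, rfl⟩ ⟨a, ha, rfl⟩))
        (hzP (mem_zpowers z)) ((h.perfect hx ho.simp).ge trivial) fun k g _ _ => by
          rw [mem_center_iff.1 (pow_mem hz k) g, mul_inv_cancel_right], orderOf_one])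
    obtain ⟨c, hc⟩ := sq_of_not_ab ho.toBH ls.toLS0 (cs.not_ab_Q ho.toBH ls (fun f => hn (ab _ (by
      obtain ⟨P', rfl⟩ := hP.exists_sylow_top
      rw [← f]
      exact CfsgH2.isSylowOf_top (P'.mapSurjective (QuotientGroup.mk'_surjective _))))) (hP.2.1.map _) hn)
    have h1 := (not_sq ho ls.toLS0).1
    have h2 : c % 8 < 8 := Nat.mod_lt _ (by norm_num)
    rw [hc, Nat.mul_mod] at h1
    generalize c % 8 = d at h1 h2
    interval_cases d <;> omega
  have cs : CS (fun a : G => 𝒞₁ a) :=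
    ⟨fun e => mem_c1.2 (mem_c1.1 e).symm, fun _ => mem_c1.2 rfl,
      fun g _ _ e => mem_c1.2 (conj_comm g (mem_c1.1 e)), fun _ => le_rfl,
      fun e _ => pow_mem (mem_c1.2 e) _,
      fun e f => comm_mem_l (le_normalizer (mem_c1.2 f)) (mem_c1.2 e),
      fun e => mem_bot.1 (Z0.le (mem_center_iff.2 fun g => (mem_c1.1 (e.ge (mem_top g))).symm)),
      fun hH _ _ _ ha hb hc e1 e2 e3 =>
        h _ hH _ ha _ hb _ hc (mem_c1.1 e1) (mem_c1.1 e2) (mt mem_c1.2 e3),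
      fun N hN hs => eq_bot_iff.2 ((h.rad hG hx hN hs).trans Z0.le)⟩
  exact (cs.exists_to hB hV (x := x) ⟨fun e => hx.1 (e ▸ one_mem _), fun e =>
    let ⟨_, a, b, h1, h2, h3⟩ := hx; h3 (mem_c1.1 (e a (mem_c1.2 h1) (mem_c1.2 h2)))⟩).2

end CfsgCA
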