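/-
Minimal non-CA groups (S4369): solvable subgroups of `L₂(q)`, `q ≡ ±3 (mod 8)`.
-/
import Cfsg.Agent.AG.CA6
import Cfsg.Agent.H4.SL2Hall

set_option autoImplicit false

namespace CfsgCA

open Subgroup CfsgFT CfsgHH CfsgBS Matrix CfsgH4.SL2
open scoped commutatorElement MatrixGroups

/-- centralisers as in the subgroups of `L₂(q)`, `q ≡ ±3 (mod 8)` -/
structure PS (G : Type*) [Group G] : Prop where
  ab : ∀ x a b : G, x * x ≠ 1 → x * a = a * x → x * b = b * x → a * b = b * a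
  inv : ∀ v : G, v ≠ 1 → v * v = 1 → ∃ K : Subgroup G, v ∈ K ∧ (∀ a ∈ K, ∀ b ∈ K, a * b = b * a) ∧
    (∀ u ∈ K, u ≠ 1 → u * u = 1 → u = v) ∧
    ∀ g ∉ K, v * g = g * v → g * g = 1 ∧ ∀ y ∈ K, g * y * g⁻¹ = y⁻¹
  four : ∀ y : G, y * y * (y * y) = 1 → y * y = 1

section gen

variable {G Γ : Type*} [Group G] [Group Γ]

theorem PS.comap (h : PS G) (f : Γ →* G) (hf : Function.Injective f) : PS Γ where
  ab x a b h0 h1 h2 := hf (by
    simpa using h.ab (f x) (f a) (f b) (fun e => h0 (hf (by simpa using e)))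
      (by simpa using congrArg f h1) (by simpa using congrArg f h2))
  inv v v1 vv := by
    obtain ⟨K, h1, h2, h3, h4⟩ := h.inv (f v) (fun e => v1 (hf (by simpa using e)))
      (by simpa using congrArg f vv)
    refine ⟨K.comap f, h1, fun a ha b hb => hf (by simpa using h2 _ ha _ hb),
      fun u hu u1 uu => hf (h3 _ hu (fun e => u1 (hf (by simpa using e)))
        (by simpa using congrArg f uu)), fun g hg e => ?_⟩
    obtain ⟨h5, h6⟩ := h4 (f g) hg (by simpa using congrArg f e)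
    exact ⟨hf (by simpa using h5), fun y hy => hf (by simpa using h6 _ hy)⟩
  four y e := hf (by simpa using h.four (f y) (by simpa using congrArg f e))

theorem sq_of_inv_comm {g y : G} (h1 : g * y * g⁻¹ = y⁻¹) (h2 : g * y = y * g) : y * y = 1 := by
  rw [h2, mul_inv_cancel_right] at h1
  exact mul_eq_one_iff_eq_inv.2 h1

theorem PS.solv (h : PS G) (hs : Group.IsSolvable G) {t : G} (ht : Bd t) : False := by
  obtain ⟨t0, b, c, hb, hc, hbc⟩ := ht
  have t1 : t ≠ 1 := fun e => t0 (e ▸ one_mem _)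
  have tt : t * t = 1 := by_contra fun e => hbc (h.ab t b c e hb hc)
  obtain ⟨K, tK, ab, uq, ou⟩ := h.inv t t1 tt
  obtain ⟨s, sK, ts, y, yK, yy⟩ : ∃ s ∉ K, t * s = s * t ∧ ∃ y ∈ K, y * y ≠ 1 := by
    have key : ∀ b ∉ K, ∀ c ∈ K, t * b = b * t → b * c ≠ c * b → c * c ≠ 1 := fun b bK c cK e f g =>
      f (by rw [← mul_inv_eq_iff_eq_mul, (ou b bK e).2 c cK, inv_eq_of_sq g])
    by_cases bK : b ∈ K <;> by_cases cK : c ∈ K
    · exact (hbc (ab b bK c cK)).elim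
    · exact ⟨c, cK, hc, b, bK, key c cK b bK hc (Ne.symm hbc)⟩
    · exact ⟨b, bK, hb, c, cK, key b bK c cK hb hbc⟩
    · have e : b * c * (b * c) ≠ 1 := fun e => hbc (by
        rw [← inv_eq_of_sq e, _root_.mul_inv_rev, inv_eq_of_sq (ou b bK hb).1, inv_eq_of_sq (ou c cK hc).1])
      exact ⟨b, bK, hb, b * c, by_contra fun f => e (ou _ f (by
        rw [← mul_assoc, hb, mul_assoc, hc, mul_assoc])).1, e⟩
  obtain ⟨g₀, hg₀⟩ : ∃ g, g * t * g⁻¹ ≠ t := by
    by_contra! e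
    exact t0 (mem_center_iff.2 fun g => mul_inv_eq_iff_eq_mul.1 (e g))
  obtain ⟨N, hN, N0, hM⟩ := exists_ab_mod (G := G) (Z := ⊥) fun e => t1 (e.ge (mem_top t))
  replace hM : ∀ a ∈ N, ∀ b ∈ N, a * b = b * a := fun a ha b hb =>
    commutatorElement_eq_one_iff_mul_comm.1 (hM (commutator_mem_commutator ha hb))
  have fx : ∀ u : G, u * u = 1 → ∀ z ∈ N, u * (z * (u * z * u⁻¹)) = z * (u * z * u⁻¹) * u :=
    fun u uu z hz => by
      calc _ = u * z * u⁻¹ * (u * u) * z * u⁻¹ := by group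
        _ = _ := by rw [hM z hz _ (hN.conj_mem z hz u), uu, inv_eq_of_sq uu, mul_one]
  by_cases h2 : ∀ z ∈ N, z * z = 1
  · obtain ⟨v, vN, v1, vt, e⟩ : ∃ v ∈ N, v ≠ 1 ∧ v ≠ t ∧ t * v = v * t := by
      by_cases tN : t ∈ N
      · exact ⟨_, hN.conj_mem t tN g₀, conj_ne_one g₀ t1, hg₀, hM t tN _ (hN.conj_mem t tN g₀)⟩
      obtain ⟨n, nN, n1⟩ := N.bot_or_exists_ne_one.resolve_left fun e => N0 e.le
      by_cases e : t * n = n * t
      · exact ⟨n, nN, n1, fun f => tN (f ▸ nN), e⟩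
      have := mul_mem nN (hN.conj_mem n nN t)
      exact ⟨_, this, fun f => e (by
        rw [← mul_inv_eq_iff_eq_mul, ← inv_eq_of_mul_eq_one_right f, inv_eq_of_sq (h2 n nN)]),
        fun f => tN (f ▸ this), fx t tt n nN⟩
    have := (ou v (fun f => vt (uq v f v1 (h2 v vN))) e).2 y yK
    refine yy (h.four y (h2 _ ?_))
    rw [show y * y = y * (v * y * v⁻¹)⁻¹ by rw [this, inv_inv],
      show y * (v * y * v⁻¹)⁻¹ = y * v * y⁻¹ * v⁻¹ by group]
    exact mul_mem (hN.conj_mem v vN y) (inv_mem vN)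
  push Not at h2
  obtain ⟨z, zN, zz⟩ := h2
  by_cases h3 : ∃ v, v ≠ 1 ∧ v * v = 1 ∧ z * v = v * z
  · obtain ⟨v, v1, vv, e⟩ := h3
    obtain ⟨L, vL, ab', uq', ou'⟩ := h.inv v v1 vv
    have zL : z ∈ L := by_contra fun f => zz (ou' z f e.symm).1
    have all : ∀ g, v * g = g * v := fun g => by
      have z1 : g * z * g⁻¹ * (g * z * g⁻¹) ≠ 1 := by
        rw [conj_mul]; exact conj_ne_one g zz
      have e1 := h.ab _ z _ z1 (hM _ (hN.conj_mem z zN g) z zN) (conj_comm g e)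
      have e2 := h.ab z v _ zz e e1
      exact (mul_inv_eq_iff_eq_mul.1 (uq' _ (by_contra fun f => zz (sq_of_inv_comm
        ((ou' _ f e2).2 z zL) e1.symm)) (conj_ne_one g v1) (conj_sq g vv))).symm
    have tv : t = v := uq' t (by_contra fun f => yy (sq_of_inv_comm ((ou' t f (all t)).2 y
      (by_contra fun f => yy (ou' y f (all y)).1)) (ab t tK y yK))) t1 tt
    exact hg₀ (by rw [tv, ← all, mul_inv_cancel_right])
  have iv : ∀ u : G, u ≠ 1 → u * u = 1 → u * z * u⁻¹ = z⁻¹ := fun u u1 uu => by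
    have zc : z * (z * (u * z * u⁻¹)) = z * (u * z * u⁻¹) * z :=
      hM z zN _ (mul_mem zN (hN.conj_mem z zN u))
    refine eq_inv_of_mul_eq_one_right (by_contra fun f => ?_)
    by_cases e : z * (u * z * u⁻¹) * (z * (u * z * u⁻¹)) = 1
    · exact h3 ⟨_, f, e, zc⟩
    · exact h3 ⟨u, u1, uu, h.ab _ z u e zc.symm (fx u uu z zN).symm⟩
  have ss := (ou s sK ts).1
  have s1 : s ≠ 1 := fun e => sK (e ▸ one_mem K)
  refine h3 ⟨t * s, fun e => sK (eq_inv_of_mul_eq_one_right e ▸ inv_mem tK),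
    by rw [mul_assoc, ← mul_assoc s, ← ts, mul_assoc, ss, mul_one, tt], ?_⟩
  rw [eq_comm, ← mul_inv_eq_iff_eq_mul, show t * s * z * (t * s)⁻¹ = t * (s * z * s⁻¹) * t⁻¹ by group,
    iv s s1 ss, show t * z⁻¹ * t⁻¹ = (t * z * t⁻¹)⁻¹ by group, iv t t1 tt, inv_inv]

end gen

section mat

variable {F : Type*} [Field F]

local notation "π" => (QuotientGroup.mk : SL(2, F) → ProjectiveSpecialLinearGroup (Fin 2) F)

theorem tr_of_anti (h2 : (2 : F) ≠ 0) {x g : SL(2, F)} (h : g * x * g⁻¹ = -x) : tr x = 0 := by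
  have e := tr_conj g x
  rw [h, show tr (-x) = -tr x by simp [tr, CfsgH4.SL2.mv, add_comm]] at e
  exact (mul_eq_zero.1 (by linear_combination -e : 2 * tr x = 0)).resolve_left h2

theorem sq_of_tr {x : SL(2, F)} (h : tr x = 0) : x * x = -1 := by
  rw [← neg_neg (x * x), ← mul_neg, ← inv_eq_neg h, mul_inv_cancel]

theorem mk_one {x : SL(2, F)} : π x = 1 ↔ x ∈ center SL(2, F) := QuotientGroup.eq_one_iff x

theorem comm_or {x g : SL(2, F)} (h : π x * π g = π g * π x) :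
    g * x = x * g ∨ g * x * g⁻¹ = -x := by
  rcases mem_center.1 (QuotientGroup.eq.1 h : (x * g)⁻¹ * (g * x) ∈ _) with e | e
  · exact .inl (inv_mul_eq_one.1 e).symm
  · exact .inr (by rw [inv_mul_eq_iff_eq_mul.1 e]; simp)

theorem comm_lift (h2 : (2 : F) ≠ 0) {x g : SL(2, F)} (h0 : π x * π x ≠ 1)
    (h : π x * π g = π g * π x) : g * x = x * g :=
  (comm_or h).resolve_right fun e => h0 (mk_one.2 (mem_center.2 (.inr (sq_of_tr (tr_of_anti h2 e)))))

theorem mk_neg (x : SL(2, F)) : π (-x) = π x :=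
  QuotientGroup.eq.2 (mem_center.2 (.inr (by rw [← neg_one_mul x]; simp)))

theorem ps_psl [Fintype F] (h2 : (2 : F) ≠ 0) (h16 : ¬ 16 ∣ Fintype.card F ^ 2 - 1) :
    PS (ProjectiveSpecialLinearGroup (Fin 2) F) where
  ab := by
    rintro ⟨x⟩ ⟨a⟩ ⟨b⟩ h0 ha hb
    exact congrArg π (cent_comm (fun e => h0 (mk_one.2 (mul_mem e e))) (comm_lift h2 h0 ha)
      (comm_lift h2 h0 hb))
  inv := by
    rintro ⟨v⟩ v1 vv
    have v0 : v ∉ center SL(2, F) := mt mk_one.2 v1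
    have tv := tr_eq_zero v0 (mk_one.1 vv)
    refine ⟨(𝒞₁ v).map (QuotientGroup.mk' _), ⟨v, mem_c1.2 rfl, rfl⟩, ?_, ?_, ?_⟩
    · rintro _ ⟨a, ha, rfl⟩ _ ⟨b, hb, rfl⟩
      exact congrArg π (cent_comm v0 (mem_c1.1 ha).symm (mem_c1.1 hb).symm)
    · rintro _ ⟨a, ha, rfl⟩ a1 aa
      rcases cent_mem h2 tv (mk_one.1 aa) (mem_c1.1 ha).symm with rfl | rfl | rfl | rfl
      exacts [(a1 rfl).elim, (a1 (mk_neg 1)).elim, rfl, mk_neg v]
    · rintro ⟨g⟩ hg e
      have e1 := (comm_or e).resolve_left fun f => hg ⟨g, mem_c1.2 f.symm, rfl⟩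
      refine ⟨mk_one.2 (mem_center.2 (.inr (sq_of_tr (tr_of_anti h2 (g := v⁻¹) ?_)))), ?_⟩
      · rw [inv_inv, mul_assoc, mul_inv_eq_iff_eq_mul.1 e1]; simp
      · rintro _ ⟨y, hy, rfl⟩
        exact congrArg π (inverts v0 (e1.trans (inv_eq_neg tv).symm) (mem_c1.1 hy).symm)
  four := by
    rintro ⟨y⟩ e
    by_contra h0
    have tv := tr_eq_zero (x := y * y) (mt mk_one.2 h0) (mk_one.1 e)
    have h4 : y ^ 2 ^ 2 = -1 := by rw [← sq_of_tr tv]; simp [pow_succ, mul_assoc]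
    have h8 : orderOf y = 2 ^ 3 := orderOf_eq_prime_pow (fun f => h2 (by
      have := congrArg (fun x => CfsgH4.SL2.mv x 0 0) (f.symm.trans h4)
      simp at this
      linear_combination this)) (by rw [pow_succ 2 2, pow_mul, h4]; simp)
    have h9 := (centralizer {y * y}).orderOf_dvd_natCard (x := y) (mem_c1.2 (mul_assoc y y y))
    have := Fintype.card_pos (α := F)
    rw [h8] at h9
    refine h16 ?_
    rcases (ss_of_tr h2 tv).cent.2 with f | f <;> rw [f] at h9 <;> obtain ⟨k, hk⟩ := h9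
    · rw [show Fintype.card F = 8 * k + 1 by omega]
      exact ⟨4 * k ^ 2 + k, Nat.sub_eq_of_eq_add (by ring)⟩
    · obtain ⟨k, rfl⟩ : ∃ m, k = m + 1 := ⟨k - 1, by omega⟩
      rw [show Fintype.card F = 8 * k + 7 by omega]
      exact ⟨4 * k ^ 2 + 7 * k + 3, Nat.sub_eq_of_eq_add (by ring)⟩

theorem nca [Fintype F] (h2 : (2 : F) ≠ 0) (h7 : 7 ≤ Fintype.card F) {Γ : Type*} [Group Γ]
    (ψ : SL(2, F) →* Γ) (hψ : ∀ x, ψ x = 1 ↔ x ∈ center SL(2, F)) :
    ∃ a b c d, ψ a * ψ b = ψ b * ψ a ∧ ψ a * ψ c = ψ c * ψ a ∧ ψ b * ψ c ≠ ψ c * ψ b ∧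
      ψ a * ψ d ≠ ψ d * ψ a := by
  obtain ⟨i, j, w, ti, -, h1, h3, -⟩ := exists_ijw h2
  have hs := ss_of_tr h2 ti
  obtain ⟨y, hy⟩ := (Subgroup.isCyclic_iff_exists_zpowers_eq_top _).1 hs.cent.1
  have e0 : ψ i⁻¹ = ψ i := by
    rw [inv_eq_neg ti, ← neg_one_mul, map_mul, (hψ _).2 (mem_center.2 (.inr rfl)), one_mul]
  have yi : i * y = y * i := mem_c1.1 (hy.le (mem_zpowers y))
  refine ⟨i, j, y, w, ?_, by rw [← map_mul, yi, map_mul], fun e => ?_, fun e => ?_⟩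
  · rw [eq_comm, ← mul_inv_eq_iff_eq_mul, ← map_inv, ← map_mul, ← map_mul, h1, e0]
  · have e1 : ψ (y * y) = 1 := by
      rw [map_mul]
      refine sq_of_inv_comm ?_ e
      rw [← map_inv, ← map_inv, ← map_mul, ← map_mul, inverts hs.not_mem h1 yi.symm]
    have e2 : orderOf y ∣ 4 := orderOf_dvd_of_pow_eq_one (by
      rw [show y ^ 4 = y * y * (y * y) by simp [pow_succ, mul_assoc]]
      rcases mem_center.1 ((hψ _).1 e1) with f | f <;> simp [f])
    have e3 := Nat.le_of_dvd four_pos e2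
    have e4 := hs.cent.2
    rw [← hy, Nat.card_zpowers] at e4
    omega
  · have e1 : ψ (i⁻¹ * j) = 1 := by
      rw [← h3, map_mul, map_mul, map_mul, ← e, map_inv, map_inv]; group
    have e2 := mem_center_iff.1 ((hψ _).1 e1) i
    rw [mul_inv_cancel_left, mul_assoc, eq_inv_mul_iff_mul_eq] at e2
    rw [← e2, mul_inv_cancel_right] at h1
    exact hs.not_mem (mem_center_of_sq h2 (mul_eq_one_iff_eq_inv.2 h1))

end mat

end CfsgCA
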