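import Cfsg.Agent.AG.B0a
import Cfsg.Agent.H4.SL2Hall
import Cfsg.Agent.H4.SimpleIdx
import Cfsg.Agent.H9.J1Top

/-! WP SE: the groups `A₅` and `J₁`. -/

set_option autoImplicit false
set_option linter.style.haveILetI false

namespace CfsgAG

open Subgroup CfsgFT CfsgL0 Matrix
open scoped MatrixGroups

universe u

theorem card_psl2_odd {F : Type*} [Field F] [Fintype F] (h2 : (2 : F) ≠ 0) :
    2 * Nat.card (ProjectiveSpecialLinearGroup (Fin 2) F) =
      Fintype.card F * (Fintype.card F ^ 2 - 1) := by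
  have hne : (1 : SL(2, F)) ≠ -1 := fun h => h2 (by
    have := congrArg (fun x : SL(2, F) => x.1 0 0) h
    simp at this
    linear_combination this)
  have hc : Nat.card (center SL(2, F)) = 2 := by
    have : (center SL(2, F) : Set SL(2, F)) = {1, -1} := by
      ext x; simpa using CfsgH4.SL2.mem_center
    rw [← SetLike.coe_sort_coe, this, Nat.card_coe_set_eq, Set.ncard_pair hne]
  rw [← CfsgH4.SL2.card_SL2, card_eq_card_quotient_mul_card_subgroup (center SL(2, F)), hc, mul_comm]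

/-- a simple group of order 60 is `A₅` -/
theorem equiv_A5 {G : Type*} [Group G] [Finite G] [IsSimpleGroup G] (h : Nat.card G = 60) :
    Nonempty (G ≃* alternatingGroup (Fin 5)) := by
  classical
  haveI : Fact (Nat.Prime 2) := ⟨Nat.prime_two⟩
  obtain ⟨P⟩ : Nonempty (Sylow 2 G) := inferInstance
  have hP : Nat.card P = 2 ^ 2 := by
    rw [P.card_eq_multiplicity, h]
    congr 1
    decide +kernel
  have hP0 : (P : Subgroup G) ≠ ⊥ := fun e => by rw [e, card_bot] at hP; omega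
  have hP1 : (P : Subgroup G) ≠ ⊤ := fun e => by rw [e, card_top, h] at hP; omega
  have hN : 𝒩 (P : Subgroup G) ≠ ⊤ := fun e =>
    (normalizer_eq_top_iff.1 e).eq_bot_or_eq_top.elim hP0 hP1
  have hi : (𝒩 (P : Subgroup G)).index = 5 := by
    have h1 := (𝒩 (P : Subgroup G)).card_mul_index
    have h2 := card_dvd_of_le (le_normalizer (H := (P : Subgroup G)))
    have h3 := CfsgH4.card_dvd_factorial_of_simple hN
    rw [h] at h1 h3
    rw [hP] at h2
    obtain ⟨k, hk⟩ := h2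
    rw [hk] at h1
    have h4 : k * (𝒩 (P : Subgroup G)).index = 15 := by linarith
    have h5 : (𝒩 (P : Subgroup G)).index ≤ 15 := Nat.le_of_dvd (by norm_num) (Dvd.intro_left _ h4)
    have h6 : k ≠ 1 := fun e => by
      have e1 : (P : Subgroup G) = 𝒩 (P : Subgroup G) :=
        eq_of_le_of_card_ge le_normalizer (by rw [hk, hP, e, mul_one])
      have hc : 𝒩 (P : Subgroup G) ≤ 𝒞 (P : Subgroup G) := by
        rw [← e1]
        have := IsPGroup.isMulCommutative_of_card_eq_prime_sq hP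
        exact le_centralizer (P : Subgroup G)
      have h7 := MonoidHom.ker_transferSylow_isComplement' P hc
      rcases (MonoidHom.normal_ker (MonoidHom.transferSylow P hc)).eq_bot_or_eq_top with e2 | e2
      · rw [e2] at h7; exact hP1 (isComplement'_bot_left.1 h7)
      · rw [e2] at h7; exact hP0 (isComplement'_top_left.1 h7)
    generalize (𝒩 (P : Subgroup G)).index = i at *
    interval_cases i <;> first | omega | (exfalso; revert h3; decide)
  let e : (G ⧸ 𝒩 (P : Subgroup G)) ≃ Fin 5 :=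
    Finite.equivFinOfCardEq (by rw [← Subgroup.index_eq_card, hi])
  let φ : G →* Equiv.Perm (Fin 5) :=
    (e.permCongrHom : _ →* _).comp (MulAction.toPermHom G (G ⧸ 𝒩 (P : Subgroup G)))
  have hφ : Function.Injective φ :=
    e.permCongrHom.injective.comp (CfsgH4.toPermHom_injective_of_simple hN)
  have hr : φ.range = alternatingGroup (Fin 5) := by
    refine Equiv.Perm.eq_alternatingGroup_of_index_eq_two ?_
    have h1 := φ.range.card_mul_index
    rw [Nat.card_perm, Nat.card_fin, ← Nat.card_congr (MonoidHom.ofInjective hφ).toEquiv, h] at h1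
    norm_num [Nat.factorial] at h1
    omega
  exact ⟨(MonoidHom.ofInjective hφ).trans (MulEquiv.subgroupCongr hr)⟩

theorem specA5 : SpecA5.{u} := by
  intro G _ _ X V H h h4
  haveI := h.simp.simple
  haveI : Fact (Nat.Prime 5) := ⟨by norm_num⟩
  obtain ⟨e⟩ := equiv_A5 (G := X) (by rw [h.card_X, h4]; norm_num)
  haveI : IsSimpleGroup (ProjectiveSpecialLinearGroup (Fin 2) (ZMod 5)) :=
    ProjectiveSpecialLinearGroup.rank_two_simple (by simp)
  have hc := card_psl2_odd (F := ZMod 5) (show ((2 : ℕ) : ZMod 5) ≠ 0 by rw [Ne, ZMod.natCast_eq_zero_iff]; norm_num)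
  rw [ZMod.card] at hc
  obtain ⟨f⟩ := equiv_A5 (G := ProjectiveSpecialLinearGroup (Fin 2) (ZMod 5)) (by omega)
  exact ⟨⟨e⟩, ZMod 5, inferInstance, inferInstance, ZMod.card 5, ⟨e.trans f.symm⟩⟩

/-- the conclusion about elements of prime order `p` exactly dividing the order -/
theorem norm_not_cent {G : Type*} [Group G] [Finite G] {p : ℕ} [hp : Fact p.Prime]
    (h1 : (Nat.card G).factorization p = 1) {y₀ g₀ : G} (hy : orderOf y₀ = p)
    (hg : Odd (orderOf g₀)) (hn : g₀ * y₀ * g₀⁻¹ ∈ zpowers y₀) (hc : g₀ * y₀ ≠ y₀ * g₀)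
    {y : G} (h : orderOf y = p) :
    ∃ g : G, Odd (orderOf g) ∧ g * y * g⁻¹ ∈ zpowers y ∧ g * y ≠ y * g := by
  have hs : ∀ z : G, orderOf z = p → IsSylowOf p (zpowers z) ⊤ := fun z hz =>
    CfsgH2.isSylowOf_of_card_eq le_top (by rw [card_top, h1, Nat.card_zpowers, hz, pow_one])
  obtain ⟨k, -, hk⟩ := (hs y₀ hy).exists_cj_eq (hs y h)
  have hN : g₀ ∈ 𝒩 (zpowers y₀) := mem_normalizer_of_cj_le (cj_le_iff.2 fun x hx => by
    obtain ⟨n, rfl⟩ := mem_zpowers_iff.1 hx
    rw [← conj_zpow]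
    exact zpow_mem hn n)
  have hy' : k⁻¹ * y * k ∈ zpowers y₀ := mem_cj.1 (hk ▸ mem_zpowers y :)
  refine ⟨k * g₀ * k⁻¹, ?_, ?_, fun e => hc ?_⟩
  · rwa [show k * g₀ * k⁻¹ = MulAut.conj k g₀ from rfl, MulEquiv.orderOf_eq]
  · have := conj_mem_cj k (conj_mem_of_mem_norm hN hy')
    rw [show cj k (zpowers y₀) = zpowers y from hk] at this
    convert this using 1
    group
  · have h2 : k * y₀ * k⁻¹ ∈ zpowers y := hk ▸ conj_mem_cj k (mem_zpowers y₀)
    have h3 : Commute (k * g₀ * k⁻¹) (k * y₀ * k⁻¹) := by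
      obtain ⟨n, hn⟩ := mem_zpowers_iff.1 h2
      rw [← hn]
      exact Commute.zpow_right e n
    have h4 : k * (g₀ * y₀) * k⁻¹ = k * (y₀ * g₀) * k⁻¹ := by
      calc _ = k * g₀ * k⁻¹ * (k * y₀ * k⁻¹) := by group
        _ = k * y₀ * k⁻¹ * (k * g₀ * k⁻¹) := h3
        _ = _ := by group
    simpa using h4

section J

open CfsgH9.J1

theorem wd_xy_eq {l l' : List ℕ}
    (h : wc CfsgH6.J1.P.ops xyc l = wc CfsgH6.J1.P.ops xyc l') : wd xy l = wd xy l' :=
  CJ.inj (by rw [code_wd CJ code_xy, code_wd CJ code_xy, h])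

theorem wd_xy_ne {l l' : List ℕ}
    (h : wc CfsgH6.J1.P.ops xyc l ≠ wc CfsgH6.J1.P.ops xyc l') : wd xy l ≠ wd xy l' :=
  fun e => h (by rw [← code_wd CJ code_xy, ← code_wd CJ code_xy, e])

theorem wd_rep (l : List ℕ) (n : ℕ) : wd xy (List.replicate n l).flatten = wd xy l ^ n := by
  induction n with
  | zero => rfl
  | succ n ih => rw [List.replicate_succ, List.flatten_cons, wd_append, ih, pow_succ']

theorem ord_wd {l : List ℕ} {p : ℕ} (hp : p.Prime)
    (h1 : wc CfsgH6.J1.P.ops xyc (List.replicate p l).flatten = wc CfsgH6.J1.P.ops xyc [])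
    (h2 : wc CfsgH6.J1.P.ops xyc l ≠ wc CfsgH6.J1.P.ops xyc []) : orderOf (wd xy l) = p :=
  haveI := Fact.mk hp
  orderOf_eq_prime (by rw [← wd_rep]; exact wd_xy_eq h1) (wd_xy_ne h2)

theorem jj_fact {p r k : ℕ} (hp : p.Prime) (hr : r.Prime) (hr2 : r ≠ 2)
    (h1 : (175560 : ℕ).factorization p = 1) {a b : List ℕ} (ha : orderOf (wd xy a) = p)
    (hb : orderOf (wd xy b) = r)
    (h2 : wc CfsgH6.J1.P.ops xyc (b ++ a) =
      wc CfsgH6.J1.P.ops xyc ((List.replicate k a).flatten ++ b))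
    (h3 : wc CfsgH6.J1.P.ops xyc (b ++ a) ≠ wc CfsgH6.J1.P.ops xyc (a ++ b))
    {y : JJ} (h : orderOf y = p) :
    ∃ g : JJ, Odd (orderOf g) ∧ g * y * g⁻¹ ∈ zpowers y ∧ g * y ≠ y * g := by
  haveI := Fact.mk hp
  haveI : Finite JJ := Nat.finite_of_card_ne_zero (by rw [simple_JJ.2]; norm_num)
  refine norm_not_cent (by rw [simple_JJ.2, h1]) ha (g₀ := wd xy b) (hb ▸ hr.odd_of_ne_two hr2)
    ?_ ?_ h
  · have := wd_xy_eq h2
    rw [wd_append, wd_append, wd_rep] at this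
    rw [this, mul_inv_cancel_right]
    exact pow_mem (mem_zpowers _) k
  · have := wd_xy_ne h3
    rwa [wd_append, wd_append] at this

theorem jj_norm {y : JJ} (h : orderOf y = 11 ∨ orderOf y = 19) :
    ∃ g : JJ, Odd (orderOf g) ∧ g * y * g⁻¹ ∈ zpowers y ∧ g * y ≠ y * g := by
  rcases h with h | h
  · exact jj_fact (k := 4) (r := 5) (a := [1, 2, 2]) (b := [1, 1, 1, 2, 2, 2, 1, 2, 1, 2, 1])
      (by norm_num) (by norm_num) (by norm_num) (by decide +kernel)
      (ord_wd (by norm_num) (by decide +kernel) (by decide +kernel))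
      (ord_wd (by norm_num) (by decide +kernel) (by decide +kernel))
      (by decide +kernel) (by decide +kernel) h
  · exact jj_fact (k := 7) (r := 3) (a := [2, 1, 2, 2, 2])
      (b := [1, 1, 1, 2, 2, 1, 2, 1, 1, 2, 2, 1, 1])
      (by norm_num) (by norm_num) (by norm_num) (by decide +kernel)
      (ord_wd (by norm_num) (by decide +kernel) (by decide +kernel))
      (ord_wd (by norm_num) (by decide +kernel) (by decide +kernel))
      (by decide +kernel) (by decide +kernel) h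

end J

/-- `C_X(a) ≅ ⟨a⟩ × L` -/
theorem CL.equiv {G : Type*} [Group G] {X L : Subgroup G} {a : G} (h : CL X L a) :
    Nonempty ((X ⊓ 𝒞₁ a : Subgroup G) ≃* zpowers a × L) := by
  have hc : ∀ (x : zpowers a) (y : L), Commute ((zpowers a).subtype x) (L.subtype y) := fun x y => by
    obtain ⟨n, hn⟩ := mem_zpowers_iff.1 x.2
    show Commute (x : G) y
    rw [← hn]
    exact Commute.zpow_left (mem_c1.1 (h.L_le y.2).2).symm n
  let ψ := (zpowers a).subtype.noncommCoprod L.subtype hc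
  have hi : Function.Injective ψ := by
    rw [injective_iff_map_eq_one]
    rintro ⟨x, y⟩ e
    have e' : (x : G) * y = 1 := e
    rcases (mem_zpowers_inv h.aa).1 x.2 with e1 | e1
    · rw [e1, one_mul] at e'
      exact Prod.ext (Subtype.ext e1) (Subtype.ext e')
    · rw [e1] at e'
      exact absurd (eq_inv_of_mul_eq_one_left e' ▸ inv_mem y.2) h.a_not
  have hr : ψ.range = X ⊓ 𝒞₁ a := by
    refine le_antisymm ?_ fun g hg => ?_
    · rintro _ ⟨⟨x, y⟩, rfl⟩
      exact mul_mem (zpowers_le.2 (mem_inf.2 ⟨h.a_mem, mem_c1.2 rfl⟩) x.2) (h.L_le y.2)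
    · rcases h.cent g hg.1 (mem_c1.1 hg.2) with e | e
      · exact ⟨(1, ⟨g, e⟩), one_mul g⟩
      · refine ⟨(⟨a, mem_zpowers a⟩, ⟨g * a, e⟩), ?_⟩
        show a * (g * a) = g
        rw [mem_c1.1 hg.2, ← mul_assoc, h.aa, one_mul]
  exact ⟨(MulEquiv.subgroupCongr hr.symm).trans (MonoidHom.ofInjective hi).symm⟩

theorem specJ1 : SpecJ1.{u} := by
  intro G _ _ X L V H a h
  haveI := h.simp.simple
  haveI : Fact (Nat.Prime 2) := ⟨Nat.prime_two⟩
  let t : X := ⟨a, h.a_mem⟩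
  have t2 : orderOf t = 2 :=
    orderOf_eq_prime (Subtype.ext (by simpa [sq] using h.aa)) fun e => h.a_ne (congrArg Subtype.val e)
  have ht : Cfsg.IsTwoCentralInvolution t := by
    refine ⟨t2, ?_⟩
    obtain ⟨P, hP⟩ := (IsPGroup.of_card (n := 1) (G := zpowers t)
      (by rw [Nat.card_zpowers, t2, pow_one])).exists_le_sylow
    haveI : Nontrivial P := ⟨⟨t, hP (mem_zpowers t)⟩, 1, fun e =>
      h.a_ne (congrArg (fun x : P => ((x : X) : G)) e)⟩
    haveI := P.isPGroup'.center_nontrivial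
    obtain ⟨z, hz⟩ := exists_prime_orderOf_dvd_card' (G := center P) 2 (by
      obtain ⟨n, hn0, hn⟩ := (P.isPGroup'.to_subgroup (center P)).nontrivial_iff_card.1 inferInstance
      rw [hn]; exact dvd_pow_self 2 hn0.ne')
    have hz' : orderOf (((z : P) : X) : G) = 2 := by
      rw [orderOf_coe, orderOf_coe, orderOf_coe, hz]
    obtain ⟨g, hg, e⟩ := h.conj _ ((z : P) : X).2 (fun e => by rw [e, orderOf_one] at hz'; omega)
      (by rw [← sq]; exact orderOf_dvd_iff_pow_eq_one.1 hz'.dvd)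
    have e' : (⟨g, hg⟩ : X) * t * (⟨g, hg⟩ : X)⁻¹ = (z : P) := Subtype.ext e
    refine ⟨(⟨g, hg⟩ : X)⁻¹ • P, ?_, fun x hx => ?_⟩
    · rw [← SetLike.mem_coe, Sylow.coe_smul, Set.mem_smul_set_iff_inv_smul_mem]
      show _ * t * _ ∈ (P : Set X)
      simp only [inv_inv]
      exact e' ▸ (z : P).2
    · rw [← SetLike.mem_coe, Sylow.coe_smul, Set.mem_smul_set_iff_inv_smul_mem] at hx
      have hx' : (⟨g, hg⟩ : X) * x * (⟨g, hg⟩ : X)⁻¹ ∈ P := by simpa using hx
      have := congrArg Subtype.val (mem_center_iff.1 z.2 ⟨_, hx'⟩)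
      simp only [coe_mul, ← e'] at this
      have h4 : (⟨g, hg⟩ : X) * (x * t) * (⟨g, hg⟩ : X)⁻¹ = ⟨g, hg⟩ * (t * x) * (⟨g, hg⟩ : X)⁻¹ := by
        calc _ = (⟨g, hg⟩ : X) * x * (⟨g, hg⟩ : X)⁻¹ * (⟨g, hg⟩ * t * (⟨g, hg⟩ : X)⁻¹) := by group
          _ = _ := this
          _ = _ := by group
      simpa using h4
  obtain ⟨e1⟩ := h.toCL.equiv
  obtain ⟨⟨e2⟩, -⟩ := specA5 G L V H h.t2 h.card_V
  have e3 : zpowers a ≃* Multiplicative (ZMod 2) := mulEquivOfPrimeCardEq (p := 2)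
    (by rw [Nat.card_zpowers]; exact (orderOf_coe t).trans t2) (by simp)
  have hm : (𝒞₁ t).map X.subtype = X ⊓ 𝒞₁ a := by
    ext g
    refine ⟨?_, fun hg => ⟨⟨g, hg.1⟩, mem_c1.2 (Subtype.ext (mem_c1.1 hg.2)), rfl⟩⟩
    rintro ⟨x, hx, rfl⟩
    exact ⟨x.2, mem_c1.2 (congrArg Subtype.val (mem_c1.1 hx))⟩
  obtain ⟨e⟩ := CfsgH9.J1.iso_of_centralizer ht
    ((((𝒞₁ t).equivMapOfInjective X.subtype X.subtype_injective).trans
      (MulEquiv.subgroupCongr hm)).trans (e1.trans (e3.prodCongr e2)))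
  refine ⟨⟨e⟩, by rw [Nat.card_congr e.toEquiv, CfsgH9.J1.simple_JJ.2], fun y hy ho => ?_⟩
  obtain ⟨g, h1, h2, h3⟩ := jj_norm (y := e ⟨y, hy⟩)
    (by rwa [MulEquiv.orderOf_eq, ← orderOf_coe])
  obtain ⟨g, rfl⟩ := e.surjective g
  refine ⟨g, g.2, by rwa [MulEquiv.orderOf_eq, ← orderOf_coe] at h1, ?_, fun e' => h3 ?_⟩
  · obtain ⟨n, hn⟩ := mem_zpowers_iff.1 h2
    rw [← map_zpow, ← map_inv, ← map_mul, ← map_mul] at hn
    exact mem_zpowers_iff.2 ⟨n, by simpa using congrArg Subtype.val (e.injective hn)⟩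
  · rw [← map_mul, ← map_mul]
    exact congrArg e (Subtype.ext e')

end CfsgAG
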