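/-
Minimal non-CA groups (S4369): the theorem.
-/
import Cfsg.Agent.AG.CA7
import Cfsg.Agent.AG.SE2

set_option autoImplicit false

namespace CfsgCA

open Subgroup CfsgFT CfsgHH CfsgBS Matrix CfsgH4.SL2
open CfsgAG hiding mem_c1
open scoped MatrixGroups

universe u

variable {F : Type*} [Field F] [Fintype F]

local notation "π" => (QuotientGroup.mk : SL(2, F) → ProjectiveSpecialLinearGroup (Fin 2) F)

theorem two_ne_of_odd (h : Fintype.card F % 2 = 1) : (2 : F) ≠ 0 := fun e => by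
  have := FiniteField.cast_card_eq_zero F
  rw [← Nat.div_add_mod (Fintype.card F) 2, h] at this
  simp [e] at this

theorem not16 {q : ℕ} (h : q % 8 = 3 ∨ q % 8 = 5) : ¬ 16 ∣ q ^ 2 - 1 := by
  rw [← Nat.div_add_mod q 8]
  generalize q / 8 = k
  rcases h with h | h <;> rw [h]
  · rw [show (8 * k + 3) ^ 2 = 16 * (4 * k ^ 2 + 3 * k) + 9 by ring]; omega
  · rw [show (8 * k + 5) ^ 2 = 16 * (4 * k ^ 2 + 5 * k) + 25 by ring]; omega

omit [Fintype F] in
theorem PCA.surj {G : Type*} [Group G] (h : PCA G) (h2 : (2 : F) ≠ 0)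
    (e : G ≃* ProjectiveSpecialLinearGroup (Fin 2) F) {E : Type*} [Field E] [Fintype E]
    (f : E →+* F) (h7 : 7 ≤ Fintype.card E) : Function.Surjective f := by
  by_contra hf
  let φ : SL(2, E) →* SL(2, F) := SpecialLinearGroup.map f
  have inj : Function.Injective φ := fun x y g => Subtype.ext (Matrix.ext fun i j =>
    f.injective (congrFun (congrFun (congrArg Subtype.val g) i) j :))
  have ng : ∀ x, φ (-x) = -φ x := fun x => Subtype.ext (Matrix.ext fun i j => map_neg f _)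
  let ψ : SL(2, E) →* G := e.symm.toMonoidHom.comp ((QuotientGroup.mk' _).comp φ)
  obtain ⟨a, b, c, d, h1, h3, h4, h5⟩ := nca (fun e => h2 (by rw [← map_ofNat f, e, map_zero])) h7 ψ
    fun x => (map_eq_one_iff e.symm e.symm.injective).trans (mk_one.trans (by
      rw [mem_center, mem_center, ← map_one φ, ← ng, inj.eq_iff, inj.eq_iff]))
  refine h5 (mem_c1.1 (h ψ.range (fun t => hf fun x => ?_) _ ⟨a, rfl⟩ _ ⟨b, rfl⟩ _ ⟨c, rfl⟩
    h1 h3 h4 ⟨d, rfl⟩))
  obtain ⟨M, rfl⟩ : ∃ M : SL(2, F), M.1 0 1 = x := ⟨⟨!![1, x; 0, 1], by simp⟩, rfl⟩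
  obtain ⟨m, hm⟩ := t.ge (mem_top (e.symm (π M)))
  rcases mem_center.1 (QuotientGroup.eq.1 (e.symm.injective hm)) with g | g
  · exact ⟨m.1 0 1, congrArg (fun y : SL(2, F) => y.1 0 1) (inv_mul_eq_one.1 g)⟩
  · rw [inv_mul_eq_iff_eq_mul, mul_neg_one, ← ng] at g
    exact ⟨(-m).1 0 1, congrArg (fun y : SL(2, F) => y.1 0 1) g.symm⟩

theorem PCA.arith {G : Type*} [Group G] (h : PCA G)
    (e : G ≃* ProjectiveSpecialLinearGroup (Fin 2) F)
    (h8 : Fintype.card F % 8 = 3 ∨ Fintype.card F % 8 = 5) (h11 : 11 ≤ Fintype.card F) :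
    ((Fintype.card F).Prime ∧ 5 < Fintype.card F ∧ ¬ 16 ∣ Fintype.card F ^ 2 - 1) ∨
      ∃ p : ℕ, p.Prime ∧ p ≠ 2 ∧ (Fintype.card F = 3 ^ p ∨ Fintype.card F = 5 ^ p) := by
  obtain ⟨r, hc, ⟨n, n0⟩, hr, hq⟩ := FiniteField.card' F
  replace hq : Fintype.card F = r ^ n := hq
  haveI := Fact.mk hr
  letI := ZMod.algebra F r
  have hn : Module.finrank (ZMod r) F = n := Nat.pow_right_injective hr.two_le (by
    have := Module.card_eq_pow_finrank (K := ZMod r) (V := F)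
    rw [ZMod.card] at this
    exact this.symm.trans hq)
  have key : ∀ d, d ∣ n → d ≠ n → r ^ d ≤ 6 := fun d hd dn => by
    by_contra! h7
    have d0 : d ≠ 0 := by rintro rfl; omega
    obtain ⟨f⟩ := FiniteField.nonempty_algHom_of_finrank_dvd (F := ZMod r) (K := GaloisField r d)
      (L := F) (by rwa [GaloisField.finrank r d0, hn])
    haveI := Fintype.ofFinite (GaloisField r d)
    have c : Fintype.card (GaloisField r d) = r ^ d := by
      rw [← Nat.card_eq_fintype_card, GaloisField.card r d d0]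
    exact dn (Nat.pow_right_injective hr.two_le (c.symm.trans ((Fintype.card_of_bijective
      ⟨f.toRingHom.injective, h.surj (two_ne_of_odd (by omega)) e f.toRingHom (by omega)⟩).trans hq)))
  by_cases n1 : n = 1
  · exact .inl ⟨by rwa [hq, n1, pow_one], by omega, not16 h8⟩
  have h6 := key 1 (one_dvd n) (Ne.symm n1)
  have r2 : r ≠ 2 := by
    rintro rfl
    have := dvd_pow_self 2 n0.ne'
    omega
  have h35 : r = 3 ∨ r = 5 := by
    rw [pow_one] at h6
    interval_cases r <;> simp_all (decide := true)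
  refine .inr ⟨n, Nat.prime_def_lt.2 ⟨by omega, fun m hm hd => ?_⟩, ?_,
    by rw [hq]; exact h35.imp (congrArg (· ^ n)) (congrArg (· ^ n))⟩
  · have h1 := key m hd hm.ne
    have h2 : ¬ 2 ≤ m := fun f => by
      have := Nat.pow_le_pow_right hr.pos f
      rcases h35 with rfl | rfl <;> omega
    have := Nat.pos_of_dvd_of_pos hd n0
    omega
  · rintro rfl
    rcases h35 with rfl | rfl <;> omega

theorem PCA.surj' {Γ : Type u} [Group Γ] [Finite Γ] (h : PCA Γ) (hB : SpecBSW.{u})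
    (hV : SpecV4.{u}) {x : Γ} (hx : Bd x) (f : Γ →* ProjectiveSpecialLinearGroup (Fin 2) F)
    (hf : Function.Injective f) (h2 : (2 : F) ≠ 0) (h16 : ¬ 16 ∣ Fintype.card F ^ 2 - 1) {r n : ℕ}
    (hr : r.Prime) (hq : Fintype.card F = r ^ n) (hn : n = 1 ∨ n.Prime ∧ r ≤ 5) :
    Function.Surjective f := by
  obtain ⟨K, t, s, ho⟩ := h.fwd hB hV (fun hs => ((ps_psl h2 h16).comap f hf).solv hs hx) hx
  obtain ⟨e, q, p, Q, B, w, ls⟩ := hB _ _ _ t s ho.toBH
  obtain ⟨h8, h11⟩ := not_sq ho ls.toLS0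
  have cQ := ls.card_Q
  by_cases hp : (p : F) = 0
  · obtain ⟨c, hc, -, hc', -⟩ := FiniteField.card' F
    have r0 : (r : F) = 0 := eq_zero_of_pow_eq_zero (n := n) (by
      rw [← Nat.cast_pow, ← hq, FiniteField.cast_card_eq_zero])
    obtain rfl := (Nat.prime_dvd_prime_iff_eq hc' ls.prime).1 ((CharP.cast_eq_zero_iff F c p).1 hp)
    obtain rfl := (Nat.prime_dvd_prime_iff_eq hc' hr).1 ((CharP.cast_eq_zero_iff F c r).1 r0)
    haveI := Fact.mk hr
    obtain ⟨m, hm⟩ := IsPGroup.iff_card.1 (fun y => ⟨1, Subtype.ext (by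
      simpa using ls.elem.2 y y.2)⟩ : IsPGroup c Q)
    have c1 := ls.card_X
    have c2 := card_psl2_odd h2
    rw [card_top, ← cQ, hm] at c1
    rw [hq] at c2
    have m0 : m ≠ 0 := by rintro rfl; rw [pow_zero] at hm; omega
    have c3 : (c ^ m) ^ 2 - 1 ∣ (c ^ n) ^ 2 - 1 := Nat.Coprime.dvd_of_dvd_mul_left
      (Nat.Coprime.pow_right n (((Nat.coprime_self_sub_left (Nat.one_le_pow 2 _ (pow_pos hr.pos m))).2
        (by simp)).coprime_dvd_right ((dvd_pow_self c m0).trans (dvd_pow_self _ two_ne_zero))))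
      ((Dvd.intro_left _ rfl).trans (c1 ▸ c2 ▸ mul_dvd_mul_left 2 (card_dvd_of_injective f hf)))
    have c4 := Nat.pow_sub_one_gcd_pow_sub_one c (m * 2) (n * 2)
    rw [pow_mul, pow_mul, Nat.gcd_eq_left c3, ← pow_mul] at c4
    have c5 : m * 2 = (m * 2).gcd (n * 2) := Nat.pow_right_injective hr.two_le (by
      have := pow_pos hr.pos (m * 2)
      have := pow_pos hr.pos ((m * 2).gcd (n * 2))
      simp only
      omega)
    have c6 : m ∣ n := Nat.dvd_of_mul_dvd_mul_right two_pos (c5 ▸ Nat.gcd_dvd_right _ _)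
    have c7 : m = n := by
      rcases hn with rfl | ⟨hn, h5⟩
      · exact Nat.dvd_one.1 c6
      · refine (hn.eq_one_or_self_of_dvd m c6).resolve_left fun g => ?_
        rw [g, pow_one] at hm
        omega
    exact (hf.bijective_of_nat_card_le (by rw [c7] at c1; omega)).2
  obtain ⟨E, h1, h3, h4⟩ := exists_E ho.toBH ls.toLS0
  obtain ⟨v, hv, v1⟩ := Q.bot_or_exists_ne_one.resolve_left fun g => by
    rw [g, card_bot] at cQ; omega
  obtain ⟨j, hj, j1⟩ := E.bot_or_exists_ne_one.resolve_left fun g => by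
    rw [g, card_bot] at h3; omega
  obtain ⟨y, hy⟩ := QuotientGroup.mk_surjective (f v)
  have vv : π y * π y ≠ 1 := fun g => v1 (orderOf_eq_one_iff.1 (Nat.eq_one_of_dvd_coprimes
    (a := 2) (b := #Q) (by rw [cQ, Nat.coprime_two_left, Nat.odd_iff]; omega)
    (orderOf_dvd_of_pow_eq_one (hf (by rwa [sq, map_mul, map_one, ← hy]))) (orderOf_dvd_natCard _ hv)))
  have hs : SS y := ss_of_pow (fun g => vv (mk_one.2 (mul_mem g g))) hp (mk_one.1 (by
    rw [QuotientGroup.mk_pow, hy, ← map_pow, ls.elem.2 v hv, map_one]))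
  have hE : E ≤ NI v := fun g hg => by
    obtain ⟨k, hk⟩ := QuotientGroup.mk_surjective (f g)
    have e1 : f (g * v * g⁻¹) = π (k * y * k⁻¹) := by
      rw [map_mul, map_mul, map_inv, ← hk, ← hy]; rfl
    refine (hs.conj_eq_or (g := k) (comm_lift h2 vv ?_)).imp (fun e => hf ?_) fun e => hf ?_
    · rw [← e1, hy, ← map_mul, ← map_mul,
        isMulCommutative_iff_le.1 ls.elem.1 (conj_mem (h1 hg).2 hv) v hv]
    · rw [e1, e, hy]
    · rw [e1, e, map_inv, ← hy]; rfl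
  have := card_eq_two_mul hE hj fun g => j1 (h4 j hj v hv v1 (mem_c1.1 g).symm)
  rw [show 𝒞₁ v ⊓ E = ⊥ from eq_bot_iff.2 fun g hg => h4 g hg.2 v hv v1 (mem_c1.1 hg.1).symm,
    card_bot] at this
  omega

theorem ca_iff {G : Type*} [Group G] [Finite G] :
    (∀ x : G, x ∉ center G → IsMulCommutative (centralizer ({x} : Set G))) ↔ ∀ x : G, ¬ Bd x :=
  forall_congr' fun x => ⟨fun h ⟨h0, a, b, h1, h2, h3⟩ => h3
    (isMulCommutative_iff_le.1 (h h0) (mem_c1.2 h2) a (mem_c1.2 h1)),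
    fun h h0 => isMulCommutative_iff_le.2 fun b hb a ha => by_contra fun e =>
      h ⟨h0, a, b, mem_c1.1 ha, mem_c1.1 hb, e⟩⟩

theorem bd_sub {G : Type*} [Group G] {H : Subgroup G} : (∀ x : H, ¬ Bd x) ↔
    ∀ a ∈ H, ∀ b ∈ H, ∀ c ∈ H, a * b = b * a → a * c = c * a → b * c ≠ c * b → H ≤ 𝒞₁ a :=
  ⟨fun h a ha b hb c hc h1 h2 h3 g hg => by_contra fun e => h ⟨a, ha⟩
    ⟨fun f => e (mem_c1.2 (congrArg Subtype.val (mem_center_iff.1 f ⟨g, hg⟩)).symm), ⟨b, hb⟩,
      ⟨c, hc⟩, Subtype.ext h1, Subtype.ext h2, fun f => h3 (congrArg Subtype.val f)⟩,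
    fun h x ⟨h0, a, b, h1, h2, h3⟩ => h0 (mem_center_iff.2 fun g => Subtype.ext (mem_c1.1
      (h x x.2 a a.2 b b.2 (congrArg Subtype.val h1) (congrArg Subtype.val h2)
        (fun f => h3 (Subtype.ext f)) g.2)).symm)⟩

theorem s4369_of (hB : SpecBSW.{u}) (hV : SpecV4.{u}) {G : Type u} [Group G] [Finite G] :
    (¬ Group.IsSolvable G ∧ ¬ (∀ x : G, x ∉ center G → IsMulCommutative (centralizer ({x} : Set G))) ∧
      ∀ H : Subgroup G, H ≠ ⊤ →
        (∀ x : H, x ∉ center H → IsMulCommutative (centralizer ({x} : Set H)))) ↔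
      ∃ (F : Type) (_ : Field F) (_ : Fintype F),
        Nonempty (G ≃* ProjectiveSpecialLinearGroup (Fin 2) F) ∧
        (((Fintype.card F).Prime ∧ 5 < Fintype.card F ∧ ¬ 16 ∣ Fintype.card F ^ 2 - 1) ∨
         (∃ p : ℕ, p.Prime ∧ p ≠ 2 ∧ (Fintype.card F = 3 ^ p ∨ Fintype.card F = 5 ^ p))) := by
  simp only [ca_iff, bd_sub]
  refine ⟨fun ⟨hG, hx, h⟩ => ?_, fun ⟨F, _, _, ⟨e⟩, hF⟩ => ?_⟩
  · push Not at hx
    obtain ⟨x, hx⟩ := hx
    obtain ⟨K, t, s, ho⟩ := PCA.fwd h hB hV hG hx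
    obtain ⟨_, q, p, Q, B, w, ls⟩ := hB _ _ _ t s ho.toBH
    obtain ⟨h8, h11⟩ := not_sq ho ls.toLS0
    obtain ⟨F, _, _, rfl, ⟨e⟩⟩ := ls.iso
    exact ⟨F, _, _, ⟨topEquiv.symm.trans e⟩, PCA.arith h (topEquiv.symm.trans e) h8 h11⟩
  obtain ⟨h2, h7, h16, r, n, hr, hq, hn⟩ : Fintype.card F % 2 = 1 ∧ 7 ≤ Fintype.card F ∧
      ¬ 16 ∣ Fintype.card F ^ 2 - 1 ∧ ∃ r n : ℕ, r.Prime ∧ Fintype.card F = r ^ n ∧
        (n = 1 ∨ n.Prime ∧ r ≤ 5) := by
    rcases hF with ⟨h1, h3, h4⟩ | ⟨p, hp, p2, h⟩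
    · have := h1.eq_two_or_odd
      exact ⟨by omega, by omega, h4, _, 1, h1, (pow_one _).symm, .inl rfl⟩
    obtain ⟨k, hk⟩ := hp.odd_of_ne_two p2
    have k0 : 2 ≤ p := hp.two_le
    rcases h with h | h
    · have h8 : Fintype.card F % 8 = 3 := by
        rw [h, hk, pow_succ, pow_mul, Nat.mul_mod, Nat.pow_mod]; simp
      have := Nat.pow_le_pow_right (show 0 < 3 by norm_num) k0
      exact ⟨by omega, by omega, not16 (.inl h8), 3, p, Nat.prime_three, h, .inr ⟨hp, by norm_num⟩⟩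
    · have h8 : Fintype.card F % 8 = 5 := by
        rw [h, hk, pow_succ, pow_mul, Nat.mul_mod, Nat.pow_mod]; simp
      have := Nat.pow_le_pow_right (show 0 < 5 by norm_num) k0
      exact ⟨by omega, by omega, not16 (.inr h8), 5, p, Nat.prime_five, h, .inr ⟨hp, le_rfl⟩⟩
  replace h2 := two_ne_of_odd h2
  obtain ⟨a, b, c, d, h1, h3, h4, h5⟩ := nca h2 h7 (e.symm.toMonoidHom.comp (QuotientGroup.mk' _))
    fun x => (map_eq_one_iff e.symm e.symm.injective).trans mk_one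
  haveI := ProjectiveSpecialLinearGroup.rank_two_simple (F := F)
    (by rw [Nat.card_eq_fintype_card]; omega)
  haveI := e.isSimpleGroup
  refine ⟨fun hs => h4 (IsSimpleGroup.comm_iff_isSolvable.2 hs _ _),
    fun h => h _ ⟨fun f => h5 (mem_center_iff.1 f _).symm, _, _, h1, h3, h4⟩, fun H => ?_⟩
  induction H using WellFoundedLT.induction with | ind H ih => ?_
  refine fun hH => bd_sub.1 fun x hx => hH (eq_top_iff.2 fun g _ => ?_)
  suffices h : PCA H by
    obtain ⟨y, hy⟩ := h.surj' hB hV hx (e.toMonoidHom.comp H.subtype)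
      (e.injective.comp Subtype.val_injective) h2 h16 hr hq hn (e g)
    exact e.injective hy ▸ y.2
  intro K hK a ha b hb c hc h1 h3 h4 g hg
  have lt : K.map H.subtype < H := (map_subtype_le K).lt_of_ne fun f =>
    hK (map_injective H.subtype_injective (by rw [f, ← MonoidHom.range_eq_map, range_subtype]))
  exact mem_c1.2 (Subtype.ext (mem_c1.1 (ih _ lt lt.ne_top _ ⟨a, ha, rfl⟩ _ ⟨b, hb, rfl⟩ _ ⟨c, hc, rfl⟩
    (congrArg Subtype.val h1) (congrArg Subtype.val h3) (fun f => h4 (Subtype.ext f)) ⟨g, hg, rfl⟩)))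

end CfsgCA
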