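import Cfsg.Agent.AG.JL4

/-! WP JL: the local analysis of the case `C(a) = ⟨a⟩ × L₂(q)`. -/

namespace CfsgAG

open Subgroup CfsgFT

universe u

theorem specJL : SpecJL.{u} := by
  intro G _ _ c L a K t s cl tO e q p Q A w ls
  have h : Jl.JD L K Q A a t s w e q p := ⟨cl, tO, ls⟩
  refine ⟨fun z hz z1 ho => h.cz c z (h.mem_Z hz ho) z1, fun y hy y1 g hg =>
    (Jl.cl_mem_sup cl ls.ccA.le).1 (h.cy c hy y1 (mem_c1.2 hg)), ?_, ?_⟩
  · rintro rfl
    exact h.pos c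
  · rintro rfl
    exact h.neg c

end CfsgAG
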