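/-
WP W2, part 1: the solvable case and the maximal 2-component.
-/
import Cfsg.Agent.AG.B
import Cfsg.Agent.AG.SE
import Cfsg.Agent.H2.Sig7

set_option autoImplicit false

namespace CfsgAG

open Subgroup CfsgFT CfsgL0
open scoped commutatorElement

universe u

section

variable {G : Type*} [Group G] {X Y S : Subgroup G}

theorem cent_zp (t : G) : 𝒞 (zpowers t) = 𝒞₁ t := by
  rw [zpowers_eq_closure, centralizer_closure]

theorem cent_le_c1 {t : G} (h : t ∈ X) : 𝒞 X ≤ 𝒞₁ t :=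
  centralizer_le (Set.singleton_subset_iff.2 h)

theorem le_c1_iff {t : G} : X ≤ 𝒞₁ t ↔ t ∈ 𝒞 X :=
  ⟨fun h => mem_cent_iff.2 fun _ hb => (mem_c1.1 (h hb)).symm,
    fun h _ hb => mem_c1.2 (mem_cent_iff.1 h _ hb).symm⟩

theorem le_norm_c1 {t : G} (h : X ≤ 𝒞₁ t) : X ≤ 𝒩 (𝒞₁ t) := h.trans le_normalizer

theorem le_norm_zp {t : G} (h : X ≤ 𝒞₁ t) : X ≤ 𝒩 (zpowers t) :=
  le_normalizer_of_le_centralizer (by rwa [cent_zp])

variable [Finite G]

theorem odd_of_pgroup {p : ℕ} [hp : Fact p.Prime] (h2 : p ≠ 2) (h : IsPGroup p X) : Odd #X := by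
  obtain ⟨n, hn⟩ := h.exists_card_eq
  exact hn ▸ (hp.out.odd_of_ne_two h2).pow

theorem pCore_le_oc {p : ℕ} [Fact p.Prime] (h2 : p ≠ 2) : pCoreOf p Y ≤ Oc Y :=
  le_oc pCoreOf_le le_normalizer_pCoreOf (odd_of_pgroup h2 isPGroup_pCoreOf)

theorem inv_cent_oc {t : G} (ht : t * t = 1) (hY : t ∈ Y)
    (h : ∀ (r : ℕ) [Fact r.Prime], r ≠ 2 → t ∈ 𝒞 (pCoreOf r Y)) : t ∈ 𝒞 (Oc Y) := by
  have h1 : fittingOf (Oc Y) ≤ 𝒞 (zpowers t) := fittingOf_le_iff.2 fun p _ => by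
    by_cases e : p = 2
    · subst e
      exact (le_inf le_rfl pCoreOf_le).trans
        ((two_inf_odd isPGroup_pCoreOf (odd_oc Y)).le.trans bot_le)
    · rw [cent_zp, le_c1_iff]
      exact cent_anti (pCoreOf_le_of_le_normalizer pPrimeCoreOf_le le_normalizer_pPrimeCoreOf) (h p e)
  rw [← le_c1_iff, ← cent_zp]
  refine CfsgH2.le_centralizer_of_commutator_le
    (coprime_two_of_odd (two_zpowers ht) (odd_of_le fittingOf_le (odd_oc Y)))
    (Or.inl (solv_two (two_zpowers ht))) h1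
    (le_trans (le_inf ?_ ?_) (inf_centralizer_fittingOf_le (solvable_oc Y)))
  · exact commutator_le_left_of_le_normalizer (zpowers_le_norm (le_normalizer_pPrimeCoreOf hY))
  · exact (commutator_mono le_rfl (le_centralizer_symm h1)).trans
      (commutator_le_right_of_le_normalizer
        (CfsgH2.le_normalizer_centralizer le_normalizer_fittingOf))

theorem mem_of_sq_of_norm (hS : IsSylowOf 2 S ⊤) (hX : S ≤ X) {n : G} (hn : n ∈ 𝒩 S)
    (h : n * n ∈ X) : n ∈ X := by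
  have h1 := (syl_norm hS).2.2
  rw [top_inf_eq] at h1
  haveI := CfsgL0.normal_subgroupOf_of_le_normalizer (le_rfl : 𝒩 S ≤ 𝒩 S)
  have h2 : n ^ S.relIndex (𝒩 S) ∈ X :=
    hX (mem_subgroupOf.1 ((S.subgroupOf (𝒩 S)).pow_index_mem ⟨n, hn⟩))
  obtain ⟨k, hk⟩ := Nat.odd_iff.2 (Nat.two_dvd_ne_zero.1 h1)
  rwa [hk, pow_succ, pow_mul, X.mul_mem_cancel_left (pow_mem (by rwa [sq]) k)] at h2

theorem eq_bot_of_inv_of_cent {D : Subgroup G} (hD : Odd #D) {s : G}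
    (hi : ∀ y ∈ D, s * y * s⁻¹ = y⁻¹) (hc : s ∈ 𝒞 D) : D = ⊥ :=
  eq_bot_iff.2 fun y hy => eq_one_of_odd_of_sq (odd_orderOf_of_mem hD hy) (by
    have := hi y hy
    rw [mem_cent_iff.1 hc y hy, mul_inv_cancel_right] at this
    exact mul_eq_one_iff_eq_inv.2 this)

end

variable {G : Type u} [Group G] [Finite G] {S X Y K L V T : Subgroup G}

theorem Ctx.comm (c : Ctx G) (h : IsPGroup 2 S) : S ≤ 𝒞 S := c.ag.comm h le_top

theorem Ctx.le_c1 (c : Ctx G) (h : IsPGroup 2 S) {v : G} (hv : v ∈ S) : S ≤ 𝒞₁ v :=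
  (c.comm h).trans (cent_le_c1 hv)

theorem Ctx.syl_c1 (c : Ctx G) (hS : IsSylowOf 2 S ⊤) {v : G} (hv : v ∈ S) :
    IsSylowOf 2 S (𝒞₁ v) := hS.mono (c.le_c1 hS.2.1 hv) le_top

theorem w2_solv (c : Ctx G) (hS : IsSylowOf 2 S ⊤) {E : Subgroup G} (hE : EA 2 3 E) (hES : E ≤ S)
    (h : ∀ u ∈ S, u ≠ 1 → u * u = 1 → ∀ K, ¬ C2 (𝒞₁ u) K) : ∃ H, T2 ⊤ S H := by
  have hc := c.comm hS.2.1
  have hO : ∀ {a : G}, a ∈ Om 2 S → S ≤ 𝒩 (Oc (𝒞₁ a)) := fun ha =>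
    (c.le_c1 hS.2.1 (Om_le ha)).trans le_normalizer_pPrimeCoreOf
  obtain ⟨W, -, -, w3, w4, -⟩ := CfsgSig.solv_sft (p := 2) (A := Om 2 S) (θ := fun a => Oc (𝒞₁ a))
    (elem_Om_two hc).1 (fun x hx => (mem_Om_two hc).2 ⟨hES hx, by rw [← sq]; exact hE.1.2 x hx⟩) hE
    (fun _ _ _ => pPrimeCoreOf_le) (fun _ _ _ => not_dvd_pPrime _)
    (fun a ha _ => Om_le.trans (hO ha)) (fun _ _ _ => solvable_oc _)
    fun a ha _ b hb b1 => odd_le_oc c (c.simp.cent_ne_top b1) (c.syl_c1 hS (Om_le hb))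
      (odd_of_le inf_le_left (odd_oc _)) inf_le_right
      (Om_le.trans (CfsgH2.le_normalizer_inf (hO ha) (le_norm_c1 (c.le_c1 hS.2.1 (Om_le hb)))))
      fun K hK => absurd hK (h b (Om_le hb) b1 ((mem_Om_two hc).1 hb).2 K)
  have hW : ∀ a ∈ S, a ≠ 1 → a * a = 1 → Oc (𝒞₁ a) ≤ W := fun a ha a1 aa =>
    w4 ▸ le_iSup_of_le (f := fun a : {a : G // a ∈ Om 2 S ∧ a ≠ 1} => Oc (𝒞₁ (a : G)))
      ⟨a, (mem_Om_two hc).2 ⟨ha, aa⟩, a1⟩ le_rfl
  have hN : 𝒩 S ≤ 𝒩 W := fun n hn => mem_normalizer_of_cj_le (by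
    nth_rw 1 [← w4]
    rw [cj, Subgroup.map_iSup]
    refine iSup_le fun ⟨a, ha, a1⟩ => ?_
    have := (mem_Om_two hc).1 ha
    exact (cj_oc n _).le.trans (by
      rw [cj_centralizer_singleton]
      exact hW _ (conj_mem_of_mem_norm hn this.1) (conj_ne_one a1) (conj_inv this.2)))
  have hM : 𝒩 S ≤ 𝒩 (W ⊔ S) := CfsgH2.le_normalizer_sup hN le_rfl
  have h0 : W ⊔ S ≠ ⊥ := fun e => by
    have := hE.2
    rw [eq_bot_iff.2 (hES.trans (le_sup_right.trans e.le)), card_bot] at this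
    norm_num at this
  refine (le_or_t2 specSE c.simp hS hc (inf_le_right.trans hM) fun v hv v1 vv =>
    inf_le_right.trans (gen_le c (c.simp.cent_ne_top v1) (c.syl_c1 hS hv)
      ((hW v hv v1 vv).trans (le_sup_left.trans le_normalizer)) (inf_le_right.trans hM)
      fun K hK => absurd hK (h v hv v1 vv K))).resolve_left fun e => ?_
  exact c.simp.norm_ne_top_of_solvable h0 (solvable_sup (le_normalizer.trans hN) w3
    (solv_two hS.2.1)) (top_le_iff.1 e)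

/-- the configuration of a 2-component with `|S_L|` maximal and `m(T_L) ≥ 2` -/
structure WW (S L V T : Subgroup G) : Prop where
  c : Ctx G
  cII : CaseII G
  syl : IsSylowOf 2 S ⊤
  hV : S ⊓ L = V
  hT : S ⊓ CO L = T
  c2 : C2 (𝒞 T) L
  reg : Reg S V T
  max : ∀ X, PK S X → S ⊓ CO X ≠ ⊥ → #(S ⊓ X) ≤ #V
  four : 4 ≤ #(Om 2 T)

namespace WW

variable (h : WW S L V T)
include h

theorem two : IsPGroup 2 S := h.syl.2.1
theorem comm : S ≤ 𝒞 S := h.c.comm h.two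
theorem V_le : V ≤ S := h.hV ▸ inf_le_left
theorem V_L : V ≤ L := h.hV ▸ inf_le_right
theorem T_le : T ≤ S := h.hT ▸ inf_le_left
theorem S_CT : S ≤ 𝒞 T := h.comm.trans (cent_anti h.T_le)
theorem T_comm : T ≤ 𝒞 T := h.T_le.trans h.S_CT

theorem exists_b : ∃ b ∈ T, b ≠ 1 ∧ b * b = 1 := exists_inv (h.two.to_le h.T_le) fun e => by
  have := h.four.trans (card_le_of_le Om_le)
  rw [e, card_bot] at this
  omega

theorem CT_ne : 𝒞 T ≠ ⊤ := fun e =>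
  let ⟨_, hb, b1, _⟩ := h.exists_b
  h.c.simp.cent_ne_top b1 (top_le_iff.1 (e ▸ cent_le_c1 hb))

theorem pk : PK S L := h.c2.pk h.c h.CT_ne (h.syl.mono h.S_CT le_top)

theorem spl : Spl S V T := h.hV ▸ h.hT ▸ h.pk.spl h.c

theorem agN : AG (𝒩 S) := h.c.ag.mono le_top

theorem np (hY : Y ≠ ⊤) (hS : S ≤ Y) (hL : L ≤ Y) :
    ∃ K, C2 Y K ∧ L ≤ K ∧ S ⊓ K = V ∧ S ⊓ CO K = T := by
  have hS' := h.syl.mono hS le_top
  obtain ⟨K, hK, le⟩ := pump h.c hY hS' h.c2.pqs hL h.pk.norm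
  have pK := hK.pk h.c hY hS'
  refine ⟨K, hK, le, ?_⟩
  rcases (h.pk.le_cases h.c pK le).2 with e | ⟨-, -, e1, e2⟩
  · rw [← e.1, ← e.2]; exact ⟨h.hV, h.hT⟩
  have a1 := (pK.spl h.c).card
  have a2 := h.spl.card
  have a3 := h.four.trans (card_le_of_le Om_le)
  have a4 := h.max K pK fun e => by rw [e, card_bot] at a1; rw [h.hV] at e1; nlinarith
  rw [h.hV] at e1
  omega

theorem tk (pK : PK S K) (ho : TyO K) (hn : ¬ V ≤ CO K) : S ⊓ K = V ∧ S ⊓ CO K = T := by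
  rcases pK.reg_or_exc h.c h.syl with r | ⟨E, β, r⟩
  · rcases reg_reg h.agN h.spl (pK.spl h.c) h.reg r with e | e
    · exact ⟨e.1.symm, e.2.symm⟩
    · exact absurd (e.1.trans inf_le_right) hn
  rcases exc_reg h.agN h.spl r h.reg with e | ⟨rfl, e⟩
  · exact absurd (e.1.trans inf_le_right) hn
  exfalso
  have p' := pK.cT h.c e
  have i' := pK.inf_cT h.c e
  obtain ⟨J, hJ, le⟩ := pump h.c h.CT_ne (h.syl.mono h.S_CT le_top) p'.pqs
    (piResidualOf_le.trans inf_le_right) p'.norm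
  obtain ⟨v, hv, v1, vv⟩ := exists_inv (h.two.to_le (inf_le_left : S ⊓ K ≤ S)) fun e => by
    have := r.four
    rw [e, card_bot] at this
    omega
  obtain rfl := hJ.eq_of_mem h.c h.CT_ne h.c2 (le (i' ▸ hv : v ∈ S ⊓ cT K T).2) (h.V_L (r.le hv)) v1 vv
  rcases (p'.le_cases h.c h.pk le).2 with e' | ⟨-, e', -⟩
  · have := r.four
    rw [← i', e'.1, h.hV, r.ea.2] at this
    omega
  · exact ((pK.ty2_cT h.c e).1 e').not_tyO ho

end WW

end CfsgAG
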