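/-
WP W2, part 2: the maximal 2-component is a component.
-/
import Cfsg.Agent.AG.W2a

set_option autoImplicit false

namespace CfsgAG

open Subgroup CfsgFT CfsgL0
open scoped commutatorElement

universe u

variable {G : Type u} [Group G] [Finite G] {S X Y K L V T M : Subgroup G}

theorem norm_comm_zp {A D : Subgroup G} {s : G} (hD : A ≤ 𝒩 D) (hs : A ≤ 𝒞₁ s) :
    A ≤ 𝒩 ⁅D, zpowers s⁆ := CfsgH2.le_normalizer_commutator hD (le_norm_zp hs)

theorem comm_zp_le {D : Subgroup G} {s : G} (hs : s ∈ 𝒩 D) : ⁅D, zpowers s⁆ ≤ D :=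
  commutator_le_left_of_le_normalizer (zpowers_le_norm hs)

theorem Ctx.pc_comm (c : Ctx G) {p : ℕ} [Fact p.Prime] : pCoreOf p M ≤ 𝒞 (pCoreOf p M) :=
  c.ag.comm isPGroup_pCoreOf le_top

namespace WW

variable (h : WW S L V T)
include h

theorem le_c1 {v : G} (hv : v ∈ S) : S ≤ 𝒞₁ v := h.c.le_c1 h.two hv

variable {v s : G} (hM : IsCoatom M) (hv : v ∈ V) (v1 : v ≠ 1) (hC : 𝒞₁ v ≤ M) (hs : s ∈ V)
  (s1 : s ≠ 1) {p : ℕ} [Fact p.Prime] (hp : p ≠ 2)
include hM hv v1 hC hs s1 hp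

theorem x0 {b : G} (hb : b ∈ T) : ⁅pCoreOf p M, zpowers s⁆ ⊓ Oc (𝒞₁ b) = ⊥ := by
  by_contra h0
  set D := ⁅pCoreOf p M, zpowers s⁆ ⊓ Oc (𝒞₁ b) with hD
  have SM : S ≤ M := (h.le_c1 (h.V_le hv)).trans hC
  have SR : S ≤ 𝒩 (pCoreOf p M) := SM.trans le_normalizer_pCoreOf
  have SO : S ≤ 𝒩 (Oc (𝒞₁ b)) := (h.le_c1 (h.T_le hb)).trans le_normalizer_pPrimeCoreOf
  have DR : D ≤ pCoreOf p M := inf_le_left.trans (comm_zp_le (SR (h.V_le hs)))
  have SD : S ≤ 𝒩 D := CfsgH2.le_normalizer_inf (norm_comm_zp SR (h.le_c1 (h.V_le hs))) SO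
  have pD : IsPGroup p D := isPGroup_pCoreOf.to_le DR
  have iD : ∀ y ∈ D, s * y * s⁻¹ = y⁻¹ := fun y hy =>
    inv_of_mem_comm h.c.pc_comm (h.spl.sq s hs) (SR (h.V_le hs)) y hy.1
  obtain ⟨g, -, tor⟩ := h.pk.tor h.c
  rw [h.hV, h.hT] at tor
  obtain ⟨i, hi⟩ := tor.trans s hs s1 v hv v1
  have g1 : g ^ i ∈ 𝒩 S := pow_mem tor.norm i
  have g2 : g ^ i ∈ 𝒩 (Oc (𝒞₁ b)) := le_normalizer_pPrimeCoreOf (cent_le_c1 hb (pow_mem tor.cent i))
  have cop := coprime_two_of_odd h.two (odd_oc (𝒞₁ b))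
  have sol : Group.IsSolvable S ∨ Group.IsSolvable (Oc (𝒞₁ b)) := Or.inl (solv_two h.two)
  have SD' : ∀ {x : G}, x ∈ 𝒩 S → S ≤ 𝒩 (cj x D) := fun {x} hx => by
    have := CfsgH2.le_normalizer_cj SD x
    rwa [CfsgH2.cj_eq_iff.2 hx] at this
  obtain ⟨P, hP, SP, le⟩ := CfsgH2.exists_invariant_sylow_ge SO cop sol pD inf_le_right SD
  obtain ⟨P', hP', SP', le'⟩ := CfsgH2.exists_invariant_sylow_ge SO cop sol (isPGroup_cj (g ^ i) pD)
    ((cj_mono _ inf_le_right).trans (cj_eq_of_mem_normalizer g2).le) (SD' g1)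
  obtain ⟨x, hx, e⟩ := CfsgH2.invariant_sylow_conj SO cop sol hP' hP SP' SP
  have l1 : cj (x * g ^ i) D ≤ P := by rw [← cj_cj, ← e]; exact cj_mono x le'
  have hY : 𝒩 D ≠ ⊤ := h.c.simp.norm_ne_top_of_solvable h0 (CfsgH2.isSolvable_of_isPGroup pD)
  have hS := h.syl.mono SD le_top
  have n1 : x * g ^ i ∈ 𝒩 S := mul_mem (centralizer_le_normalizer _ hx.2) g1
  obtain ⟨-, K, k1, k2, k3, k4, -⟩ := alpha_comp h.c hM (h.spl.sq v hv) hC
    (h.cII v v1 (h.spl.sq v hv) M hM hC)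
    (le_normalizer_of_le_centralizer (((h.c.ag.mono le_top).gf_le_cent).trans
      (cent_anti (DR.trans (pCoreOf_le_fittingOf p))))) hY hS (h.V_le hv) hp
    (fun e => h0 (eq_bot_iff.2 (e ▸ DR))) (D := cj (x * g ^ i) D)
    (le_normalizer_of_le_centralizer (l1.trans ((h.c.ag.comm hP.2.1 le_top).trans (cent_anti le))))
    (isPGroup_cj _ pD) (mt cj_eq_bot_iff.1 h0) (Om_le.trans (SD' n1)) (by
      rintro _ ⟨y, hy, rfl⟩
      have e1 : v = x * g ^ i * s * (x * g ^ i)⁻¹ := by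
        rw [show x * g ^ i * s * (x * g ^ i)⁻¹ = x * (g ^ i * s * (g ^ i)⁻¹) * x⁻¹ by group, hi,
          mem_cent_iff.1 hx.2 v (h.V_le hv), mul_inv_cancel_right]
      rw [← map_inv, ← iD y hy, e1]
      simp only [MulEquiv.coe_toMonoidHom, MulAut.conj_apply]
      group)
  have e1 := CO_eq_cent k2.oc
  have e2 := (h.tk ((c2_of_comp k1).pk h.c hY hS) ((tyO_iff k2.oc).2 k3)
    fun e => k4 (e1 ▸ e hv)).1
  have e3 := le_cent_iff_comm.2 (compOf_commutator_of_solvable k1 le_normalizer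
    (isComponentOf_iff.1 k1).1 (CfsgH2.isSolvable_of_isPGroup pD))
  exact h0 (eq_bot_of_inv_of_cent (odd_of_pgroup hp pD) iD
    (le_centralizer_symm e3 (e2 ▸ hs : s ∈ S ⊓ K).2))

theorem rm_le : ⁅pCoreOf p M, zpowers s⁆ ≤ 𝒞 T := by
  set D := ⁅pCoreOf p M, zpowers s⁆ with hD
  have SM : S ≤ M := (h.le_c1 (h.V_le hv)).trans hC
  have SR : S ≤ 𝒩 (pCoreOf p M) := SM.trans le_normalizer_pCoreOf
  have SD : S ≤ 𝒩 D := norm_comm_zp SR (h.le_c1 (h.V_le hs))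
  have oD : Odd #D := odd_of_le (comm_zp_le (SR (h.V_le hs))) (odd_of_pgroup hp isPGroup_pCoreOf)
  refine le_bot_of_cent (fun v hv => ((mem_Om_two h.T_comm).1 hv).2) h.four oD
    ((Om_le.trans h.T_le).trans SD) fun b hb b1 => le_centralizer_symm fun τ hτ => ?_
  have hb := Om_le hb
  have S1 : S ≤ 𝒩 (D ⊓ 𝒞₁ b) := CfsgH2.le_normalizer_inf SD (le_norm_c1 (h.le_c1 (h.T_le hb)))
  have l1 := comm_zp_le (S1 (h.T_le hτ))
  have o1 := odd_of_le (l1.trans inf_le_left) oD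
  rw [← le_c1_iff, ← cent_zp τ, le_cent_iff_comm]
  rcases odd_cases h.c (h.c.simp.cent_ne_top b1) (h.c.syl_c1 h.syl (h.T_le hb)) o1
    (l1.trans inf_le_right) (Om_le.trans (norm_comm_zp S1 (h.le_c1 (h.T_le hτ)))) (h.V_le hs)
    (comm_eq_of_inv o1 fun y hy => inv_of_mem_comm h.c.pc_comm (h.spl.sq s hs) (SR (h.V_le hs)) y
      (l1 hy).1).ge with e | ⟨K, k1, k2, k3, k4, k5⟩
  · exact eq_bot_iff.2 ((le_inf (l1.trans inf_le_left) e).trans (h.x0 hM hv v1 hC hs s1 hp hb).le)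
  · have e := (h.tk (k1.pk h.c (h.c.simp.cent_ne_top b1) (h.c.syl_c1 h.syl (h.T_le hb))) k2
      fun e => k3 (e hs)).2
    have p2 := h.two.to_le (zpowers_le.2 (h.T_le hτ))
    refine absurd (le_trans (CfsgH2.commutator_commutator_eq (zpowers_le_norm (S1 (h.T_le hτ)))
      (coprime_two_of_odd p2 (odd_of_le inf_le_left oD)) (Or.inl (solv_two p2))).ge
      (comm_le_CO_of_mem k5 (e ▸ hτ : τ ∈ S ⊓ CO K).2)) k4

omit hp in
theorem caseA {b : G} (hb : b ∈ T) (bb : b * b = 1) (hY : 𝒞₁ b ≤ Y) {r : ℕ} [Fact r.Prime]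
    (hr : r ≠ 2) {D : Subgroup G} (h1 : D ≤ pCoreOf r Y) (h2 : D ≤ 𝒞₁ b) (h3 : D ≤ Oc M)
    (hi : ∀ y ∈ D, s * y * s⁻¹ = y⁻¹) : D = ⊥ := by
  have SM : S ≤ M := (h.le_c1 (h.V_le hv)).trans hC
  have DM : D ≤ M := h3.trans pPrimeCoreOf_le
  have pD : IsPGroup r D := isPGroup_pCoreOf.to_le h1
  have e := comm_eq_of_inv (odd_of_pgroup hr pD) hi
  have a1 : D ≤ pCoreOf r M := (h.c.ag.mono le_top).le_pCoreOf_of_gf DM pD
    (le_normalizer_of_le_centralizer (by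
      rw [gfOf_eq]
      refine sup_le (le_centralizer_symm (h3.trans (le_centralizer_layerOf_of_solvable
        pPrimeCoreOf_le (layerOf_le.trans le_normalizer_pPrimeCoreOf) (solvable_oc M))))
        (fittingOf_le_iff.2 fun p _ => ?_)
      by_cases p2 : p = 2
      · subst p2
        exact (le_cent_iff_comm.2 commutator_pCoreOf_pPrimeCoreOf).trans (cent_anti h3)
      by_cases pr : p = r
      · subst pr
        exact le_centralizer_symm (h.c.ag.cent_of_norm pD isPGroup_pCoreOf le_top le_top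
          (DM.trans le_normalizer_pCoreOf))
      have SR : S ≤ 𝒩 (pCoreOf p M) := SM.trans le_normalizer_pCoreOf
      have cop := coprime_two_of_odd (two_zpowers bb) (odd_of_pgroup p2 (isPGroup_pCoreOf (H := M)))
      have bR := zpowers_le_norm (SR (h.T_le hb))
      rw [← CfsgH2.commutator_sup_centralizer bR cop (Or.inl (solv_two (two_zpowers bb)))]
      refine sup_le (le_centralizer_symm ?_) (le_cent_iff_comm.2 (eq_bot_iff.2 (le_trans
        (le_inf ?_ ?_) (IsPGroup.inf_eq_bot' pr (isPGroup_pCoreOf (H := M))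
          (isPGroup_pCoreOf (H := Y))).le)))
      · have a2 : zpowers s ≤ 𝒞 ⁅pCoreOf p M, zpowers b⁆ := le_centralizer_symm
          (le_cent_iff_comm.2 (eq_bot_iff.2 (le_trans (le_inf
            (comm_zp_le (norm_comm_zp SR (h.le_c1 (h.T_le hb)) (h.V_le hs)))
            ((commutator_mono (comm_zp_le (SR (h.T_le hb))) le_rfl).trans
              ((h.rm_le hM hv v1 hC hs s1 p2).trans (cent_anti (zpowers_le.2 hb)))))
            (CfsgH2.commutator_inf_centralizer_eq_bot bR cop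
              (isMulCommutative_iff_le.2 h.c.pc_comm)).le)))
        exact e.ge.trans ((commutator_mono le_rfl a2).trans (commutator_le_right_of_le_normalizer
          (CfsgH2.le_normalizer_centralizer
            (norm_comm_zp (DM.trans le_normalizer_pCoreOf) h2))))
      · exact (commutator_mono inf_le_left le_rfl).trans
          (commutator_le_left_of_le_normalizer (DM.trans le_normalizer_pCoreOf))
      · exact (commutator_mono le_rfl h1).trans (commutator_le_right_of_le_normalizer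
          ((inf_le_right.trans ((cent_zp b).le.trans hY)).trans le_normalizer_pCoreOf))))
  exact eq_bot_iff.2 ((le_inf (e.ge.trans (commutator_mono a1 le_rfl))
    ((le_inf (h1.trans (pCore_le_oc hr)) h2).trans (pPrimeCoreOf_inf_le hY))).trans
    (h.x0 hM hv v1 hC hs s1 hr hb).le)

end WW

theorem C2.simp_of_mem (c : Ctx G) (hY : Y ≠ ⊤) (hS : IsSylowOf 2 S Y) (hK : C2 Y K) {v : G}
    (hv : v ∈ S ⊓ K) (v1 : v ≠ 1) (h : v ∈ 𝒞 (Oc Y)) : Simp K := by
  refine hK.simp (c.ag.mono le_top) (le_centralizer_symm ?_)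
  rcases (hK.pk c hY hS).normal c (N := K ⊓ 𝒞 (Oc K)) inf_le_left
    (CfsgH2.le_normalizer_inf le_normalizer
      (CfsgH2.le_normalizer_centralizer le_normalizer_pPrimeCoreOf)) with e | e
  · exact absurd (eq_one_of_two_odd hS.2.1 (odd_oc K) hv.1
      (e ⟨hv.2, cent_anti (hK.oc.le.trans inf_le_left) h⟩)) v1
  · exact e.ge.trans inf_le_right

namespace WW

variable (h : WW S L V T)
include h

theorem cent_pc {b s : G} (hb : b ∈ T) (b1 : b ≠ 1) (bb : b * b = 1) (hY : IsCoatom Y)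
    (hC : 𝒞₁ b ≤ Y) (hs : s ∈ V) (s1 : s ≠ 1) (r : ℕ) [Fact r.Prime] (hr : r ≠ 2) :
    s ∈ 𝒞 (pCoreOf r Y) := by
  have SP : S ≤ 𝒩 (pCoreOf r Y) := ((h.le_c1 (h.T_le hb)).trans hC).trans le_normalizer_pCoreOf
  have oP : Odd #(pCoreOf r Y) := odd_of_pgroup hr isPGroup_pCoreOf
  by_contra hn
  refine hn (le_c1_iff.1 (le_bot_of_cent h.spl.sq h.spl.four oP (h.V_le.trans SP) fun v hv v1 => ?_))
  obtain ⟨M, hM, hC'⟩ := exists_coatom (h.c.simp.cent_ne_top v1)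
  have S1 : S ≤ 𝒩 (pCoreOf r Y ⊓ 𝒞₁ v) :=
    CfsgH2.le_normalizer_inf SP (le_norm_c1 (h.le_c1 (h.V_le hv)))
  have l1 := comm_zp_le (S1 (h.V_le hs))
  have o1 := odd_of_le (l1.trans inf_le_left) oP
  have hi := inv_of_mem_comm (inf_le_left.trans (h.c.pc_comm.trans (cent_anti inf_le_left)))
    (h.spl.sq s hs) (S1 (h.V_le hs))
  have hS := h.syl.mono ((h.le_c1 (h.V_le hv)).trans hC') le_top
  rw [← cent_zp s, le_cent_iff_comm]
  rcases odd_cases h.c hM.1 hS o1 (l1.trans (inf_le_right.trans hC'))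
    (Om_le.trans (norm_comm_zp S1 (h.le_c1 (h.V_le hs)))) (h.V_le hs) (comm_eq_of_inv o1 hi).ge with
    e | ⟨K, k1, k2, k3, -, -⟩
  · exact h.caseA hM hv v1 hC' hs s1 hb bb hC hr (l1.trans inf_le_left)
      (l1.trans (inf_le_left.trans ((pCoreOf_le_fittingOf r).trans
        (le_c1_iff.2 (h.cII b b1 bb Y hY hC))))) e hi
  exfalso
  have pK := k1.pk h.c hM.1 hS
  obtain ⟨e1, e2⟩ := h.tk pK k2 fun e => k3 (e hs)
  have sK : Simp K := k1.simp_of_mem h.c hM.1 hS (e1 ▸ hv) v1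
    (inv_cent_oc (h.spl.sq v hv) (hS.1 (h.V_le hv)) fun r _ _ =>
      cent_anti (pCoreOf_le_fittingOf r) (h.cII v v1 (h.spl.sq v hv) M hM hC'))
  have KY : K ≤ 𝒩 (pCoreOf r Y) := ((le_c1_iff.2 (CO_eq_cent sK.oc ▸
    (e2 ▸ hb : b ∈ S ⊓ CO K).2)).trans hC).trans le_normalizer_pCoreOf
  obtain ⟨g, hg, tor⟩ := pK.tor h.c
  rw [e1] at tor
  have PM : pCoreOf r Y ≤ M := le_bot_of_cent h.spl.sq h.spl.four oP (h.V_le.trans SP)
    fun w hw w1 => inf_le_right.trans (by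
      obtain ⟨i, rfl⟩ := tor.trans v hv v1 w hw w1
      rw [← cj_centralizer_singleton]
      exact cj_le_of_mem (pow_mem (k1.le hg) i) hC')
  have PK := k1.odd_le_norm h.c hM.1 hS oP (PM.trans le_normalizer) (inf_le_left.trans SP)
  have e3 : pCoreOf r Y ⊓ K ≤ ⊥ := sK.oc ▸ le_oc inf_le_right
    (CfsgH2.le_normalizer_inf KY le_normalizer) (odd_of_le inf_le_left oP)
  exact hn (le_centralizer_symm (le_cent_iff_comm.2 (eq_bot_iff.2
    ((commutator_le_inf_of_le_normalizer PK KY).trans e3))) (e1 ▸ hs : s ∈ S ⊓ K).2)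

theorem genuine {b : G} (hb : b ∈ T) (b1 : b ≠ 1) (bb : b * b = 1) : Simp L ∧ C2 (𝒞₁ b) L := by
  obtain ⟨Y, hY, hC⟩ := exists_coatom (h.c.simp.cent_ne_top b1)
  have SY := (h.le_c1 (h.T_le hb)).trans hC
  have l := h.c2.le.trans (cent_le_c1 hb)
  obtain ⟨K, k1, k2, k3, k4⟩ := h.np hY.1 SY (l.trans hC)
  obtain ⟨s, hs, s1, ss⟩ := exists_inv (h.two.to_le h.V_le) fun e => by
    have := h.spl.four
    rw [e, card_bot] at this
    omega
  have sK : Simp K := k1.simp_of_mem h.c hY.1 (h.syl.mono SY le_top) (k3 ▸ hs) s1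
    (inv_cent_oc ss (SY (h.V_le hs)) (h.cent_pc hb b1 bb hY hC hs s1))
  obtain rfl := h.c2.eq_of_le (k1.mono (le_centralizer_symm (CO_eq_cent sK.oc ▸
    (k4.ge.trans inf_le_right))) ((cent_le_c1 hb).trans hC)) k2
  exact ⟨sK, k1.mono l hC⟩

end WW

end CfsgAG
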