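/-
WP JP, part 1: the centraliser of an involution has `O(C(a)) = 1` and a simple component.
-/
import Cfsg.Agent.AG.W2b

set_option autoImplicit false

namespace CfsgAG

open Subgroup CfsgFT CfsgL0
open scoped commutatorElement

universe u

variable {G : Type u} [Group G] [Finite G] {S X Y K K' L M : Subgroup G} {a : G}

theorem uniq_c2 (c : Ctx G) (hY : Y ≠ ⊤) (hS : IsSylowOf 2 S Y) (h8 : #S = 8) (hK : C2 Y K)
    (hK' : C2 Y K') : K = K' := by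
  by_contra ne
  have a1 := (hK.pk c hY hS).spl c
  have a2 := ((hK'.pk c hY hS).spl c).four.trans
    (card_le_of_le (inf_le_inf_left S (hK.le_CO hK' ne)))
  have a3 := a1.card
  have a4 := a1.four
  nlinarith

theorem norm_c2 (c : Ctx G) (hY : Y ≠ ⊤) (hS : IsSylowOf 2 S Y) (h8 : #S = 8) (hK : C2 Y K) :
    𝒩 Y ≤ 𝒩 K := fun _ hg =>
  mem_normalizer_iff_cj.2 (uniq_c2 c hY hS h8 (hK.cj_of_mem hg) hK)

/-- the `J`-pattern with the 2-component `L` of `C(a)` -/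
structure JJ (S L : Subgroup G) (a : G) : Prop where
  c : Ctx G
  cII : CaseII G
  syl : IsSylowOf 2 S ⊤
  ea : EA 2 3 S
  trans : ∀ v ∈ S, v ≠ 1 → ∀ w ∈ S, w ≠ 1 → ∃ g ∈ 𝒩 S, g * v * g⁻¹ = w
  mem : a ∈ S
  ne : a ≠ 1
  c2 : C2 (𝒞₁ a) L

namespace JJ

variable (h : JJ S L a)
include h

theorem sq : ∀ v ∈ S, v * v = 1 := fun v hv => by rw [← _root_.sq]; exact h.ea.1.2 v hv
theorem aa : a * a = 1 := h.sq a h.mem
theorem two : IsPGroup 2 S := h.syl.2.1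
theorem comm : S ≤ 𝒞 S := h.c.comm h.two
theorem card : #S = 8 := h.ea.2
theorem le_c1 {v : G} (hv : v ∈ S) : S ≤ 𝒞₁ v := h.c.le_c1 h.two hv
theorem H_ne : 𝒞₁ a ≠ ⊤ := h.c.simp.cent_ne_top h.ne
theorem sylH : IsSylowOf 2 S (𝒞₁ a) := h.c.syl_c1 h.syl h.mem
theorem pk : PK S L := h.c2.pk h.c h.H_ne h.sylH
theorem spl : Spl S (S ⊓ L) (S ⊓ CO L) := h.pk.spl h.c
theorem norm_L : 𝒞₁ a ≤ 𝒩 L := le_normalizer.trans (norm_c2 h.c h.H_ne h.sylH h.card h.c2)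
theorem mem_CO : a ∈ CO L := cent_le_CO (le_c1_iff.1 h.c2.le)

protected theorem cj {n : G} (hn : n ∈ 𝒩 S) : JJ S (cj n L) (n * a * n⁻¹) :=
  ⟨h.c, h.cII, h.syl, h.ea, h.trans, conj_mem_of_mem_norm hn h.mem, conj_ne_one h.ne,
    cj_centralizer_singleton n a ▸ h.c2.cj n⟩

theorem T_eq : S ⊓ CO L = zpowers a ∧ #(S ⊓ L) = 4 := by
  have a1 := h.spl.card
  have a2 := h.spl.four
  have l : zpowers a ≤ S ⊓ CO L := zpowers_le.2 ⟨h.mem, h.mem_CO⟩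
  have a3 := card_le_of_le l
  have a4 : #(zpowers a) = 2 := by rw [Nat.card_zpowers, orderOf_eq_two' h.ne h.aa]
  rw [h.card] at a1
  exact ⟨(eq_of_le_of_card_ge l (by nlinarith)).symm, by nlinarith⟩

theorem a_not : a ∉ L := fun e => h.ne (mem_bot.1 (h.spl.disj.le ⟨⟨h.mem, e⟩, h.mem, h.mem_CO⟩))

theorem gen3 {x y z : G} (hx : x ∈ S) (hy : y ∈ S) (hz : z ∈ S) (x1 : x ≠ 1) (y1 : y ≠ 1)
    (xy : x ≠ y) (n : z ∉ closure {x, y}) {A : Subgroup G} (h1 : x ∈ A) (h2 : y ∈ A) (h3 : z ∈ A) :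
    S ≤ A := by
  have l : ∀ {B : Subgroup G}, x ∈ B → y ∈ B → closure {x, y} ≤ B := fun h1 h2 =>
    (closure_le _).2 (by rintro _ (rfl | rfl) <;> assumption)
  have e := card_sup_zpowers (centralizer_le_normalizer _ (cent_anti (l hx hy) (h.comm hz)))
    (h.sq z hz) n
  rw [card_four x1 y1 xy (h.sq x hx) (h.sq y hy) (le_cent_iff.1 h.comm x hx y hy)] at e
  rw [← eq_of_le_of_card_ge (sup_le (l hx hy) (zpowers_le.2 hz)) (by rw [e, h.card])]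
  exact sup_le (l h1 h2) (zpowers_le.2 h3)

theorem four {x y v : G} (hx : x ∈ S) (hy : y ∈ S) :
    v ∈ closure {x, y} ↔ v = 1 ∨ v = x ∨ v = y ∨ v = x * y :=
  mem_four (h.sq x hx) (h.sq y hy) (le_cent_iff.1 h.comm x hx y hy)

theorem coatom : IsCoatom (𝒞₁ a) := by
  obtain ⟨M, hM, le⟩ := exists_coatom h.H_ne
  have hS := h.syl.mono (h.sylH.1.trans le) le_top
  obtain ⟨K, hK, l⟩ := pump h.c hM.1 hS h.c2.pqs (h.c2.le.trans le) h.pk.norm
  have pK := hK.pk h.c hM.1 hS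
  rcases (h.pk.le_cases h.c pK l).2 with e | ⟨-, -, -, e⟩
  · have hO : Oc M ≤ 𝒞₁ a := le_c1_iff.2 (inv_cent_oc h.aa (hS.1 h.mem) fun r _ _ =>
      cent_anti (pCoreOf_le_fittingOf r) (h.cII a h.ne h.aa M hM le))
    have eT : S ⊓ CO K = zpowers a := e.2 ▸ h.T_eq.1
    rwa [le_antisymm le (gen_le h.c hM.1 hS hO (fun n hn => ?_) fun K' hK' => ?_)]
    · have := conj_mem_of_mem_norm (eT ▸ CfsgH2.le_normalizer_inf (A := zpowers n)
        (zpowers_le.2 hn.2) (zpowers_le.2 (norm_le_norm_CO (norm_c2 h.c hM.1 hS h.card hK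
          (le_normalizer hn.1)))) (mem_zpowers n)) (mem_zpowers a)
      rcases (mem_zpowers_inv h.aa).1 this with e | e
      · exact absurd e (conj_ne_one h.ne)
      · exact mem_c1.2 (mul_inv_eq_iff_eq_mul.1 e)
    · rw [uniq_c2 h.c hM.1 hS h.card hK' hK]
      exact (pK.le_sup_cent h.c le_rfl).trans (sup_le ((hK.oc.le.trans inf_le_left).trans hO)
        (piResidualOf_le.trans (inf_le_right.trans (by rw [eT, cent_zp]))))
  · exfalso
    obtain ⟨g, hg, tor⟩ := pK.tor h.c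
    rw [eq_of_le_of_card_ge inf_le_left (by rw [e, h.card])] at tor
    have b : ∀ n : G, n * a * n⁻¹ ∈ S → ∃ x ∈ M, x * a * x⁻¹ = n * a * n⁻¹ := fun n hn =>
      let ⟨i, hi⟩ := tor.trans a h.mem h.ne _ hn (conj_ne_one h.ne)
      ⟨_, pow_mem (hK.le hg) i, hi⟩
    rcases le_or_t2 specSE h.c.simp h.syl h.comm (M := M) (fun n hn => by
        obtain ⟨x, hx, e⟩ := b n (conj_mem_of_mem_norm hn.2 h.mem)
        refine (M.mul_mem_cancel_left (inv_mem hx)).1 (le (mem_c1.2 ?_))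
        calc _ = x⁻¹ * (n * a * n⁻¹) * n := by group
          _ = _ := by rw [← e]; group)
      fun v hv v1 _ => inf_le_right.trans (by
        obtain ⟨i, rfl⟩ := tor.trans a h.mem h.ne v hv v1
        rw [← cj_centralizer_singleton]
        exact cj_le_of_mem (pow_mem (hK.le hg) i) le) with e | ⟨H, e⟩
    · exact hM.1 (top_le_iff.1 e)
    · have := e.cc.cent a h.mem h.ne
      rw [top_inf_eq] at this
      exact h.pk.not_solvable (CfsgH2.isSolvable_of_le (this ▸ h.c2.le) (solv_two h.two))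

theorem ex {r : ℕ} [Fact r.Prime] (hr : r ≠ 2) (hn : ¬ pCoreOf r (𝒞₁ a) ≤ 𝒞 S) {w z : G}
    (hw : w ∈ S) (w1 : w ≠ 1) (wa : a ≠ w) (hz : z ∈ S) (n : z ∉ closure {a, w}) :
    ⁅pCoreOf r (𝒞₁ a) ⊓ 𝒞₁ w, zpowers z⁆ ≠ ⊥ := fun e => by
  rw [← le_cent_iff_comm, cent_zp] at e
  have e1 : pCoreOf r (𝒞₁ a) ⊓ 𝒞₁ w ≤ 𝒞 S := le_centralizer_symm (h.gen3 h.mem hw hz h.ne w1 wa n
    (le_c1_iff.1 (inf_le_left.trans pCoreOf_le)) (le_c1_iff.1 inf_le_right) (le_c1_iff.1 e))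
  obtain ⟨v, hv, τ, hτ, rfl⟩ := h.spl.split w hw
  rw [h.T_eq.1] at hτ
  have v1 : v ≠ 1 := by
    rintro rfl
    rcases (mem_zpowers_inv h.aa).1 hτ with rfl | rfl
    · exact w1 (mul_one 1)
    · exact wa (one_mul _).symm
  obtain ⟨g, hg, tor⟩ := h.pk.tor h.c
  refine hn (le_bot_of_cent h.spl.sq h.spl.four (odd_of_pgroup hr isPGroup_pCoreOf)
    ((inf_le_left.trans h.sylH.1).trans le_normalizer_pCoreOf) fun u hu u1 => ?_)
  obtain ⟨i, rfl⟩ := tor.trans v hv v1 u hu u1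
  rw [← cj_centralizer_singleton, ← cj_eq_of_mem_normalizer
    (le_normalizer_pCoreOf (pow_mem (h.c2.le hg) i)), ← cj_inf]
  refine cj_le_of_mem_normalizer (CfsgH2.le_normalizer_centralizer le_rfl (pow_mem tor.norm i))
    fun x hx => e1 ⟨hx.1, mem_c1.2 ?_⟩
  rw [← mul_assoc, mem_c1.1 hx.2, mul_assoc, mul_assoc,
    mem_cent_iff.1 (cent_zp a ▸ pCoreOf_le hx.1 : x ∈ 𝒞 (zpowers a)) τ hτ]

theorem exists_vs : ∃ v ∈ S ⊓ L, ∃ s ∈ S ⊓ L, v ≠ 1 ∧ s ≠ 1 ∧ v ≠ s := by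
  obtain ⟨v, s, w, hv, hs, hw, h1, h2, h3⟩ :=
    (Set.two_lt_ncard_iff (s := ((S ⊓ L : Subgroup G) : Set G)) (Set.toFinite _)).1
      (h.T_eq.2.ge.trans_lt' (by norm_num : 2 < 4))
  by_cases e : v = 1
  · exact ⟨s, hs, w, hw, fun e' => h1 (e.trans e'.symm), fun e' => h2 (e.trans e'.symm), h3⟩
  by_cases e' : s = 1
  · exact ⟨v, hv, w, hw, e, fun e'' => h3 (e'.trans e''.symm), h2⟩
  · exact ⟨v, hv, s, hs, e, e', h1⟩

theorem cent_pc (r : ℕ) [Fact r.Prime] (hr : r ≠ 2) : pCoreOf r (𝒞₁ a) ≤ 𝒞 S := by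
  by_contra hn
  obtain ⟨v, hv, s, hs, v1, s1, vs⟩ := h.exists_vs
  have av : a ≠ v := fun e => h.a_not (e ▸ hv.2)
  have sn : s ∉ closure {a, v} := fun e => by
    rcases (h.four h.mem hv.1).1 e with e | e | e | e
    exacts [s1 e, h.a_not (e ▸ hs.2), vs e.symm,
      h.a_not ((L.mul_mem_cancel_right hv.2).1 (e ▸ hs.2))]
  have x0 := h.ex hr hn hv.1 v1 av hs.1 sn
  have S1 : ∀ {u w : G}, u ∈ S → w ∈ S → S ≤ 𝒩 (pCoreOf r (𝒞₁ u) ⊓ 𝒞₁ w) := fun hu hw =>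
    CfsgH2.le_normalizer_inf ((h.le_c1 hu).trans le_normalizer_pCoreOf) (le_norm_c1 (h.le_c1 hw))
  have hi : ∀ {u w z : G}, u ∈ S → w ∈ S → z ∈ S →
      ∀ y ∈ ⁅pCoreOf r (𝒞₁ u) ⊓ 𝒞₁ w, zpowers z⁆, z * y * z⁻¹ = y⁻¹ := fun hu hw hz =>
    inv_of_mem_comm (inf_le_left.trans (h.c.pc_comm.trans (cent_anti inf_le_left))) (h.sq _ hz)
      (S1 hu hw hz)
  set X := ⁅pCoreOf r (𝒞₁ a) ⊓ 𝒞₁ v, zpowers s⁆ with hX
  have l1 : X ≤ pCoreOf r (𝒞₁ a) ⊓ 𝒞₁ v := comm_zp_le (S1 h.mem hv.1 hs.1)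
  have pX : IsPGroup r X := isPGroup_pCoreOf.to_le (l1.trans inf_le_left)
  have sX := CfsgH2.isSolvable_of_isPGroup pX
  have hY : 𝒩 X ≠ ⊤ := h.c.simp.norm_ne_top_of_solvable x0 sX
  have hS := h.syl.mono (norm_comm_zp (S1 h.mem hv.1) (h.le_c1 hs.1)) le_top
  obtain ⟨n, hn', rfl⟩ := h.trans a h.mem h.ne v hv.1 v1
  have h' := h.cj hn'
  set v := n * a * n⁻¹
  have hnv : ¬ pCoreOf r (𝒞₁ v) ≤ 𝒞 S := fun e => hn (by
    rw [← cj_centralizer_singleton, ← cj_pCoreOf, ← cj_eq_of_mem_normalizer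
      (CfsgH2.le_normalizer_centralizer le_rfl hn'), cj_le_cj_iff] at e
    exact e)
  have key : ∀ w ∈ S, w ≠ 1 → v ≠ w → a ∉ closure {v, w} → ∃ K, C2 (𝒩 X) K ∧ TyO K ∧ K ≤ 𝒞 X ∧
      ∀ τ ∈ S ⊓ CO K, w ≠ a * τ := fun w hw w1 vw na => by
    have l2 := comm_zp_le (S1 hv.1 hw h.mem)
    have pD := isPGroup_pCoreOf.to_le (l2.trans inf_le_left)
    obtain ⟨-, K, k1, k2, k3, -, k5, k6⟩ := alpha_comp h.c h.coatom h.aa le_rfl
      (h.cII a h.ne h.aa _ h.coatom le_rfl) (le_normalizer_of_le_centralizer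
        (((h.c.ag.mono le_top).gf_le_cent).trans (cent_anti ((l1.trans inf_le_left).trans
          (pCoreOf_le_fittingOf r))))) hY hS h.mem hr (fun e => hn (e ▸ bot_le))
      (le_normalizer_of_le_centralizer ((l2.trans inf_le_left).trans (le_centralizer_symm
        (h.c.ag.cent_of_norm pX isPGroup_pCoreOf le_top le_top
          ((l1.trans inf_le_right).trans le_normalizer_pCoreOf))))) pD
      (h'.ex hr hnv hw w1 vw h.mem na) (Om_le.trans (norm_comm_zp (S1 hv.1 hw) h.sylH.1))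
      (hi hv.1 hw h.mem)
    refine ⟨K, c2_of_comp k1, (tyO_iff k2.oc).2 k3, le_centralizer_symm (le_cent_iff_comm.2
      (compOf_commutator_of_solvable k1 le_normalizer (isComponentOf_iff.1 k1).1 sX)), ?_⟩
    rintro τ hτ rfl
    refine k5 (CO_eq_cent k2.oc ▸ le_trans (comm_eq_of_inv (odd_of_pgroup hr pD) fun y hy => ?_).ge
      (comm_le_CO_of_mem k6 hτ.2))
    rw [← hi hv.1 hw h.mem y hy]
    calc _ = a⁻¹ * (a * τ * y) * τ⁻¹ := by group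
      _ = _ := by rw [← mem_c1.1 (l2 hy).2, inv_eq_self h.aa, ← inv_eq_self h.aa]; group
  obtain ⟨K, k1, k2, k3, -⟩ := key s hs.1 s1 vs fun e => h.a_not ((closure_le _).2 (by
    rintro _ (rfl | rfl)
    exacts [hv.2, hs.2]) e)
  have pK := k1.pk h.c hY hS
  have sp := pK.spl h.c
  have c4 := pK.tyO_four h.c k2
  obtain ⟨τ, hτ, t1, -⟩ := exists_inv (h.two.to_le sp.T_le) fun e => by
    have := sp.card
    rw [e, card_bot, c4, h.card] at this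
    omega
  have tn : τ ∉ closure {a, v} := fun e => by
    have l3 : S ⊓ K ≤ closure {a, v} := fun x hx => by_contra fun e' => x0
      (eq_bot_of_inv_of_cent (odd_of_pgroup hr pX) (hi h.mem hv.1 hs.1) (h.gen3 h.mem hv.1 hx.1
        h.ne v1 av e' (le_c1_iff.1 (l1.trans (inf_le_left.trans pCoreOf_le)))
        (le_c1_iff.1 (l1.trans inf_le_right)) (k3 hx.2) hs.1))
    rw [← eq_of_le_of_card_ge l3 (by rw [c4, card_four h.ne v1 av h.aa (h.sq _ hv.1)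
      (le_cent_iff.1 h.comm _ h.mem _ hv.1)])] at e
    exact t1 (mem_bot.1 (sp.disj.le ⟨e, hτ⟩))
  have m1 : a ∈ closure {a, v} := subset_closure (by simp)
  have m2 : v ∈ closure {a, v} := subset_closure (by simp)
  have m3 : a * τ ∉ closure {a, v} := fun e => tn ((mul_mem_cancel_left m1).1 e)
  obtain ⟨K', k1', -, -, k4⟩ := key (a * τ) (mul_mem h.mem hτ.1) (fun e => m3 (e ▸ one_mem _))
    (fun e => m3 (e ▸ m2)) fun e => by
      rcases (h.four hv.1 (mul_mem h.mem hτ.1)).1 e with e | e | e | e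
      exacts [h.ne e, av e, m3 (e ▸ m1), m3 ((mul_mem_cancel_left m2).1 (e ▸ m1))]
  exact k4 τ (uniq_c2 h.c hY hS h.card k1 k1' ▸ hτ) rfl

theorem cent_oc : Oc (𝒞₁ a) ≤ 𝒞 S := le_centralizer_symm fun v hv =>
  inv_cent_oc (h.sq v hv) (h.sylH.1 hv) fun r _ hr => le_centralizer_symm (h.cent_pc r hr) hv

theorem simp : Simp L :=
  let ⟨_, hv, _, _, v1, _⟩ := h.exists_vs
  h.c2.simp_of_mem h.c h.H_ne h.sylH hv v1 (le_centralizer_symm h.cent_oc hv.1)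

theorem kf : KF L := h.c.kf h.simp h.pk.ne

theorem CO_eq : CO L = 𝒞 L := CO_eq_cent h.simp.oc

theorem odd_le {D : Subgroup G} (hD : Odd #D) (h1 : D ≤ 𝒞 S) (h2 : D ≤ 𝒞 L) : D ≤ Oc (𝒞₁ a) :=
  odd_le_oc h.c h.H_ne h.sylH hD (h1.trans (cent_le_c1 h.mem))
    (Om_le.trans (le_normalizer_of_le_centralizer (le_centralizer_symm h1))) fun K hK => by
      rwa [uniq_c2 h.c h.H_ne h.sylH h.card hK h.c2, h.CO_eq]

theorem oc_eq : Oc (𝒞₁ a) = ⊥ := by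
  obtain ⟨v, hv, s, hs, v1, s1, vs⟩ := h.exists_vs
  obtain ⟨n, hn, rfl⟩ := h.trans a h.mem h.ne v hv.1 v1
  have h' := h.cj hn
  set v := n * a * n⁻¹
  have a1 : ∀ x ∈ 𝒞₁ v, x * x = 1 → x ∈ 𝒞 (Oc (𝒞₁ v)) := fun x hx xx => by
    obtain ⟨g, hg, e⟩ := exists_conj_mem_syl h'.sylH hx xx
    have := conj_mem_of_mem_norm (CfsgH2.le_normalizer_centralizer le_normalizer_pPrimeCoreOf
      (inv_mem hg)) (le_centralizer_symm h'.cent_oc e)
    simpa [mul_assoc] using this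
  have a2 : L ⊓ 𝒞₁ v ≤ 𝒞 (Oc (𝒞₁ v)) := by
    rcases h.kf.four_cases h.pk.syl h.T_eq.2 with ⟨H, e⟩ | e
    · rw [e.cc.cent v hv v1]
      exact inf_le_left.trans (le_centralizer_symm h'.cent_oc)
    · have e := e v hv v1 s hs s1 vs
      have b := a1 s (h'.sylH.1 hs.1) e.ss
      rw [e.cent_eq]
      refine sup_le (fun k hk => ((𝒞 (Oc (𝒞₁ v))).mul_mem_cancel_right b).1 (a1 _ (mul_mem
        (mem_c1.2 (e.comm k hk v e.t_mem)) (h'.sylH.1 hs.1)) ?_)) (zpowers_le.2 b)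
      calc _ = k * (s * k * s⁻¹) := by rw [inv_eq_self e.ss]; group
        _ = 1 := by rw [e.inv k hk, mul_inv_cancel]
  have a3 : Oc (𝒞₁ v) = Oc (𝒞₁ a) := eq_of_le_of_card_ge (h.odd_le (odd_oc _) h'.cent_oc
    (h.kf.cent_of_odd specSE h.pk.syl (odd_oc _) ((h'.cent_oc.trans (cent_le_c1 h.mem)).trans
      h.norm_L) hv v1 (le_centralizer_symm a2))) (by
      rw [← cj_centralizer_singleton, ← cj_oc, card_cj])
  by_contra h0
  have a4 := h.c.simp.norm_eq h.coatom h0 pPrimeCoreOf_le le_normalizer_pPrimeCoreOf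
  have a5 : a ∈ zpowers v := h'.T_eq.1 ▸ ⟨h.mem, cent_le_CO (le_c1_iff.1 (h'.c2.le.trans
    (a4 ▸ a3 ▸ le_normalizer_pPrimeCoreOf)))⟩
  exact h.a_not (zpowers_le.2 hv.2 a5)

end JJ

end CfsgAG
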