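/-
WP JP, part 2: the subgroup `U = O(C(S))` and the centralisers of its elements.
-/
import Cfsg.Agent.AG.JP1
import Cfsg.Agent.AG.BSW

set_option autoImplicit false

namespace CfsgAG

open Subgroup CfsgFT CfsgL0
open scoped commutatorElement

universe u

variable {G : Type u} [Group G] [Finite G] {S X Y K K' L M : Subgroup G} {a : G}

theorem exists_mul_of_card {P N : Subgroup G} (hP : P ≤ X) (hN : N ≤ X) (hc : (#P).Coprime #N)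
    (e : #P * #N = #X) {y : G} (hy : y ∈ X) : ∃ x ∈ P, ∃ n ∈ N, y = x * n := by
  have := isComplement'_of_coprime (H := P.subgroupOf X) (K := N.subgroupOf X)
    (by rwa [card_subgroupOf_of_le hP, card_subgroupOf_of_le hN])
    (by rwa [card_subgroupOf_of_le hP, card_subgroupOf_of_le hN])
  obtain ⟨⟨x, n⟩, e⟩ := this.2 ⟨y, hy⟩
  exact ⟨_, x.2, _, n.2, (congrArg Subtype.val e).symm⟩

theorem T2.cent_of_three (ha : AG (⊤ : Subgroup G)) {H : Subgroup G} (h : T2 K S H) (h8 : #S = 8)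
    {ρ : G} (h3 : ρ ^ 3 = 1) (hK : ρ ∈ 𝒩 K) (hS : ρ ∈ 𝒩 S) : ρ ∈ 𝒞 S := by
  haveI := Fact.mk Nat.prime_three
  have p3 : IsPGroup 3 (zpowers ρ) := CfsgH2.isPGroup_of_forall_pow (by
    rintro _ ⟨n, rfl⟩
    rw [← zpow_natCast, ← zpow_mul, mul_comm, zpow_mul, zpow_natCast, h3, one_zpow])
  obtain ⟨R, hR, le⟩ := CfsgH2.exists_isSylowOf_ge p3 (le_sup_right : _ ≤ K ⊔ zpowers ρ)
  have hP := hR.inf_of_normal le_sup_left (sup_le le_normalizer (zpowers_le_norm hK))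
  have c1 := h.card_X
  have c2 := h.card_H
  have c3 : #(R ⊓ K) = 9 := by
    rw [hP.card_eq, c1, h8, show 8 * (8 ^ 2 - 1) = 3 ^ 2 * 56 by norm_num,
      Nat.factorization_mul (by norm_num) (by norm_num), Nat.Prime.factorization_pow Nat.prime_three]
    simp [Nat.factorization_eq_zero_of_not_dvd]
  have c4 : #(K ⊓ 𝒩 S) = 56 := by
    rw [h.norm_eq, sup_comm, CfsgH2.card_sup_of_disjoint (h.H_le.trans inf_le_right)
      (by rw [inf_comm]; exact two_inf_odd h.two h.odd_H)]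
    rw [h8] at c2 ⊢
    rw [show #H = 7 by omega]
  have a : ∀ y ∈ K, ρ ∈ 𝒩 (cj y S) := fun y hy => by
    obtain ⟨x, hx, n, hn, rfl⟩ := exists_mul_of_card (P := R ⊓ K) (N := K ⊓ 𝒩 S) inf_le_right
      inf_le_left (by rw [c3, c4]; norm_num) (by rw [c3, c4, c1, h8]; norm_num) hy
    rw [← cj_cj, cj_eq_of_mem_normalizer hn.2, mem_normalizer_iff_cj, cj_cj,
      le_cent_iff.1 (ha.comm hR.2.1 le_top) ρ (le (mem_zpowers ρ)) x hx.1, ← cj_cj,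
      cj_eq_of_mem_normalizer hS]
  obtain ⟨x, hx, hx'⟩ := SetLike.not_le_iff_exists.1 h.not_le_norm
  refine mem_cent_iff.2 fun v hv => by_contra fun ne => hx' ?_
  have b1 : v⁻¹ * (ρ * v * ρ⁻¹) ∈ S := mul_mem (inv_mem hv) (conj_mem_of_mem_norm hS hv)
  have b2 : v⁻¹ * (ρ * v * ρ⁻¹) ≠ 1 := fun e => ne (by
    rw [inv_mul_eq_one] at e; nth_rw 2 [e]; simp)
  have b3 : v⁻¹ * (ρ * v * ρ⁻¹) ∈ cj x S := mem_syl_of_sq (syl_cj h.syl hx) (h.cc.le b1) (by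
    rw [mem_normalizer_iff_cj, ← cj_cj, ← cj_cj, ← cj_cj, cj_eq_of_mem_normalizer (inv_mem (a x hx)),
      cj_cj v, cj_eq_of_mem_normalizer (a _ (mul_mem (h.cc.le hv) hx)), ← cj_cj, cj_inv_cj])
    (by rw [h.sq _ b1]; exact one_mem _)
  have b4 := (h.cj x).cc.cent _ b3 b2
  rw [cj_eq_of_mem hx, h.cc.cent _ b1 b2] at b4
  exact mem_normalizer_iff_cj.2 b4.symm

namespace JJ

variable (h : JJ S L a)
include h

theorem CS_le : 𝒞 S ≤ S ⊔ Oc (𝒞 S) := by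
  obtain ⟨A, h1, h2, h3⟩ := exists_odd_compl (h.syl.mono h.comm le_top) (centralizer_le_normalizer _)
  exact h3.ge.trans (sup_le_sup_left (le_oc h1 (h3.ge.trans (sup_le
    (le_normalizer_of_le_centralizer (le_centralizer_symm h1)) le_normalizer)) h2) S)

theorem sup_eq : (S ⊓ L) ⊔ zpowers a = S := h.T_eq.1 ▸ h.spl.sup

theorem vs_gen {v s : G} (hv : v ∈ S ⊓ L) (hs : s ∈ S ⊓ L) (v1 : v ≠ 1) (s1 : s ≠ 1) (vs : v ≠ s) :
    closure {v, s} = S ⊓ L := closure_eq_of_four h.T_eq.2 h.spl.sq hv hs v1 s1 vs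

theorem nh {B : Subgroup G} (hB : B ≤ 𝒩 S ⊓ 𝒞₁ a) {v s : G} (hv : v ∈ S ⊓ L) (hs : s ∈ S ⊓ L)
    (v1 : v ≠ 1) (s1 : s ≠ 1) (vs : v ≠ s) (ht : ∀ w ∈ S ⊓ L, w ≠ 1 → ∃ x ∈ B, x * v * x⁻¹ = w) :
    𝒩 S ⊓ 𝒞₁ a ≤ 𝒞 S ⊔ B := fun g hg => by
  have n : 𝒩 S ⊓ 𝒞₁ a ≤ 𝒩 (S ⊓ L) :=
    CfsgH2.le_normalizer_inf inf_le_left (inf_le_right.trans h.norm_L)
  obtain ⟨x, hx, e⟩ := ht _ (conj_mem_of_mem_norm (n hg) hv) (conj_ne_one v1)
  refine (mul_mem_cancel_left (inv_mem (mem_sup_right hx))).1 (mem_sup_left ?_)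
  have m := mul_mem (inv_mem (hB hx)) hg
  have e1 : x⁻¹ * g * v * (x⁻¹ * g)⁻¹ = v := by
    calc _ = x⁻¹ * (g * v * g⁻¹) * x := by group
      _ = _ := by rw [← e]; group
  generalize x⁻¹ * g = y at m e1
  refine mem_of_sq_of_norm h.syl h.comm m.1 (le_c1_iff.1 ?_)
  have e2 : y * v = v * y := mul_inv_eq_iff_eq_mul.1 e1
  rw [← h.sup_eq, ← h.vs_gen hv hs v1 s1 vs, closure_pair]
  refine sup_le (sup_le (zpowers_le.2 (mem_c1.2 (mem_c1.1 (mul_mem (mem_c1.2 e2) (mem_c1.2 e2))).symm))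
    (zpowers_le.2 (mem_c1.2 ?_))) (zpowers_le.2 (mem_c1.2 (mem_c1.1 (mul_mem m.2 m.2)).symm))
  have := conj_mem_of_mem_norm (n m) hs
  rw [← h.vs_gen hv hs v1 s1 vs, h.four hv.1 hs.1] at this
  rcases this with e | e | e | e
  · exact absurd e (conj_ne_one s1)
  · exact absurd (by simpa using e1.trans e.symm) vs
  · rw [mul_inv_eq_iff_eq_mul] at e
    rw [← mul_assoc, ← e, mul_assoc, ← e, mul_assoc]
  · rw [mul_inv_eq_iff_eq_mul] at e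
    symm
    calc _ = y * (y * s) := mul_assoc _ _ _
      _ = y * v * s * y := by rw [e]; group
      _ = v * (y * s) * y := by rw [e2]; group
      _ = v * v * (s * (y * y)) := by rw [e]; group
      _ = _ := by rw [h.sq v hv.1, one_mul]

theorem nhL : 𝒩 S ⊓ 𝒞₁ a ≤ 𝒞 S ⊔ (L ⊓ 𝒩 S) := by
  obtain ⟨v, hv, s, hs, v1, s1, vs⟩ := h.exists_vs
  obtain ⟨g, hg, tor⟩ := h.pk.tor h.c
  exact h.nh (le_inf inf_le_right (inf_le_left.trans h.c2.le)) hv hs v1 s1 vs fun w hw w1 =>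
    let ⟨i, hi⟩ := tor.trans v hv v1 w hw w1
    ⟨_, ⟨pow_mem hg i, pow_mem tor.norm i⟩, hi⟩

theorem norm_S : 𝒞₁ a ⊓ 𝒩 (S ⊓ L) ≤ 𝒩 S := by
  nth_rw 2 [← h.sup_eq]
  exact CfsgH2.le_normalizer_sup inf_le_right (le_norm_zp inf_le_left)

theorem cl (hU : Oc (𝒞 S) = ⊥) : CL ⊤ L a := by
  refine ⟨h.c.simp, trivial, h.ne, h.aa, fun v _ v1 vv => ?_, le_inf le_top h.c2.le, h.a_not,
    fun g _ e => (mem_sup_zpowers (h.norm_L (mem_c1.2 rfl)) h.aa).1 ?_⟩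
  · obtain ⟨g, -, e⟩ := exists_conj_mem_syl h.syl (mem_top v) vv
    obtain ⟨n, -, e'⟩ := h.trans a h.mem h.ne _ e (conj_ne_one v1)
    exact ⟨g⁻¹ * n, trivial, by
      calc _ = g⁻¹ * (n * a * n⁻¹) * g := by group
        _ = _ := by rw [e']; group⟩
  · have := h.CS_le
    rw [hU, sup_bot_eq] at this
    exact sup_le le_sup_left ((le_inf h.norm_S inf_le_left).trans (h.nhL.trans (sup_le (this.trans
      (h.sup_eq.ge.trans (sup_le_sup_right inf_le_right _))) (inf_le_left.trans le_sup_left))))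
      ((h.pk.syl.frattini h.c2.le h.norm_L).ge (mem_c1.2 e))

theorem U_norm : Oc (𝒞 S) ≤ 𝒩 L := (pPrimeCoreOf_le.trans (cent_le_c1 h.mem)).trans h.norm_L

omit h in
theorem N_U : 𝒩 S ≤ 𝒩 (Oc (𝒞 S)) :=
  (CfsgH2.le_normalizer_centralizer le_rfl).trans normalizer_le_normalizer_pPrimeCoreOf

theorem bot_of_cent {D : Subgroup G} (h1 : D ≤ Oc (𝒞 S)) (h2 : D ≤ 𝒞 L) : D = ⊥ :=
  eq_bot_iff.2 (h.oc_eq ▸ h.odd_le (odd_of_le h1 (odd_oc _)) (h1.trans pPrimeCoreOf_le) h2)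

theorem U_inf : Oc (𝒞 S) ⊓ L = ⊥ := eq_bot_iff.2 (le_trans (le_inf (le_trans (le_inf inf_le_right
  (inf_le_left.trans (pPrimeCoreOf_le.trans (cent_anti inf_le_left))))
  ((h.kf.cent_S h.pk.syl).le.trans inf_le_left)) inf_le_left) (two_inf_odd h.two (odd_oc _)).le)

theorem LN_cent : L ⊓ 𝒩 S ≤ 𝒞 (Oc (𝒞 S)) := le_centralizer_symm (le_cent_iff_comm.2 (eq_bot_iff.2
  (h.U_inf ▸ le_inf (commutator_le_left_of_le_normalizer (inf_le_right.trans N_U))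
    ((commutator_mono le_rfl inf_le_left).trans (commutator_le_right_of_le_normalizer h.U_norm)))))

theorem card_N : #(𝒩 S) = 7 * #(𝒩 S ⊓ 𝒞₁ a) := by
  rw [← card_cl_mul (𝒩 S) a, mul_comm, show CfsgAG.cl (𝒩 S) a = nz S from Set.ext fun v =>
    mem_cl.trans ⟨fun ⟨g, hg, e⟩ => e ▸ ⟨conj_mem_of_mem_norm hg h.mem, conj_ne_one h.ne⟩,
      fun hv => h.trans a h.mem h.ne v hv.1 hv.2⟩, ncard_nz, h.card]

theorem eq_N {B : Subgroup G} (h1 : 𝒩 S ⊓ 𝒞₁ a ≤ B) (h2 : B ≤ 𝒩 S) {x : G} (hx : x ∈ B)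
    (hn : x ∉ 𝒞₁ a) : B = 𝒩 S := by
  have e := CfsgH2.card_mul_relIndex (inf_le_left : 𝒩 S ⊓ 𝒞₁ a ≤ 𝒩 S)
  rw [h.card_N, mul_comm 7] at e
  have e1 := Nat.eq_of_mul_eq_mul_left Nat.card_pos e
  rw [← relIndex_mul_relIndex _ _ _ h1 h2] at e1
  rcases (Nat.dvd_prime (by norm_num)).1 (Dvd.intro _ e1) with e2 | e2
  · exact absurd (relIndex_eq_one.1 e2 hx).2 hn
  · rw [e2] at e1
    exact le_antisymm h2 (relIndex_eq_one.1 (by omega))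

variable (hU : Oc (𝒞 S) ≠ ⊥)
include hU

theorem to_at {v s : G} (hv : v ∈ S ⊓ L) (hs : s ∈ S ⊓ L) (v1 : v ≠ 1) (s1 : s ≠ 1) (vs : v ≠ s) :
    TO L (Oc (L ⊓ 𝒞₁ v) ⊔ zpowers v) v s :=
  ((h.kf.four_cases h.pk.syl h.T_eq.2).resolve_left fun ⟨_, e⟩ => hU (h.bot_of_cent le_rfl
    (e.cent_of_odd (odd_oc _) h.U_norm (pPrimeCoreOf_le.trans (cent_anti inf_le_left))))) v hv v1
    s hs s1 vs

theorem U_comm : Oc (𝒞 S) ≤ 𝒞 (Oc (𝒞 S)) := by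
  obtain ⟨v, hv, s, hs, v1, s1, vs⟩ := h.exists_vs
  have t := h.to_at hU hv hs v1 s1 vs
  obtain ⟨e, q, p, Q, A, w, l⟩ := specBSW G _ _ _ _ t.toBH
  have l1 : ⁅Oc (𝒞 S), Oc (𝒞 S)⁆ ≤ Oc (𝒞 S) := commutator_le_left_of_le_normalizer le_normalizer
  have l2 : Oc (𝒞 S) ≤ 𝒞₁ v := pPrimeCoreOf_le.trans (cent_le_c1 hv.1)
  refine le_cent_iff_comm.2 (h.bot_of_cent l1 (h.kf.cent_of_odd specSE h.pk.syl
    (odd_of_le l1 (odd_oc _)) (l1.trans h.U_norm) hv v1 (le_centralizer_symm ?_)))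
  rw [t.cent_eq]
  exact sup_le (le_centralizer_symm (commutator_le_centralizer_of_isCyclic' l.cyc_K
    (CfsgH2.le_normalizer_sup ((CfsgH2.le_normalizer_inf h.U_norm (le_norm_c1 l2)).trans
      normalizer_le_normalizer_pPrimeCoreOf) (le_norm_zp l2))))
    (zpowers_le.2 (le_c1_iff.1 (l1.trans (pPrimeCoreOf_le.trans (cent_le_c1 hs.1)))))

theorem rho : ∃ ρ ∈ L ⊓ 𝒩 S, ρ ^ 3 = 1 ∧ 𝒩 S ⊓ 𝒞₁ a ≤ 𝒞 S ⊔ zpowers ρ ∧
    ∃ n ∈ 𝒩 S, n * ρ * n⁻¹ ∉ 𝒞₁ a := by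
  obtain ⟨v, hv, s, hs, v1, s1, vs⟩ := h.exists_vs
  have t := h.to_at hU hv hs v1 s1 vs
  obtain ⟨ρ, r1, r2, r3, r4⟩ := t.rho
  have r5 : ρ ∈ 𝒩 S := h.norm_S ⟨h.c2.le r1, h.vs_gen hv hs v1 s1 vs ▸
    ((t.norm_V r1 r3 r4).ge (mem_sup_right (mem_zpowers ρ))).2⟩
  obtain ⟨n, hn, e⟩ := h.trans v hv.1 v1 a h.mem h.ne
  refine ⟨ρ, ⟨r1, r5⟩, r2, h.nh (zpowers_le.2 ⟨r5, h.c2.le r1⟩) hv hs v1 s1 vs fun w hw w1 => ?_,
    n, hn, fun e' => vs ?_⟩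
  · rw [← h.vs_gen hv hs v1 s1 vs, h.four hv.1 hs.1] at hw
    rcases hw with e | rfl | rfl | rfl
    · exact absurd e w1
    · exact ⟨1, one_mem _, by simp⟩
    · exact ⟨ρ, mem_zpowers ρ, r3⟩
    · exact ⟨ρ * ρ, mul_mem (mem_zpowers ρ) (mem_zpowers ρ), by rw [← r4, ← r3]; group⟩
  · rw [← e, mem_c1, conj_mul, conj_mul] at e'
    rw [← r3, show ρ * v = v * ρ by simpa using e', mul_inv_cancel_right]

theorem N_cent : 𝒩 S ≤ 𝒞 (Oc (𝒞 S)) := by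
  obtain ⟨ρ, r1, -, -, n, hn, e⟩ := h.rho hU
  exact (h.eq_N (B := 𝒩 S ⊓ 𝒞 (Oc (𝒞 S))) (le_inf inf_le_left (h.nhL.trans (sup_le (h.CS_le.trans
    (sup_le (le_centralizer_symm pPrimeCoreOf_le) (h.U_comm hU))) h.LN_cent))) inf_le_left
    ⟨conj_mem_of_mem_norm (le_normalizer hn) r1.2, conj_mem_of_mem_norm
      (CfsgH2.le_normalizer_centralizer N_U hn) (h.LN_cent r1)⟩ e).ge.trans inf_le_right

theorem card_N_dvd : #(𝒩 S) ∣ 168 * #(Oc (𝒞 S)) := by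
  obtain ⟨ρ, r1, r2, r3, -⟩ := h.rho hU
  have a1 := (card_dvd_of_le r3).trans (CfsgH2.card_sup_zpowers_dvd
    (CfsgH2.le_normalizer_centralizer le_rfl r1.2) (n := 3) (r2 ▸ one_mem _))
  have a2 := (card_dvd_of_le h.CS_le).trans (card_sup_dvd_of_le_normalizer (le_normalizer.trans N_U))
  rw [h.card_N, show 168 * #(Oc (𝒞 S)) = 7 * (#S * #(Oc (𝒞 S)) * 3) by rw [h.card]; ring]
  exact Nat.mul_dvd_mul_left 7 (a1.trans (Nat.mul_dvd_mul_right a2 3))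

theorem odd_L {D : Subgroup G} (hD : Odd #D) (h1 : D ≤ L) (h2 : L ⊓ 𝒩 S ≤ 𝒩 D) : D = ⊥ := by
  by_contra h0
  obtain ⟨v, hv, s, hs, v1, s1, vs⟩ := h.exists_vs
  obtain ⟨u, hu, -, e⟩ := (h.to_at hU hv hs v1 s1 vs).odd_inv hD h1 h0
    (h2 ⟨hv.2, le_normalizer hv.1⟩) (h2 ⟨hs.2, le_normalizer hs.1⟩)
  obtain ⟨g, hg, tor⟩ := h.pk.tor h.c
  have a : ∀ w ∈ S ⊓ L, w ≠ 1 → u ∈ S ⊓ L → u ≠ 1 → u = w := fun w hw w1 hu u1 => by
    obtain ⟨i, rfl⟩ := tor.trans u hu u1 w hw w1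
    rw [mem_c1.1 (pow_mem (e ⟨hg, h2 ⟨hg, tor.norm⟩⟩) i), mul_inv_cancel_right]
  have b : u ∈ S ⊓ L ∧ u ≠ 1 := by
    rcases hu with rfl | rfl | rfl
    exacts [⟨hv, v1⟩, ⟨hs, s1⟩, ⟨mul_mem hv hs, fun e => vs (by
      rw [mul_eq_one_iff_eq_inv, inv_eq_self (h.sq s hs.1)] at e; exact e)⟩]
  exact vs ((a v hv v1 b.1 b.2).symm.trans (a s hs s1 b.1 b.2))

end JJ

namespace JJ

variable (h : JJ S L a) {ψ : G} (hψ : ψ ∈ Oc (𝒞 S)) (ψ1 : ψ ≠ 1)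
include h hψ ψ1

omit h in
theorem U_ne : Oc (𝒞 S) ≠ ⊥ := fun e => ψ1 (mem_bot.1 (e ▸ hψ))

theorem N_Y : 𝒩 S ≤ 𝒞₁ ψ := (h.N_cent (U_ne hψ ψ1)).trans (cent_le_c1 hψ)

theorem sylY : IsSylowOf 2 S (𝒞₁ ψ) := h.syl.mono (le_normalizer.trans (h.N_Y hψ ψ1)) le_top

theorem oc_inf : Oc (𝒞₁ ψ) ⊓ L = ⊥ := h.odd_L (U_ne hψ ψ1) (odd_of_le inf_le_left (odd_oc _))
  inf_le_right (CfsgH2.le_normalizer_inf ((inf_le_right.trans (h.N_Y hψ ψ1)).trans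
    le_normalizer_pPrimeCoreOf) (inf_le_left.trans le_normalizer))

theorem oc_Y : Oc (𝒞₁ ψ) ≤ Oc (𝒞 S) := by
  have l : 𝒩 S ≤ 𝒩 (Oc (𝒞₁ ψ)) := (h.N_Y hψ ψ1).trans le_normalizer_pPrimeCoreOf
  refine le_oc (le_bot_of_cent h.sq (by rw [h.card]; norm_num) (odd_oc _) (le_normalizer.trans l)
    fun u hu u1 => ?_) ((centralizer_le_normalizer _).trans l) (odd_oc _)
  obtain ⟨n, hn, rfl⟩ := h.trans a h.mem h.ne u hu u1
  have h' := h.cj hn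
  refine le_centralizer_symm (h'.sup_eq.ge.trans (sup_le (le_cent_iff_comm.2 (eq_bot_iff.2
    (h'.oc_inf hψ ψ1 ▸ le_inf ?_ ?_))) (zpowers_le.2 (le_c1_iff.1 inf_le_right))))
  · exact (commutator_mono le_rfl inf_le_left).trans
      (commutator_le_right_of_le_normalizer ((inf_le_left.trans le_normalizer).trans l))
  · exact (commutator_mono inf_le_right le_rfl).trans
      (commutator_le_left_of_le_normalizer (inf_le_right.trans h'.norm_L))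

theorem S_le (hK : C2 (𝒞₁ ψ) K) : S ≤ K ∧ Simp K ∧ KF K ∧ 𝒞₁ ψ ≤ 𝒩 K := by
  have hY := h.c.simp.cent_ne_top ψ1
  have hS := h.sylY hψ ψ1
  have pK := hK.pk h.c hY hS
  have n := le_normalizer.trans (norm_c2 h.c hY hS h.card hK)
  obtain ⟨v, hv, v1, -⟩ := exists_inv (h.two.to_le (inf_le_left : S ⊓ K ≤ S)) fun e => by
    have := (pK.spl h.c).four
    rw [e, card_bot] at this
    omega
  have sK := hK.simp_of_mem h.c hY hS hv v1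
    (le_centralizer_symm ((h.oc_Y hψ ψ1).trans pPrimeCoreOf_le) hv.1)
  refine ⟨fun w hw => ?_, sK, h.c.kf sK pK.ne, n⟩
  by_cases w1 : w = 1
  · exact w1 ▸ one_mem K
  obtain ⟨g, hg, rfl⟩ := h.trans v hv.1 v1 w hw w1
  exact conj_mem_of_mem_norm (n (h.N_Y hψ ψ1 hg)) hv.2

theorem fpf {v s : G} (hv : v ∈ S ⊓ L) (hs : s ∈ S ⊓ L) (v1 : v ≠ 1) (s1 : s ≠ 1) (vs : v ≠ s) :
    Oc (L ⊓ 𝒞₁ v) ⊓ 𝒞₁ ψ = ⊥ := by
  have t := h.to_at (U_ne hψ ψ1) hv hs v1 s1 vs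
  have hY := h.c.simp.cent_ne_top ψ1
  have hS := h.sylY hψ ψ1
  have o := odd_of_le (inf_le_left : Oc (L ⊓ 𝒞₁ v) ⊓ 𝒞₁ ψ ≤ _) (odd_oc _)
  rcases odd_cases h.c hY hS o inf_le_right (Om_le.trans (CfsgH2.le_normalizer_inf
    ((CfsgH2.le_normalizer_inf h.pk.norm (le_norm_c1 (h.le_c1 hv.1))).trans
      normalizer_le_normalizer_pPrimeCoreOf) (le_norm_c1 hS.1))) hs.1
    (comm_eq_of_inv o fun y hy => t.inv y (mem_sup_left hy.1)).ge with e | ⟨K, k1, k2, -⟩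
  · exact eq_bot_iff.2 (h.oc_inf hψ ψ1 ▸ le_inf e (inf_le_left.trans (pPrimeCoreOf_le.trans inf_le_left)))
  · have := (k1.pk h.c hY hS).tyO_four h.c k2
    rw [inf_eq_left.2 (h.S_le hψ ψ1 k1).1, h.card] at this
    omega

theorem cases_Y : 𝒞₁ ψ = 𝒩 S ∨ ∃ K L' V H a', TJ K L' V H a' ∧ K ≤ 𝒞₁ ψ ∧ 𝒞₁ ψ ≤ 𝒩 K ∧
    𝒞₁ ψ ≤ K ⊔ Oc (𝒞 S) ∧ 5 ∣ #L := by
  have hY := h.c.simp.cent_ne_top ψ1
  have hS := h.sylY hψ ψ1
  have hU := U_ne hψ ψ1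
  by_cases e : ∃ K, C2 (𝒞₁ ψ) K
  swap
  · exact Or.inl (le_antisymm (gen_le h.c hY hS ((h.oc_Y hψ ψ1).trans
      (pPrimeCoreOf_le.trans (centralizer_le_normalizer _))) inf_le_right
      fun K hK => absurd ⟨K, hK⟩ e) (h.N_Y hψ ψ1))
  obtain ⟨K, hK⟩ := e
  obtain ⟨k1, k2, k3, k4⟩ := h.S_le hψ ψ1 hK
  have sK : IsSylowOf 2 S K := h.syl.mono k1 le_top
  obtain ⟨v, hv, s, hs, v1, s1, vs⟩ := h.exists_vs
  rcases k3.at sK with ⟨H, t⟩ | ⟨_, _, _, t, e⟩ | ⟨L', V, H, a', t, -⟩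
  · obtain ⟨ρ, r1, r2, -, n, hn, e⟩ := h.rho hU
    exact absurd (cent_le_c1 h.mem (conj_mem_of_mem_norm (CfsgH2.le_normalizer_centralizer le_rfl hn)
      (t.cent_of_three h.c.ag h.card r2 (k4 (h.N_Y hψ ψ1 r1.2)) r1.2))) e
  · have := t.card_V
    rw [← e, h.card] at this
    omega
  obtain ⟨L', V, H, t⟩ := t.at (k1 h.mem) h.ne h.aa
  have l1 : L' ≤ L := perfect_le h.c h.H_ne (t.L_le.trans inf_le_right) t.t2.simp.perfect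
    (h.oc_eq ▸ bot_le) fun K' hK' => (uniq_c2 h.c h.H_ne h.sylH h.card hK' h.c2).le
  have s2 : IsSylowOf 2 (S ⊓ L') L' := (h.syl.mono (le_inf k1 h.sylH.1) le_top).inf_of_normal t.L_le
    (t.toCL.cent_eq ▸ sup_le le_normalizer (zpowers_le_norm t.toCL.a_norm))
  obtain ⟨H', t'⟩ := t.t2.of_syl s2
  rw [eq_of_le_of_card_ge (inf_le_inf_left S l1) (h.T_eq.2 ▸ t'.four)] at t'
  have l2 : 𝒩 S ⊓ 𝒞₁ a ≤ K ⊔ Oc (𝒞 S) := (h.nh (B := H') (le_inf (le_trans (le_inf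
    (t'.H_le.trans (inf_le_left.trans (l1.trans h.c2.le))) (t'.H_le.trans inf_le_right)) h.norm_S)
    (t'.H_le.trans (inf_le_left.trans (l1.trans h.c2.le)))) hv hs v1 s1 vs (t'.trans v hv v1)).trans
    (sup_le (h.CS_le.trans (sup_le_sup_right k1 _))
      (t'.H_le.trans (inf_le_left.trans (t.L_le.trans (inf_le_left.trans le_sup_left)))))
  obtain ⟨g, hg, tor⟩ := k3.tor sK
  obtain ⟨i, hi⟩ := tor.trans a h.mem h.ne v hv.1 v1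
  have l3 := h.eq_N (B := 𝒩 S ⊓ (K ⊔ Oc (𝒞 S))) (le_inf inf_le_left l2) inf_le_left (x := g ^ i)
    ⟨pow_mem tor.norm i, mem_sup_left (pow_mem hg i)⟩ fun e => h.a_not (by
      rw [mem_c1.1 e, mul_inv_cancel_right] at hi; exact hi ▸ hv.2)
  refine Or.inr ⟨K, L', V, H, a, t, hK.le, k4, gen_le h.c hY hS ((h.oc_Y hψ ψ1).trans le_sup_right)
    (inf_le_right.trans (l3.ge.trans inf_le_right)) fun K' hK' =>
      (uniq_c2 h.c hY hS h.card hK' hK).le.trans le_sup_left,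
    dvd_trans ?_ (card_dvd_of_le l1)⟩
  rw [t.t2.card_X, t.card_V]
  norm_num

end JJ

end CfsgAG
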