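/-
WP JP: the `J`-pattern.
-/
import Cfsg.Agent.AG.JP2
import Cfsg.Agent.FT.BG2_6

set_option autoImplicit false

namespace CfsgAG

open Subgroup CfsgFT CfsgL0
open scoped commutatorElement

universe u

variable {G : Type u} [Group G] [Finite G] {S X Y K L R : Subgroup G} {a : G}

theorem cent_norm_eq_bot' {p : ℕ} [Fact p.Prime] (hX : ⁅X, X⁆ = X) (hS : IsSylowOf p S X)
    (hc : S ≤ 𝒞 S) : S ⊓ 𝒞 (X ⊓ 𝒩 S) = ⊥ := by
  have h1 := (isSylowOf_iff_isSylowIn.1 hS).inf_resIn_of_comm hc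
  have h2 : X ≤ CfsgH1.resIn p X :=
    le_of_forall_pPrime_elem (p := p) hX fun w hw h => CfsgH1.mem_resIn hw h
  rw [inf_eq_left.2 (hS.1.trans h2)] at h1
  have hT' := isSylowOf_iff_isSylowIn.1 (hS.mono (le_inf hS.1 le_normalizer) inf_le_left)
  have h3 := (hT'.commutator_sup_centralizer inf_le_right hc).2
  rwa [← h1] at h3

theorem two_mul_mem {r : ℕ} [Fact r.Prime] (hr : r ≠ 2) (hR : EA r 2 R) {T : Subgroup G}
    (hT : T ≤ 𝒩 R) (sq : ∀ t ∈ T, t * t = 1) (ni : ∀ t ∈ T, ¬ ∀ y ∈ R, t * y * t⁻¹ = y⁻¹)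
    {t s : G} (ht : t ∈ T) (hs : s ∈ T) (t1 : t ∉ 𝒞 R) (s1 : s ∉ 𝒞 R) : t * s ∈ 𝒞 R := by
  have o := odd_of_pgroup hr hR.isPGroup
  have cT := le_cent_iff.1 (comm_of_sq sq)
  have a : ∀ t ∈ T, t ∉ 𝒞 R → #(R ⊓ 𝒞₁ t) = r := fun t ht t1 => hR.card_eq_of_ne inf_le_left
    (fun e => ni t ht (inv_of_fpf o (sq t ht) (hT ht) e))
    fun e => t1 (le_c1_iff.1 (e.ge.trans inf_le_right))
  have b : ∀ t ∈ T, ∀ s ∈ T, R ⊓ 𝒞₁ t ⊓ (R ⊓ 𝒞₁ s) = ⊥ → ∀ y ∈ R ⊓ 𝒞₁ t, s * y * s⁻¹ = y⁻¹ :=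
    fun t ht s hs e => inv_of_fpf (odd_of_le inf_le_left o) (sq s hs)
      (CfsgH2.le_normalizer_inf hT (le_norm_c1 fun x hx => mem_c1.2 (cT x hx t ht)) hs)
      (eq_bot_iff.2 (e ▸ le_inf inf_le_left (inf_le_inf_right _ inf_le_left)))
  have c : ∀ t ∈ T, ∀ s ∈ T, t ∉ 𝒞 R → s ∉ 𝒞 R → R ⊓ 𝒞₁ t = R ⊓ 𝒞₁ s := fun t ht s hs t1 s1 => by
    by_contra ne
    have d := hR.dp_of_ne inf_le_left inf_le_left (a t ht t1) (a s hs s1) ne
    refine ni _ (mul_mem ht hs) fun y hy => ?_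
    obtain ⟨x, hx, z, hz, rfl⟩ := (CfsgH2.mem_sup_of_le_normalizer
      (le_normalizer_of_le_centralizer d.cent)).1 (d.sup_eq ▸ hy)
    calc _ = t * (s * x * s⁻¹) * t⁻¹ * (t * (s * z) * s⁻¹ * t⁻¹) := by group
      _ = (t * x * t⁻¹)⁻¹ * (t * z * t⁻¹) := by
        rw [b t ht s hs d.inf_eq x hx, ← mem_c1.1 hz.2]; group
      _ = _ := by
        rw [b s hs t ht (by rw [inf_comm, d.inf_eq]) z hz, ← mem_c1.1 hx.2, mul_inv_cancel_right,
          ← mul_inv_rev, mem_cent_iff.1 (d.cent hz) x hx]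
  by_contra n
  have e : ∀ {t : G}, t ∉ 𝒞 R → t ≠ 1 := fun n e => n (e ▸ one_mem _)
  have l : closure {t, s} ≤ T := (closure_le _).2 (by rintro _ (rfl | rfl) <;> assumption)
  refine t1 (le_c1_iff.1 (le_bot_of_cent (fun v hv => sq v (l hv)) (card_four (e t1) (e s1)
    (fun e' => e n (by rw [← e', sq t ht])) (sq t ht) (sq s hs) (cT t ht s hs)).ge o (l.trans hT)
    fun v hv v1 => ?_))
  refine (c v (l hv) t ht ?_ t1).le.trans inf_le_right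
  rcases (mem_four (sq t ht) (sq s hs) (cT t ht s hs)).1 hv with rfl | rfl | rfl | rfl
  exacts [absurd rfl v1, t1, s1, n]

theorem rank_two (c : Ctx G) (hS : IsSylowOf 2 S ⊤) (sq : ∀ v ∈ S, v * v = 1) {r : ℕ}
    [hp : Fact r.Prime] (hr : r ≠ 2) (hR : IsSylowOf r R ⊤) (ea : EA r 2 R) {φ : G} (hφ : φ ∈ R)
    (φ1 : φ ≠ 1) (hN : 𝒩 (zpowers φ) ≤ 𝒞₁ φ)
    (h : r = 3 ∨ ∃ j ∈ 𝒩 R ⊓ 𝒞₁ φ, Odd (orderOf j) ∧ j ∉ 𝒞 R) : False := by
  have o := odd_of_pgroup hr hR.2.1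
  have cn := cent_norm_eq_bot' c.simp.perfect hR ea.le_centralizer
  rw [top_inf_eq] at cn
  have nC : 𝒩 R ≤ 𝒩 (𝒞 R) := CfsgH2.le_normalizer_centralizer le_rfl
  obtain ⟨T, hT⟩ := CfsgH2.exists_isSylowOf 2 (𝒩 R)
  have sT : ∀ t ∈ T, t * t = 1 := fun t ht => by
    obtain ⟨g, -, e⟩ := hS.exists_cj_le hT.2.1 le_top
    have := sq _ (e (conj_mem_cj g ht))
    rw [conj_mul] at this
    simpa using this
  have ni : ∀ t ∈ T, ¬ ∀ y ∈ R, t * y * t⁻¹ = y⁻¹ := fun t _ e => φ1 (mem_bot.1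
    (eq_bot_of_inv_of_cent (odd_of_le (zpowers_le.2 hφ) o) (fun y hy => e y (zpowers_le.2 hφ hy))
      (cent_zp φ ▸ hN (mem_norm_of_inv fun y hy => e y (zpowers_le.2 hφ hy))) ▸ mem_zpowers φ))
  have tw := @two_mul_mem _ _ _ _ _ _ hr ea T hT.1 sT ni
  have hT' := isSylowOf_iff_isSylowIn.1 hT
  set N := CfsgH1.resIn 2 (𝒩 R)
  have nl : N ≤ 𝒩 R := CfsgH1.resIn_le _
  have a1 : T ⊓ N ≤ 𝒞 R := by
    rw [hT'.inf_resIn_of_comm (comm_of_sq sT)]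
    refine commutator_le.2 fun t ht n hn => ?_
    rw [show ⁅t, n⁆ = t * (n * t⁻¹ * n⁻¹) by rw [commutatorElement_def]; group]
    by_cases e : t ∈ 𝒞 R
    · exact mul_mem e (conj_mem_of_mem_norm (nC hn.1) (inv_mem e))
    · exact tw ht (conj_mem_of_mem_norm hn.2 (inv_mem ht)) e fun e' =>
        e (inv_mem_iff.1 ((mem_normalizer_iff.1 (nC hn.1) _).2 e'))
  have a2 : IsSylowOf 2 (T ⊓ N) N := isSylowOf_iff_isSylowIn.2 hT'.inf_resIn
  obtain ⟨A, A1, A2, A3⟩ := exists_odd_compl (syl_norm a2) inf_le_right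
  have AN : A ≤ 𝒩 R := (A1.trans inf_le_left).trans nl
  have a3 : N ≤ 𝒞 R ⊔ A := by
    rw [← (a2.mono (le_inf a1 a2.1) inf_le_right).frattini inf_le_right
      (CfsgH2.le_normalizer_inf (nl.trans nC) le_normalizer), ← A3]
    exact sup_le (inf_le_left.trans le_sup_left) (sup_le_sup_right a1 _)
  have sr : ∀ {B P : Subgroup G}, B ≤ 𝒩 R → IsSylowOf r P B → P ≤ 𝒞 R := fun hB hP =>
    (le_syl_of_norm hR hP.2.1 le_top (hP.1.trans hB)).trans ea.le_centralizer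
  rcases h with rfl | ⟨j, hj, oj, j1⟩
  · have b1 : N ≤ 𝒞 R := a3.trans (sup_le le_rfl (CfsgH2.le_of_forall_sylow fun q hq d => by
      haveI := Fact.mk hq
      obtain ⟨P, hP⟩ := CfsgH2.exists_isSylowOf q A
      refine ⟨P, hP, ?_⟩
      by_cases e : q = 3
      · subst e; exact sr AN hP
      have e2 : q ≠ 2 := by rintro rfl; exact (Nat.not_even_iff_odd.2 A2) (even_iff_two_dvd.2 d)
      have m := (CfsgH1.card_modEq_card_inf_centralizer hP.2.1 (hP.1.trans AN)).symm.dvd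
      refine le_centralizer_symm (inf_eq_left.1 (by_contra fun ne => ?_))
      have q2 : ∀ {n : ℕ}, q ∣ 2 ^ n * 3 → False := fun d => (hq.dvd_mul.1 d).elim
        (fun d => e2 ((Nat.prime_dvd_prime_iff_eq hq Nat.prime_two).1 (hq.dvd_of_dvd_pow d)))
        fun d => e ((Nat.prime_dvd_prime_iff_eq hq Nat.prime_three).1 d)
      rw [ea.2] at m
      by_cases z : R ⊓ 𝒞 P = ⊥
      · rw [z, card_bot] at m
        exact q2 (n := 3) ((Int.natCast_dvd_natCast.1 m).mul_right 3)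
      · rw [ea.card_eq_of_ne inf_le_left z ne] at m
        exact q2 (n := 1) (Int.natCast_dvd_natCast.1 m)))
    have b2 : ∀ {F : Subgroup G}, F ≤ R → T ≤ 𝒞 F → F = ⊥ := fun hF e => eq_bot_iff.2
      (cn ▸ le_inf hF (le_centralizer_symm (hT'.sup_resIn ▸ sup_le e (b1.trans (cent_anti hF)))))
    by_cases e : T ≤ 𝒞 R
    · exact φ1 (mem_bot.1 (b2 le_rfl e ▸ hφ))
    obtain ⟨t, ht, t1⟩ := SetLike.not_le_iff_exists.1 e
    refine ni t ht (inv_of_fpf o (sT t ht) (hT.1 ht) (b2 inf_le_left fun s hs => ?_))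
    by_cases e : s ∈ 𝒞 R
    · exact cent_anti inf_le_left e
    · exact (mul_mem_cancel_left (le_c1_iff.1 inf_le_right)).1 (cent_anti inf_le_left (tw ht hs t1 e))
  · obtain ⟨B, B1, -, -, B2, B3, -⟩ := bg2_6 ea AN A2
    obtain ⟨P, hP⟩ := CfsgH2.exists_isSylowOf r B
    have b1 : ⁅A, A⁆ ≤ 𝒞 R := B2.trans (relIndex_eq_one.1 (((Nat.dvd_prime hp.out).1 B3).resolve_right
      fun e => hP.2.2 (e ▸ relIndex_dvd_of_le_left B (sr (B1.trans AN) hP))))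
    have b2 : ⁅N, N⁆ ≤ 𝒞 R := (commutator_mono a3 a3).trans
      ((isMulCommutative_qm_iff (sup_le le_normalizer (AN.trans nC))).1 (by
        rw [qm_sup_self (AN.trans nC)]; exact (isMulCommutative_qm_iff (AN.trans nC)).2 b1))
    have jN : j ∈ N := CfsgH1.mem_resIn hj.1 (Nat.coprime_two_right.2 oj)
    have b3 : R ⊓ 𝒞₁ j = zpowers φ := by
      have l : zpowers φ ≤ R ⊓ 𝒞₁ j := zpowers_le.2 ⟨hφ, mem_c1.2 (mem_c1.1 hj.2).symm⟩
      refine (eq_of_le_of_card_ge l ?_).symm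
      rw [ea.card_eq_of_ne inf_le_left (fun e => φ1 (mem_bot.1 (e ▸ l (mem_zpowers φ))))
        fun e => j1 (le_c1_iff.1 (e.ge.trans inf_le_right)), Nat.card_zpowers,
        orderOf_eq_prime (ea.1.2 φ hφ) φ1]
    have b4 : N ≤ 𝒞₁ φ := fun x hx => hN (b3 ▸ mem_normalizer_fintype fun y hy =>
      ⟨conj_mem_of_mem_norm (nl hx) hy.1, mem_c1.2 (by
        have e := mem_cent_iff.1 (b2 (commutator_mem_commutator (inv_mem hx) jN)) y hy.1
        rw [commutatorElement_def] at e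
        calc _ = x * (y * (x⁻¹ * j * x⁻¹⁻¹ * j⁻¹)) * j * x⁻¹ := by group
          _ = x * (x⁻¹ * j * x⁻¹⁻¹ * j⁻¹) * (y * j) * x⁻¹ := by rw [← e]; group
          _ = _ := by rw [mem_c1.1 hy.2]; group)⟩)
    have b5 : R ⊓ 𝒞 N = zpowers φ := le_antisymm (b3 ▸ inf_le_inf_left R (cent_le_c1 jN))
      (zpowers_le.2 ⟨hφ, le_c1_iff.1 b4⟩)
    exact φ1 (mem_bot.1 (cn.le ⟨hφ, le_c1_iff.1 (le_trans (b5 ▸ CfsgH2.le_normalizer_inf le_rfl
      (CfsgH2.le_normalizer_centralizer (CfsgH1.le_normalizer_resIn _))) hN)⟩))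

namespace JJ

variable (h : JJ S L a) {r : ℕ} [hp : Fact r.Prime] {P : Subgroup G}
  (hP : IsSylowOf r P (Oc (𝒞 S))) {φ : G} (hφ : φ ∈ P) (o : orderOf φ = r)
include h hP hφ o

omit h hP hφ in
theorem φ_ne : φ ≠ 1 := fun e => hp.out.one_lt.ne' (by rw [← o, e, orderOf_one])

omit h in
theorem r_ne : r ≠ 2 := fun e => (Nat.not_even_iff_odd.2 (odd_orderOf_of_mem (odd_oc _) (hP.1 hφ)))
  (by rw [o, e]; exact even_two)

theorem norm_φ : 𝒩 (zpowers φ) ≤ 𝒞₁ φ := by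
  rw [← (cent_zp φ ▸ h.sylY (hP.1 hφ) (φ_ne o) : IsSylowOf 2 S (𝒞 (zpowers φ))).frattini
    (centralizer_le_normalizer _) (CfsgH2.le_normalizer_centralizer le_rfl), cent_zp]
  exact sup_le le_rfl (inf_le_right.trans (h.N_Y (hP.1 hφ) (φ_ne o)))

theorem modEq {v s : G} (hv : v ∈ S ⊓ L) (hs : s ∈ S ⊓ L) (v1 : v ≠ 1) (s1 : s ≠ 1) (vs : v ≠ s) :
    P ≤ 𝒩 (Oc (L ⊓ 𝒞₁ v)) ∧ #(Oc (L ⊓ 𝒞₁ v)) ≡ 1 [MOD r] := by
  have n : P ≤ 𝒩 (Oc (L ⊓ 𝒞₁ v)) := hP.1.trans ((CfsgH2.le_normalizer_inf h.U_norm (le_norm_c1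
    (pPrimeCoreOf_le.trans (cent_le_c1 hv.1)))).trans normalizer_le_normalizer_pPrimeCoreOf)
  have := CfsgH1.card_modEq_card_inf_centralizer (hP.2.1.to_le (zpowers_le.2 hφ))
    ((zpowers_le.2 hφ).trans n)
  rw [cent_zp, h.fpf (hP.1 hφ) (φ_ne o) hv hs v1 s1 vs, card_bot] at this
  exact ⟨n, this⟩

theorem cyc : IsCyclic P := by
  by_contra nc
  obtain ⟨v, hv, s, hs, v1, s1, vs⟩ := h.exists_vs
  have t := h.to_at (U_ne (hP.1 hφ) (φ_ne o)) hv hs v1 s1 vs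
  obtain ⟨n, m⟩ := h.modEq hP hφ o hv hs v1 s1 vs
  exact t.oc_ne (t.oc_eq ▸ eq_bot_iff.2 (CfsgH2.le_of_noncyclic
    (isMulCommutative_iff_le.2 (h.c.ag.comm hP.2.1 le_top)) nc n
    (CfsgH2.coprime_card_of_isPGroup hP.2.1 fun d => hp.out.one_lt.ne'
      (Nat.dvd_one.1 ((m.dvd_iff dvd_rfl).1 d)))
    fun ψ hψ ψ1 => (h.fpf (hP.1 hψ) ψ1 hv hs v1 s1 vs).le))

theorem sylR {c : ℕ} (hc : #(𝒞₁ φ) ∣ c * #(Oc (𝒞 S))) (hd : c ∣ 175560) (hR : IsSylowOf r R ⊤)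
    (le : P ≤ R) : r ∣ c ∧ EA r 2 R := by
  have cR := h.c.ag.comm hR.2.1 le_top
  have cn := cent_norm_eq_bot' h.c.simp.perfect hR cR
  obtain ⟨n, hn, n1⟩ := SetLike.not_le_iff_exists.1 fun e : 𝒩 R ≤ 𝒞₁ φ =>
    φ_ne o (mem_bot.1 (cn.le ⟨le hφ, le_c1_iff.1 (inf_le_right.trans e)⟩))
  have cz : #(zpowers φ) = r := by rw [Nat.card_zpowers, o]
  have l2 : cj n P ≤ R := cj_le_of_mem_normalizer hn le
  have d : P ⊓ cj n P = ⊥ := by
    by_contra e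
    obtain ⟨X, x1, x2⟩ := exists_card_prime_le (dvd_card_of_isPGroup (hP.2.1.to_le inf_le_left) e)
    have cy := h.cyc hP hφ o
    refine n1 (h.norm_φ hP hφ o (mem_normalizer_iff_cj.2 ?_))
    rw [eq_of_isCyclic_of_card (show IsCyclic (cj n P) from isCyclic_map cy _) (cj_mono n (zpowers_le.2 hφ))
      (x1.trans inf_le_right) (by rw [card_cj, cz, x2]),
      eq_of_isCyclic_of_card cy (x1.trans inf_le_left) (zpowers_le.2 hφ) (by rw [cz, x2])]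
  have cent : cj n P ≤ 𝒞 P := l2.trans (cR.trans (cent_anti le))
  have a1 := card_dvd_of_le (sup_le le l2)
  rw [CfsgH2.card_sup_of_disjoint (le_normalizer_of_le_centralizer (le_centralizer_symm cent)) d,
    card_cj] at a1
  have a2 := (card_dvd_of_le (cR.trans (cent_le_c1 (le hφ)))).trans hc
  rw [← CfsgH2.card_mul_relIndex hP.1, ← mul_assoc] at a2
  obtain ⟨m, hm⟩ := hR.2.1.exists_card_eq
  obtain ⟨k, hk⟩ := hP.2.1.exists_card_eq
  have a3 : r ^ m ∣ c * r ^ k := by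
    rw [hm, hk] at a2
    exact ((Nat.coprime_comm.1 ((hp.out.coprime_iff_not_dvd.2 hP.2.2).symm.pow_right m)).dvd_of_dvd_mul_right a2)
  have a4 : ¬ r ^ 2 ∣ c := fun e => by
    have e1 : r ^ 2 ∣ 2 ^ 3 * 21945 := e.trans hd
    have e2 := (((Nat.coprime_primes hp.out Nat.prime_two).2 (r_ne hP hφ o)).pow 2 3).dvd_of_dvd_mul_left e1
    have : Squarefree 21945 := by
      rw [Nat.squarefree_iff_nodup_primeFactorsList (by norm_num)]; simp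
    exact hp.out.one_lt.ne' (Nat.isUnit_iff.1 (this r (by rwa [← _root_.sq])))
  have r0 := hp.out.pos
  have k1 : 1 ≤ k := Nat.pos_of_ne_zero fun e => by
    have := card_dvd_of_le (zpowers_le.2 hφ)
    rw [cz, hk, e, pow_zero] at this
    exact hp.out.one_lt.ne' (Nat.dvd_one.1 this)
  rw [hk, hm] at a1
  have a5 : r ^ k ∣ c := Nat.dvd_of_mul_dvd_mul_right (by positivity) (a1.trans a3)
  obtain rfl : k = 1 := by
    by_contra e
    exact a4 ((pow_dvd_pow r (by omega)).trans a5)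
  have a6 : m ≤ 2 := by
    by_contra e
    exact a4 (Nat.dvd_of_mul_dvd_mul_right (by positivity : 0 < r ^ 1)
      (by rw [← pow_add]; exact (pow_dvd_pow r (by omega)).trans a3))
  rw [pow_one] at hk a5
  have e1 := (EA_one_iff (p := r)).2 hk
  have e2 := e1.sup (e1.cj n) cent d
  exact ⟨a5, eq_of_le_of_card_ge (sup_le le l2)
    (by rw [e2.2, hm]; exact Nat.pow_le_pow_right r0 a6) ▸ e2⟩

theorem seven (hc : #(𝒞₁ φ) ∣ 175560 * #(Oc (𝒞 S))) (h7 : r = 7) : False := by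
  subst h7
  have l : Oc (𝒞 S) ≤ 𝒩 S ⊓ 𝒞₁ a :=
    pPrimeCoreOf_le.trans (le_inf (centralizer_le_normalizer _) (cent_le_c1 h.mem))
  obtain ⟨R', hR', l1⟩ := CfsgH2.exists_isSylowOf_ge hP.2.1 (hP.1.trans (l.trans inf_le_left))
  obtain ⟨R, hR, l2⟩ := CfsgH2.exists_isSylowOf_ge hR'.2.1 le_top
  have ea := (h.sylR hP hφ o hc dvd_rfl hR (l1.trans l2)).2
  obtain rfl : R' = R := eq_of_le_of_card_ge l2 (by
    have e := CfsgH2.card_mul_relIndex hR'.1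
    obtain ⟨k, hk⟩ := o ▸ orderOf_dvd_natCard _ (l (hP.1 hφ))
    rw [h.card_N, hk, ← mul_assoc] at e
    rw [ea.2]
    exact Nat.le_of_dvd Nat.card_pos ((Nat.Coprime.pow_left 2
      (hp.out.coprime_iff_not_dvd.2 hR'.2.2)).dvd_of_dvd_mul_right ⟨k, e⟩))
  refine rank_two h.c h.syl h.sq (by norm_num) hR ea (l1 hφ) (φ_ne o) (h.norm_φ hP hφ o)
    (Or.inr (by_contra fun e => ?_))
  push Not at e
  have pn := bg1_18 hR' (CfsgH2.le_of_forall_sylow fun q hq _ => by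
    haveI := Fact.mk hq
    obtain ⟨Q, hQ⟩ := CfsgH2.exists_isSylowOf q (𝒩 S ⊓ 𝒩 R')
    refine ⟨Q, hQ, ?_⟩
    by_cases q2 : q = 2
    · subst q2
      exact le_cent_iff_comm.2 (eq_bot_iff.2 (two_inf_odd h.two (odd_of_pgroup (by norm_num) hR.2.1) ▸
        le_inf ((commutator_mono (le_syl_of_norm h.syl hQ.2.1 le_top (hQ.1.trans inf_le_left))
          le_rfl).trans (commutator_le_left_of_le_normalizer hR'.1))
          (commutator_le_right_of_le_normalizer (hQ.1.trans inf_le_right))))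
    · exact fun x hx => e x ⟨(hQ.1 hx).2, h.N_Y (hP.1 hφ) (φ_ne o) (hQ.1 hx).1⟩
        (odd_orderOf_of_mem (odd_of_pgroup q2 hQ.2.1) hx))
  obtain ⟨ρ, r1, r2, -, n, hn, r3⟩ := h.rho (U_ne (hP.1 hφ) (φ_ne o))
  have e1 := h.eq_N (B := 𝒩 S ⊓ 𝒞₁ a ⊔ CfsgH1.resIn 7 (𝒩 S)) le_sup_left
    (sup_le inf_le_left (CfsgH1.resIn_le _)) (mem_sup_right (CfsgH1.mem_resIn
      (conj_mem_of_mem_norm (le_normalizer hn) r1.2) (Nat.Coprime.coprime_dvd_left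
        (orderOf_dvd_of_pow_eq_one (n := 3) (by rw [conj_pow, r2]; simp)) (by norm_num)))) r3
  have e2 := CfsgH2.card_sup_mul_card_inf (H := 𝒩 S ⊓ 𝒞₁ a)
    (inf_le_left.trans (CfsgH1.le_normalizer_resIn (p := 7) (𝒩 S)))
  rw [e1, h.card_N, mul_comm 7, mul_assoc] at e2
  exact pn ⟨_, (Nat.eq_of_mul_eq_mul_left Nat.card_pos e2).symm⟩

theorem five (hR : IsSylowOf r R ⊤) (ea : EA r 2 R) (h5 : r = 5) (d : 5 ∣ #L) : False := by
  subst h5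
  obtain ⟨v, hv, s, hs, v1, s1, vs⟩ := h.exists_vs
  have t := h.to_at (U_ne (hP.1 hφ) (φ_ne o)) hv hs v1 s1 vs
  obtain ⟨e, q, p, Q, A, w, l⟩ := specBSW0 G _ _ _ _ t.toBH
  have m := (h.modEq hP hφ o hv hs v1 s1 vs).2
  have a1 := t.card_oc
  have a2 := l.q_eq
  have a3 := l.card_X
  have a4 := t.six
  rw [← t.oc_eq] at a1
  rw [Nat.ModEq] at m
  obtain ⟨k, hk⟩ := d
  rcases l.sign with rfl | rfl
  · haveI := Fact.mk l.prime
    obtain ⟨n, hn⟩ := (isPGroup_of_isElementaryAbelian l.elem).exists_card_eq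
    rw [l.card_Q] at hn
    obtain rfl := (Nat.prime_dvd_prime_iff_eq Nat.prime_five l.prime).1
      (Nat.prime_five.dvd_of_dvd_pow (hn ▸ (by omega : 5 ∣ q)))
    have n2 : 2 ≤ n := by
      by_contra e
      interval_cases n <;> omega
    have b1 := ((pow_dvd_pow 5 n2).trans (hn ▸ l.card_Q ▸ card_dvd_of_le l.ccQ.le : 5 ^ n ∣ #L))
    have b2 := card_dvd_of_le (le_top : L ⊔ zpowers φ ≤ ⊤)
    rw [CfsgH2.card_sup_zpowers (h.U_norm (hP.1 hφ)) Nat.prime_five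
      (by rw [← o, pow_orderOf_eq_one]; exact one_mem _)
      fun e => φ_ne o (mem_bot.1 (h.U_inf.le ⟨hP.1 hφ, e⟩)), ← CfsgH2.card_mul_relIndex hR.1,
      ea.2] at b2
    exact hR.2.2 (Nat.dvd_of_mul_dvd_mul_left (by norm_num : 0 < 5 ^ 2)
      ((Nat.mul_dvd_mul_right b1 5).trans b2))
  · obtain ⟨j, rfl⟩ : ∃ j, q = 5 * j + 3 := ⟨q / 5, by omega⟩
    rw [hk, show (5 * j + 3) ^ 2 - 1 = 25 * j ^ 2 + 30 * j + 8 by
      rw [show (5 * j + 3) ^ 2 = 25 * j ^ 2 + 30 * j + 8 + 1 by ring, Nat.add_sub_cancel],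
      show (5 * j + 3) * (25 * j ^ 2 + 30 * j + 8) = 5 * (25 * j ^ 3 + 45 * j ^ 2 + 26 * j + 4) + 4
        by ring] at a3
    omega

theorem false_of : False := by
  obtain ⟨R, hR, le⟩ := CfsgH2.exists_isSylowOf_ge hP.2.1 le_top
  have fin := rank_two (R := R) h.c h.syl h.sq (r_ne hP hφ o) hR
  have pr : ∀ {n : ℕ}, r ∣ n → n ∣ 175560 → r = 3 ∨ r = 5 ∨ r = 7 ∨ r = 11 ∨ r = 19 := fun d d' => by
    have := (Nat.mem_primeFactors_of_ne_zero (by norm_num)).2 ⟨hp.out, d.trans d'⟩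
    have r2 := r_ne hP hφ o
    simp only [Nat.primeFactors, Nat.primeFactorsList_ofNat, List.toFinset_cons] at this
    simp at this
    omega
  rcases h.cases_Y (hP.1 hφ) (φ_ne o) with e | ⟨K, L', V, H, a', t, k1, k2, k3, k4⟩
  · have hc := e ▸ h.card_N_dvd (U_ne (hP.1 hφ) (φ_ne o))
    obtain ⟨d, ea⟩ := h.sylR hP hφ o hc (by norm_num) hR le
    rcases pr d (by norm_num) with e | e | e | e | e
    · exact fin ea (le hφ) (φ_ne o) (h.norm_φ hP hφ o) (Or.inl e)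
    · rw [e] at d; norm_num at d
    · exact h.seven hP hφ o (hc.trans (Nat.mul_dvd_mul_right (by norm_num) _)) e
    all_goals rw [e] at d; norm_num at d
  obtain ⟨-, c1, c2⟩ := specJ1 G K L' V H a' t
  have hc : #(𝒞₁ φ) ∣ 175560 * #(Oc (𝒞 S)) := (card_dvd_of_le k3).trans (by
    rw [sup_comm, mul_comm, ← c1]
    exact card_sup_dvd_of_le_normalizer ((pPrimeCoreOf_le.trans ((centralizer_le_normalizer _).trans
      (h.N_Y (hP.1 hφ) (φ_ne o)))).trans k2))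
  obtain ⟨d, ea⟩ := h.sylR hP hφ o hc dvd_rfl hR le
  have big : r = 11 ∨ r = 19 → False := fun e => by
    have sK := (hR.mono (ea.le_centralizer.trans (cent_le_c1 (le hφ))) le_top).inf_of_normal k1 k2
    obtain ⟨y, hy, oy⟩ := BW.exists_orderOf (T := R ⊓ K) hp.out
      ((hp.out.dvd_mul.1 (CfsgH2.card_mul_relIndex sK.1 ▸ c1 ▸ d)).resolve_right sK.2.2)
    obtain ⟨g, g1, g2, g3, g4⟩ := c2 y hy.2 (oy ▸ e)
    have dp := ea.dp_of_ne (zpowers_le.2 (le hφ)) (zpowers_le.2 hy.1) (by rw [Nat.card_zpowers, o])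
      (by rw [Nat.card_zpowers, oy]) fun e => φ_ne o (mem_bot.1 (t.simp.inf_cent.le
        ⟨zpowers_le.2 hy.2 (e ▸ mem_zpowers φ), le_c1_iff.1 k1⟩))
    refine fin ea (le hφ) (φ_ne o) (h.norm_φ hP hφ o) (Or.inr ⟨g, ⟨?_, k1 g1⟩, g2,
      fun e => g4 (mem_cent_iff.1 e y hy.1)⟩)
    rw [← dp.sup_eq]
    refine CfsgH2.le_normalizer_sup (le_norm_zp (zpowers_le.2 (k1 g1))) (zpowers_le_norm
      (mem_normalizer_fintype ?_)) (mem_zpowers g)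
    rintro _ ⟨n, rfl⟩
    exact (by simpa only [conj_zpow] using zpow_mem g3 n : g * y ^ n * g⁻¹ ∈ zpowers y)
  rcases pr d dvd_rfl with e | e | e | e | e
  · exact fin ea (le hφ) (φ_ne o) (h.norm_φ hP hφ o) (Or.inl e)
  · exact h.five hP hφ o hR ea e k4
  · exact h.seven hP hφ o hc e
  · exact big (Or.inl e)
  · exact big (Or.inr e)

end JJ

theorem specJP : SpecJP.{u} := fun G _ _ c cII ⟨S, hS, ea, tr, a, ha, a1, ns⟩ => by
  obtain ⟨L, hL⟩ := exists_c2 ns (c.ag.mono le_top)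
  have h : JJ S L a := ⟨c, cII, hS, ea, tr, ha, a1, hL⟩
  have hU : Oc (𝒞 S) = ⊥ := by
    by_contra e
    obtain ⟨r, hr, d⟩ := Nat.exists_prime_and_dvd (mt card_eq_one.1 e)
    haveI := Fact.mk hr
    obtain ⟨P, hP⟩ := CfsgH2.exists_isSylowOf r (Oc (𝒞 S))
    obtain ⟨φ, hφ, o⟩ := BW.exists_orderOf (T := P) hr
      ((hr.dvd_mul.1 (CfsgH2.card_mul_relIndex hP.1 ▸ d)).resolve_right hP.2.2)
    exact h.false_of hP hφ o
  obtain ⟨v, hv, s, hs, v1, s1, vs⟩ := h.exists_vs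
  rcases h.kf.four_cases h.pk.syl h.T_eq.2 with ⟨H, e⟩ | e
  · exact Or.inl ⟨L, _, H, a, h.cl hU, e, h.T_eq.2⟩
  · exact Or.inr ⟨L, a, _, v, s, h.cl hU, e v hv v1 s hs s1 vs⟩

end CfsgAG
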