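import Cfsg.Agent.AG.V4d

/-!
Simple groups with Sylow 2-subgroups of type `V₄`: the order formulas.
-/

set_option autoImplicit false
set_option linter.unusedSectionVars false

namespace CfsgAG

open Subgroup CfsgFT CfsgH4 Cfsg
open scoped ComplexConjugate commutatorElement

variable {G : Type*} [Group G] [Finite G]

theorem sum_four {ι : Type*} {S : Finset ι} (h : S.card = 4) : ∃ a ∈ S, ∃ b ∈ S, ∃ c ∈ S, ∃ d ∈ S,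
    ∀ {M : Type} [AddCommMonoid M] (f : ι → M), ∑ x ∈ S, f x = f a + f b + f c + f d := by
  classical
  obtain ⟨a, b, c, d, h1, h2, h3, h4, h5, h6, rfl⟩ := Finset.card_eq_four.1 h
  refine ⟨a, by simp, b, by simp, c, by simp, d, by simp, fun f => ?_⟩
  rw [Finset.sum_insert (by simp [*]), Finset.sum_insert (by simp [*]), Finset.sum_pair h6]
  abel

theorem hada {a₁ a₂ a₃ a₄ b₁ b₂ b₃ b₄ y₁ y₂ y₃ y₄ : ℤ} (h1 : a₁ = 1 ∨ a₁ = -1)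
    (h2 : a₂ = 1 ∨ a₂ = -1) (h3 : a₃ = 1 ∨ a₃ = -1) (h4 : a₄ = 1 ∨ a₄ = -1) (k1 : b₁ = 1 ∨ b₁ = -1)
    (k2 : b₂ = 1 ∨ b₂ = -1) (k3 : b₃ = 1 ∨ b₃ = -1) (k4 : b₄ = 1 ∨ b₄ = -1)
    (e1 : a₁ + a₂ + a₃ + a₄ = 0) (e2 : b₁ + b₂ + b₃ + b₄ = 0)
    (e3 : a₁ * b₁ + a₂ * b₂ + a₃ * b₃ + a₄ * b₄ = 0) (e4 : y₁ + y₂ + y₃ + y₄ = 0)
    (e5 : a₁ * y₁ + a₂ * y₂ + a₃ * y₃ + a₄ * y₄ = 0)
    (e6 : b₁ * y₁ + b₂ * y₂ + b₃ * y₃ + b₄ * y₄ = 0) (hy : y₁ ≠ 0) :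
    ((a₁ * b₁ * y₁ : ℤ) : ℂ) * ((1 + a₁ + b₁ : ℂ) ^ 2 / y₁ + (1 + a₂ + b₂ : ℂ) ^ 2 / y₂ +
      (1 + a₃ + b₃ : ℂ) ^ 2 / y₃ + (1 + a₄ + b₄ : ℂ) ^ 2 / y₄) = 8 := by
  have hy' : (y₁ : ℂ) ≠ 0 := Int.cast_ne_zero.2 hy
  obtain ⟨rfl, rfl, rfl⟩ : a₂ * b₂ * (a₁ * b₁ * y₁) = y₂ ∧ a₃ * b₃ * (a₁ * b₁ * y₁) = y₃ ∧
      a₄ * b₄ * (a₁ * b₁ * y₁) = y₄ := by
    rcases h1 with rfl | rfl <;> rcases h2 with rfl | rfl <;> rcases h3 with rfl | rfl <;>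
    rcases h4 with rfl | rfl <;> (try omega) <;>
    rcases k1 with rfl | rfl <;> rcases k2 with rfl | rfl <;> rcases k3 with rfl | rfl <;>
    rcases k4 with rfl | rfl <;> omega
  clear e4 e5 e6
  rcases h1 with rfl | rfl <;> rcases h2 with rfl | rfl <;> rcases h3 with rfl | rfl <;>
    rcases h4 with rfl | rfl <;> (try omega) <;>
    rcases k1 with rfl | rfl <;> rcases k2 with rfl | rfl <;> rcases k3 with rfl | rfl <;>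
    rcases k4 with rfl | rfl <;> (try omega) <;>
    push_cast <;> field_simp <;> norm_num

theorem eq_sum_of_nrm {H : Subgroup G} {S : Finset (G → ℂ)} (h : ONorm H S)
    (hS : ∀ α ∈ S, α ∈ CF H) {f : G → ℂ} (hf : f ∈ CF H)
    (e : nrm H f = ∑ α ∈ S, ‖ip H f α‖ ^ 2) : f = ∑ α ∈ S, ip H f α • α := by
  have h1 := nrm_add_of_orth (H := H) (f := f - ∑ α ∈ S, ip H f α • α)
    (g := ∑ α ∈ S, ip H f α • α) (by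
      rw [ip_sum_right]
      exact Finset.sum_eq_zero fun α hα => by rw [ip_smul_right, h.ip_sub_proj f hα, mul_zero])
  rw [sub_add_cancel, h.nrm_sum, ← e, right_eq_add] at h1
  exact sub_eq_zero.1 (eq_zero_of_nrm_eq_zero (sub_mem hf (sum_mem fun α hα =>
    Submodule.smul_mem _ _ (hS α hα))) h1)

namespace VS

variable {t s ρ : G} {K : Subgroup G} (h : VS t s ρ K)
include h

theorem four {l : G → ℂ} (hl : l ∈ Lin K) (hs : s ∈ stab l) :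
    ∃ S : Finset (G → ℂ), S.card = 4 ∧ ONorm ⊤ S ∧ Th t l = ∑ ψ ∈ S, ψ ∧
      ∀ ψ ∈ S, DIrr ⊤ ψ ∧ ip K (sh t ψ) l = 1 := by
  obtain ⟨S, h1, h2, h3, h4⟩ := exists_four (h.Th_mem hl hs) (h.nrm_Th hl hs) (h.Th_one hl)
  exact ⟨S, h1, h2, h4, fun ψ hψ => ⟨(h3 ψ hψ).1, by
    rw [← h.ip_Th hl (vc_mem_CF (h3 ψ hψ).1.mem_VC), ← conj_ip, (h3 ψ hψ).2, map_one]⟩⟩

theorem single {l : G → ℂ} (hl : l ∈ Lin K) (hs : s ∈ stab l)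
    (hρ : ∀ u ∈ K ⊓ 𝒞₁ s, l (ρ⁻¹ * u * ρ) = l u) :
    ∃ (S : Finset (G → ℂ)) (y : (G → ℂ) → ℤ), S.card = 4 ∧ Th t l = ∑ ψ ∈ S, ψ ∧
      (∀ ψ ∈ S, DIrr ⊤ ψ ∧ (∀ g ∈ K, ψ (t * g) = l g) ∧ y ψ % 4 = 1 ∧
        (y ψ = 1 ↔ ψ = CfsgFT.one ⊤)) ∧ ∑ ψ ∈ S, y ψ = 0 ∧
      ((𝒞₁ t).index : ℚ) * ∑ ψ ∈ S, (y ψ : ℚ)⁻¹ = 8 * ((K ⊓ 𝒞₁ s).relIndex K : ℚ) ^ 2 := by
  obtain ⟨S, h1, -, h2, h3⟩ := h.four hl hs
  have h4 : ∀ ψ ∈ S, ∀ g ∈ K, ψ (t * g) = l g := fun ψ hψ g hg => by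
    simpa [(h3 ψ hψ).2] using h.proj (Λ := {l}) (by simpa using ⟨hl, hs⟩) (by simpa using hρ)
      (h3 ψ hψ).1 (Finset.mem_singleton_self l) ((h3 ψ hψ).2 ▸ one_ne_zero) hg
  have h5 : ∀ ψ ∈ S, ψ t = 1 := fun ψ hψ => by simpa [(mem_Lin.1 hl).2] using h4 ψ hψ 1 K.one_mem
  choose! y hy using fun ψ (hψ : ψ ∈ S) => vc_one (h3 ψ hψ).1.mem_VC
  refine ⟨S, y, h1, h2, fun ψ hψ => ⟨(h3 ψ hψ).1, h4 ψ hψ, ?_, fun e => ?_, fun e => ?_⟩, ?_, ?_⟩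
  · have hc := (vc_mem_CF (h3 ψ hψ).1.mem_VC).2 ρ (mem_top ρ)
    obtain ⟨n, hn⟩ := four_dvd_sum h.tt h.ss h.comm h.t_ne h.s_ne h.ts_ne (mem_top t) (mem_top s)
      (h3 ψ hψ).1.mem_VC
    rw [← h.comm, ← h.ρs, hc, ← h.ρt, hc, h5 ψ hψ, hy ψ hψ] at hn
    have : y ψ + 1 + 1 + 1 = 4 * n := by exact_mod_cast hn
    omega
  · have h6 : ψ 1 = 1 := by rw [hy ψ hψ, e, Int.cast_one]
    exact h.simp.lin_eq_one (mem_Lin.2 ⟨mem_Irr_of_vc (h3 ψ hψ).1.mem_VC (h3 ψ hψ).1.nrm_eq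
      (by simp [h6]), h6⟩)
  · have := hy ψ hψ
    rw [e, one_apply_one] at this
    exact_mod_cast (e ▸ this).symm
  · have := h.Th_one hl
    rw [h2, Finset.sum_apply, Finset.sum_congr rfl hy] at this
    exact_mod_cast this
  · have := h.sum_div hl hs (fun ψ hψ => (h3 ψ hψ).1) h2
    rw [Finset.sum_congr rfl fun ψ hψ => by rw [h5 ψ hψ, hy ψ hψ, one_pow, one_div]] at this
    apply Rat.cast_injective (α := ℂ)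
    push_cast
    exact this

theorem le15 : (𝒞₁ t).index ≤ 15 * (K ⊓ 𝒞₁ s).relIndex K ^ 2 := by
  classical
  obtain ⟨S, y, h1, h2, h3, h4, h5⟩ := h.single (one_mem_Lin K) (fun x => by
    by_cases hx : x ∈ K
    · rw [one_apply_of_mem hx, one_apply_of_mem (h.conj_mem h.s_mem hx)]
    · rw [one_apply_of_notMem hx, one_apply_of_notMem
        (mt (mem_normalizer_iff.1 (h.le_norm h.s_mem) x).2 hx)]) fun u hu => by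
    rw [one_apply_of_mem hu.1, one_apply_of_mem (h.conj_mem_U.2 hu).1]
  have h6 : CfsgFT.one ⊤ ∈ S := by
    by_contra hn
    have h7 := h.ip_Th (one_mem_Lin K) (one_mem_CF ⊤)
    rw [h2, ip_sum_right, Finset.sum_eq_zero fun ψ hψ => ?_, ip_congr (f' := CfsgFT.one K)
      (g' := CfsgFT.one K) fun x hx => by simp [sh, one_top, one_apply_of_mem hx],
      (oNorm_Irr K).norm _ (one_mem_Irr K)] at h7
    · exact zero_ne_one h7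
    rcases DIrr.ip_cases (Or.inl (one_mem_Irr ⊤)) (h3 ψ hψ).1 with e | e | e
    · exact absurd (e.1 ▸ hψ) hn
    · have h8 := congrFun e.1 (t * 1)
      rw [Pi.neg_apply, (h3 ψ hψ).2.1 1 K.one_mem, one_apply_one, one_top] at h8
      norm_num at h8
    · exact e.2.2
  obtain ⟨a, b, c, e1, e2, e3, e⟩ := Finset.card_eq_three.1
    ((Finset.card_erase_of_mem h6).trans (by rw [h1]))
  have h7 : ∀ ψ ∈ ({a, b, c} : Finset _), y ψ % 4 = 1 ∧ y ψ ≠ 1 := fun ψ hψ => by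
    obtain ⟨h8, h9⟩ := Finset.mem_erase.1 (e ▸ hψ)
    exact ⟨(h3 ψ h9).2.2.1, mt (h3 ψ h9).2.2.2.1 h8⟩
  rw [← Finset.add_sum_erase _ _ h6, e, Finset.sum_insert (by simp [*]), Finset.sum_pair e3,
    (h3 _ h6).2.2.2.2 rfl] at h4 h5
  have h8 := arith_ge (h7 a (by simp)).1 (h7 b (by simp)).1 (h7 c (by simp)).1 (h7 a (by simp)).2
    (h7 b (by simp)).2 (h7 c (by simp)).2 (by omega)
  have h9 : (0 : ℚ) ≤ (𝒞₁ t).index := Nat.cast_nonneg _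
  have : ((𝒞₁ t).index : ℚ) ≤ 15 * ((K ⊓ 𝒞₁ s).relIndex K : ℚ) ^ 2 := by
    push_cast at h5
    nlinarith [mul_le_mul_of_nonneg_left h8 h9]
  exact_mod_cast this

theorem eq15 {l : G → ℂ} (hl : l ∈ Lin K) (hs : s ∈ stab l) (hne : l ≠ CfsgFT.one K)
    (hρ : ∀ u ∈ K ⊓ 𝒞₁ s, l (ρ⁻¹ * u * ρ) = l u) :
    (𝒞₁ t).index = 15 * (K ⊓ 𝒞₁ s).relIndex K ^ 2 := by
  refine le_antisymm h.le15 ?_
  obtain ⟨S, y, h1, h2, h3, h4, h5⟩ := h.single hl hs hρ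
  have h6 : ∀ ψ ∈ S, y ψ ≠ 1 := fun ψ hψ e => hne (funext fun x => by
    by_cases hx : x ∈ K
    · rw [← (h3 ψ hψ).2.1 x hx, (h3 ψ hψ).2.2.2.1 e, one_top, one_apply_of_mem hx, Pi.one_apply]
    · rw [(lin_mem_CF hl).1 x hx, one_apply_of_notMem hx])
  obtain ⟨a, ha, b, hb, c, hc, d, hd, e⟩ := sum_four h1
  rw [e] at h4 h5
  have h8 := arith_le (h3 a ha).2.2.1 (h3 b hb).2.2.1 (h3 c hc).2.2.1 (h3 d hd).2.2.1 (h6 a ha)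
    (h6 b hb) (h6 c hc) (h6 d hd) h4
  have h9 : (0 : ℚ) ≤ (𝒞₁ t).index := Nat.cast_nonneg _
  have : 15 * ((K ⊓ 𝒞₁ s).relIndex K : ℚ) ^ 2 ≤ ((𝒞₁ t).index : ℚ) := by
    nlinarith [mul_le_mul_of_nonneg_left h8 h9]
  exact_mod_cast this

theorem mem_stab_of_le {l : G → ℂ} (hl : l ∈ Lin K) (hc : ⁅K, zpowers s⁆ ≤ cfker K l) :
    s ∈ stab l := fun x => by
  by_cases hx : x ∈ K
  · rw [← (hc (commutator_mem_commutator hx (mem_zpowers s))).2 (s * x * s⁻¹),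
      commutatorElement_def]
    congr 1; group
  · rw [(lin_mem_CF hl).1 x hx, (lin_mem_CF hl).1 _
      (mt (mem_normalizer_iff.1 (h.le_norm h.s_mem) x).2 hx)]

theorem comm_le : ⁅K, zpowers s⁆ ≤ K :=
  CfsgH1.commutator_le_left_of_le_normalizer (zpowers_le.2 (h.le_norm h.s_mem))

theorem odd_pm {l m : G → ℂ} (hm : m ∈ Lin K) (hs : s ∈ stab m) {ψ : G → ℂ} (hψ : DIrr ⊤ ψ)
    (hl : l ∈ Lin K) (e : ip (K ⊓ 𝒞₁ s) (sh t ψ) l - ip (K ⊓ 𝒞₁ s) (sh s ψ) l = 1 - ip K (sh t ψ) m ∨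
      ip (K ⊓ 𝒞₁ s) (sh t ψ) l - ip (K ⊓ 𝒞₁ s) (sh s ψ) l = ip K (sh t ψ) m - 1) :
    ∃ a : ℤ, (a = 1 ∨ a = -1) ∧ ip K (sh t ψ) m = a := by
  have h1 := res_mem_Lin (inf_le_left : K ⊓ 𝒞₁ s ≤ K) hl
  obtain ⟨n, hn⟩ := even_sh (K := K ⊓ 𝒞₁ s) h.tt h.ss h.comm (fun e => h.t_not e.1) 
    (fun e => h.s_not e.1) (fun e => h.ts_not e.1) h1 (centralizer_le_stab (lin_mem_CF h1) fun u hu => ((h.mem u).1 hu.1).1)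
    (centralizer_le_stab (lin_mem_CF h1) fun u hu => mem_centralizer_singleton_iff.1 hu.2) le_top
    (mem_top t) (mem_top s) hψ.mem_VC
  rw [ip_res_right le_rfl, ip_res_right le_rfl] at hn
  obtain ⟨a, ha⟩ := int_sh h.tt h.t_not hm (h.le_stab hm hs h.t_mem) le_top (mem_top t) hψ.mem_VC
  have h2 := norm_ip_sq_le ⊤ ψ (Th t m)
  rw [h.ip_Th hm (vc_mem_CF hψ.mem_VC), ha, hψ.nrm_eq, h.nrm_Th hm hs, Complex.norm_intCast, sq_abs,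
    one_mul] at h2
  have h3 : a ^ 2 ≤ 4 := by exact_mod_cast h2
  have h4 : 2 * n = 1 - a ∨ 2 * n = a - 1 := by
    rw [hn, ha] at e
    exact_mod_cast e
  have h5 : -2 ≤ a ∧ a ≤ 2 := by constructor <;> nlinarith
  exact ⟨a, by omega, ha⟩

theorem triple {l₁ l₂ l₃ : G → ℂ} (h₁ : l₁ ∈ Lin K) (h₂ : l₂ ∈ Lin K) (h₃ : l₃ ∈ Lin K)
    (s₁ : s ∈ stab l₁) (s₂ : s ∈ stab l₂) (s₃ : s ∈ stab l₃)
    (e₁ : ∀ u ∈ K ⊓ 𝒞₁ s, l₁ (ρ⁻¹ * u * ρ) = l₂ u) (e₂ : ∀ u ∈ K ⊓ 𝒞₁ s, l₂ (ρ⁻¹ * u * ρ) = l₃ u)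
    (e₃ : ∀ u ∈ K ⊓ 𝒞₁ s, l₃ (ρ⁻¹ * u * ρ) = l₁ u) (o₁₂ : ip (K ⊓ 𝒞₁ s) l₁ l₂ = 0)
    (o₁₃ : ip (K ⊓ 𝒞₁ s) l₁ l₃ = 0) (o₂₃ : ip (K ⊓ 𝒞₁ s) l₂ l₃ = 0) :
    (K ⊓ 𝒞₁ s).relIndex K ^ 2 ∣ (𝒞₁ t).index := by
  classical
  have o : ∀ l ∈ Lin K, ip (K ⊓ 𝒞₁ s) l l = 1 := fun l hl => by
    have := (oNorm_Irr _).norm _ (mem_Lin.1 (res_mem_Lin (inf_le_left : K ⊓ 𝒞₁ s ≤ K) hl)).1
    rwa [ip_res_left le_rfl, ip_res_right le_rfl] at this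
  have n₁₂ : l₁ ≠ l₂ := fun e => one_ne_zero ((o _ h₂).symm.trans (e ▸ o₁₂))
  have n₁₃ : l₁ ≠ l₃ := fun e => one_ne_zero ((o _ h₃).symm.trans (e ▸ o₁₃))
  have n₂₃ : l₂ ≠ l₃ := fun e => one_ne_zero ((o _ h₃).symm.trans (e ▸ o₂₃))
  have o' : ∀ l ∈ Lin K, ∀ m ∈ Lin K, l ≠ m → ip K l m = 0 := fun l hl m hm =>
    (oNorm_Irr K).orth l (mem_Lin.1 hl).1 m (mem_Lin.1 hm).1
  have hsum : ∀ f : (G → ℂ) → ℂ, ∑ l ∈ ({l₁, l₂, l₃} : Finset _), f l = f l₁ + f l₂ + f l₃ :=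
    fun f => by rw [Finset.sum_insert (by simp [*]), Finset.sum_pair n₂₃, add_assoc]
  obtain ⟨S, h1, h2, h3, h4⟩ := h.four h₁ s₁
  have hc := fun ψ hψ => vc_mem_CF (h4 ψ hψ).1.mem_VC
  have h5 : ∀ ψ ∈ S, ∀ g ∈ K,
      ψ (t * g) = l₁ g + ip K (sh t ψ) l₂ * l₂ g + ip K (sh t ψ) l₃ * l₃ g := fun ψ hψ g hg => by
    rw [h.proj (Λ := {l₁, l₂, l₃}) (by simp [*]) (fun u hu => by
      rw [hsum, hsum, e₁ u hu, e₂ u hu, e₃ u hu]; ring) (h4 ψ hψ).1 (l₀ := l₁) (by simp)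
      ((h4 ψ hψ).2 ▸ one_ne_zero) hg, hsum, (h4 ψ hψ).2, one_mul]
  have h6 : ∀ ψ ∈ S, ∀ l, ip (K ⊓ 𝒞₁ s) (sh t ψ) l - ip (K ⊓ 𝒞₁ s) (sh s ψ) l =
      ip (K ⊓ 𝒞₁ s) (l₁ + ip K (sh t ψ) l₂ • l₂ + ip K (sh t ψ) l₃ • l₃) l -
      ip (K ⊓ 𝒞₁ s) (l₂ + ip K (sh t ψ) l₂ • l₃ + ip K (sh t ψ) l₃ • l₁) l := fun ψ hψ l => by
    congr 1 <;> refine ip_congr fun u hu => congrArg (· * _) ?_
    · exact h5 ψ hψ u hu.1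
    · have := h5 ψ hψ _ (h.conj_mem_U.2 hu).1
      rw [e₁ u hu, e₂ u hu, e₃ u hu, ← (hc ψ hψ).2 ρ (mem_top ρ)] at this
      refine Eq.trans ?_ this
      rw [sh, ← h.ρt]; congr 1; group
  simp only [ip_add_left, ip_smul_left] at h6
  choose! a ha using fun ψ (hψ : ψ ∈ S) => h.odd_pm h₂ s₂ (h4 ψ hψ).1 h₂ (Or.inr (by
    rw [h6 ψ hψ, o _ h₂, o₁₂, ip_eq_zero_comm.1 o₂₃]; ring))
  choose! b hb using fun ψ (hψ : ψ ∈ S) => h.odd_pm h₃ s₃ (h4 ψ hψ).1 h₁ (Or.inl (by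
    rw [h6 ψ hψ, o _ h₁, ip_eq_zero_comm.1 o₁₂, ip_eq_zero_comm.1 o₁₃]; ring))
  choose! y hy using fun ψ (hψ : ψ ∈ S) => vc_one (h4 ψ hψ).1.mem_VC
  have h7 : ∀ l ∈ Lin K, s ∈ stab l → ∀ c : (G → ℂ) → ℤ,
      (∀ ψ ∈ S, (c ψ = 1 ∨ c ψ = -1) ∧ ip K (sh t ψ) l = c ψ) →
      Th t l = ∑ ψ ∈ S, (c ψ : ℂ) • ψ := fun l hl hs c hcψ => by
    have h8 : ∀ ψ ∈ S, ip ⊤ (Th t l) ψ = c ψ := fun ψ hψ => by
      rw [← conj_ip, h.ip_Th hl (hc ψ hψ), (hcψ ψ hψ).2, map_intCast]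
    rw [eq_sum_of_nrm h2 hc (vc_mem_CF (h.Th_mem hl hs)) (by
      rw [h.nrm_Th hl hs, Finset.sum_congr rfl fun ψ hψ => (by
        rw [h8 ψ hψ]; rcases (hcψ ψ hψ).1 with e | e <;> simp [e] : _ = (1 : ℝ))]
      simp [h1])]
    exact Finset.sum_congr rfl fun ψ hψ => by rw [h8 ψ hψ]
  have t₂ := h7 _ h₂ s₂ a ha
  have t₃ := h7 _ h₃ s₃ b hb
  have f1 := h.ip_Th_Th h₁ s₁ h₂ s₂
  have f2 := h.ip_Th_Th h₁ s₁ h₃ s₃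
  have f3 := h.ip_Th_Th h₂ s₂ h₃ s₃
  have f4 := h.Th_one h₁
  have f5 := h.Th_one h₂
  have f6 := h.Th_one h₃
  have f7 := h.sum_div h₁ s₁ (fun ψ hψ => (h4 ψ hψ).1) h3
  rw [h3, o' _ h₁ _ h₂ n₁₂, ip_sum_left, Finset.sum_congr rfl fun ψ hψ => by
    rw [h.ip_Th h₂ (hc ψ hψ), (ha ψ hψ).2]] at f1
  rw [h3, o' _ h₁ _ h₃ n₁₃, ip_sum_left, Finset.sum_congr rfl fun ψ hψ => by
    rw [h.ip_Th h₃ (hc ψ hψ), (hb ψ hψ).2]] at f2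
  rw [t₂, o' _ h₂ _ h₃ n₂₃, ip_sum_left, Finset.sum_congr rfl fun ψ hψ => by
    rw [ip_smul_left, h.ip_Th h₃ (hc ψ hψ), (hb ψ hψ).2]] at f3
  rw [h3, Finset.sum_apply, Finset.sum_congr rfl hy] at f4
  rw [t₂, Finset.sum_apply, Finset.sum_congr rfl fun ψ hψ => by
    rw [Pi.smul_apply, hy ψ hψ, smul_eq_mul]] at f5
  rw [t₃, Finset.sum_apply, Finset.sum_congr rfl fun ψ hψ => by
    rw [Pi.smul_apply, hy ψ hψ, smul_eq_mul]] at f6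
  rw [Finset.sum_congr rfl fun ψ hψ => by
    rw [hy ψ hψ, ← mul_one t, h5 ψ hψ 1 K.one_mem, (ha ψ hψ).2, (hb ψ hψ).2, (mem_Lin.1 h₁).2,
      (mem_Lin.1 h₂).2, (mem_Lin.1 h₃).2, mul_one, mul_one]] at f7
  obtain ⟨p, hp, q, hq, r, hr, w, hw, e⟩ := sum_four h1
  rw [e] at f1 f2 f3 f4 f5 f6 f7
  have f8 := hada (ha p hp).1 (ha q hq).1 (ha r hr).1 (ha w hw).1 (hb p hp).1 (hb q hq).1
    (hb r hr).1 (hb w hw).1 (y₁ := y p) (y₂ := y q) (y₃ := y r) (y₄ := y w) (by exact_mod_cast f1)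
    (by exact_mod_cast f2) (by exact_mod_cast f3) (by exact_mod_cast f4) (by exact_mod_cast f5)
    (by exact_mod_cast f6) (by exact_mod_cast hy p hp ▸ (h4 p hp).1.apply_one_ne_zero)
  refine Int.natCast_dvd_natCast.1 ⟨a p * b p * y p, ?_⟩
  have : ((𝒞₁ t).index : ℂ) = ((K ⊓ 𝒞₁ s).relIndex K : ℂ) ^ 2 * ((a p * b p * y p : ℤ) : ℂ) := by
    linear_combination (((a p * b p * y p : ℤ) : ℂ) * f7 - (𝒞₁ t).index * f8) / 8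
  exact_mod_cast this

theorem exists_ext (hA : ⁅K, zpowers s⁆ ⊓ (K ⊓ 𝒞₁ s) = ⊥) {m : G → ℂ} (hm : m ∈ Lin (K ⊓ 𝒞₁ s)) :
    ∃ l ∈ Lin K, s ∈ stab l ∧ ∀ u ∈ K ⊓ 𝒞₁ s, l u = m u := by
  obtain ⟨l, hl, e⟩ := exists_IrrK_res_eq (X := K) (K := ⁅K, zpowers s⁆) (H := K ⊓ 𝒞₁ s)
    (le_antisymm (sup_le h.comm_le inf_le_left) fun x hx => by
      obtain ⟨y, z, hy, hy', hz, hz', rfl⟩ := CfsgBS.exists_cent_mul_inv h.ss h.odd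
        (fun x hx => by simpa [h.sinv] using h.conj_mem h.s_mem hx) hx
      refine mul_mem (mem_sup_right ⟨hy, mem_centralizer_singleton_iff.2 hy'.symm⟩) (mem_sup_left
        (CfsgH1.mem_of_pow_mem_of_coprime (n := 2) (Nat.coprime_two_right.2 ((h.mem z).1 hz).2) ?_))
      convert commutator_mem_commutator hz (mem_zpowers s) using 1
      rw [commutatorElement_def, ← hz', h.sinv, pow_two]
      simp only [mul_assoc, h.ss, mul_one]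
      rw [← mul_assoc s, h.ss, one_mul])
    (inf_le_left.trans (normalizer_commutator_ge_left _ _))
    (mem_IrrK.2 ⟨(mem_Lin.1 hm).1, hA ▸ bot_le⟩)
  have h1 : ∀ u ∈ K ⊓ 𝒞₁ s, l u = m u := fun u hu => by rw [← e, res_apply_of_mem _ hu]
  have h2 : l ∈ Lin K := mem_Lin.2 ⟨(mem_IrrK.1 hl).1, (h1 1 (one_mem _)).trans (mem_Lin.1 hm).2⟩
  exact ⟨l, h2, h.mem_stab_of_le h2 (mem_IrrK.1 hl).2, h1⟩

theorem dvd_index (hA : ⁅K, zpowers s⁆ ⊓ (K ⊓ 𝒞₁ s) = ⊥) (hU : K ⊓ 𝒞₁ s ≠ ⊥) :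
    (K ⊓ 𝒞₁ s).relIndex K ^ 2 ∣ (𝒞₁ t).index := by
  set U := K ⊓ 𝒞₁ s with hUe
  have hρ : ρ ∈ 𝒩 U := inv_mem_iff.1 (mem_normalizer_iff.2 fun u => by
    rw [inv_inv]; exact h.conj_mem_U.symm)
  have hn : ∀ l ∈ Lin K, ∃ l' ∈ Lin K, s ∈ stab l' ∧ ∀ u ∈ U, l (ρ⁻¹ * u * ρ) = l' u := fun l hl => by
    have h1 := mem_Lin.1 (res_mem_Lin (inf_le_left : U ≤ K) hl)
    obtain ⟨l', h2, h3, h4⟩ := h.exists_ext hA (mem_Lin.2 ⟨cjf_mem_Irr_of_mem_normalizer hρ h1.1,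
      by simpa using h1.2⟩)
    exact ⟨l', h2, h3, fun u hu => by
      rw [h4 u hu, cjf_apply, res_apply_of_mem _ (h.conj_mem_U.2 hu)]⟩
  obtain ⟨m, hm, -, hm1⟩ := exists_lin_ne_one (H := U) (N := ⊥) (CfsgL0.odd_solvable
    (h.odd.of_dvd_nat (card_dvd_of_le inf_le_left))) (bot_lt_iff_ne_bot.2 hU)
    fun x _ => mem_normalizer_iff.2 (by simp)
  obtain ⟨l₁, h₁, s₁, e₀⟩ := h.exists_ext hA hm
  obtain ⟨l₂, h₂, s₂, e₁⟩ := hn l₁ h₁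
  obtain ⟨l₃, h₃, s₃, e₂⟩ := hn l₂ h₂
  have e₃ : ∀ u ∈ U, l₃ (ρ⁻¹ * u * ρ) = l₁ u := fun u hu => by
    have h1 : ρ * ρ * ρ ∈ 𝒞₁ t := mem_centralizer_singleton_iff.2 (mul_inv_eq_iff_eq_mul.1 (by
      calc _ = ρ * (ρ * (ρ * t * ρ⁻¹) * ρ⁻¹) * ρ⁻¹ := by group
        _ = t := by rw [h.ρt, h.ρs, h.ρts]))
    rw [← e₂ _ (h.conj_mem_U.2 hu), ← e₁ _ (h.conj_mem_U.2 (h.conj_mem_U.2 hu)),
      ← h.le_stab h₁ s₁ h1]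
    congr 1; group
  by_cases hc : ∀ u ∈ U, l₁ u = l₂ u
  · rw [h.eq15 h₁ s₁ (fun e => hm1 (funext fun x => ?_)) fun u hu => (e₁ u hu).trans (hc u hu).symm]
    · exact dvd_mul_left _ _
    by_cases hx : x ∈ U
    · rw [← e₀ x hx, e, one_apply_of_mem hx, one_apply_of_mem hx.1]
    · rw [(lin_mem_CF hm).1 x hx, one_apply_of_notMem hx]
  have o : ∀ l ∈ Lin K, ∀ l' ∈ Lin K, ¬ (∀ u ∈ U, l u = l' u) → ip U l l' = 0 := fun l hl l' hl' e => by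
    have := (oNorm_Irr _).orth _ (mem_Lin.1 (res_mem_Lin (inf_le_left : U ≤ K) hl)).1 _
      (mem_Lin.1 (res_mem_Lin (inf_le_left : U ≤ K) hl')).1 fun e' => e fun u hu => by
        rw [← res_apply_of_mem l hu, e', res_apply_of_mem _ hu]
    rwa [ip_res_left le_rfl, ip_res_right le_rfl] at this
  refine h.triple h₁ h₂ h₃ s₁ s₂ s₃ e₁ e₂ e₃ (o _ h₁ _ h₂ hc) (o _ h₁ _ h₃ fun e => hc fun u hu => ?_)
    (o _ h₂ _ h₃ fun e => hc fun u hu => ?_)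
  · rw [← e₁ u hu, e _ (h.conj_mem_U.2 hu), e₃ u hu]
  · have h1 := (mem_normalizer_iff.1 hρ u).1 hu
    have h2 := (e₁ _ h1).trans ((e _ h1).trans (e₂ _ h1).symm)
    rwa [show ρ⁻¹ * (ρ * u * ρ⁻¹) * ρ = u by group] at h2

end VS

theorem specV4 : SpecV4 := by
  intro G _ _ t s K U h
  obtain ⟨ρ, h1, h2⟩ := h.exists_rho
  rw [h.U_eq]
  refine ⟨(h.vs h1 h2).le15, fun ρ h1 h2 h3 h4 => ?_, (h.vs h1 h2).dvd_index⟩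
  have h5 := h.vs h1 h2
  obtain ⟨l, hl, hc, hne⟩ := exists_lin_ne_one (CfsgL0.odd_solvable h5.odd)
    (lt_of_le_of_ne h5.comm_le h4) (normalizer_commutator_ge_left _ _)
  exact h5.eq15 hl (h5.mem_stab_of_le hl hc) hne fun u hu => by
    rw [mul_assoc, ← h3 u hu, inv_mul_cancel_left]

end CfsgAG
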