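import Cfsg.Agent.AG.B

/-! WP W1: 2-rank at least three, case (I). -/

set_option autoImplicit false

namespace CfsgAG

open Subgroup CfsgFT CfsgL0
open scoped commutatorElement

universe u

namespace W1

section
variable {G : Type*} [Group G] [Finite G]

theorem good_cj {t : G} {p : ℕ} {M : Subgroup G} (h : Good t p M) (g : G) :
    Good (g * t * g⁻¹) p (cj g M) := by
  haveI := Fact.mk h.prime
  have e : ⁅pCoreOf p (cj g M), zpowers (g * t * g⁻¹)⁆ = cj g ⁅pCoreOf p M, zpowers t⁆ := by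
    rw [cj_commutator, cj_pCoreOf, CfsgH1.cj_zpowers]
  refine ⟨conj_ne_one h.t_ne, conj_inv h.tt, h.prime, h.odd, isCoatom_cj h.coatom g, ?_, ?_, ?_⟩
  · rw [← cj_centralizer_singleton]; exact cj_mono g h.cent
  · rw [e, Ne, cj_eq_bot_iff]; exact h.ne
  · rw [e, ← cj_normalizer]; exact cj_mono g h.norm

theorem odd_pgroup {p : ℕ} [hp : Fact p.Prime] (h2 : p ≠ 2) {P : Subgroup G} (hP : IsPGroup p P) :
    Odd #P := by
  obtain ⟨n, hn⟩ := hP.exists_card_eq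
  rw [hn]
  exact (hp.out.odd_of_ne_two h2).pow

omit [Finite G] in
theorem cent_le_norm {A : Subgroup G} : 𝒞 A ≤ 𝒩 A := le_normalizer_of_le_centralizer le_rfl

omit [Finite G] in
theorem norm_inf {A B X : Subgroup G} (hA : X ≤ 𝒩 A) (hB : X ≤ 𝒩 B) : X ≤ 𝒩 (A ⊓ B) := by
  intro g hg
  rw [mem_normalizer_iff_cj, cj_inf, cj_eq_of_mem_normalizer (hA hg),
    cj_eq_of_mem_normalizer (hB hg)]

omit [Finite G] in
theorem norm_comm {A B X : Subgroup G} (hA : X ≤ 𝒩 A) (hB : X ≤ 𝒩 B) : X ≤ 𝒩 ⁅A, B⁆ := by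
  intro g hg
  rw [mem_normalizer_iff_cj, cj_commutator, cj_eq_of_mem_normalizer (hA hg),
    cj_eq_of_mem_normalizer (hB hg)]

theorem c1_le_norm_zpowers (v : G) : 𝒞₁ v ≤ 𝒩 (zpowers v) := by
  rw [← CfsgFT.centralizer_zpowers]; exact cent_le_norm

omit [Finite G] in
theorem le_c1 {S : Subgroup G} (hc : S ≤ 𝒞 S) {v : G} (hv : v ∈ S) : S ≤ 𝒞₁ v :=
  fun s hs => mem_c1.2 (le_cent_iff.1 hc s hs v hv)

/-- the elements inverted by `t` in `[R, t] ∩ C(u)` lie in `O_p(Y)` -/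
theorem comm_le_left {R : Subgroup G} {t : G} (hn : t ∈ 𝒩 R) : ⁅R, zpowers t⁆ ≤ R :=
  commutator_le_left_of_le_normalizer (zpowers_le_norm hn)

end

variable {G : Type u} [Group G] [Finite G]

/-- a subgroup of `[O_p(M), τ]` inside `Y ∋ τ` lies in `O_p(Y)` -/
theorem le_pCore (c : Ctx G) {p : ℕ} [Fact p.Prime] (hp : p ≠ 2) {M Y X : Subgroup G} {τ : G}
    (hτ : τ * τ = 1) (hM : 𝒞₁ τ ≤ M) (hY : Y ≠ ⊤) (hτY : τ ∈ Y)
    (hX : X ≤ ⁅pCoreOf p M, zpowers τ⁆) (hXY : X ≤ Y) : X ≤ pCoreOf p Y := by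
  have hτM : τ ∈ M := hM (mem_c1.2 rfl)
  have hn : τ ∈ 𝒩 (pCoreOf p M) := le_normalizer_pCoreOf hτM
  have hXR : X ≤ pCoreOf p M := hX.trans (comm_le_left hn)
  have hi := inv_of_mem_comm (c.ag.comm (isPGroup_pCoreOf (p := p) (H := M)) le_top) hτ hn
  have e := comm_eq_of_inv (odd_pgroup hp (isPGroup_pCoreOf.to_le hXR)) fun y hy => hi y (hX hy)
  rw [← e]
  exact (commutator_mono (le_inf hXR hXY) le_rfl).trans (star c hp hτ hM hY hτY)

/-- the standing hypotheses -/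
structure St (S M : Subgroup G) (t : G) (p : ℕ) : Prop where
  c : Ctx G
  good : Good t p M
  syl : IsSylowOf 2 S ⊤
  t_mem : t ∈ S
  rank : ∃ E ≤ S, EA 2 3 E

variable {S M : Subgroup G} {t : G} {p : ℕ}

theorem St.two (h : St S M t p) : IsPGroup 2 S := h.syl.2.1

theorem St.comm (h : St S M t p) : S ≤ 𝒞 S := h.c.ag.comm h.two le_top

theorem St.S_le (h : St S M t p) : S ≤ M := (le_c1 h.comm h.t_mem).trans h.good.cent

theorem St.ne (h : St S M t p) : M ≠ ⊤ := h.good.coatom.1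

protected theorem St.cj (h : St S M t p) {n : G} (hn : n ∈ 𝒩 S) :
    St S (cj n M) (n * t * n⁻¹) p :=
  ⟨h.c, good_cj h.good n, h.syl, conj_mem_of_mem_norm hn h.t_mem, h.rank⟩

theorem St.norm_R1 (h : St S M t p) : S ≤ 𝒩 ⁅pCoreOf p M, zpowers t⁆ := by
  haveI := Fact.mk h.good.prime
  exact norm_comm (h.S_le.trans le_normalizer_pCoreOf)
    ((le_c1 h.comm h.t_mem).trans (c1_le_norm_zpowers t))

theorem St.R1_le (h : St S M t p) : ⁅pCoreOf p M, zpowers t⁆ ≤ pCoreOf p M := by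
  haveI := Fact.mk h.good.prime
  exact comm_le_left (le_normalizer_pCoreOf (h.S_le h.t_mem))

theorem St.odd_R1 (h : St S M t p) : Odd #⁅pCoreOf p M, zpowers t⁆ := by
  haveI := Fact.mk h.good.prime
  exact odd_pgroup h.good.odd (isPGroup_pCoreOf.to_le h.R1_le)

/-- two good triples for the same `S` and `p` have the same `M` -/
theorem St.eq (h : St S M t p) {M' : Subgroup G} {t' : G} (h' : St S M' t' p) : M = M' := by
  haveI := Fact.mk h.good.prime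
  obtain ⟨E, hES, hE⟩ := h.rank
  have hE2 : IsPGroup 2 E := h.two.to_le hES
  have hEc : IsMulCommutative E := hE.1.1
  obtain ⟨C, hC, n1⟩ : ∃ C, CfsgH2.IsCocyclic C E ∧ ⁅pCoreOf p M, zpowers t⁆ ⊓ 𝒞 C ≠ ⊥ := by
    by_contra hh
    push Not at hh
    exact h.good.ne (le_bot_iff.1 (CfsgH2.le_of_cocyclic hEc (hES.trans h.norm_R1)
      (coprime_two_of_odd hE2 h.odd_R1) fun a ha => (hh a ha).le))
  have hsq : ∀ v ∈ E, v * v = 1 := fun v hv => by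
    rw [← pow_two]
    exact hE.1.2 v hv
  have h4 : 4 ≤ #C := by
    have d := hC.relIndex_dvd (n := 2) hEc fun a ha => by rw [pow_two]; exact hsq a ha
    have e := CfsgH1.card_mul_relIndex hC.1
    rw [hE.2] at e
    have := Nat.le_of_dvd two_pos d
    nlinarith
  obtain ⟨u, hu, hu1, n2⟩ : ∃ u ∈ C, u ≠ 1 ∧ ⁅pCoreOf p M', zpowers t'⁆ ⊓ 𝒞₁ u ≠ ⊥ := by
    by_contra hh
    push Not at hh
    exact h'.good.ne (le_bot_iff.1 (le_bot_of_cent (fun v hv => hsq v (hC.1 hv)) h4 h'.odd_R1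
      (hC.1.trans (hES.trans h'.norm_R1)) fun v hv h1 => (hh v hv h1).le))
  have huS : u ∈ S := hES (hC.1 hu)
  have n1' : ⁅pCoreOf p M, zpowers t⁆ ⊓ 𝒞₁ u ≠ ⊥ := fun e => n1 (le_bot_iff.1 (e ▸
    inf_le_inf_left _ (centralizer_le (by simpa using hu))))
  set X := ⁅pCoreOf p M, zpowers t⁆ ⊓ 𝒞₁ u
  set X' := ⁅pCoreOf p M', zpowers t'⁆ ⊓ 𝒞₁ u
  have hSu : S ≤ 𝒞₁ u := le_c1 h.comm huS
  have hY : 𝒞₁ u ≠ ⊤ := h.c.simp.cent_ne_top hu1
  have hX : X ≤ pCoreOf p (𝒞₁ u) :=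
    le_pCore h.c h.good.odd h.good.tt h.good.cent hY (hSu h.t_mem) inf_le_left inf_le_right
  have hX' : X' ≤ pCoreOf p (𝒞₁ u) :=
    le_pCore h.c h.good.odd h'.good.tt h'.good.cent hY (hSu h'.t_mem) inf_le_left inf_le_right
  have nX : S ≤ 𝒩 X := norm_inf h.norm_R1 (hSu.trans le_normalizer)
  have nX' : S ≤ 𝒩 X' := norm_inf h'.norm_R1 (hSu.trans le_normalizer)
  have a1 : 𝒩 X ≤ M := h.good.norm_le h.c
    ((inf_le_left.trans h.R1_le).trans (pCoreOf_le_fittingOf p)) n1' (nX h.t_mem)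
  have a2 : X' ≤ M := (hX'.trans ((h.c.ag.comm isPGroup_pCoreOf le_top).trans
    ((cent_anti hX).trans cent_le_norm))).trans a1
  have a3 : X' ≤ pCoreOf p M :=
    le_pCore h.c h.good.odd h'.good.tt h'.good.cent h.ne (h.S_le h'.t_mem) inf_le_left a2
  have a4 : 𝒩 X' ≤ M := h.good.norm_le h.c (a3.trans (pCoreOf_le_fittingOf p)) n2 (nX' h.t_mem)
  have a5 : gfOf M' ≤ M := ((h.c.ag.mono le_top).gf_le_cent.trans ((cent_anti
    ((inf_le_left.trans h'.R1_le).trans (pCoreOf_le_fittingOf p))).trans cent_le_norm)).trans a4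
  have a6 : M ≤ M' := h'.good.le h.c h.ne (h.S_le h'.t_mem) a5
  exact (h.good.coatom.le_iff.1 a6).resolve_left h'.ne |>.symm

/-- `N(S) ≤ M` -/
theorem St.N_le (h : St S M t p) : 𝒩 S ≤ M := by
  intro n hn
  have e := h.eq (h.cj hn)
  have h0 : M ≠ ⊥ := fun e => h.good.t_ne (mem_bot.1 (e ▸ h.S_le h.t_mem))
  rw [← h.c.simp.norm_eq h.good.coatom h0 le_rfl le_normalizer, mem_normalizer_iff_cj]
  exact e.symm

theorem St.cent_cj (h : St S M t p) {v n : G} (hv : 𝒞₁ v ≤ M) (hn : n ∈ 𝒩 S) :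
    𝒞₁ (n * v * n⁻¹) ≤ M := by
  rw [← cj_centralizer_singleton]
  exact cj_le_of_mem (h.N_le hn) hv

/-- every `Ω`-invariant subgroup of odd order lies in `M` -/
theorem St.odd_le (h : St S M t p) {D : Subgroup G} (hD : Odd #D) (hn : S ≤ 𝒩 D) : D ≤ M := by
  have hO : IsElementaryAbelian 2 (Om 2 S) := elem_Om_two h.comm
  refine CfsgH2.le_of_cocyclic hO.1 (Om_le.trans hn)
    (coprime_two_of_odd (h.two.to_le Om_le) hD) fun W hW => ?_
  obtain ⟨n, hn, hW'⟩ := lemmaH h.c.simp.perfect h.syl h.comm hW h.t_mem h.good.tt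
  exact (inf_le_right.trans (centralizer_le (by simpa using hW'))).trans
    (h.cent_cj h.good.cent hn.2)

theorem St.oc_le (h : St S M t p) {X : Subgroup G} (hn : S ≤ 𝒩 X) : Oc X ≤ M :=
  h.odd_le (odd_oc X) (hn.trans normalizer_le_normalizer_pPrimeCoreOf)

theorem St.syl_of (h : St S M t p) {Y : Subgroup G} (hY : S ≤ Y) : IsSylowOf 2 S Y :=
  h.syl.mono hY le_top

theorem St.agN (h : St S M t p) : AG (𝒩 S) := h.c.ag.mono le_top

/-- if `C_X(T) ≤ M` for some `T ≤ T_X` then `X ≤ M` -/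
theorem St.le_of_cT (h : St S M t p) {X T : Subgroup G} (hX : PK S X) (hT : T ≤ S ⊓ CO X)
    (hM : cT X T ≤ M) : X ≤ M :=
  (hX.le_sup_cent h.c hT).trans (sup_le (h.oc_le hX.norm) hM)

theorem St.le_of_cent (h : St S M t p) {X T : Subgroup G} (hX : PK S X) (hT : T ≤ S ⊓ CO X)
    (hM : 𝒞 T ≤ M) : X ≤ M :=
  h.le_of_cT hX hT (piResidualOf_le.trans (inf_le_right.trans hM))

theorem St.not_CO (h : St S M t p) {X : Subgroup G} (hX : PK S X) (hM : ¬ X ≤ M) {v : G}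
    (hv : v ∈ S) (hC : 𝒞₁ v ≤ M) : v ∉ CO X := fun hv' =>
  hM (h.le_of_cent hX (T := zpowers v) (zpowers_le.2 ⟨hv, hv'⟩) (by rwa [CfsgFT.centralizer_zpowers]))

theorem St.bad (hSE : SpecSE.{u}) (h : St S M t p) {X : Subgroup G} (hX : PK S X)
    (hM : ¬ X ≤ M) : Ty2 X ∧ Group.IsSolvable (X ⊓ M : Subgroup G) :=
  (hX.le_or hSE h.c (h.oc_le hX.norm) (inf_le_right.trans h.N_le) h.t_mem
    (h.not_CO hX hM h.t_mem h.good.cent) (inf_le_right.trans h.good.cent)).resolve_left hM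

/-- an involution of `S` with centraliser not in `M` gives a bad 2-component -/
theorem St.exists_bad (h : St S M t p) {u : G} (hu : u ∈ S) (h1 : u ≠ 1) (hC : ¬ 𝒞₁ u ≤ M) :
    ∃ X, PK S X ∧ ¬ X ≤ M ∧ u ∈ CO X := by
  by_contra hh
  push Not at hh
  have hY : 𝒞₁ u ≠ ⊤ := h.c.simp.cent_ne_top h1
  have hS := h.syl_of (le_c1 h.comm hu)
  refine hC (gen_le h.c hY hS (h.oc_le ((le_c1 h.comm hu).trans le_normalizer))
    (inf_le_right.trans h.N_le) fun K hK => ?_)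
  by_contra hKM
  refine hh K (hK.pk h.c hY hS) hKM (cent_le_CO (mem_cent_iff.2 fun b hb => ?_))
  exact (mem_c1.1 (hK.le hb)).symm

/-- a torus transitive on `S^#` -/
theorem St.all_of_tor (h : St S M t p) {V T : Subgroup G} {g : G} (hs : Spl S V T)
    (ht : Tor S V T g) (h0 : T = ⊥) {u : G} (hu : u ∈ S) (h1 : u ≠ 1) : 𝒞₁ u ≤ M := by
  have e : V = S := by rw [← hs.sup, h0, sup_bot_eq]
  obtain ⟨i, hi⟩ := ht.trans t (e ▸ h.t_mem) h.good.t_ne u (e ▸ hu) h1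
  rw [← hi]
  exact h.cent_cj h.good.cent (pow_mem ht.norm i)

variable {u : G}

theorem St.T_ne (h : St S M t p) (hu : u ∈ S) (h1 : u ≠ 1) (hC : ¬ 𝒞₁ u ≤ M) {X : Subgroup G}
    (hX : PK S X) : S ⊓ CO X ≠ ⊥ := fun h0 => by
  obtain ⟨g, -, hg⟩ := hX.tor h.c
  exact hC (h.all_of_tor (hX.spl h.c) hg h0 hu h1)

theorem St.reg (hSE : SpecSE.{u}) (h : St S M t p) (hu : u ∈ S) (h1 : u ≠ 1) (hC : ¬ 𝒞₁ u ≤ M)
    {X : Subgroup G} (hX : PK S X) (hM : ¬ X ≤ M) : Reg S (S ⊓ X) (S ⊓ CO X) := by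
  refine (hX.reg_or_exc h.c h.syl).resolve_right ?_
  rintro ⟨E, β, he⟩
  have h0 : S ⊓ 𝒞₁ β ≠ ⊥ := fun h0 => hC (h.all_of_tor he.spl he.tor h0 hu h1)
  obtain ⟨b, hb, hb1⟩ := (S ⊓ 𝒞₁ β).bot_or_exists_ne_one.resolve_left h0
  obtain ⟨J, hJ, hle, hty, -⟩ := hX.exc_pump h.c h.syl he hb hb1
  have hP : PK S J := hJ.pk h.c (h.c.simp.cent_ne_top hb1) (h.syl_of (le_c1 h.comm hb.1))
  have hJM : J ≤ M := by
    by_contra hJM
    exact (h.bad hSE hP hJM).1.not_tyJ hty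
  exact hM (h.le_of_cT hX le_rfl (hle.trans hJM))

/-- `S_X` centralises the layer of `M` -/
theorem St.layer_le (hSE : SpecSE.{u}) (h : St S M t p) (hu : u ∈ S) (h1 : u ≠ 1)
    (hC : ¬ 𝒞₁ u ≤ M) {X : Subgroup G} (hX : PK S X) (hM : ¬ X ≤ M) :
    layerOf M ≤ 𝒞 (S ⊓ X) := by
  rw [layerOf_le_iff]
  intro J hJ
  have hJ2 : C2 M J := c2_of_comp hJ
  have hP : PK S J := hJ2.pk h.c h.ne (h.syl_of h.S_le)
  have hs : Simp J := (h.c.ag.mono le_top).simp_of_comp hJ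
  rcases reg_reg h.agN (hX.spl h.c) (hP.spl h.c) (h.reg hSE hu h1 hC hX hM)
    (hJ2.reg h.c h.syl h.ne h.N_le) with ⟨e1, e2⟩ | ⟨e1, -⟩
  · exfalso
    set T := S ⊓ CO X with hT
    have hT0 : T ≠ ⊥ := h.T_ne hu h1 hC hX
    obtain ⟨b, hb, hb1⟩ := T.bot_or_exists_ne_one.resolve_left hT0
    have hY : 𝒞 T ≠ ⊤ := fun e => h.c.simp.cent_ne_top hb1
      (top_le_iff.1 (e ▸ centralizer_le (by simpa using hb)))
    have hST : S ≤ 𝒞 T := h.comm.trans (cent_anti inf_le_left)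
    have hS := h.syl_of hST
    have p1 : PK S (cT X T) := hX.cT h.c le_rfl
    have p2 : PK S (cT J T) := hP.cT h.c e2.le
    obtain ⟨K1, hK1, l1⟩ := pump h.c hY hS p1.pqs (piResidualOf_le.trans inf_le_right) p1.norm
    obtain ⟨K2, hK2, l2⟩ := pump h.c hY hS p2.pqs (piResidualOf_le.trans inf_le_right) p2.norm
    have hV0 : S ⊓ X ≠ ⊥ := fun e => by
      have := (hX.spl h.c).four
      rw [e, card_bot] at this
      omega
    obtain ⟨v, hv, hv1⟩ := (S ⊓ X).bot_or_exists_ne_one.resolve_left hV0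
    have m1 : v ∈ cT X T := (hX.inf_cT h.c (T := T) le_rfl ▸ hv : v ∈ S ⊓ cT X T).2
    have m2 : v ∈ cT J T := (hP.inf_cT h.c (T := T) e2.le ▸ e1 ▸ hv : v ∈ S ⊓ cT J T).2
    have e := hK1.eq_of_mem h.c hY hK2 (l1 m1) (l2 m2) hv1 ((hX.spl h.c).sq v hv)
    subst e
    have hKM : ¬ K1 ≤ M := fun hh => hM (h.le_of_cT hX le_rfl (l1.trans hh))
    have hsol := (h.bad hSE (hK1.pk h.c hY hS) hKM).2
    exact p2.not_solvable (CfsgH2.isSolvable_of_le (le_inf l2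
      (piResidualOf_le.trans (inf_le_left.trans hJ2.le))) hsol)
  · rw [CO_eq_cent hs.oc] at e1
    exact le_centralizer_symm (e1.trans inf_le_right)

/-- `S_X` is generated by elements with centraliser in `M` -/
theorem St.le_Z (h : St S M t p) {X Z : Subgroup G} (hX : PK S X) (hM : ¬ X ≤ M)
    (hZ : ∀ n ∈ 𝒩 S, n * t * n⁻¹ ∈ Z) : S ⊓ X ≤ Z := by
  obtain ⟨g, -, hg⟩ := hX.tor h.c
  have hs := hX.spl h.c
  set Z0 : Subgroup G := closure {x | ∃ n ∈ 𝒩 S, x = n * t * n⁻¹} with hZ0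
  have l0 : Z0 ≤ Z := (closure_le _).2 (by rintro _ ⟨n, hn, rfl⟩; exact hZ n hn)
  have n0 : g ∈ 𝒩 Z0 := by
    refine mem_normalizer_of_cj_le ?_
    rw [hZ0, CfsgH1.cj_closure, closure_le]
    rintro _ ⟨_, ⟨n, hn, rfl⟩, rfl⟩
    exact subset_closure ⟨g * n, mul_mem hg.norm hn, by group⟩
  have n1 : g ∈ 𝒩 (S ⊓ X ⊓ Z0) := by
    rw [mem_normalizer_iff_cj, cj_inf, cj_eq_of_mem_normalizer hg.normV,
      cj_eq_of_mem_normalizer n0]
  rcases hg.irr inf_le_left n1 with e | e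
  · exfalso
    have m1 : ⁅t, g⁆ ∈ S ⊓ X := by
      rw [← hg.comm_eq hs]
      exact commutator_mem_commutator h.t_mem (mem_zpowers g)
    have m2 : ⁅t, g⁆ ∈ Z0 := by
      have : ⁅t, g⁆ = (1 * t * 1⁻¹) * (g * t * g⁻¹)⁻¹ := by
        rw [commutatorElement_def]; group
      rw [this]
      exact mul_mem (subset_closure ⟨1, one_mem _, rfl⟩)
        (inv_mem (subset_closure ⟨g, hg.norm, rfl⟩))
    have m3 : ⁅t, g⁆ = 1 := mem_bot.1 (e ▸ ⟨m1, m2⟩)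
    have m4 : t ∈ S ⊓ 𝒞₁ g := ⟨h.t_mem, mem_c1.2 (commutatorElement_eq_one_iff_mul_comm.1 m3)⟩
    rw [hg.cent_eq hs] at m4
    exact h.not_CO hX hM h.t_mem h.good.cent m4.2
  · exact (e ▸ inf_le_right : S ⊓ X ≤ Z0).trans l0

/-- the elements of `N(W)` acting trivially on `R` modulo `W` -/
def modSub (R W : Subgroup G) : Subgroup G where
  carrier := {s | s ∈ 𝒩 W ∧ ∀ r ∈ R, r * s * r⁻¹ * s⁻¹ ∈ W}
  one_mem' := ⟨one_mem _, fun r _ => by simpa using W.one_mem⟩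
  mul_mem' := by
    rintro a b ⟨ha, ha'⟩ ⟨hb, hb'⟩
    refine ⟨mul_mem ha hb, fun r hr => ?_⟩
    have : r * (a * b) * r⁻¹ * (a * b)⁻¹ =
        (r * a * r⁻¹ * a⁻¹) * (a * (r * b * r⁻¹ * b⁻¹) * a⁻¹) := by group
    rw [this]
    exact mul_mem (ha' r hr) (conj_mem_of_mem_norm ha (hb' r hr))
  inv_mem' := by
    rintro a ⟨ha, ha'⟩
    refine ⟨inv_mem ha, fun r hr => ?_⟩
    have : r * a⁻¹ * r⁻¹ * a⁻¹⁻¹ = a⁻¹ * (r * a * r⁻¹ * a⁻¹)⁻¹ * a⁻¹⁻¹ := by group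
    rw [this]
    exact conj_mem_of_mem_norm (inv_mem ha) (inv_mem (ha' r hr))

/-- `C(S_X) ≤ M` -/
theorem St.cent_le (hSE : SpecSE.{u}) (h : St S M t p) (hu : u ∈ S) (h1 : u ≠ 1)
    (hC : ¬ 𝒞₁ u ≤ M) {X : Subgroup G} (hX : PK S X) (hM : ¬ X ≤ M) : 𝒞 (S ⊓ X) ≤ M := by
  haveI := Fact.mk h.good.prime
  have hs := hX.spl h.c
  set V := S ⊓ X with hV
  set W : Subgroup G := ⨆ b : {b // b ∈ V ∧ b ≠ 1}, Oc (𝒞₁ b.1) with hW
  have hWM : W ≤ M := iSup_le fun b =>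
    h.oc_le ((le_c1 h.comm b.2.1.1).trans le_normalizer)
  have nW : 𝒞 V ≤ 𝒩 W := by
    intro g hg
    refine mem_normalizer_of_cj_le ?_
    rw [cj_le_iff_le_cj_inv]
    refine iSup_le fun b => ?_
    rw [← cj_le_iff_le_cj_inv, cj_eq_of_mem_normalizer
      (le_normalizer_pPrimeCoreOf (mem_c1.2 (mem_cent_iff.1 hg b.1 b.2.1)))]
    exact le_iSup (fun b : {b // b ∈ V ∧ b ≠ 1} => Oc (𝒞₁ b.1)) b
  have hSV : S ≤ 𝒞 V := h.comm.trans (cent_anti inf_le_left)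
  have key : ∀ (q : ℕ) [Fact q.Prime], q ≠ 2 → ∀ τ ∈ S, τ * τ = 1 → 𝒞₁ τ ≤ M →
      ⁅pCoreOf q M, zpowers τ⁆ ≤ W := by
    intro q _ hq τ hτ hττ hτM
    have nR : S ≤ 𝒩 (pCoreOf q M) := h.S_le.trans le_normalizer_pCoreOf
    refine le_bot_of_cent hs.sq hs.four
      (odd_pgroup hq (isPGroup_pCoreOf.to_le (comm_le_left (nR hτ))))
      (inf_le_left.trans (norm_comm nR ((le_c1 h.comm hτ).trans (c1_le_norm_zpowers τ))))
      fun b hb hb1 => ?_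
    refine (le_pCore h.c hq hττ hτM (h.c.simp.cent_ne_top hb1) (le_c1 h.comm hb.1 hτ)
      inf_le_left inf_le_right).trans ?_
    refine (le_oc pCoreOf_le le_normalizer_pCoreOf (odd_pgroup hq isPGroup_pCoreOf)).trans ?_
    exact le_iSup (fun b : {b // b ∈ V ∧ b ≠ 1} => Oc (𝒞₁ b.1)) ⟨b, hb, hb1⟩
  have hW0 : W ≠ ⊥ := fun e => h.good.ne
    (le_bot_iff.1 (e ▸ key p h.good.odd t h.t_mem h.good.tt h.good.cent))
  have hW1 : W ≠ ⊤ := fun e => h.ne (top_le_iff.1 (e ▸ hWM))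
  refine nW.trans (h.good.le h.c (h.c.simp.norm_ne_top hW0 hW1) (nW (hSV h.t_mem)) ?_)
  rw [gfOf_eq]
  refine sup_le ((h.layer_le hSE hu h1 hC hX hM).trans nW) (fittingOf_le_iff.2 fun q _ => ?_)
  by_cases hq : q = 2
  · subst hq
    exact ((IsSylowOf.le_of_normalizes (h.syl_of h.S_le) isPGroup_pCoreOf pCoreOf_le
      (h.S_le.trans le_normalizer_pCoreOf)).trans hSV).trans nW
  have nR : S ≤ 𝒩 (pCoreOf q M) := h.S_le.trans le_normalizer_pCoreOf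
  have hZ : V ≤ modSub (pCoreOf q M) W := h.le_Z hX hM fun n hn => by
    have hτ := conj_mem_of_mem_norm hn h.t_mem
    refine ⟨nW (hSV hτ), fun r hr => key q hq _ hτ (conj_inv h.good.tt)
      (h.cent_cj h.good.cent hn) ?_⟩
    exact commutator_mem_commutator hr (mem_zpowers _)
  rw [← CfsgH2.commutator_sup_centralizer (inf_le_left.trans nR)
    (coprime_two_of_odd (h.two.to_le inf_le_left) (odd_pgroup hq isPGroup_pCoreOf))
    (Or.inl (solv_two (h.two.to_le inf_le_left)))]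
  refine sup_le (le_trans ?_ le_normalizer) (inf_le_right.trans nW)
  rw [commutator_le]
  exact fun r hr v hv => (hZ hv).2 r hr

theorem St.eq_S (hSE : SpecSE.{u}) (h : St S M t p) (hu : u ∈ S) (h1 : u ≠ 1)
    (hC : ¬ 𝒞₁ u ≤ M) {X X' : Subgroup G} (hX : PK S X) (hM : ¬ X ≤ M) (hX' : PK S X')
    (hM' : ¬ X' ≤ M) : S ⊓ X = S ⊓ X' := by
  rcases reg_reg h.agN (hX.spl h.c) (hX'.spl h.c) (h.reg hSE hu h1 hC hX hM)
    (h.reg hSE hu h1 hC hX' hM') with ⟨e, -⟩ | ⟨e, -⟩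
  · exact e
  · exact absurd (h.le_of_cent hX' e (h.cent_le hSE hu h1 hC hX hM)) hM'

theorem St.t2 (hSE : SpecSE.{u}) (hZA : SpecZA.{u}) (h : St S M t p) : ∃ H, T2 ⊤ S H := by
  have hc := le_cent_iff.1 h.comm
  by_cases hall : ∀ u ∈ Om 2 S, u ≠ 1 → 𝒞₁ u ≤ M
  · refine hZA G h.c.simp S h.syl hc M (Om 2 S) h.ne h.N_le Om_le (fun e => h.good.t_ne ?_)
      (fun v hv => ((mem_Om_two h.comm).1 hv).2) (normalizer_le_normalizer_Om 2 S) hall
    exact mem_bot.1 (e ▸ (mem_Om_two h.comm).2 ⟨h.t_mem, h.good.tt⟩)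
  push Not at hall
  obtain ⟨u, hu, h1, hC⟩ := hall
  replace hu := Om_le hu
  obtain ⟨X, hX, hM, -⟩ := h.exists_bad hu h1 hC
  have hs := hX.spl h.c
  refine hZA G h.c.simp S h.syl hc M (S ⊓ X) h.ne h.N_le inf_le_left (fun e => ?_) hs.sq
    (fun n hn => ?_) fun v hv hv1 => ?_
  · have := hs.four
    rw [e, card_bot] at this
    omega
  · rw [mem_normalizer_iff_cj, cj_inf, cj_eq_of_mem_normalizer hn]
    refine (h.eq_S hSE hu h1 hC hX hM (hX.cj_of_mem hn) fun hh => hM ?_).symm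
    rw [cj_le_iff_le_cj_inv, cj_eq_of_mem (inv_mem (h.N_le hn))] at hh
    exact hh
  · by_contra hv'
    obtain ⟨X', hX', hM', hvX⟩ := h.exists_bad hv.1 hv1 hv'
    rw [h.eq_S hSE hu h1 hC hX hM hX' hM'] at hv
    exact hv1 (mem_bot.1 ((hX'.spl h.c).disj ▸ ⟨hv, hv.1, hvX⟩))

end W1

theorem specW1 (hSE : SpecSE.{u}) (hZA : SpecZA.{u}) : SpecW1.{u} := by
  rintro G _ _ c ⟨E, hE⟩ hII
  simp only [CaseII, not_forall] at hII
  obtain ⟨t, h1, ht, M, hM, hC, h0⟩ := hII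
  obtain ⟨p, M', hg⟩ := exists_good' c h1 ht hM hC h0
  obtain ⟨S, hS, htS⟩ := CfsgH2.exists_isSylowOf_ge (two_zpowers ht) (le_top (a := zpowers t))
  have hE2 : IsPGroup 2 E := IsPGroup.of_card hE.2
  obtain ⟨g, -, hg'⟩ := hS.exists_cj_le hE2 le_top
  exact ⟨S, W1.St.t2 hSE hZA ⟨c, hg, hS, htS (mem_zpowers t), cj g E, hg', hE.cj g⟩⟩

end CfsgAG
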