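/-
WP W2: 2-rank at least three, case (II).
-/
import Cfsg.Agent.AG.W2b

set_option autoImplicit false

namespace CfsgAG

open Subgroup CfsgFT CfsgL0
open scoped commutatorElement

universe u

variable {G : Type u} [Group G] [Finite G] {S X Y K L V T M : Subgroup G}

namespace WW

variable (h : WW S L V T)
include h

protected theorem cj {n : G} (hn : n ∈ 𝒩 S) : WW S (cj n L) (cj n V) (cj n T) where
  c := h.c
  cII := h.cII
  syl := h.syl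
  hV := by rw [← h.hV, cj_inf, cj_eq_of_mem_normalizer hn]
  hT := by rw [← h.hT, cj_inf, cj_eq_of_mem_normalizer hn, cj_CO]
  c2 := cj_centralizer n T ▸ h.c2.cj n
  reg := h.reg.cj hn
  max := by rw [card_cj]; exact h.max
  four := by rw [← cj_Om, card_cj]; exact h.four

theorem exists_v : ∃ v ∈ V, v ≠ 1 ∧ v * v = 1 := exists_inv (h.two.to_le h.V_le) fun e => by
  have := h.spl.four
  rw [e, card_bot] at this
  omega

theorem simp : Simp L := let ⟨_, hb, b1, bb⟩ := h.exists_b; (h.genuine hb b1 bb).1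

theorem CO_eq : CO L = 𝒞 L := CO_eq_cent h.simp.oc

theorem eq_of {L' T' : Subgroup G} (h' : WW S L' V T') : T = T' ∧ L = L' := by
  obtain ⟨v, hv, v1, vv⟩ := h.exists_v
  rcases reg_reg h.agN h.spl h'.spl h.reg h'.reg with ⟨-, rfl⟩ | e
  · exact ⟨rfl, h.c2.eq_of_mem h.c h.CT_ne h'.c2 (h.V_L hv) (h'.V_L hv) v1 vv⟩
  · exact absurd (mem_bot.1 (h.spl.disj.le ⟨hv, e.2 hv⟩)) v1

theorem le_T {L' V' T' : Subgroup G} (h' : WW S L' V' T') (ne : V' ≠ V) : V' ≤ T :=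
  ((reg_reg h.agN h.spl h'.spl h.reg h'.reg).resolve_left fun e => ne e.1.symm).2

theorem cj_eq {n : G} (hn : n ∈ 𝒩 S) (e : cj n V = V) : cj n T = T ∧ cj n L = L :=
  (e ▸ h.cj hn : WW S (cj n L) V (cj n T)).eq_of h

theorem comm_cj {n : G} (hn : n ∈ 𝒩 S) (ne : cj n V ≠ V) : cj n L ≤ 𝒞 L := by
  have h1 := h.cj hn
  have h2 := h.cj (mul_mem hn hn)
  obtain ⟨b, hb, b1, bb⟩ := h2.exists_v
  have a1 := h.le_T h2 fun e => ne (cj_eq_of_mem_normalizer (mem_of_sq_of_norm h.syl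
    (le_normalizer_of_le_centralizer (h.comm.trans (cent_anti h.V_le))) hn
    (mem_normalizer_iff_cj.2 e)))
  have a2 := h1.le_T h2 fun e => ne (by rwa [← cj_cj, cj_inj] at e)
  exact h.CO_eq ▸ (h.genuine (a1 hb) b1 bb).2.le_CO (h1.genuine (a2 hb) b1 bb).2
    fun e => ne (by rw [← h1.hV, ← e, h.hV])

theorem norm_L (hY : Y ≠ ⊤) (hS : S ≤ Y) (hL : C2 Y L) (hN : ∀ n ∈ Y ⊓ 𝒩 S, cj n V = V) :
    Y ≤ 𝒩 L :=
  gen_le h.c hY (h.syl.mono hS le_top)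
    (le_normalizer_of_le_centralizer (h.CO_eq ▸ hL.oc_le_CO))
    (fun n hn => mem_normalizer_iff_cj.2 (h.cj_eq hn.2 (hN n hn)).2) fun K hK => by
      by_cases e : L = K
      · exact e ▸ le_normalizer
      · exact le_normalizer_of_le_centralizer (h.CO_eq ▸ hL.le_CO hK e)

theorem fa1 (hN : ∀ n ∈ 𝒩 S, cj n V = V) : ∃ H, T2 ⊤ S H :=
  specZA G h.c.simp S h.syl (le_cent_iff.1 h.comm) (𝒩 L) (Om 2 T)
    (h.c.simp.norm_ne_top h.simp.ne_bot h.pk.ne)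
    (fun n hn => mem_normalizer_iff_cj.2 (h.cj_eq hn (hN n hn)).2) (Om_le.trans h.T_le)
    (fun e => by have := h.four; rw [e, card_bot] at this; omega)
    (fun _ hv => ((mem_Om_two h.T_comm).1 hv).2)
    (fun n hn => normalizer_le_normalizer_Om 2 T (mem_normalizer_iff_cj.2 (h.cj_eq hn (hN n hn)).1))
    fun _ hv v1 => h.norm_L (h.c.simp.cent_ne_top v1) (h.le_c1 (h.T_le (Om_le hv)))
      (h.genuine (Om_le hv) v1 ((mem_Om_two h.T_comm).1 hv).2).2 fun n hn => hN n hn.2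

theorem norm_of_cent {n₀ : G} (h0 : n₀ ∈ 𝒩 S) (ne : cj n₀ V ≠ V) {g : G}
    (hg : ∀ n ∈ 𝒩 S, cj n V ≠ V → g ∈ 𝒞 (cj n L)) : g ∈ 𝒩 L := by
  let U : Subgroup G := ⨆ n : {n // n ∈ 𝒩 S ∧ cj n V ≠ V}, cj n V
  have l : ∀ n ∈ 𝒩 S, cj n V ≠ V → cj n V ≤ U := fun n hn e =>
    le_iSup_of_le (f := fun n : {n // n ∈ 𝒩 S ∧ cj n V ≠ V} => cj (n : G) V) ⟨n, hn, e⟩ le_rfl
  have UT : U ≤ T := iSup_le fun n => h.le_T (h.cj n.2.1) n.2.2
  obtain ⟨b, hb, b1, bb⟩ := (h.cj h0).exists_v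
  have bU := l n₀ h0 ne hb
  refine h.norm_L (Y := 𝒞 U) (fun e => h.c.simp.cent_ne_top b1 (top_le_iff.1 (e ▸ cent_le_c1 bU)))
    (h.S_CT.trans (cent_anti UT)) ((h.genuine (UT bU) b1 bb).2.mono (h.c2.le.trans (cent_anti UT))
      (cent_le_c1 bU)) (fun n hn => ?_) (le_c1_iff.1 (iSup_le fun n =>
        le_c1_iff.2 (cent_anti (h.cj n.2.1).V_L (hg n n.2.1 n.2.2))))
  by_contra e
  exact e (cj_inj.1 (cj_eq_of_mem_centralizer (cent_anti (l n hn.2 e) hn.1)))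

theorem exists_le_CO {n₀ : G} (h0 : n₀ ∈ 𝒩 S) (ne : cj n₀ V ≠ V) (pK : PK S K) :
    ∃ n ∈ 𝒩 S, cj n V ≤ S ⊓ CO K := by
  obtain ⟨W, hW⟩ : ∃ W, ∀ {L V T : Subgroup G}, WW S L V T → V ≤ S ⊓ CO K ∨ V = W := by
    rcases pK.reg_or_exc h.c h.syl with r | ⟨E, β, r⟩
    · exact ⟨_, fun h => (reg_reg h.agN h.spl (pK.spl h.c) h.reg r).symm.imp (·.1) (·.1)⟩
    · exact ⟨_, fun h => (exc_reg h.agN h.spl r h.reg).imp (·.1) (·.1)⟩
  rcases hW h with e | e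
  · exact ⟨1, one_mem _, by rwa [CfsgH1.cj_one]⟩
  · exact ⟨n₀, h0, (hW (h.cj h0)).resolve_right fun e' => ne (e'.trans e.symm)⟩

theorem fa2 {n₀ : G} (h0 : n₀ ∈ 𝒩 S) (ne : cj n₀ V ≠ V) : ∃ H, T2 ⊤ S H := by
  let E : Subgroup G := ⨆ n : 𝒩 S, cj n L
  have l : ∀ n ∈ 𝒩 S, cj n L ≤ E := fun n hn =>
    le_iSup_of_le (f := fun n : 𝒩 S => cj (n : G) L) ⟨n, hn⟩ le_rfl
  have a0 : ∀ g, (∀ n ∈ 𝒩 S, cj g (cj n L) ≤ E) → g ∈ 𝒩 E := fun g hg =>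
    mem_normalizer_of_cj_le (by
      rw [cj, Subgroup.map_iSup]
      exact iSup_le fun n => hg n n.2)
  have a1 : 𝒩 S ≤ 𝒩 E := fun g hg => a0 g fun n hn => cj_cj g n L ▸ l _ (mul_mem hg hn)
  have a2 : 𝒩 E ≠ ⊤ := h.c.simp.norm_ne_top
    (fun e => h.simp.ne_bot (eq_bot_iff.2 (by simpa [e] using l 1 (one_mem _)))) fun e =>
    h.c.simp.norm_ne_top h.simp.ne_bot h.pk.ne (top_le_iff.1 (e ▸ iSup_le fun n => by
      by_cases e' : cj (n : G) V = V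
      · rw [(h.cj_eq n.2 e').2]; exact le_normalizer
      · exact le_normalizer_of_le_centralizer (h.comm_cj n.2 e')))
  have a3 : ∀ g, (∀ n ∈ 𝒩 S, cj n V ≠ V → g ∈ 𝒞 (cj n L)) → g ∈ 𝒩 E := fun g hg =>
    a0 g fun n hn => by
      by_cases e' : cj n V = V
      · rw [(h.cj_eq hn e').2, cj_eq_of_mem_normalizer (h.norm_of_cent h0 ne hg)]
        simpa using l 1 (one_mem _)
      · rw [cj_eq_of_mem_centralizer (hg n hn e')]; exact l n hn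
  have a4 : ∀ d ∈ V, d ≠ 1 → 𝒞₁ d ≤ 𝒩 E := fun d hd d1 => by
    have b : ∀ n ∈ 𝒩 S, cj n V ≠ V → C2 (𝒞₁ d) (cj n L) := fun n hn e =>
      ((h.cj hn).genuine ((h.cj hn).le_T h e.symm hd) d1 (h.spl.sq d hd)).2
    refine gen_le h.c (h.c.simp.cent_ne_top d1) (h.c.syl_c1 h.syl (h.V_le hd))
      (fun g hg => a3 g fun n hn e => (h.cj hn).CO_eq ▸ (b n hn e).oc_le_CO hg)
      (inf_le_right.trans a1) fun K hK => ?_
    by_cases e : ∃ n ∈ 𝒩 S, cj n L = K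
    · obtain ⟨n, hn, rfl⟩ := e
      exact (l n hn).trans le_normalizer
    · exact fun g hg => a3 g fun n hn e' =>
        (h.cj hn).CO_eq ▸ (b n hn e').le_CO hK (fun e' => e ⟨n, hn, e'⟩) hg
  refine specZA G h.c.simp S h.syl (le_cent_iff.1 h.comm) (𝒩 E) (Om 2 S) a2 a1 Om_le (fun e => ?_)
    (fun _ hv => ((mem_Om_two h.comm).1 hv).2) (normalizer_le_normalizer_Om 2 S) fun d hd d1 => ?_
  · obtain ⟨v, hv, v1, vv⟩ := h.exists_v
    exact v1 (mem_bot.1 (e ▸ (mem_Om_two h.comm).2 ⟨h.V_le hv, vv⟩))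
  have hS := h.c.syl_c1 h.syl (Om_le hd)
  have hY := h.c.simp.cent_ne_top d1
  have hO : Oc (𝒞₁ d) ≤ 𝒩 E := le_bot_of_cent h.spl.sq h.spl.four (odd_oc _)
    ((h.V_le.trans hS.1).trans le_normalizer_pPrimeCoreOf) fun v hv v1 =>
      inf_le_right.trans (a4 v hv v1)
  refine gen_le h.c hY hS hO (inf_le_right.trans a1) fun K hK => ?_
  have pK := hK.pk h.c hY hS
  obtain ⟨n, hn, e⟩ := h.exists_le_CO h0 ne pK
  obtain ⟨v, hv, v1, -⟩ := h.exists_v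
  refine (pK.le_sup_cent h.c e).trans (sup_le ((hK.oc.le.trans inf_le_left).trans hO)
    ((piResidualOf_le.trans inf_le_right).trans ((cent_le_c1 (conj_mem_cj n hv)).trans ?_)))
  rw [← cj_centralizer_singleton]
  exact cj_le_of_mem (a1 hn) (a4 v hv v1)

theorem t2 : ∃ H, T2 ⊤ S H := by
  by_cases e : ∀ n ∈ 𝒩 S, cj n V = V
  · exact h.fa1 e
  · push Not at e
    obtain ⟨n, hn, e⟩ := e
    exact h.fa2 hn e

end WW

theorem C2.mem_CO {u : G} (h : C2 (𝒞₁ u) K) : u ∈ CO K := cent_le_CO (le_c1_iff.1 h.le)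

theorem specW2 : SpecW2.{u} := fun G _ _ c ⟨E, hE⟩ cII => by
  obtain ⟨S, hS, hES⟩ := CfsgH2.exists_isSylowOf_ge (two_of_sq (S := E) fun v hv => by
    rw [← sq]; exact hE.1.2 v hv) le_top
  by_cases h0 : ∀ u ∈ S, u ≠ 1 → u * u = 1 → ∀ K, ¬ C2 (𝒞₁ u) K
  · exact Or.inl ⟨S, w2_solv c hS hE hES h0⟩
  push Not at h0
  have hc := c.comm hS.2.1
  have a : ∀ {u : G} {K : Subgroup G}, u ∈ S → u ≠ 1 → C2 (𝒞₁ u) K → PK S K ∧ S ⊓ CO K ≠ ⊥ :=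
    fun hu u1 hK => ⟨hK.pk c (c.simp.cent_ne_top u1) (c.syl_c1 hS hu),
      fun e => u1 (mem_bot.1 (e.le ⟨hu, hK.mem_CO⟩))⟩
  obtain ⟨X, hX, mx⟩ := Set.exists_max_image {X | PK S X ∧ S ⊓ CO X ≠ ⊥} (fun X => #(S ⊓ X))
    (Set.toFinite _) (let ⟨_, hu, u1, _, K, hK⟩ := h0; ⟨K, a hu u1 hK⟩)
  obtain ⟨u, hu, u1, uu⟩ := exists_inv (hS.2.1.to_le inf_le_left) hX.2
  have p' := hX.1.cT c le_rfl
  obtain ⟨K, hK, le⟩ := pump c (c.simp.cent_ne_top u1) (c.syl_c1 hS hu.1) p'.pqs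
    ((piResidualOf_le.trans inf_le_right).trans (cent_le_c1 hu)) p'.norm
  have pK := (a hu.1 u1 hK).1
  have mx' : ∀ X, PK S X → S ⊓ CO X ≠ ⊥ → #(S ⊓ X) ≤ #(S ⊓ K) := fun Y h1 h2 =>
    (mx Y ⟨h1, h2⟩).trans (card_le_of_le (hX.1.inf_cT c le_rfl ▸ inf_le_inf_left S le))
  have uT : u ∈ S ⊓ CO K := ⟨hu.1, hK.mem_CO⟩
  rcases pK.reg_or_exc c hS with r | ⟨E, β, r⟩
  · left
    by_cases h4 : 4 ≤ #(Om 2 (S ⊓ CO K))
    · have c2 := hK.cT c (c.simp.cent_ne_top u1) (c.syl_c1 hS hu.1) le_rfl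
      rw [inf_eq_right.2 (cent_le_c1 uT)] at c2
      exact ⟨S, WW.t2 ⟨c, cII, hS, pK.inf_cT c le_rfl, pK.CO_cT c le_rfl, c2, r, mx', h4⟩⟩
    exfalso
    have sp := pK.spl c
    have cT : S ⊓ CO K ≤ 𝒞 (S ⊓ CO K) := inf_le_left.trans (hc.trans (cent_anti inf_le_left))
    refine u1 (mem_bot.1 ((cent_norm_eq_bot c.simp.perfect hS hc).le ⟨hu.1, mem_cent_iff.2
      fun n hn => ?_⟩))
    rcases reg_reg (c.ag.mono le_top) sp (sp.cj hn.2) r (r.cj hn.2) with e | e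
    · have h1 : n * u * n⁻¹ ∈ S ⊓ CO K := e.2 ▸ conj_mem_cj n uT
      by_contra ne
      refine h4 (card_four u1 (conj_ne_one u1) (fun e => ne (by nth_rw 1 [e]; simp)) uu (conj_inv uu)
        (le_cent_iff.1 cT _ uT _ h1) ▸ card_le_of_le ((closure_le _).2 ?_))
      rintro _ (rfl | rfl)
      exacts [(mem_Om_two cT).2 ⟨uT, uu⟩, (mem_Om_two cT).2 ⟨h1, conj_inv uu⟩]
    · exact absurd ((sp.cj hn.2).four.trans (card_le_of_le fun v hv =>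
        (mem_Om_two cT).2 ⟨e.2 hv, (sp.cj hn.2).sq v hv⟩)) h4
  · right
    by_cases e : S ⊓ 𝒞₁ β = ⊥
    · have := r.spl.sup
      rw [e, sup_bot_eq] at this
      subst this
      exact ⟨E, hS, r.ea, fun v hv v1 w hw w1 => let ⟨i, hi⟩ := r.tor.trans v hv v1 w hw w1
        ⟨_, pow_mem r.tor.norm i, hi⟩, u, hu.1, u1,
        fun hs => pK.not_solvable (CfsgH2.isSolvable_of_le hK.le hs)⟩
    · obtain ⟨⟨b, hb⟩, b1⟩ := ne_bot_iff_exists_ne_one.1 e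
      have b1 : b ≠ 1 := fun e => b1 (Subtype.ext e)
      obtain ⟨J, j1, -, -, j2, -⟩ := pK.exc_pump c hS r hb b1
      have := mx' J (a hb.1 b1 j1).1 (a hb.1 b1 j1).2
      rw [j2, r.ea.2, r.four] at this
      omega

end CfsgAG
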