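import Cfsg.Agent.AG.F3
import Cfsg.Agent.AG.GW
import Cfsg.Agent.AG.V4e
import Cfsg.Agent.AG.W1
import Cfsg.Agent.AG.W2
import Cfsg.Agent.AG.JP
import Cfsg.Agent.AG.JL
import Cfsg.Agent.AG.JC7
import Cfsg.Agent.AG.JF

/-! The classification of the simple groups with all Sylow subgroups abelian. -/

set_option autoImplicit false

namespace CfsgAG

theorem kf_of_ag {G : Type*} [Group G] [Finite G] (hs : Simp (⊤ : Subgroup G))
    (ha : AG (⊤ : Subgroup G)) : KF (⊤ : Subgroup G) :=
  kf_top (specGW specSE specV4 specBSW) (specW1 specSE specZA) specW2 specJP specJL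
    (JC.specJC_of JC.specJF) _ G rfl hs ha

end CfsgAG
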