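import Cfsg.Agent.AG.B1
import Cfsg.Agent.AG.SE
import Cfsg.Agent.AG.BSW
import Cfsg.Agent.H4.Homo2

/-! The main induction for simple groups with all Sylow subgroups abelian. -/

set_option autoImplicit false

namespace CfsgAG

open Subgroup CfsgFT CfsgL0

universe u

theorem exists_v4 {G : Type*} [Group G] [Finite G] (hs : Simp (⊤ : Subgroup G))
    (ha : AG (⊤ : Subgroup G)) (h3 : ¬ ∃ E : Subgroup G, EA 2 3 E) :
    ∃ t s : G, V4 t s (Oc (𝒞₁ t)) (Oc (𝒞₁ t) ⊓ 𝒞₁ s) := by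
  classical
  have : Fact (Nat.Prime 2) := ⟨Nat.prime_two⟩
  obtain ⟨S⟩ : Nonempty (Sylow 2 G) := inferInstance
  have hS := CfsgH2.isSylowOf_top S
  have hc := ha.comm S.2 le_top
  have hab : CfsgH4.AbR2 S := by
    refine ⟨CfsgH1.isMulCommutative_of_le_centralizer hc, fun T hT => ?_⟩
    let W : Subgroup G :=
      { carrier := {x | x ∈ S ∧ x * x = 1}
        one_mem' := ⟨one_mem _, mul_one 1⟩
        mul_mem' := fun {a b} h1 h2 => ⟨mul_mem h1.1 h2.1, by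
          rw [mul_assoc, ← mul_assoc b, hc h1.1 b h2.1, mul_assoc, h2.2, mul_one, h1.2]⟩
        inv_mem' := fun {a} h => ⟨inv_mem h.1, by rw [← mul_inv_rev, h.2, inv_one]⟩ }
    have hW : ∀ v ∈ W, v * v = 1 := fun v hv => hv.2
    obtain ⟨n, hn⟩ := IsPGroup.iff_card.1 (two_of_sq hW)
    have h1 : T.card ≤ #W := by
      rw [← card_fs_subgroup]
      exact Finset.card_le_card_of_injOn Subtype.val (fun x hx => mem_fs.2 ⟨x.2, (pow_two _).symm.trans
        (congrArg Subtype.val (hT x hx))⟩) Subtype.val_injective.injOn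
    refine h1.trans (hn ▸ Nat.pow_le_pow_right (n := 2) (j := 2) two_pos (by_contra fun h => h3 ?_))
    obtain ⟨E, hE⟩ := Sylow.exists_subgroup_card_pow_prime (G := W) 2 (n := 3)
      (hn ▸ pow_dvd_pow 2 (by omega))
    exact ⟨E.map W.subtype, elem_of_sq fun v hv => hW v (map_subtype_le E hv), by
      rw [card_map_of_injective W.subtype_injective, hE]⟩
  have hsq : ∀ y ∈ (S : Subgroup G), y * y = 1 := fun y hy => by_contra fun h =>
    hs.not_solvable (have := CfsgH4.abR2_solvable _ G S rfl hab ⟨y, hy, by rwa [pow_two]⟩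
      inferInstance)
  have h4 : #(S : Subgroup G) ≤ 4 := by
    have := Fintype.ofFinite S
    rw [Nat.card_eq_fintype_card]
    exact hab.2 _ fun x _ => Subtype.ext ((pow_two _).trans (hsq x x.2))
  obtain ⟨t, ht, t1, tt⟩ := exists_inv S.2 fun e => hS.2.2 (by
    rw [e, relIndex_bot_left]; exact hs.even)
  obtain ⟨s, hs', s1, st⟩ : ∃ s ∈ (S : Subgroup G), s ≠ 1 ∧ t ≠ s := by
    by_contra! h
    refine t1 (mem_bot.1 (cent_norm_eq_bot hs.perfect hS hc ▸ ⟨ht, mem_cent_iff.2 fun n hn => ?_⟩))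
    exact (mul_inv_eq_iff_eq_mul.1 (h _ (conj_mem_of_mem_norm hn.2 ht) (conj_ne_one t1)).symm).symm
  have h5 := card_four t1 s1 st tt (hsq s hs') (hc hs' t ht)
  have h6 : closure {t, s} = (S : Subgroup G) := eq_of_le_of_card_ge
    ((closure_le _).2 (by rintro x (rfl | rfl); exacts [ht, hs'])) (h5 ▸ h4)
  exact ⟨t, s, hs, t1, s1, st, tt, hsq s hs', hc hs' t ht, h6 ▸ hS, rfl, rfl⟩

theorem kf_step (hGW : SpecGW.{u}) (hW1 : SpecW1.{u}) (hW2 : SpecW2.{u}) (hJP : SpecJP.{u})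
    (hJL : SpecJL.{u}) (hJC : SpecJC.{u}) {G : Type u} [Group G] [Finite G] (c : Ctx G) :
    KF (⊤ : Subgroup G) := by
  by_cases h3 : ∃ E : Subgroup G, EA 2 3 E
  · by_cases h2 : CaseII G
    · rcases hW2 G c h3 h2 with h | h
      · exact Or.inl h
      rcases hJP G c h2 h with h | ⟨L, a, K, t, s, hc, ht⟩
      · exact Or.inr (Or.inr h)
      obtain ⟨e, q, p, Q, A, w, l⟩ := specBSW G L K t s ht.toBH
      exact (hJC G c.ag L a K t s hc ht e q p Q A w l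
        (hJL G c L a K t s hc ht e q p Q A w l)).elim
    · exact Or.inl (hW1 G c h3 h2)
  · obtain ⟨t, s, h⟩ := exists_v4 c.simp c.ag h3
    exact hGW G c t s _ _ h

theorem kf_top (hGW : SpecGW.{u}) (hW1 : SpecW1.{u}) (hW2 : SpecW2.{u}) (hJP : SpecJP.{u})
    (hJL : SpecJL.{u}) (hJC : SpecJC.{u}) (n : ℕ) : ∀ (G : Type u) [Group G] [Finite G],
    Nat.card G = n → Simp (⊤ : Subgroup G) → AG (⊤ : Subgroup G) → KF (⊤ : Subgroup G) := by
  induction n using Nat.strong_induction_on with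
  | _ n ih =>
    rintro G _ _ rfl hs ha
    exact kf_step hGW hW1 hW2 hJP hJL hJC ⟨hs, ha, fun Γ _ _ hlt X ha hs =>
      (ih _ ((card_le_card_group X).trans_lt hlt) X rfl (hs.tr topEquiv.symm)
        (ha.tr topEquiv.symm)).tr topEquiv⟩

variable {G : Type u} [Group G] [Finite G]

omit [Finite G] in
theorem simp_top [IsSimpleGroup G] (hna : ¬ IsMulCommutative G) : Simp (⊤ : Subgroup G) :=
  ⟨topEquiv.isSimpleGroup, by_contra fun h => hna ⟨⟨fun a b => by_contra fun e =>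
    h ⟨a, mem_top a, b, mem_top b, e⟩⟩⟩⟩

omit [Finite G] in
theorem ag_top (hA : ∀ (p : ℕ), p.Prime → ∀ (P : Sylow p G), IsMulCommutative ↥P) :
    AG (⊤ : Subgroup G) := fun p hp P _ hP a ha b hb => by
  obtain ⟨Q, hQ⟩ := hP.exists_le_sylow
  exact CfsgH2.isMulCommutative_iff.1 (hA p hp Q) a (hQ ha) b (hQ hb)

theorem KF.cases {X : Subgroup G} (h : KF X) : (∃ L V H a, TJ X L V H a) ∨
    ∃ q, 3 < q ∧ (q % 8 = 0 ∨ q % 8 = 3 ∨ q % 8 = 5) ∧ IsL2 X q := by
  rcases h with ⟨S, H, h⟩ | ⟨K, t, s, h⟩ | h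
  · by_cases h4 : #S = 4
    · exact Or.inr ⟨5, by norm_num, by norm_num, (specA5 G X S H h h4).2⟩
    have : Fact (Nat.Prime 2) := ⟨Nat.prime_two⟩
    obtain ⟨n, hn⟩ := IsPGroup.iff_card.1 h.two
    have h1 := h.four
    refine Or.inr ⟨_, by omega, Or.inl (Nat.mod_eq_zero_of_dvd ?_), h.iso⟩
    rw [hn] at h1 h4 ⊢
    obtain _ | _ | _ | n := n
    · omega
    · omega
    · omega
    · exact pow_dvd_pow 2 (by omega : 3 ≤ _)
  · obtain ⟨e, q, p, Q, A, w, l⟩ := specBSW G X K t s h.toBH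
    have h1 := l.sign
    have h2 := l.q_eq
    have h3 := h.six
    have h4 := h.mod
    exact Or.inr ⟨q, by omega, by omega, l.iso⟩
  · exact Or.inl h

theorem s2554_of (h : KF (⊤ : Subgroup G)) : Cfsg.Spor.IsoJ1 G ∨
    ∃ (F : Type) (_ : Field F) (_ : Fintype F), 3 < Fintype.card F ∧
      (Fintype.card F % 8 = 0 ∨ Fintype.card F % 8 = 3 ∨ Fintype.card F % 8 = 5) ∧
      Nonempty (G ≃* Matrix.ProjectiveSpecialLinearGroup (Fin 2) F) := by
  rcases h.cases with ⟨L, V, H, a, h⟩ | ⟨q, h1, h2, F, _, _, rfl, ⟨e⟩⟩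
  · obtain ⟨e⟩ := (specJ1 G ⊤ L V H a h).1
    exact Or.inl ⟨topEquiv.symm.trans e⟩
  · exact Or.inr ⟨F, _, _, h1, h2, ⟨topEquiv.symm.trans e⟩⟩

end CfsgAG
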