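import Cfsg.Agent.AG.F1
import Cfsg.Agent.AG.F2

/-! Automorphisms of prime power order of simple A-groups centralising a Sylow subgroup. -/

set_option autoImplicit false

namespace CfsgAG

open Subgroup CfsgFT CfsgL0

universe u

variable {G : Type u} [Group G] [Finite G]

theorem TJ.exists_pow_cent {X L V H : Subgroup G} {a : G} (h : TJ X L V H a) {α : G}
    (hα : α ∈ 𝒩 X) : ∃ x ∈ X, ∃ k : ℕ, (α * x) ^ 2 ^ k ∈ 𝒞 X := by
  have : Fact (Nat.Prime 2) := ⟨Nat.prime_two⟩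
  have hLX : L ≤ X := h.L_le.trans inf_le_left
  have key : ∀ β : G, α⁻¹ * β ∈ X → ∀ x ∈ X, α⁻¹ * (x * β) ∈ X := fun β hβ x hx => by
    convert X.mul_mem (conj_mem_of_mem_norm (inv_mem hα) hx) hβ using 1; group
  obtain ⟨g, hg, e⟩ := h.conj _ (conj_mem_of_mem_norm hα h.a_mem) (conj_ne_one h.a_ne) (conj_inv h.aa)
  have h1 : g⁻¹ * α ∈ 𝒞₁ a := mem_c1.2 (by
    calc _ = g⁻¹ * (α * a * α⁻¹) * α := by group
      _ = _ := by rw [← e]; group)
  have h2 := key α (by simp) _ (inv_mem hg)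
  generalize g⁻¹ * α = β at h1 h2
  have hn : ∀ β ∈ 𝒞₁ a, α⁻¹ * β ∈ X → β ∈ 𝒩 X ∧ β ∈ 𝒩 L := fun β h1 h2 => by
    have h3 : β ∈ 𝒩 X := (mul_mem_cancel_left (inv_mem hα)).1 (le_normalizer h2)
    have h4 : cj β L ≤ L ⊔ zpowers a := h.toCL.cent_eq ▸ (cj_le_of_mem_normalizer
      (CfsgH2.le_normalizer_inf (A := zpowers β) (zpowers_le.2 h3) (zpowers_le.2 (le_normalizer h1))
        (mem_zpowers β)) h.L_le)
    refine ⟨h3, mem_normalizer_of_cj_le ?_⟩
    rw [← h.t2.simp.perfect, cj_commutator, h.t2.simp.perfect]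
    exact (commutator_mono h4 h4).trans (comm_sup_zpowers_le h.toCL.a_norm)
  obtain ⟨l, hl, e1⟩ := (h.t2.syl.cj_of_mem_normalizer (hn β h1 h2).2).exists_cj_eq h.t2.syl
  have h3 : l * β ∈ 𝒩 V := mem_normalizer_iff_cj.2 (by rw [← cj_cj]; exact e1)
  have h4 := mul_mem (h.L_le hl).2 h1
  have h5 := key β h2 l (hLX hl)
  generalize l * β = γ at h3 h4 h5
  obtain ⟨v, hv, v1, vv⟩ := exists_inv h.t2.two fun e => by simpa [e] using h.card_V
  obtain ⟨y, hy, e2⟩ := h.t2.trans _ (conj_mem_of_mem_norm h3 hv) (conj_ne_one v1) v hv v1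
  have h6 := mul_mem (h.t2.H_le hy).2 h3
  have h7 := mul_mem (h.L_le (h.t2.H_le hy).1).2 h4
  have h8 := key γ h5 y (hLX (h.t2.H_le hy).1)
  have h9 : y * γ * v * (y * γ)⁻¹ = v := Eq.trans (by group) e2
  generalize y * γ = δ at h6 h7 h8 h9
  have h10 : δ ^ 2 ∈ 𝒞 V := mem_cent_iff.2 fun w hw => by
    by_cases w1 : w = 1
    · simp [w1]
    rw [← mul_inv_eq_iff_eq_mul, show δ ^ 2 * w * (δ ^ 2)⁻¹ = δ * (δ * w * δ⁻¹) * δ⁻¹ by
      rw [pow_two]; group]
    by_cases wv : v = w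
    · rw [← wv, h9, h9]
    have h11 := conj_mem_of_mem_norm h6 hw
    rw [← closure_eq_of_four h.card_V h.t2.sq hv hw v1 w1 wv,
      mem_four vv (h.t2.sq w hw) (h.t2.comm hw v hv)] at h11
    rcases h11 with e | e | e | e
    · exact absurd e (conj_ne_one w1)
    · exact absurd (by simpa using h9.trans e.symm) wv
    · rw [e, e]
    · rw [e, show δ * (v * w) * δ⁻¹ = δ * v * δ⁻¹ * (δ * w * δ⁻¹) by group, h9, e, ← mul_assoc, vv,
        one_mul]
  obtain ⟨k, hk⟩ := CfsgH1.exists_pow_coprime (p := 2) (δ ^ 2)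
  obtain ⟨n1, n2⟩ := hn δ h7 h8
  have ho : Odd #(zpowers ((δ ^ 2) ^ 2 ^ k)) := by
    rw [Nat.card_zpowers]; exact Nat.coprime_two_right.1 hk
  have h12 := h.t2.cent_of_odd ho (zpowers_le.2 (pow_mem (pow_mem n2 _) _))
    (zpowers_le.2 (pow_mem h10 _))
  have h13 := KF.cent_of_odd specSE (Or.inr (Or.inr ⟨L, V, H, a, h⟩)) h.syl ho
    (zpowers_le.2 (pow_mem (pow_mem n1 _) _)) (mem_sup_right (mem_zpowers a)) h.a_ne (by
      rw [h.toCL.cent_eq, le_centralizer_iff]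
      exact sup_le (le_centralizer_iff.1 h12) (le_centralizer_iff.1 (zpowers_le.2
        (pow_mem (pow_mem (le_centralizer_iff.1 (zpowers_le.2 (mem_cent_iff.2 fun b hb => by
          obtain ⟨n, rfl⟩ := mem_zpowers_iff.1 hb
          exact (Commute.zpow_right (mem_c1.1 h7).symm n).eq)) (mem_zpowers δ)) _) _))))
  exact ⟨_, h8, k + 1, by
    rw [mul_inv_cancel_left, pow_succ', pow_mul]; exact h13 (mem_zpowers _)⟩

omit [Finite G] in
theorem conj_injective (hs : Simp (⊤ : Subgroup G)) :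
    Function.Injective (MulAut.conj : G →* MulAut G) :=
  (injective_iff_map_eq_one _).2 fun g e => mem_bot.1 (hs.inf_cent ▸ ⟨mem_top g,
    mem_cent_iff.2 fun b _ => mul_inv_eq_iff_eq_mul.1 (DFunLike.congr_fun e b)⟩)

omit [Finite G] in
theorem cent_inn (hs : Simp (⊤ : Subgroup G)) :
    𝒞 (MulAut.conj : G →* MulAut G).range = ⊥ :=
  eq_bot_iff.2 fun β hβ => mem_bot.2 (MulEquiv.ext fun x => conj_injective hs (by
    rw [← conj_conj, ← hβ _ ⟨x, rfl⟩, mul_inv_cancel_right]; rfl))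

theorem KF.innS (h : KF (⊤ : Subgroup G)) {r : ℕ} [hr : Fact r.Prime] (hd : r ∣ Nat.card G) :
    InnS G r := by
  have hs := h.simp
  let e : (⊤ : Subgroup G) ≃* (MulAut.conj : G →* MulAut G).range :=
    topEquiv.trans (MonoidHom.ofInjective (conj_injective hs))
  by_cases hr2 : r = 2
  · subst hr2
    intro α k hα R hR hc hf
    have h1 := hR.map (MulAut.conj : G →* MulAut G)
    rw [← MonoidHom.range_eq_map] at h1
    have := inner_of_cent (hs.tr e) ⟨h1.1, h1.2, h1.3⟩ (by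
      rintro _ ⟨a, ha, rfl⟩ _ ⟨b, hb, rfl⟩
      rw [← map_mul, ← map_mul, hc ha b hb]) (v := α) (le_normalizer_of_normal (mem_top α))
      (CfsgH1.isPGroup_zpowers hα) (by
        rintro _ ⟨b, hb, rfl⟩
        rw [eq_comm, ← mul_inv_eq_iff_eq_mul, conj_conj, hf b hb])
    rwa [cent_inn hs, sup_bot_eq] at this
  rcases h.cases with h | ⟨q, -, -, F, _, _, -, ⟨f⟩⟩
  · intro α k hα R hR hc hf
    obtain ⟨L, V, H, a, h⟩ := ex_TJ_tr h e
    obtain ⟨x, hx, n, hn⟩ := h.exists_pow_cent (α := α) (le_normalizer_of_normal (mem_top α))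
    rw [cent_inn hs, mem_bot] at hn
    refine CfsgH1.mem_of_pow_mem_of_coprime (n := 2 ^ n) (((Nat.coprime_two_right.2
      (hr.out.odd_of_ne_two hr2).pow).coprime_dvd_left (orderOf_dvd_of_pow_eq_one hα)).pow_right n) ?_
    have e1 := congrArg (QuotientGroup.mk' (MulAut.conj : G →* MulAut G).range) hn
    rw [map_pow, map_mul, map_one, QuotientGroup.mk'_apply _ x, (QuotientGroup.eq_one_iff x).2 hx,
      mul_one, ← map_pow] at e1
    exact (QuotientGroup.eq_one_iff _).1 e1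
  · have f' := topEquiv.symm.trans f
    exact (innS_psl hr2 (Nat.card_congr f'.toEquiv ▸ hd)
      (conj_injective (hs.tr (f.trans topEquiv.symm)))).tr f'

theorem s2555_of (h : KF (⊤ : Subgroup G)) (ha : AG (⊤ : Subgroup G)) (r : ℕ) [Fact r.Prime]
    (hr : r ∣ Nat.card G) (α : G ≃* G) (k : ℕ) (hα : orderOf α = r ^ k) (R : Sylow r G)
    (hR : ∀ x ∈ (R : Subgroup G), α x = x) : ∃ g : G, ∀ x : G, α x = g * x * g⁻¹ := by
  obtain ⟨g, hg⟩ := h.innS hr α k (hα ▸ pow_orderOf_eq_one α) R (CfsgH1.isSylowIn_top R)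
    (ha.comm R.2 le_top) hR
  exact ⟨g, fun x => by rw [← hg]; rfl⟩

end CfsgAG
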