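import Cfsg.Agent.AG.W1

/-! WP GW, first part: the centraliser of an involution is a maximal subgroup. -/

set_option autoImplicit false

namespace CfsgAG

open Subgroup CfsgFT CfsgL0
open scoped commutatorElement

universe u

namespace GW

open W1

section
variable {G : Type*} [Group G] [Finite G]

theorem mem_of_sq {S X : Subgroup G} (hS : IsSylowOf 2 S ⊤) (hX : S ≤ X) {n : G} (hn : n ∈ 𝒩 S)
    (h : n * n ∈ X) : n ∈ X := by
  have h1 := (syl_norm hS).2.2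
  rw [top_inf_eq] at h1
  have := CfsgL0.normal_subgroupOf_of_le_normalizer (le_rfl : 𝒩 S ≤ 𝒩 S)
  have h2 : n ^ S.relIndex (𝒩 S) ∈ X :=
    hX (mem_subgroupOf.1 ((S.subgroupOf (𝒩 S)).pow_index_mem ⟨n, hn⟩))
  obtain ⟨k, hk⟩ := Nat.odd_iff.2 (Nat.two_dvd_ne_zero.1 h1)
  rwa [hk, pow_succ, pow_mul, X.mul_mem_cancel_left (pow_mem (by rwa [sq]) k)] at h2

theorem bot_of_inv {D : Subgroup G} (hD : Odd #D) {s : G}
    (hi : ∀ y ∈ D, s * y * s⁻¹ = y⁻¹) (hc : D ≤ 𝒞₁ s) : D = ⊥ :=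
  eq_bot_iff.2 fun y hy => eq_one_of_odd_of_sq (odd_orderOf_of_mem hD hy) (by
    have := hi y hy
    rw [← mem_c1.1 (hc hy), mul_inv_cancel_right] at this
    exact mul_eq_one_iff_eq_inv.2 this)

omit [Finite G] in
theorem conj_inj {g a b : G} (h : g * a * g⁻¹ = g * b * g⁻¹) : a = b := by
  simpa using h

omit [Finite G] in
theorem conj_eq_iff {g v : G} : g * v * g⁻¹ = v ↔ g ∈ 𝒞₁ v := by
  rw [mem_c1, mul_inv_eq_iff_eq_mul]

theorem odd_le_oc {Y D : Subgroup G} (h : PNil 2 Y) (hD : D ≤ Y) (ho : Odd #D) : D ≤ Oc Y :=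
  le_pPrimeCoreOf_of_pNil h hD (by rw [← even_iff_two_dvd, Nat.not_even_iff_odd]; exact ho)

theorem comm_bot_iff {R : Subgroup G} {s : G} : ⁅R, zpowers s⁆ = ⊥ ↔ R ≤ 𝒞₁ s := by
  rw [← le_cent_iff_comm, CfsgFT.centralizer_zpowers]

end

variable {G : Type u} [Group G] [Finite G]

/-- the standing hypotheses -/
structure St (V : Subgroup G) (t s : G) : Prop where
  c : Ctx G
  se : SpecSE.{u}
  t_ne : t ≠ 1
  s_ne : s ≠ 1
  ts_ne : t ≠ s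
  tt : t * t = 1
  ss : s * s = 1
  comm : t * s = s * t
  V_eq : V = closure {t, s}
  syl : IsSylowOf 2 V ⊤
  nt : ¬ ∃ H, T2 ⊤ V H

variable {V : Subgroup G} {t s : G}

namespace St

variable (h : St V t s)
include h

theorem mem {v : G} : v ∈ V ↔ v = 1 ∨ v = t ∨ v = s ∨ v = t * s := by
  rw [h.V_eq]; exact mem_four h.tt h.ss h.comm

theorem card : #V = 4 := by
  rw [h.V_eq]; exact card_four h.t_ne h.s_ne h.ts_ne h.tt h.ss h.comm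

theorem sq : ∀ v ∈ V, v * v = 1 := by
  rw [h.V_eq]; exact sq_four h.tt h.ss h.comm

theorem two : IsPGroup 2 V := h.syl.2.1

theorem cV : V ≤ 𝒞 V := comm_of_sq h.sq

theorem t_mem : t ∈ V := h.mem.2 (by simp)

theorem s_mem : s ∈ V := h.mem.2 (by simp)

theorem ts_mem : t * s ∈ V := mul_mem h.t_mem h.s_mem

theorem ts_ne_one : t * s ≠ 1 := fun e =>
  h.ts_ne (by rw [← inv_eq_self h.ss]; exact eq_inv_of_mul_eq_one_left e)

theorem ts_ne_t : t * s ≠ t := by simpa using h.s_ne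

theorem ts_ne_s : t * s ≠ s := by simpa using h.t_ne

theorem tts : t * (t * s) = s := by rw [← mul_assoc, h.tt, one_mul]

theorem le_iff {X : Subgroup G} : V ≤ X ↔ t ∈ X ∧ s ∈ X := by
  refine ⟨fun hx => ⟨hx h.t_mem, hx h.s_mem⟩, fun hx => ?_⟩
  rw [h.V_eq, closure_le]
  rintro x (rfl | rfl)
  exacts [hx.1, hx.2]

theorem mem_cent {g : G} : g ∈ 𝒞 V ↔ g ∈ 𝒞₁ t ∧ g ∈ 𝒞₁ s := by
  have : g ∈ 𝒞 V ↔ V ≤ 𝒞₁ g := by
    rw [mem_cent_iff]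
    exact ⟨fun hh v hv => mem_c1.2 (hh v hv).symm, fun hh v hv => (mem_c1.1 (hh hv)).symm⟩
  rw [this, h.le_iff, mem_c1, mem_c1, mem_c1, mem_c1, eq_comm, eq_comm (a := s * g)]

theorem V_le {v : G} (hv : v ∈ V) : V ≤ 𝒞₁ v := le_c1 h.cV hv

theorem cV_le {v : G} (hv : v ∈ V) : 𝒞 V ≤ 𝒞₁ v := centralizer_le (by simpa using hv)

theorem syl_of {Y : Subgroup G} (hY : V ≤ Y) : IsSylowOf 2 V Y := h.syl.mono hY le_top

protected theorem «at» {v w : G} (hv : v ∈ V) (hw : w ∈ V) (h1 : v ≠ 1) (h2 : w ≠ 1)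
    (h3 : v ≠ w) : St V v w :=
  ⟨h.c, h.se, h1, h2, h3, h.sq v hv, h.sq w hw, le_cent_iff.1 h.cV v hv w hw,
    (closure_eq_of_four h.card h.sq hv hw h1 h2 h3).symm, h.syl, h.nt⟩

theorem fix_t {g : G} (hg : g ∈ 𝒩 V) (ht : g ∈ 𝒞₁ t) : g ∈ 𝒞 V := by
  have e := conj_eq_iff.2 ht
  refine mem_of_sq h.syl h.cV hg (h.mem_cent.2 ⟨mul_mem ht ht, conj_eq_iff.1 ?_⟩)
  have e2 : g * g * s * (g * g)⁻¹ = g * (g * s * g⁻¹) * g⁻¹ := by group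
  rw [e2]
  rcases h.mem.1 (conj_mem_of_mem_norm hg h.s_mem) with e1 | e1 | e1 | e1
  · exact absurd e1 (conj_ne_one h.s_ne)
  · exact absurd (conj_inj (e1.trans e.symm)) h.ts_ne.symm
  · rw [e1, e1]
  · have : g * (t * s) * g⁻¹ = (g * t * g⁻¹) * (g * s * g⁻¹) := by group
    rw [e1, this, e, e1, h.tts]

theorem fix {g v : G} (hg : g ∈ 𝒩 V) (hv : v ∈ V) (h1 : v ≠ 1) (ht : g ∈ 𝒞₁ v) : g ∈ 𝒞 V := by
  by_cases e : v = t
  · exact h.fix_t hg (e ▸ ht)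
  · exact (h.at hv h.t_mem h1 h.t_ne e).fix_t hg ht

theorem rho_of {g : G} (hg : g ∈ 𝒩 V) (hc : g ∉ 𝒞 V) :
    ∃ ρ, (ρ = g ∨ ρ = g⁻¹) ∧ ρ * t * ρ⁻¹ = s ∧ ρ * s * ρ⁻¹ = t * s := by
  have m : g * (t * s) * g⁻¹ = (g * t * g⁻¹) * (g * s * g⁻¹) := by group
  have n1 : g * t * g⁻¹ ≠ t := fun e => hc (h.fix hg h.t_mem h.t_ne (conj_eq_iff.1 e))
  have n2 : g * s * g⁻¹ ≠ s := fun e => hc (h.fix hg h.s_mem h.s_ne (conj_eq_iff.1 e))
  have n3 : g * (t * s) * g⁻¹ ≠ t * s := fun e =>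
    hc (h.fix hg h.ts_mem h.ts_ne_one (conj_eq_iff.1 e))
  rcases h.mem.1 (conj_mem_of_mem_norm hg h.t_mem) with e1 | e1 | e1 | e1
  · exact absurd e1 (conj_ne_one h.t_ne)
  · exact absurd e1 n1
  · rcases h.mem.1 (conj_mem_of_mem_norm hg h.s_mem) with e2 | e2 | e2 | e2
    · exact absurd e2 (conj_ne_one h.s_ne)
    · exact absurd (by rw [m, e1, e2, h.comm]) n3
    · exact absurd e2 n2
    · exact ⟨g, Or.inl rfl, e1, e2⟩
  · rcases h.mem.1 (conj_mem_of_mem_norm hg h.s_mem) with e2 | e2 | e2 | e2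
    · exact absurd e2 (conj_ne_one h.s_ne)
    · refine ⟨g⁻¹, Or.inr rfl, by rw [← e2]; group, ?_⟩
      have : g * (t * s) * g⁻¹ = s := by
        rw [m, e1, e2, mul_assoc, ← h.comm, h.tts]
      conv_lhs => rw [← this]
      group
    · exact absurd e2 n2
    · exact absurd (conj_inj (e1.trans e2.symm)) h.ts_ne

theorem not_le : ¬ 𝒩 V ≤ 𝒞 V := fun hh => by
  have := cent_norm_eq_bot h.c.simp.perfect h.syl h.cV
  rw [top_inf_eq] at this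
  exact h.t_ne (mem_bot.1 (this ▸ ⟨h.t_mem, le_centralizer_symm hh h.t_mem⟩))

theorem mem_norm_of {ρ : G} (h1 : ρ * t * ρ⁻¹ = s) (h2 : ρ * s * ρ⁻¹ = t * s) : ρ ∈ 𝒩 V := by
  refine mem_normalizer_of_cj_le ?_
  rw [cj_le_iff_le_cj_inv, h.le_iff, mem_cj, mem_cj, inv_inv, h1, h2]
  exact ⟨h.s_mem, h.ts_mem⟩

theorem trans_of {ρ : G} (h1 : ρ * t * ρ⁻¹ = s) (h2 : ρ * s * ρ⁻¹ = t * s) {v : G} (hv : v ∈ V)
    (hv1 : v ≠ 1) : ∃ g ∈ zpowers ρ, g * t * g⁻¹ = v := by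
  rcases h.mem.1 hv with e | e | e | e
  · exact absurd e hv1
  · exact ⟨1, one_mem _, by simp [e]⟩
  · exact ⟨ρ, mem_zpowers ρ, e ▸ h1⟩
  · refine ⟨ρ * ρ, mul_mem (mem_zpowers ρ) (mem_zpowers ρ), ?_⟩
    rw [e, ← h2, ← h1]; group

theorem rho : ∃ ρ ∈ 𝒩 V, ρ * t * ρ⁻¹ = s ∧ ρ * s * ρ⁻¹ = t * s := by
  obtain ⟨g, hg, hc⟩ := SetLike.not_le_iff_exists.1 h.not_le
  obtain ⟨ρ, -, h1, h2⟩ := h.rho_of hg hc
  exact ⟨ρ, h.mem_norm_of h1 h2, h1, h2⟩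

theorem trans {v : G} (hv : v ∈ V) (hv1 : v ≠ 1) : ∃ g ∈ 𝒩 V, g * t * g⁻¹ = v := by
  obtain ⟨ρ, hρ, h1, h2⟩ := h.rho
  obtain ⟨g, hg, e⟩ := h.trans_of h1 h2 hv hv1
  exact ⟨g, zpowers_le.2 hρ hg, e⟩

theorem conj {v : G} (h1 : v ≠ 1) (hv : v * v = 1) : ∃ g : G, g * t * g⁻¹ = v := by
  obtain ⟨x, -, hx⟩ := exists_conj_mem_syl h.syl (mem_top v) hv
  obtain ⟨g, -, e⟩ := h.trans hx (conj_ne_one h1)
  exact ⟨x⁻¹ * g, by
    rw [show x⁻¹ * g * t * (x⁻¹ * g)⁻¹ = x⁻¹ * (g * t * g⁻¹) * x by group, e]; group⟩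

/-- a subgroup containing `ρ` and `C(V)` contains `N(V)` -/
theorem norm_le {Y : Subgroup G} {ρ : G} (h1 : ρ * t * ρ⁻¹ = s) (h2 : ρ * s * ρ⁻¹ = t * s)
    (hρ : ρ ∈ Y) (hY : 𝒞 V ≤ Y) : 𝒩 V ≤ Y := by
  intro n hn
  obtain ⟨g, hg, e⟩ := h.trans_of h1 h2 (conj_mem_of_mem_norm hn h.t_mem) (conj_ne_one h.t_ne)
  have hgN : g ∈ 𝒩 V := zpowers_le.2 (h.mem_norm_of h1 h2) hg
  have : g⁻¹ * n ∈ 𝒞 V := h.fix_t (mul_mem (inv_mem hgN) hn) (conj_eq_iff.1 (by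
    rw [show g⁻¹ * n * t * (g⁻¹ * n)⁻¹ = g⁻¹ * (n * t * n⁻¹) * g by group, ← e]; group))
  simpa using mul_mem (zpowers_le.2 hρ hg) (hY this)

theorem NT {Y : Subgroup G} (hY : Y ≠ ⊤) (hC : 𝒞₁ t ≤ Y) : Y ⊓ 𝒩 V ≤ 𝒞 V := by
  intro g hg
  by_contra hc
  obtain ⟨ρ, hρ, h1, h2⟩ := h.rho_of hg.2 hc
  have hρY : ρ ∈ Y := by
    rcases hρ with rfl | rfl
    exacts [hg.1, inv_mem hg.1]
  refine (le_or_t2 h.se h.c.simp h.syl h.cV (M := Y) (inf_le_right.trans (h.norm_le h1 h2 hρY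
    ((h.cV_le h.t_mem).trans hC))) fun v hv hv1 _ => ?_).elim (fun e => hY (top_le_iff.1 e)) h.nt
  obtain ⟨x, hx, e⟩ := h.trans_of h1 h2 hv hv1
  rw [← e, ← cj_centralizer_singleton]
  exact inf_le_right.trans (cj_le_of_mem (zpowers_le.2 hρY hx) hC)

theorem pnil {Y : Subgroup G} (hV : V ≤ Y) (hY : Y ⊓ 𝒩 V ≤ 𝒞 V) : PNil 2 Y :=
  bg1_18 (h.syl_of hV) hY

theorem oc_sup {Y : Subgroup G} (hV : V ≤ Y) (hY : PNil 2 Y) : Oc Y ⊔ V = Y :=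
  (PNil_sdp hY (h.syl_of hV)).sup_eq

theorem solv {Y : Subgroup G} (hV : V ≤ Y) (hY : PNil 2 Y) : Group.IsSolvable Y := by
  rw [← h.oc_sup hV hY]
  exact solvable_sup (hV.trans le_normalizer_pPrimeCoreOf) (solvable_oc Y) (solv_two h.two)

theorem pnil_of {Y : Subgroup G} (hY : Y ≠ ⊤) (hC : 𝒞₁ t ≤ Y) : PNil 2 Y :=
  h.pnil ((h.V_le h.t_mem).trans hC) (h.NT hY hC)

theorem H_ne : 𝒞₁ t ≠ ⊤ := h.c.simp.cent_ne_top h.t_ne

theorem pnil_H : PNil 2 (𝒞₁ t) := h.pnil_of h.H_ne le_rfl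

/-- case A is impossible -/
theorem not_good {p : ℕ} {M : Subgroup G} (hg : Good t p M) : False := by
  haveI := Fact.mk hg.prime
  have hM := hg.coatom.1
  have hVM : V ≤ M := (h.V_le h.t_mem).trans hg.cent
  have pM := h.pnil_of hM hg.cent
  set R := pCoreOf p M with hR
  set R1 := ⁅R, zpowers t⁆ with hR1
  have nR : M ≤ 𝒩 R := le_normalizer_pCoreOf
  have pR : IsPGroup p R := isPGroup_pCoreOf
  have nR1 : 𝒞₁ t ≤ 𝒩 R1 := norm_comm (hg.cent.trans nR) (c1_le_norm_zpowers t)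
  have lR1 : R1 ≤ R := comm_le_left (nR (hVM h.t_mem))
  have oR1 : Odd #R1 := odd_pgroup hg.odd (pR.to_le lR1)
  have iR1 := inv_of_mem_comm (h.c.ag.comm pR le_top) h.tt (nR (hVM h.t_mem))
  -- an involution `v ≠ t` with fixed points on `R₁`
  obtain ⟨v, hv, hv1, hX⟩ : ∃ v ∈ V, v ≠ 1 ∧ R1 ⊓ 𝒞₁ v ≠ ⊥ := by
    by_contra hh
    push Not at hh
    exact hg.ne (le_bot_iff.1 (le_bot_of_cent h.sq h.card.ge oR1
      ((h.V_le h.t_mem).trans nR1) fun v hv h1 => (hh v hv h1).le))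
  set X := R1 ⊓ 𝒞₁ v with hXd
  have iX : ∀ y ∈ X, t * y * t⁻¹ = y⁻¹ := fun y hy => iR1 y hy.1
  have oX : Odd #X := odd_of_le inf_le_left oR1
  have hXp : X ≤ pCoreOf p (𝒞₁ v) := le_pCore h.c hg.odd h.tt hg.cent
    (h.c.simp.cent_ne_top hv1) (h.V_le hv h.t_mem) inf_le_left inf_le_right
  have nX : V ≤ 𝒩 X := norm_inf ((h.V_le h.t_mem).trans nR1) ((h.V_le hv).trans le_normalizer)
  obtain ⟨g, hgN, hgv⟩ := h.trans hv hv1
  set D := cj g⁻¹ X with hD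
  have hDp : D ≤ pCoreOf p (𝒞₁ t) := by
    rw [hD, ← le_cj_iff_cj_inv_le, cj_pCoreOf, cj_centralizer_singleton, hgv]
    exact hXp
  have nD : V ≤ 𝒩 D := by
    rw [hD, ← cj_normalizer, ← cj_eq_of_mem_normalizer (inv_mem hgN)]
    exact cj_mono _ nX
  have hDt : D ≤ 𝒞₁ t := hDp.trans pCoreOf_le
  -- the Sylow subgroup `P`
  have q1 : IsPGroup p (pCoreOf p (𝒞₁ t) ⊔ R : Subgroup G) :=
    IsPGroup.to_sup_of_normal_right' isPGroup_pCoreOf pR (pCoreOf_le.trans (hg.cent.trans nR))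
  have q2 : pCoreOf p (𝒞₁ t) ⊔ R ≤ Oc M := odd_le_oc pM
    (sup_le (pCoreOf_le.trans hg.cent) pCoreOf_le) (odd_pgroup hg.odd q1)
  obtain ⟨P, hP, nP, lP⟩ := CfsgH2.exists_invariant_sylow_ge
    (hVM.trans le_normalizer_pPrimeCoreOf) (coprime_two_of_odd h.two (odd_oc M))
    (Or.inl (solv_two h.two)) q1 q2 (CfsgH2.le_normalizer_sup
      ((h.V_le h.t_mem).trans le_normalizer_pCoreOf) (hVM.trans nR))
  have hRP : R ≤ P := le_sup_right.trans lP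
  have hPM : P ≤ M := hP.1.trans pPrimeCoreOf_le
  have hPG : IsSylowOf p P ⊤ := by
    refine CfsgH2.isSylowOf_of_maximal hP.2.1 le_top fun Q hQ hPQ _ => ?_
    have : Q ≤ M := ((h.c.ag.comm hQ le_top).trans ((cent_anti (lR1.trans (hRP.trans hPQ))).trans
      cent_le_norm)).trans hg.norm
    exact (hP.eq_of_le hQ hPQ (odd_le_oc pM this (odd_pgroup hg.odd hQ))).le
  have cP : P ≤ 𝒞 P := h.c.ag.comm hP.2.1 le_top
  have pD : PNil 2 (𝒩 D) := by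
    refine h.pnil nD fun x hx => ?_
    by_contra hc
    obtain ⟨ρ, hρ, h1, -⟩ := h.rho_of hx.2 hc
    have hρD : ρ ∈ 𝒩 D := by
      rcases hρ with rfl | rfl
      exacts [hx.1, inv_mem hx.1]
    have a1 : D ≤ 𝒞₁ s := by
      rw [← h1, ← cj_centralizer_singleton]
      conv_lhs => rw [← cj_eq_of_mem_normalizer hρD]
      exact cj_mono _ hDt
    have a2 : D ≤ 𝒞 V := fun y hy => h.mem_cent.2 ⟨hDt hy, a1 hy⟩
    have a3 : X ≤ 𝒞 V := by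
      rw [hD, ← le_cj_iff_cj_inv_le, cj_centralizer, cj_eq_of_mem_normalizer hgN] at a2
      exact a2
    exact hX (bot_of_inv oX iX (a3.trans (h.cV_le h.t_mem)))
  have l1 : P ≤ Oc (𝒩 D) := odd_le_oc pD (cP.trans ((cent_anti (hDp.trans
    (le_sup_left.trans lP))).trans cent_le_norm)) (odd_pgroup hg.odd hP.2.1)
  have hP' : IsSylowOf p (cj g⁻¹ P) ⊤ := syl_cj hPG (mem_top _)
  have l2 : cj g⁻¹ P ≤ Oc (𝒩 D) := odd_le_oc pD ((h.c.ag.comm hP'.2.1 le_top).trans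
    ((cent_anti (cj_mono _ (inf_le_left.trans (lR1.trans hRP)))).trans cent_le_norm))
    (odd_pgroup hg.odd hP'.2.1)
  have nP' : V ≤ 𝒩 (cj g⁻¹ P) := by
    rw [← cj_normalizer, ← cj_eq_of_mem_normalizer (inv_mem hgN)]
    exact cj_mono _ nP
  obtain ⟨x, hx, e⟩ := CfsgH2.invariant_sylow_conj (nD.trans le_normalizer_pPrimeCoreOf)
    (coprime_two_of_odd h.two (odd_oc _)) (Or.inl (solv_two h.two))
    (hPG.mono l1 le_top) (hP'.mono l2 le_top) nP nP'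
  have hρP : g * x ∈ 𝒩 P := by
    rw [mem_normalizer_iff_cj, ← cj_cj]
    exact (congrArg (cj g) e).trans (cj_cj_inv g P)
  have hρN : g * x ∈ 𝒩 V := mul_mem hgN (cent_le_norm hx.2)
  -- the invariant subgroup `W`
  set W : Subgroup G := ⨆ y : (𝒩 V ⊓ 𝒩 P : Subgroup G), cj (y : G) R1 with hW
  have hWR : W ≤ R := iSup_le fun y => by
    have m : (y : G) * t * (y : G)⁻¹ ∈ V := conj_mem_of_mem_norm y.2.1 h.t_mem
    refine le_pCore h.c hg.odd (M := cj y M) (h.sq _ m) ?_ hM (hVM m) ?_ ?_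
    · rw [← cj_centralizer_singleton]; exact cj_mono _ hg.cent
    · rw [hR1, cj_commutator, cj_pCoreOf, CfsgH1.cj_zpowers]
    · exact (cj_le_of_mem_normalizer y.2.2 (lR1.trans hRP)).trans hPM
  have nW : 𝒩 V ⊓ 𝒩 P ≤ 𝒩 W := fun z hz => by
    refine mem_normalizer_of_cj_le ?_
    rw [cj_le_iff_le_cj_inv]
    refine iSup_le fun y => ?_
    rw [← cj_le_iff_le_cj_inv, cj_cj]
    exact le_iSup (fun y : (𝒩 V ⊓ 𝒩 P : Subgroup G) => cj (y : G) R1) ⟨z * y, mul_mem hz y.2⟩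
  have hW0 : W ≠ ⊥ := fun e => hg.ne (le_bot_iff.1 (e ▸ by
    simpa using le_iSup (fun y : (𝒩 V ⊓ 𝒩 P : Subgroup G) => cj (y : G) R1) 1))
  have a1 : 𝒩 W ≤ M := hg.norm_le h.c (hWR.trans (pCoreOf_le_fittingOf p)) hW0
    (nW ⟨le_normalizer h.t_mem, nP h.t_mem⟩)
  have a2 : g * x ∈ 𝒞 V := h.NT hM hg.cent ⟨a1 (nW ⟨hρN, hρP⟩), hρN⟩
  have a3 : g ∈ 𝒞₁ t := h.cV_le h.t_mem (by simpa using mul_mem a2 (inv_mem hx.2))
  rw [conj_eq_iff.2 a3] at hgv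
  exact hX (bot_of_inv oX iX (hgv ▸ inf_le_right))

theorem coatom : IsCoatom (𝒞₁ t) := by
  obtain ⟨M, hM, hC⟩ := exists_coatom h.H_ne
  have hVM : V ≤ M := (h.V_le h.t_mem).trans hC
  have pM := h.pnil_of hM.1 hC
  by_cases h0 : t ∈ 𝒞 (fittingOf M)
  · have a1 : zpowers t ≤ pCoreOf 2 M := le_pCoreOf_of_le_fittingOf (zpowers_le.2
      (inf_centralizer_fittingOf_le (h.solv hVM pM) ⟨hVM h.t_mem, h0⟩)) (two_zpowers h.tt)
    have a2 : Oc M ≤ 𝒞₁ t := by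
      rw [← CfsgFT.centralizer_zpowers]
      exact (le_centralizer_symm (le_cent_iff_comm.2 commutator_pCoreOf_pPrimeCoreOf)).trans
        (cent_anti a1)
    have : M = 𝒞₁ t := le_antisymm (by
      rw [← h.oc_sup hVM pM]; exact sup_le a2 (h.V_le h.t_mem)) hC
    exact this ▸ hM
  · obtain ⟨p, M', hg⟩ := exists_good' h.c h.t_ne h.tt hM hC h0
    exact (h.not_good hg).elim

end St

end GW

end CfsgAG
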