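import Cfsg.Agent.AG.B
import Cfsg.Agent.AG.SE
import Cfsg.Agent.AG.BSW
import Cfsg.Agent.BS.R1c

/-! WP JL, part 0: basic facts on `C(a) = ⟨a⟩ × L₂(q)`. -/

set_option autoImplicit false
set_option linter.style.haveILetI false
set_option linter.unusedSectionVars false

namespace CfsgAG.Jl

open Subgroup CfsgFT CfsgL0

variable {G : Type*} [Group G]

/-- `g` rotates the four-group `⟨a, u⟩` -/
def Rot (g a u : G) : Prop := g * a * g⁻¹ = u ∧ g * u * g⁻¹ = a * u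

/-- a four-group `⟨a, u⟩` -/
structure Fr (a u : G) : Prop where
  a1 : a ≠ 1
  u1 : u ≠ 1
  ne : a ≠ u
  aa : a * a = 1
  uu : u * u = 1
  comm : a * u = u * a

/-- the data of WP JL -/
structure JD (L K Q A : Subgroup G) (a t s w : G) (e : ℤ) (q p : ℕ) : Prop where
  cl : CL ⊤ L a
  tO : TO L K t s
  ls : LS L K t e q p Q A w

/-- an odd self-centralising subgroup of `L` -/
structure CB (L B : Subgroup G) (a : G) : Prop where
  ag : AG (⊤ : Subgroup G)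
  cl : CL ⊤ L a
  cc : CC L B
  odd : Odd #B

/-- an odd self-centralising subgroup of `L` inverted by `u` -/
structure BD (L B : Subgroup G) (a u : G) : Prop extends CB L B a where
  mem : u ∈ L
  u1 : u ≠ 1
  uu : u * u = 1
  inv : ∀ y ∈ B, u * y * u⁻¹ = y⁻¹
  syl : IsSylowOf 2 (zpowers u) (L ⊓ 𝒩 B)

variable {L K Q A B : Subgroup G} {a t s w u g : G} {e : ℤ} {q p : ℕ}

theorem conj_eq_of_comm {x y : G} (h : x * y = y * x) : x * y * x⁻¹ = y := by
  rw [h, mul_inv_cancel_right]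

theorem comm_of_conj_eq {x y : G} (h : x * y * x⁻¹ = y) : x * y = y * x := by
  calc x * y = x * y * x⁻¹ * x := by group
    _ = y * x := by rw [h]

theorem conj_comm {x y : G} (h : x * y = y * x) (g : G) :
    g * x * g⁻¹ * (g * y * g⁻¹) = g * y * g⁻¹ * (g * x * g⁻¹) := by
  calc _ = g * (x * y) * g⁻¹ := by group
    _ = _ := by rw [h]; group

theorem conj_invs {x y : G} (h : x * y * x⁻¹ = y⁻¹) (g : G) :
    g * x * g⁻¹ * (g * y * g⁻¹) * (g * x * g⁻¹)⁻¹ = (g * y * g⁻¹)⁻¹ := by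
  calc _ = g * (x * y * x⁻¹) * g⁻¹ := by group
    _ = _ := by rw [h]; group

theorem conj_mul' (g x y : G) : g * (x * y) * g⁻¹ = g * x * g⁻¹ * (g * y * g⁻¹) := by group

theorem Fr.au1 (f : Fr a u) : a * u ≠ 1 := fun h => f.ne (by
  rw [← mul_one a, ← f.uu, ← mul_assoc, h, one_mul])

theorem Fr.auau (f : Fr a u) : a * u * (a * u) = 1 := by
  calc _ = a * (u * a) * u := by group
    _ = a * a * (u * u) := by rw [← f.comm]; group
    _ = 1 := by rw [f.aa, f.uu, one_mul]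

theorem Fr.aau (f : Fr a u) : a * (a * u) = u := by rw [← mul_assoc, f.aa, one_mul]

theorem Fr.auu (f : Fr a u) : a * u * u = a := by rw [mul_assoc, f.uu, mul_one]

theorem Fr.aua (f : Fr a u) : a * u * a = u := by rw [mul_assoc, ← f.comm, f.aau]

theorem Fr.uau (f : Fr a u) : u * (a * u) = a := by rw [← mul_assoc, ← f.comm, f.auu]

theorem Fr.mul (f : Fr a u) : Fr a (a * u) where
  a1 := f.a1
  u1 := f.au1
  ne := fun h => f.u1 (by simpa using h)
  aa := f.aa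
  uu := f.auau
  comm := by rw [f.aau, f.aua]

theorem Fr.symm (f : Fr a u) : Fr u a := ⟨f.u1, f.a1, f.ne.symm, f.uu, f.aa, f.comm.symm⟩

theorem Fr.conj (f : Fr a u) (g : G) : Fr (g * a * g⁻¹) (g * u * g⁻¹) where
  a1 := fun h => f.a1 (by simpa using h)
  u1 := fun h => f.u1 (by simpa using h)
  ne := fun h => f.ne (by simpa using h)
  aa := by rw [← conj_mul', f.aa]; simp
  uu := by rw [← conj_mul', f.uu]; simp
  comm := conj_comm f.comm g

theorem mem_cent_four {x : G} : x ∈ 𝒞 (closure {a, u}) ↔ x * a = a * x ∧ x * u = u * x := by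
  rw [centralizer_closure, mem_centralizer_iff]
  simp only [Set.mem_insert_iff, Set.mem_singleton_iff, forall_eq_or_imp, forall_eq]
  exact ⟨fun h => ⟨h.1.symm, h.2.symm⟩, fun h => ⟨h.1.symm, h.2.symm⟩⟩

theorem a_mem_four : a ∈ closure {a, u} := subset_closure (by simp)
theorem u_mem_four : u ∈ closure {a, u} := subset_closure (by simp)

theorem four_le {X : Subgroup G} : closure {a, u} ≤ X ↔ a ∈ X ∧ u ∈ X := by
  rw [closure_le]; simp [Set.insert_subset_iff]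

theorem cj_four (g a u : G) : cj g (closure {a, u}) = closure {g * a * g⁻¹, g * u * g⁻¹} := by
  rw [cj, MonoidHom.map_closure]; simp [Set.image_insert_eq]

theorem four_mul (a u : G) : closure {a, a * u} = closure {a, u} := by
  apply le_antisymm
  · exact four_le.2 ⟨a_mem_four, mul_mem a_mem_four u_mem_four⟩
  · refine four_le.2 ⟨a_mem_four, ?_⟩
    have := mul_mem (inv_mem (a_mem_four (a := a) (u := a * u))) u_mem_four
    simpa using this

theorem four_symm (a u : G) : closure {a, u} = closure {u, a} := by rw [Set.pair_comm]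

theorem Rot.third (h : Rot g a u) (f : Fr a u) : g * (a * u) * g⁻¹ = a := by
  rw [conj_mul', h.1, h.2, f.uau]

theorem Rot.norm (h : Rot g a u) (f : Fr a u) : g ∈ 𝒩 (closure {a, u}) := by
  rw [mem_normalizer_iff_cj, cj_four, h.1, h.2, f.comm, four_mul, four_symm]

theorem Rot.sq (h : Rot g a (a * u)) (f : Fr a u) : Rot (g * g) a u := by
  have h3 := h.third f.mul
  have h2 := h.2
  rw [f.aau] at h3 h2
  constructor
  · calc _ = g * (g * a * g⁻¹) * g⁻¹ := by group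
      _ = u := by rw [h.1, h2]
  · calc _ = g * (g * u * g⁻¹) * g⁻¹ := by group
      _ = _ := by rw [h3, h.1]

theorem Rot.cube (h : Rot g a u) (f : Fr a u) : g ^ 3 ∈ 𝒞 (closure {a, u}) := by
  refine mem_cent_four.2 ⟨comm_of_conj_eq ?_, comm_of_conj_eq ?_⟩
  · calc _ = g * (g * (g * a * g⁻¹) * g⁻¹) * g⁻¹ := by rw [pow_three]; group
      _ = a := by rw [h.1, h.2, h.third f]
  · calc _ = g * (g * (g * u * g⁻¹) * g⁻¹) * g⁻¹ := by rw [pow_three]; group
      _ = u := by rw [h.2, h.third f, h.1]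

theorem Rot.cent_mul (h : Rot g a u) {c : G} (hc : c ∈ 𝒞 (closure {a, u})) : Rot (c * g) a u := by
  obtain ⟨h1, h2⟩ := mem_cent_four.1 hc
  constructor
  · calc _ = c * (g * a * g⁻¹) * c⁻¹ := by group
      _ = u := by rw [h.1, conj_eq_of_comm h2]
  · calc _ = c * (g * u * g⁻¹) * c⁻¹ := by group
      _ = _ := by rw [h.2, conj_mul', conj_eq_of_comm h1, conj_eq_of_comm h2]

theorem Rot.mul_inv (h : Rot g a u) {g' : G} (h' : Rot g' a u) :
    g'⁻¹ * g ∈ 𝒞 (closure {a, u}) := by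
  refine mem_cent_four.2 ⟨comm_of_conj_eq ?_, comm_of_conj_eq ?_⟩
  · calc _ = g'⁻¹ * (g * a * g⁻¹) * g' := by group
      _ = a := by rw [h.1, ← h'.1]; group
  · calc _ = g'⁻¹ * (g * u * g⁻¹) * g' := by group
      _ = u := by rw [h.2, ← h'.2]; group

theorem Rot.conj (h : Rot g a u) (x : G) : Rot (x * g * x⁻¹) (x * a * x⁻¹) (x * u * x⁻¹) := by
  constructor
  · rw [← h.1]; group
  · rw [← conj_mul' x a u, ← h.2]; group

theorem Rot.not_cent (h : Rot g a u) (f : Fr a u) : g ∉ 𝒞 (closure {a, u}) := fun hc =>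
  f.ne (by rw [← h.1, conj_eq_of_comm (mem_cent_four.1 hc).1])

theorem Rot.ne_one (h : Rot g a u) (f : Fr a u) : g ≠ 1 := fun e =>
  h.not_cent f (e ▸ one_mem _)

theorem Rot.three (h : Rot g a u) (f : Fr a u) (hc : ¬ 3 ∣ orderOf (g ^ 3)) :
    ∃ k : ℕ, (g ^ k) ^ 3 = 1 ∧ Rot (g ^ k) a u := by
  have key : ∀ n : ℕ, Rot (g ^ (3 * n + 1)) a u := fun n => by
    rw [pow_succ, pow_mul]
    exact h.cent_mul (pow_mem (h.cube f) n)
  set k := orderOf (g ^ 3) with hk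
  have h1 : ∀ i : ℕ, (g ^ (k * i)) ^ 3 = 1 := fun i => by
    rw [← pow_mul, show k * i * 3 = 3 * k * i by ring, pow_mul, pow_mul, hk, pow_orderOf_eq_one,
      one_pow]
  obtain h2 | h2 : k % 3 = 1 ∨ k % 3 = 2 := by omega
  · exact ⟨k * 1, h1 1, by rw [show k * 1 = 3 * (k / 3) + 1 by omega]; exact key _⟩
  · exact ⟨k * 2, h1 2, by rw [show k * 2 = 3 * (2 * (k / 3) + 1) + 1 by omega]; exact key _⟩

variable [Finite G]

theorem Fr.mem (f : Fr a u) {v : G} : v ∈ closure {a, u} ↔ v = 1 ∨ v = a ∨ v = u ∨ v = a * u :=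
  mem_four f.aa f.uu f.comm

theorem Fr.card (f : Fr a u) : #(closure {a, u}) = 4 := card_four f.a1 f.u1 f.ne f.aa f.uu f.comm

theorem Fr.sq (f : Fr a u) : ∀ v ∈ closure {a, u}, v * v = 1 := sq_four f.aa f.uu f.comm

theorem Fr.two (f : Fr a u) : IsPGroup 2 (closure {a, u}) := two_of_sq f.sq

theorem Fr.abel (f : Fr a u) : closure {a, u} ≤ 𝒞 (closure {a, u}) := comm_of_sq f.sq

theorem Fr.tri (f : Fr a u) (hg : g ∈ 𝒩 (closure {a, u})) (ho : Odd (orderOf g)) :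
    g ∈ 𝒞 (closure {a, u}) ∨ Rot g a u ∨ Rot g⁻¹ a u := by
  have h1 := f.mem.1 (conj_mem_of_mem_norm hg a_mem_four)
  have h2 := f.mem.1 (conj_mem_of_mem_norm hg u_mem_four)
  have fc := f.conj g
  have sq : g * (g * a * g⁻¹) * g⁻¹ = a → g * (g * u * g⁻¹) * g⁻¹ = u →
      g ∈ 𝒞 (closure {a, u}) := fun e1 e2 =>
    mem_of_sq_mem ho (mem_cent_four.2 ⟨comm_of_conj_eq (Eq.trans (by group) e1),
      comm_of_conj_eq (Eq.trans (by group) e2)⟩)
  rcases h1 with h1 | h1 | h1 | h1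
  · exact absurd h1 fc.a1
  all_goals rcases h2 with h2 | h2 | h2 | h2
  all_goals first | exact absurd h2 fc.u1 | exact absurd (h1.trans h2.symm) fc.ne | skip
  · exact Or.inl (mem_cent_four.2 ⟨comm_of_conj_eq h1, comm_of_conj_eq h2⟩)
  · exact Or.inl (sq (by rw [h1, h1]) (by rw [h2, conj_mul', h1, h2, f.aau]))
  · exact Or.inl (sq (by rw [h1, h2]) (by rw [h2, h1]))
  · exact Or.inr (Or.inl ⟨h1, h2⟩)
  · refine Or.inr (Or.inr ⟨by rw [← h2]; group, ?_⟩)
    have : g * (a * u) * g⁻¹ = u := by rw [conj_mul', h1, h2, f.aua]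
    calc _ = g⁻¹ * (g * (a * u) * g⁻¹) * g⁻¹⁻¹ := by rw [this]
      _ = _ := by group
  · exact Or.inl (sq (by rw [h1, conj_mul', h1, h2, f.auu]) (by rw [h2, h2]))

theorem Fr.cube (f : Fr a u) (hg : g ∈ 𝒩 (closure {a, u})) (ho : Odd (orderOf g)) :
    g ^ 3 ∈ 𝒞 (closure {a, u}) := by
  rcases f.tri hg ho with h | h | h
  · exact pow_mem h 3
  · exact h.cube f
  · have := inv_mem (h.cube f)
    rwa [inv_pow, inv_inv] at this

/-- an element of odd order normalising a four-group and inverted by one of its elements -/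
theorem Fr.eq_one (f : Fr a u) (hg : g ∈ 𝒩 (closure {a, u})) (ho : Odd (orderOf g)) {v : G}
    (hv : v ∈ closure {a, u}) (hi : v * g * v⁻¹ = g⁻¹) : g = 1 := by
  have h1 : g * g ∈ closure {a, u} := by
    rw [sq_eq_comm hi]
    exact mul_mem (conj_mem_of_mem_norm hg hv) (inv_mem hv)
  exact eq_one_of_odd_of_sq ho (f.sq g (mem_of_sq_mem ho h1))

theorem Rot.exists_conj (h : Rot g a u) (f : Fr a u) {v : G} (hv : v ∈ closure {a, u})
    (v1 : v ≠ 1) : ∃ k : ℕ, g ^ k * v * (g ^ k)⁻¹ = a := by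
  rcases f.mem.1 hv with e | e | e | e
  · exact absurd e v1
  · exact ⟨0, by simp [e]⟩
  · refine ⟨2, ?_⟩
    calc _ = g * (g * u * g⁻¹) * g⁻¹ := by rw [e, pow_two]; group
      _ = a := by rw [h.2, h.third f]
  · exact ⟨1, by rw [e, pow_one, h.third f]⟩

theorem cj_top' (g : G) : cj g (⊤ : Subgroup G) = ⊤ := cj_eq_of_mem (mem_top g)

theorem cl_cj (h : CL ⊤ L a) (g : G) : CL ⊤ (cj g L) (g * a * g⁻¹) := by
  have := h.cj g
  rwa [cj_top'] at this

theorem JD.cj (h : JD L K Q A a t s w e q p) (g : G) :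
    JD (cj g L) (cj g K) (cj g Q) (cj g A) (g * a * g⁻¹) (g * t * g⁻¹) (g * s * g⁻¹) (g * w * g⁻¹)
      e q p :=
  ⟨cl_cj h.cl g, h.tO.cj g, h.ls.cj h.tO.K_le h.tO.toBH.t_X g⟩

theorem cc_cj (h : CC L B) (g : G) : CC (cj g L) (cj g B) := by
  have := h.tr (cjE g L)
  rwa [tr_cjE g h.le] at this

theorem CB.cj (h : CB L B a) (g : G) : CB (cj g L) (cj g B) (g * a * g⁻¹) :=
  ⟨h.ag, cl_cj h.cl g, cc_cj h.cc g, by rw [card_cj]; exact h.odd⟩

theorem cj_zpowers' (g x : G) : cj g (zpowers x) = zpowers (g * x * g⁻¹) := by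
  rw [cj, MonoidHom.map_zpowers]; rfl

theorem BD.cj (h : BD L B a u) (g : G) : BD (cj g L) (cj g B) (g * a * g⁻¹) (g * u * g⁻¹) where
  toCB := h.toCB.cj g
  mem := conj_mem_cj g h.mem
  u1 := conj_ne_one h.u1
  uu := conj_inv h.uu
  inv := by
    rintro _ ⟨y, hy, rfl⟩
    exact conj_invs (h.inv y hy) g
  syl := by
    have := h.syl.cj g
    change IsSylowOf 2 (CfsgH1.cj g _) (CfsgH1.cj g _) at this
    rwa [cj_zpowers', cj_inf, cj_normalizer] at this

theorem cl_comm (h : CL ⊤ L a) {x : G} (hx : x ∈ L) : x * a = a * x := mem_c1.1 (h.L_le hx).2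

theorem cl_odd (h : CL ⊤ L a) {x : G} (ho : Odd (orderOf x)) (hx : x * a = a * x) : x ∈ L :=
  mem_of_odd_of_sup h.a_norm h.aa (h.cent_eq ▸ (⟨mem_top x, mem_c1.2 hx⟩ : x ∈ ⊤ ⊓ 𝒞₁ a)) ho

theorem cl_fr (h : CL ⊤ L a) (hu : u ∈ L) (u1 : u ≠ 1) (uu : u * u = 1) : Fr a u :=
  ⟨h.a_ne, u1, fun e => h.a_not (e ▸ hu), h.aa, uu, (cl_comm h hu).symm⟩

theorem JD.fr (h : JD L K Q A a t s w e q p) : Fr a t :=
  cl_fr h.cl h.tO.toBH.t_X h.tO.t_ne h.tO.tt

theorem JD.frw (h : JD L K Q A a t s w e q p) : Fr a w :=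
  cl_fr h.cl h.ls.w_mem h.ls.w_ne h.ls.ww

theorem BD.fr (h : BD L B a u) : Fr a u := cl_fr h.cl h.mem h.u1 h.uu

theorem JD.at (h : JD L K Q A a t s w e q p) (hu : u ∈ L) (u1 : u ≠ 1) (uu : u * u = 1) :
    ∃ x s' w', JD L (CfsgH1.cj x K) (CfsgH1.cj x Q) (CfsgH1.cj x A) a u s' w' e q p := by
  obtain ⟨x, hx, e⟩ := h.tO.conj u hu u1 uu
  have := h.cj x
  rw [cj_eq_of_mem hx, conj_eq_of_comm (cl_comm h.cl hx), e] at this
  exact ⟨x, _, _, this⟩

theorem JD.sq_two (h : JD L K Q A a t s w e q p) {R : Subgroup G} (hR : IsPGroup 2 R) :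
    ∀ x ∈ R, x * x = 1 := by
  intro x hx
  obtain ⟨g, -, hg⟩ := (h.cl.syl h.tO.syl).exists_cj_le hR le_top
  have hn : a ∈ 𝒩 (closure {t, s}) :=
    centralizer_le_normalizer _ (cent_anti (h.tO.V_le.trans inf_le_left) h.cl.a_cent)
  have h1 : g * x * g⁻¹ * (g * x * g⁻¹) = 1 := by
    have hy := hg (CfsgH2.conj_mem_cj g hx)
    set y := g * x * g⁻¹
    rcases (mem_sup_zpowers hn h.cl.aa).1 hy with h1 | h1
    · exact h.tO.sq_V _ h1
    · have h2 := h.tO.sq_V _ h1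
      have h3 := cl_comm h.cl (h.tO.V_le h1).1
      have h4 : y * a = a * y := by
        calc y * a = a * a * (y * a) := by rw [h.cl.aa, one_mul]
          _ = a * (y * a * a) := by rw [h3]; group
          _ = a * y := by rw [mul_assoc y, h.cl.aa, mul_one]
      calc y * y = y * (a * a) * y := by rw [h.cl.aa, mul_one]
        _ = y * a * (a * y) := by group
        _ = y * a * (y * a) := by rw [h4]
        _ = 1 := h2
  rw [← conj_mul'] at h1
  simpa using h1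

theorem JD.odd_sq (h : JD L K Q A a t s w e q p) (x : G) : Odd (orderOf (x * x)) := by
  have h1 : pt {2} x * pt {2} x = 1 := by
    refine h.sq_two (isPGroup_iff_isPi'.2 ?_) _ (mem_zpowers _)
    rw [Nat.card_zpowers]; exact isPi_pt _ _
  have h2 : x * x = pt {2}ᶜ x * pt {2}ᶜ x := by
    conv_lhs => rw [← pt_mul_pt {2} x]
    calc _ = pt {2} x * (pt {2}ᶜ x * pt {2} x) * pt {2}ᶜ x := by group
      _ = pt {2} x * pt {2} x * (pt {2}ᶜ x * pt {2}ᶜ x) := by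
        rw [← (pt_commute {2} {2}ᶜ x).eq]; group
      _ = _ := by rw [h1, one_mul]
  have h3 : Odd (orderOf (pt {2}ᶜ x)) := by
    rw [Nat.odd_iff, ← Nat.two_dvd_ne_zero]; exact isPi_compl_singleton.1 (isPi_pt _ _)
  rw [h2, ← pow_two]
  exact h3.of_dvd_nat (orderOf_pow_dvd 2)

theorem JD.not_inv (h : JD L K Q A a t s w e q p) {x y : G} (ho : Odd (orderOf y))
    (hi : x * x * y * (x * x)⁻¹ = y⁻¹) : y = 1 :=
  eq_one_of_odd_of_sq ho (CfsgBS.sq_eq_one_of_odd_inverts (h.odd_sq x) hi)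

theorem cop_of {a b : ℕ} (x y : ℤ) (h : x * a + y * b = 1) : a.Coprime b :=
  Nat.isCoprime_iff_coprime.1 ⟨x, y, h⟩

theorem ls_arith (tO : TO L K t s) (ls : LS L K t e q p Q A w) :
    Odd q ∧ Odd #A ∧ (#K).Coprime q ∧ (#K).Coprime #A ∧ q.Coprime #A ∧ 11 ≤ q ∧ 5 ≤ #A := by
  have h1 := ls.q_eq
  have h2 := ls.card_A
  have h3 := tO.six
  have h4 := tO.mod
  rcases ls.sign with rfl | rfl
  · refine ⟨Nat.odd_iff.2 (by omega), Nat.odd_iff.2 (by omega), cop_of (-2) 1 (by omega),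
      cop_of (-1) 1 (by omega), cop_of (-1) 2 (by omega), by omega, by omega⟩
  · refine ⟨Nat.odd_iff.2 (by omega), Nat.odd_iff.2 (by omega), cop_of 2 (-1) (by omega),
      cop_of 1 (-1) (by omega), cop_of 1 (-2) (by omega), by omega, by omega⟩

theorem JD.arith (h : JD L K Q A a t s w e q p) :
    Odd q ∧ Odd #A ∧ (#K).Coprime q ∧ (#K).Coprime #A ∧ q.Coprime #A ∧ 11 ≤ q ∧ 5 ≤ #A :=
  ls_arith h.tO h.ls

theorem ls_pQ (ls : LS L K t e q p Q A w) : IsPGroup p Q := isPGroup_of_isElementaryAbelian ls.elem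

theorem ls_p_dvd (tO : TO L K t s) (ls : LS L K t e q p Q A w) {r : ℕ} (hr : r.Prime) :
    r ∣ q ↔ r = p := by
  haveI := Fact.mk ls.prime
  obtain ⟨n, hn⟩ := IsPGroup.iff_card.1 (ls_pQ ls)
  rw [ls.card_Q] at hn
  have h1 := (ls_arith tO ls).2.2.2.2.2.1
  constructor
  · intro d
    rw [hn] at d
    exact (Nat.prime_dvd_prime_iff_eq hr ls.prime).1 (hr.dvd_of_dvd_pow d)
  · rintro rfl
    rw [hn]
    exact dvd_pow_self _ (by rintro rfl; simp at hn; omega)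

theorem JD.p_ne_three (h : JD L K Q A a t s w 1 q p) : p ≠ 3 := by
  rintro rfl
  haveI := Fact.mk Nat.prime_three
  obtain ⟨n, hn⟩ := IsPGroup.iff_card.1 (ls_pQ h.ls)
  rw [h.ls.card_Q] at hn
  have h1 := h.ls.q_eq
  have h4 := h.tO.mod
  have h5 : 3 ^ n % 8 = 1 ∨ 3 ^ n % 8 = 3 := by
    clear hn
    induction n with
    | zero => simp
    | succ n ih => rw [pow_succ]; omega
  omega

theorem JD.cbA (h : JD L K Q A a t s w e q p) (ag : AG (⊤ : Subgroup G)) : CB L A a :=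
  ⟨ag, h.cl, h.ls.ccA, h.arith.2.1⟩

theorem JD.cbQ (h : JD L K Q A a t s w e q p) (ag : AG (⊤ : Subgroup G)) : CB L Q a :=
  ⟨ag, h.cl, h.ls.ccQ, h.ls.card_Q ▸ h.arith.1⟩

theorem syl_zpowers {X : Subgroup G} (hu : u ∈ X) (u1 : u ≠ 1) (uu : u * u = 1) {n : ℕ}
    (hn : Odd n) (hX : #X = 2 * n) : IsSylowOf 2 (zpowers u) X := by
  refine ⟨zpowers_le.2 hu, two_zpowers uu, ?_⟩
  have h1 := CfsgH2.card_mul_relIndex (zpowers_le.2 hu)
  rw [Nat.card_zpowers, orderOf_eq_two' u1 uu, hX] at h1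
  rw [Nat.eq_of_mul_eq_mul_left two_pos h1, Nat.two_dvd_ne_zero]
  exact Nat.odd_iff.1 hn

theorem JD.bdA (h : JD L K Q A a t s w e q p) (ag : AG (⊤ : Subgroup G)) : BD L A a w where
  toCB := h.cbA ag
  mem := h.ls.w_mem
  u1 := h.ls.w_ne
  uu := h.ls.ww
  inv := h.ls.w_inv
  syl := by
    have hn := mem_norm_of_inv h.ls.w_inv
    have h1 : L ⊓ 𝒩 A = A ⊔ zpowers w := by
      apply le_antisymm
      · exact fun g hg => (mem_sup_zpowers hn h.ls.ww).2 (h.ls.norm_A g hg.1 hg.2)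
      · exact sup_le (le_inf h.ls.ccA.le le_normalizer) (zpowers_le.2 ⟨h.ls.w_mem, hn⟩)
    refine syl_zpowers ⟨h.ls.w_mem, hn⟩ h.ls.w_ne h.ls.ww h.arith.2.1 ?_
    rw [h1, card_sup_zpowers hn h.ls.ww fun hw =>
      h.ls.w_ne (eq_one_of_odd_of_sq (odd_orderOf_of_mem h.arith.2.1 hw) h.ls.ww)]

theorem JD.card_borel (h : JD L K Q A a t s w 1 q p) : #(L ⊓ 𝒩 Q) = q * #K := by
  have h1 := (h.ls.borel_pos rfl).1
  have h2 : K ≤ 𝒩 Q := le_sup_right.trans (h1.ge.trans inf_le_right)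
  rw [h1, sup_comm, CfsgH2.card_sup_of_disjoint h2, h.ls.card_Q, mul_comm]
  exact (CfsgH2.disjoint_of_coprime_card (h.ls.card_Q ▸ h.arith.2.2.1)).eq_bot

theorem JD.odd_borel (h : JD L K Q A a t s w (-1) q p) : Odd #(L ⊓ 𝒩 Q) := by
  have h1 := h.ls.borel_neg rfl
  have h2 : A ≤ 𝒩 Q := le_sup_right.trans (h1.ge.trans inf_le_right)
  rw [h1, sup_comm, CfsgH2.card_sup_of_disjoint h2, h.ls.card_Q]
  · exact h.arith.2.1.mul h.arith.1
  · exact (CfsgH2.disjoint_of_coprime_card (h.ls.card_Q ▸ h.arith.2.2.2.2.1.symm)).eq_bot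

theorem JD.bdQ (h : JD L K Q A a t s w 1 q p) (ag : AG (⊤ : Subgroup G)) : BD L Q a t where
  toCB := h.cbQ ag
  mem := h.tO.toBH.t_X
  u1 := h.tO.t_ne
  uu := h.tO.tt
  inv := (h.ls.borel_pos rfl).2
  syl := by
    refine syl_zpowers ⟨h.tO.toBH.t_X, mem_norm_of_inv (h.ls.borel_pos rfl).2⟩ h.tO.t_ne h.tO.tt
      (h.arith.1.mul (odd_oc K)) ?_
    rw [h.card_borel, ← h.tO.card_oc]; ring

end CfsgAG.Jl
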