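import Cfsg.Agent.AG.JL0

/-! WP JL, part 1: `C(ℓ)`, centralisers of odd elements of `L`, the T-lemma. -/

set_option autoImplicit false
set_option linter.style.haveILetI false
set_option linter.unusedSectionVars false

namespace CfsgAG.Jl

open Subgroup CfsgFT CfsgL0

variable {G : Type*} [Group G] [Finite G]
variable {L K Q A B : Subgroup G} {a t s w u g : G} {e : ℤ} {q p : ℕ}

theorem exists_ne_one {X : Subgroup G} (h : X ≠ ⊥) : ∃ x ∈ X, x ≠ 1 := by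
  obtain ⟨⟨x, hx⟩, h1⟩ := ne_bot_iff_exists_ne_one.1 h
  exact ⟨x, hx, fun e => h1 (Subtype.ext e)⟩

theorem eq_one_of_inv_of_comm {x y : G} (ho : Odd (orderOf y)) (h1 : x * y * x⁻¹ = y⁻¹)
    (h2 : x * y = y * x) : y = 1 := by
  rw [conj_eq_of_comm h2] at h1
  exact eq_one_of_odd_of_sq ho (by nth_rw 1 [h1]; exact inv_mul_cancel y)

theorem comm_mul_cancel {x y : G} (ha : a * y = y * a) (h : x * a * y = y * (x * a)) :
    x * y = y * x := by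
  have : x * y * a = y * x * a := by rw [mul_assoc, ← ha, ← mul_assoc, h, mul_assoc]
  exact mul_right_cancel this

theorem comm_mul' {x y : G} (ha : a * y = y * a) (h : x * y = y * x) :
    x * a * y = y * (x * a) := by
  rw [mul_assoc, ha, ← mul_assoc, h, mul_assoc]

theorem inv_mul_cancel_inv {x y : G} (ha : a * y = y * a) (h : x * a * y * (x * a)⁻¹ = y⁻¹) :
    x * y * x⁻¹ = y⁻¹ := by
  rw [← h, mul_assoc x a y, ha]; group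

theorem cl_norm (h : CL ⊤ L a) {X : Subgroup G} (hX : X ≤ L) : a ∈ 𝒩 X :=
  centralizer_le_normalizer _ (cent_anti hX h.a_cent)

theorem cl_mem_sup (h : CL ⊤ L a) {X : Subgroup G} (hX : X ≤ L) {x : G} :
    x ∈ X ⊔ zpowers a ↔ x ∈ X ∨ x * a ∈ X := mem_sup_zpowers (cl_norm h hX) h.aa

theorem JD.mem_Z (h : JD L K Q A a t s w e q p) {x : G} (hx : x ∈ K) (ho : Odd (orderOf x)) :
    x ∈ Oc K :=
  mem_of_odd_of_sup (norm_le_norm_oc (le_normalizer h.tO.t_mem)) h.tO.tt (h.tO.K_eq' ▸ hx) ho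

theorem JD.cent_L (h : JD L K Q A a t s w e q p) (hg : g ∈ L) (h2 : g * t = t * g) :
    g ∈ K ∨ ∀ y ∈ K, g * y * g⁻¹ = y⁻¹ := by
  refine (h.tO.cent g hg h2).imp_right fun h3 y hy => ?_
  have h4 := h.tO.inv y⁻¹ (inv_mem hy)
  have h5 := h.tO.comm _ h3 _ (inv_mem hy)
  have h6 : s⁻¹ = s := inv_eq_self h.tO.ss
  calc g * y * g⁻¹ = g * s * (s⁻¹ * y * s) * (g * s)⁻¹ := by group
    _ = g * s * y⁻¹ * (g * s)⁻¹ := by
      rw [show s⁻¹ * y * s = (s * y⁻¹ * s⁻¹)⁻¹ by rw [h6]; group; simp [h6], h4, inv_inv]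
    _ = y⁻¹ := conj_eq_of_comm h5

theorem JD.cent_four (h : JD L K Q A a t s w e q p) (hg : g ∈ 𝒞 (closure {a, t})) :
    g ∈ K ⊔ zpowers a ∨ ∀ y ∈ K, g * y * g⁻¹ = y⁻¹ := by
  obtain ⟨h1, h2⟩ := mem_cent_four.1 hg
  rcases h.cl.cent g (mem_top g) h1 with h3 | h3
  · exact (h.cent_L h3 h2).imp_left fun h4 => mem_sup_left h4
  · refine (h.cent_L h3 (comm_mul' h.fr.comm h2)).imp
      (fun h4 => (cl_mem_sup h.cl h.tO.K_le).2 (Or.inr h4)) fun h4 y hy => ?_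
    exact inv_mul_cancel_inv (cl_comm h.cl (h.tO.K_le hy)).symm (h4 y hy)

theorem JD.D_cent (h : JD L K Q A a t s w e q p) : K ⊔ zpowers a ≤ 𝒞 K :=
  sup_le h.tO.toBH.K_comm (zpowers_le.2 (cent_anti h.tO.K_le h.cl.a_cent))

theorem JD.four_le (h : JD L K Q A a t s w e q p) : closure {a, t} ≤ K ⊔ zpowers a :=
  Jl.four_le.2 ⟨mem_sup_right (mem_zpowers a), mem_sup_left h.tO.t_mem⟩

theorem JD.D_cent' (h : JD L K Q A a t s w e q p) : K ⊔ zpowers a ≤ 𝒞 (closure {a, t}) :=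
  sup_le (fun x hx => mem_cent_four.2 ⟨cl_comm h.cl (h.tO.K_le hx), h.tO.comm x hx t h.tO.t_mem⟩)
    (zpowers_le.2 (mem_cent_four.2 ⟨rfl, h.fr.comm⟩))

theorem JD.card_D (h : JD L K Q A a t s w e q p) : #(K ⊔ zpowers a) = 2 * #K :=
  card_sup_zpowers (cl_norm h.cl h.tO.K_le) h.cl.aa fun ha => h.cl.a_not (h.tO.K_le ha)

theorem JD.exists_Z (h : JD L K Q A a t s w e q p) : ∃ z ∈ Oc K, z ≠ 1 := exists_ne_one h.tO.oc_ne

theorem JD.odd_D (h : JD L K Q A a t s w e q p) (hg : g ∈ K ⊔ zpowers a) (ho : Odd (orderOf g)) :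
    g ∈ Oc K :=
  h.mem_Z (mem_of_odd_of_sup (cl_norm h.cl h.tO.K_le) h.cl.aa hg ho) ho

theorem JD.odd_cent (h : JD L K Q A a t s w e q p) (hg : g ∈ 𝒞 (closure {a, t}))
    (ho : Odd (orderOf g)) : g ∈ Oc K := by
  rcases h.cent_four hg with h1 | h1
  · exact h.odd_D h1 ho
  · obtain ⟨z, hz, z1⟩ := h.exists_Z
    exact absurd (eq_one_of_odd_of_sq (odd_orderOf_of_mem (odd_oc K) hz)
      (CfsgBS.sq_eq_one_of_odd_inverts ho (h1 z (oc_le hz)))) z1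

theorem JD.inv_D (h : JD L K Q A a t s w e q p) {v : G} (hv : v ∈ K ⊔ zpowers a)
    (vv : v * v = 1) : v ∈ closure {a, t} := by
  rcases (cl_mem_sup h.cl h.tO.K_le).1 hv with h1 | h1
  · rcases h.tO.inv_K h1 vv with rfl | rfl
    exacts [one_mem _, u_mem_four]
  · have h2 : v * a = a * v := (mem_cent_four.1 (h.D_cent' hv)).1
    have h3 : v * a * (v * a) = 1 := by
      calc _ = v * (a * v) * a := by group
        _ = v * v * (a * a) := by rw [← h2]; group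
        _ = 1 := by rw [vv, h.cl.aa, one_mul]
    have h4 : v * a ∈ closure {a, t} := by
      rcases h.tO.inv_K h1 h3 with e | e <;> rw [e]
      exacts [one_mem _, u_mem_four]
    simpa using mul_mem h4 (inv_mem a_mem_four)

theorem JD.inv_Z (h : JD L K Q A a t s w e q p) {j : G} (hj : j ∈ 𝒞 (closure {a, t}))
    (jj : j * j = 1) (hn : j ∉ closure {a, t}) : ∀ y ∈ K, j * y * j⁻¹ = y⁻¹ :=
  (h.cent_four hj).resolve_left fun h1 => hn (h.inv_D h1 jj)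

theorem JD.cent_z (h : JD L K Q A a t s w e q p) {z : G} (hz : z ∈ Oc K) (z1 : z ≠ 1)
    (hg : g ∈ 𝒞 (closure {a, t})) (h2 : g * z = z * g) : g ∈ K ⊔ zpowers a :=
  (h.cent_four hg).resolve_right fun h1 =>
    z1 (eq_one_of_inv_of_comm (odd_orderOf_of_mem (odd_oc K) hz) (h1 z (oc_le hz)) h2)

theorem JD.cent_az (h : JD L K Q A a t s w e q p) {z : G} (hz : z ∈ Oc K) (z1 : z ≠ 1)
    (h1 : g * a = a * g) (h2 : g * z = z * g) : g ∈ K ⊔ zpowers a := by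
  refine h.cent_z hz z1 (mem_cent_four.2 ⟨h1, ?_⟩) h2
  have hK := oc_le hz
  rcases h.cl.cent g (mem_top g) h1 with h3 | h3
  · exact h.tO.ti z hK z1 g h3 (by rwa [conj_eq_of_comm h2])
  · refine comm_mul_cancel h.fr.comm (h.tO.ti z hK z1 _ h3 ?_)
    rwa [conj_eq_of_comm (comm_mul' (cl_comm h.cl (h.tO.K_le hK)).symm h2)]

theorem JD.norm_Z (h : JD L K Q A a t s w e q p) : 𝒩 (closure {a, t}) ≤ 𝒩 (Oc K) := by
  intro g hg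
  refine mem_normalizer_of_cj_le (cj_le_iff.2 fun z hz => h.odd_cent ?_ ?_)
  · exact conj_mem_of_mem_norm (CfsgH2.le_normalizer_centralizer le_rfl hg)
      (h.D_cent' (mem_sup_left (oc_le hz)))
  · rw [orderOf_conj']; exact odd_orderOf_of_mem (odd_oc K) hz

theorem JD.cyc_Z (h : JD L K Q A a t s w e q p) : IsCyclic (Oc K) :=
  haveI := h.ls.cyc_K
  isCyclic_of_le oc_le

theorem JD.rot (h : JD L K Q A a t s w e q p) (hu : u ∈ L) (u1 : u ≠ 1) (uu : u * u = 1) :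
    ∃ ρ j : G, ρ ^ 3 = 1 ∧ Rot ρ a u ∧ j * j = 1 ∧ j * ρ = ρ * j ∧ j ∈ 𝒞 (closure {a, u}) ∧
      j ∉ closure {a, u} := by
  have f := cl_fr h.cl hu u1 uu
  obtain ⟨ρ, hρ, r3, r1, r2⟩ := h.tO.rho
  have fts : Fr t s := ⟨h.tO.t_ne, h.tO.toBH.s_ne, h.tO.toBH.t_ne_s, h.tO.tt, h.tO.ss, h.tO.ts⟩
  have key : ∃ γ : G, γ * t * γ⁻¹ = a ∧ (γ * s * γ⁻¹ = u ∨ γ * s * γ⁻¹ = a * u) := by
    obtain ⟨g, -, hg⟩ := h.cl.conj t (mem_top t) h.tO.t_ne h.tO.tt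
    have h1 : g⁻¹ * t * g⁻¹⁻¹ = a := by rw [← hg]; group
    have f1 := fts.conj g⁻¹
    rw [h1] at f1
    set v := g⁻¹ * s * g⁻¹⁻¹ with hv
    have k2 : ∀ v' ∈ L, v' ≠ 1 → v' * v' = 1 → ∃ x ∈ L, x * v' * x⁻¹ = u := fun v' h1 h2 h3 => by
      obtain ⟨x, hx, ex⟩ := h.tO.conj v' h1 h2 h3
      obtain ⟨y, hy, ey⟩ := h.tO.conj u hu u1 uu
      exact ⟨y * x⁻¹, mul_mem hy (inv_mem hx), by rw [← ex, ← ey]; group⟩
    have k3 : ∀ x ∈ L, x * g⁻¹ * t * (x * g⁻¹)⁻¹ = a := fun x hx => by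
      rw [← conj_eq_of_comm (cl_comm h.cl hx), ← h1]; group
    rcases h.cl.cent v (mem_top v) f1.comm.symm with h2 | h2
    · obtain ⟨x, hx, ex⟩ := k2 v h2 f1.u1 f1.uu
      exact ⟨x * g⁻¹, k3 x hx, Or.inl (by rw [← ex, hv]; group)⟩
    · rw [← f1.comm] at h2
      obtain ⟨x, hx, ex⟩ := k2 _ h2 f1.au1 f1.auau
      refine ⟨x * g⁻¹, k3 x hx, Or.inr ?_⟩
      rw [← ex, conj_mul', conj_eq_of_comm (cl_comm h.cl hx), ← mul_assoc, f.aa, one_mul, hv]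
      group
  obtain ⟨γ, h1, h2⟩ := key
  have h3 : closure {a, u} = CfsgH1.cj γ (closure {t, s}) := by
    rw [cj_four, h1]
    rcases h2 with h2 | h2 <;> rw [h2]
    exact (four_mul a u).symm
  have h4 : Rot (γ * ρ * γ⁻¹) a (γ * s * γ⁻¹) := h1 ▸ Rot.conj ⟨r1, r2⟩ γ
  have h5 : (γ * ρ * γ⁻¹) ^ 3 = 1 := by rw [conj_pow, r3]; simp
  have h6 := conj_comm (cl_comm h.cl hρ).symm γ
  have h7 : γ * a * γ⁻¹ ∈ 𝒞 (closure {a, u}) := by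
    rw [h3, ← cj_centralizer]
    exact conj_mem_cj γ (cent_anti (h.tO.V_le.trans inf_le_left) h.cl.a_cent)
  have h8 : γ * a * γ⁻¹ ∉ closure {a, u} := by
    rw [h3, conj_mem_cj_iff]
    exact fun h9 => h.cl.a_not (h.tO.V_le h9).1
  rcases h2 with h2 | h2 <;> rw [h2] at h4
  · exact ⟨_, _, h5, h4, conj_inv h.cl.aa, h6, h7, h8⟩
  · refine ⟨_, _, ?_, h4.sq f, conj_inv h.cl.aa, ?_, h7, h8⟩
    · rw [← pow_two, ← pow_mul, mul_comm, pow_mul, h5, one_pow]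
    · exact (Commute.mul_right h6 h6).eq

/-! ### self-centralising subgroups -/

theorem CB.mem (h : CB L B a) {y : G} (hy : y ∈ B) (y1 : y ≠ 1) (hg : g ∈ L)
    (h2 : g * y = y * g) : g ∈ B :=
  (h.cc.cent y hy y1).le ⟨hg, mem_c1.2 h2⟩

theorem CB.cent_ay (h : CB L B a) {y : G} (hy : y ∈ B) (y1 : y ≠ 1) (h1 : g * a = a * g)
    (h2 : g * y = y * g) : g ∈ B ⊔ zpowers a := by
  refine (cl_mem_sup h.cl h.cc.le).2 ((h.cl.cent g (mem_top g) h1).imp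
    (fun h3 => h.mem hy y1 h3 h2) fun h3 => h.mem hy y1 h3 ?_)
  exact comm_mul' (cl_comm h.cl (h.cc.le hy)).symm h2

theorem CB.odd_ay (h : CB L B a) {y : G} (hy : y ∈ B) (y1 : y ≠ 1) (h1 : g * a = a * g)
    (h2 : g * y = y * g) (ho : Odd (orderOf g)) : g ∈ B :=
  h.mem hy y1 (cl_odd h.cl ho h1) h2

theorem CB.syl_a (h : CB L B a) {y : G} (hy : y ∈ B) (y1 : y ≠ 1) {Y : Subgroup G}
    (hY : Y ≤ 𝒞₁ y) (ha : a ∈ Y) : IsSylowOf 2 (zpowers a) Y := by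
  refine CfsgH2.isSylowOf_of_maximal (two_zpowers h.cl.aa) (zpowers_le.2 ha) fun R h2 h3 h4 => ?_
  have h5 : IsSylowOf 2 (zpowers a) (B ⊔ zpowers a) :=
    syl_zpowers (mem_sup_right (mem_zpowers a)) h.cl.a_ne h.cl.aa h.odd
      (card_sup_zpowers (cl_norm h.cl h.cc.le) h.cl.aa fun ha => h.cl.a_not (h.cc.le ha))
  refine (h5.eq_of_le h2 h3 fun x hx => h.cent_ay hy y1 ?_ (mem_c1.1 (hY (h4 hx)))).le
  exact le_cent_iff.1 (h.ag.comm h2 le_top) x hx a (h3 (mem_zpowers a))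

theorem CB.oc_sup (h : CB L B a) {y : G} (hy : y ∈ B) (y1 : y ≠ 1) {Y : Subgroup G}
    (hY : Y ≤ 𝒞₁ y) (ha : a ∈ Y) : Oc Y ⊔ zpowers a = Y :=
  (PNil_sdp (pNil_of_cyclic_min (h.syl_a hy y1 hY ha) inferInstance fun _ hq _ => hq.two_le)
    (h.syl_a hy y1 hY ha)).sup_eq

theorem CB.mem_oc (h : CB L B a) {y : G} (hy : y ∈ B) (y1 : y ≠ 1) {Y : Subgroup G}
    (hY : Y ≤ 𝒞₁ y) (ha : a ∈ Y) (hg : g ∈ Y) (ho : Odd (orderOf g)) : g ∈ Oc Y :=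
  mem_of_odd_of_sup (le_norm_oc ha) h.cl.aa (by rwa [h.oc_sup hy y1 hY ha]) ho

theorem CB.le_oc (h : CB L B a) {y : G} (hy : y ∈ B) (y1 : y ≠ 1) {Y X : Subgroup G}
    (hY : Y ≤ 𝒞₁ y) (ha : a ∈ Y) (hX : X ≤ Y) (ho : Odd #X) : X ≤ Oc Y := fun _ hx =>
  h.mem_oc hy y1 hY ha (hX hx) (odd_orderOf_of_mem ho hx)

theorem CB.solv (h : CB L B a) {y : G} (hy : y ∈ B) (y1 : y ≠ 1) {Y : Subgroup G}
    (hY : Y ≤ 𝒞₁ y) (ha : a ∈ Y) : Group.IsSolvable Y := by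
  rw [← h.oc_sup hy y1 hY ha]
  exact solvable_sup (zpowers_le.2 (le_norm_oc ha)) (solvable_oc Y) (solv_two (two_zpowers h.cl.aa))

theorem CB.a_c1 (h : CB L B a) {y : G} (hy : y ∈ B) : a ∈ 𝒞₁ y :=
  mem_c1.2 (cl_comm h.cl (h.cc.le hy)).symm

theorem CB.le_c1 (h : CB L B a) {y : G} (hy : y ∈ B) : B ≤ 𝒞₁ y := fun x hx =>
  mem_c1.2 (le_cent_iff.1 h.cc.comm x hx y hy)

theorem CB.ne_two (h : CB L B a) {r : ℕ} (hr : r ∣ #B) : r ≠ 2 := by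
  rintro rfl
  exact absurd (even_iff_two_dvd.2 hr) (Nat.not_even_iff_odd.2 h.odd)

theorem CB.norm (h : CB L B a) {y : G} (hy : y ∈ B) (y1 : y ≠ 1) (hg : g ∈ L)
    (h2 : g * y * g⁻¹ ∈ B) : g ∈ 𝒩 B := by
  rw [mem_normalizer_iff_cj]
  nth_rw 1 [← h.cc.cent y hy y1]
  rw [cj_inf, cj_eq_of_mem hg, cj_centralizer_singleton, h.cc.cent _ h2 (conj_ne_one y1)]

variable {r : ℕ} [hr : Fact r.Prime]

theorem CB.syl_L (h : CB L B a) {R : Subgroup G} (hR : IsSylowOf r R B) (R0 : R ≠ ⊥) :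
    IsSylowOf r R L := by
  obtain ⟨y, hy, y1⟩ := exists_ne_one R0
  refine CfsgH2.isSylowOf_of_maximal hR.2.1 (hR.1.trans h.cc.le) fun P h2 h3 h4 => ?_
  exact (hR.eq_of_le h2 h3 fun x hx => h.mem (hR.1 hy) y1 (h4 hx)
    (le_cent_iff.1 (h.ag.comm h2 le_top) x hx y (h3 hy))).le

theorem CB.conj_L (h : CB L B a) (hd : r ∣ #B) {X : Subgroup G} (hX : IsPGroup r X)
    (hL : X ≤ L) : ∃ x ∈ L, X ≤ CfsgH1.cj x B := by
  obtain ⟨R, hR⟩ := CfsgH2.exists_isSylowOf r B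
  obtain ⟨x, hx, e⟩ := (h.syl_L hR ((sylow_ne_bot_iff hR).2 hd)).exists_cj_le hX hL
  exact ⟨x⁻¹, inv_mem hx, cj_le_iff_le_cj_inv.1 (le_trans e hR.1)⟩

theorem CB.conj_into (h : CB L B a) (hd : r ∣ #B) {X : Subgroup G} (hX : IsPGroup r X) {v : G}
    (v1 : v ≠ 1) (vv : v * v = 1) (hv : X ≤ 𝒞₁ v) : ∃ γ, γ * a * γ⁻¹ = v ∧ X ≤ CfsgH1.cj γ B := by
  obtain ⟨g, -, rfl⟩ := h.cl.conj v (mem_top v) v1 vv
  have h' := h.cj g
  obtain ⟨x, hx, e⟩ := h'.conj_L (by rwa [card_cj]) hX fun y hy =>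
    cl_odd h'.cl (odd_orderOf_of_mem (odd_of_pGroup (h.ne_two hd) hX) hy) (mem_c1.1 (hv hy))
  refine ⟨x * g, ?_, by rwa [← cj_cj]⟩
  rw [← conj_eq_of_comm (cl_comm h'.cl hx)]; group

theorem syl_top_of_card {P T X : Subgroup G} (hT : IsSylowOf r T ⊤) (hP : IsSylowOf r P X)
    (hTX : T ≤ X) : IsSylowOf r P ⊤ :=
  CfsgH2.isSylowOf_of_card_eq le_top (by
    rw [hP.card_eq, ← (hT.mono hTX le_top).card_eq, hT.card_eq])

theorem CB.syl_top (h : CB L B a) (r2 : r ≠ 2) {y : G} (hy : y ∈ B) (y1 : y ≠ 1) {Y X P : Subgroup G}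
    (hY : Y ≤ 𝒞₁ y) (ha : a ∈ Y) (hX : IsPGroup r X) (hXY : 𝒞 X ≤ Y) (hP : IsSylowOf r P (Oc Y)) :
    IsSylowOf r P ⊤ := by
  obtain ⟨T, hT, hXT⟩ := CfsgH2.exists_isSylowOf_ge hX le_top
  refine syl_top_of_card hT hP (h.le_oc hy y1 hY ha ?_ (odd_of_pGroup r2 hT.2.1))
  exact ((h.ag.comm hT.2.1 le_top).trans (cent_anti hXT)).trans hXY

theorem cent_le_c1 {X : Subgroup G} {y : G} (hy : y ∈ X) : 𝒞 X ≤ 𝒞₁ y := fun _ hx =>
  mem_c1.2 (mem_cent_iff.1 hx y hy)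

theorem CB.exists_hat (h : CB L B a) {R D : Subgroup G} (hR : IsSylowOf r R B) (R0 : R ≠ ⊥)
    (hD : D ≤ 𝒩 R) (hc : (#D).Coprime #(Oc (𝒞 R))) :
    ∃ P, IsSylowOf r P ⊤ ∧ D ≤ 𝒩 P ∧ P ⊓ 𝒞₁ a = R := by
  obtain ⟨y, hy, y1⟩ := exists_ne_one R0
  have r2 := h.ne_two ((sylow_ne_bot_iff hR).1 R0)
  have ha : a ∈ 𝒞 R := cent_anti (hR.1.trans h.cc.le) h.cl.a_cent
  have h1 : R ≤ Oc (𝒞 R) := h.le_oc (hR.1 hy) y1 (cent_le_c1 hy) ha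
    (hR.1.trans (h.cc.comm.trans (cent_anti hR.1))) (odd_of_le hR.1 h.odd)
  obtain ⟨P, hP, hn, hle⟩ := CfsgH2.exists_invariant_sylow_ge
    ((CfsgH2.le_normalizer_centralizer hD).trans norm_le_norm_oc) hc (Or.inr (solvable_oc _))
    hR.2.1 h1 hD
  refine ⟨P, h.syl_top r2 (hR.1 hy) y1 (cent_le_c1 hy) ha hR.2.1 le_rfl hP, hn, ?_⟩
  refine hR.eq_of_le (hP.2.1.to_inf_left)
    (le_inf hle fun x hx => mem_c1.2 (cl_comm h.cl (h.cc.le (hR.1 hx)))) fun x hx => ?_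
  exact h.odd_ay (hR.1 hy) y1 (mem_c1.1 hx.2) (mem_cent_iff.1 (oc_le (hP.1 hx.1)) y hy)
    (odd_orderOf_of_mem (odd_oc _) (hP.1 hx.1))

theorem BD.eq_one (h : BD L B a u) {x : G} (hx : x ∈ B) (h2 : x * u = u * x) : x = 1 :=
  eq_one_of_inv_of_comm (odd_orderOf_of_mem h.odd hx) (h.inv x hx) h2.symm

theorem BD.tcore1 (h : BD L B a u) (hd : r ∣ #B) {X : Subgroup G} (hX : IsPGroup r X)
    (ha : X ≤ 𝒞₁ a) {x : G} (hx : x ∈ X) (x1 : x ≠ 1) (hi : u * x * u⁻¹ = x⁻¹) :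
    ∃ c ∈ 𝒞 (closure {a, u}), X ≤ CfsgH1.cj c B := by
  obtain ⟨d, hd', e⟩ := h.toCB.conj_L hd hX fun y hy =>
    cl_odd h.cl (odd_orderOf_of_mem (odd_of_pGroup (h.toCB.ne_two hd) hX) hy) (mem_c1.1 (ha hy))
  have h1 : d⁻¹ * u * d⁻¹⁻¹ ∈ L ⊓ 𝒩 B := by
    have hL := mul_mem (mul_mem (inv_mem hd') h.mem) (inv_mem (inv_mem hd'))
    have h2 : d⁻¹ * x * d⁻¹⁻¹ ∈ B := by simpa using mem_cj.1 (e hx)
    exact ⟨hL, h.toCB.norm h2 (conj_ne_one x1) hL (by rw [conj_invs hi]; exact inv_mem h2)⟩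
  obtain ⟨n, hn, e2⟩ := exists_conj_mem_syl h.syl h1 (conj_inv h.uu)
  have e3 := ((mem_zpowers_inv h.uu).1 e2).resolve_left (conj_ne_one (conj_ne_one h.u1))
  refine ⟨d * n⁻¹, mem_cent_four.2 ⟨cl_comm h.cl (mul_mem hd' (inv_mem hn.1)),
    comm_of_conj_eq ?_⟩, ?_⟩
  · nth_rw 1 [← e3]; group
  · rwa [← cj_cj, cj_eq_of_mem_normalizer (inv_mem hn.2)]

theorem norm_c1_of_inv {x v : G} (hi : v * x * v⁻¹ = x⁻¹) : v ∈ 𝒩 (𝒞₁ x) := by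
  rw [mem_normalizer_iff_cj, cj_centralizer_singleton, hi]
  ext y
  rw [mem_c1, mem_c1]
  exact Commute.inv_right_iff

theorem BD.four_norm (h : BD L B a u) {x : G} (hx : x ∈ B) : closure {a, u} ≤ 𝒩 (𝒞₁ x) :=
  four_le.2 ⟨le_normalizer (h.toCB.a_c1 hx), norm_c1_of_inv (h.inv x hx)⟩

theorem BD.tcore2 (h : BD L B a u) (r2 : r ≠ 2) {P P' : Subgroup G} (hP : IsSylowOf r P ⊤)
    (hP' : IsSylowOf r P' ⊤) (hn : closure {a, u} ≤ 𝒩 P) (hn' : closure {a, u} ≤ 𝒩 P') {x : G}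
    (x1 : x ≠ 1) (hx : x ∈ B) (h1 : x ∈ P) (h2 : x ∈ P') : P = P' := by
  have key : ∀ T : Subgroup G, IsSylowOf r T ⊤ → x ∈ T → IsSylowOf r T (Oc (𝒞₁ x)) :=
    fun T hT h3 => hT.mono (h.toCB.le_oc hx x1 le_rfl (h.toCB.a_c1 hx)
      ((h.ag.comm hT.2.1 le_top).trans (cent_le_c1 h3)) (odd_of_pGroup r2 hT.2.1)) le_top
  obtain ⟨c, hc, e⟩ := CfsgH2.invariant_sylow_conj ((h.four_norm hx).trans norm_le_norm_oc)
    (coprime_two_of_odd h.fr.two (odd_oc _)) (Or.inr (solvable_oc _)) (key P hP h1)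
    (key P' hP' h2) hn hn'
  obtain ⟨c1, c2⟩ := mem_cent_four.1 hc.2
  have := h.eq_one (h.toCB.odd_ay hx x1 c1 (mem_c1.1 (oc_le hc.1))
    (odd_orderOf_of_mem (odd_oc _) hc.1)) c2
  rw [← e, this, CfsgH2.cj_one]

theorem inf_c1_norm {P : Subgroup G} {v b : G} (hv : v ∈ 𝒩 P) (h : v * b = b * v) :
    v ∈ 𝒩 (P ⊓ 𝒞₁ b) :=
  zpowers_le.1 (CfsgH2.le_normalizer_inf (zpowers_le.2 hv) (zpowers_le.2 (le_normalizer (mem_c1.2 h))))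

theorem BD.tcore (h : BD L B a u) {P : Subgroup G} (hP : IsSylowOf r P ⊤)
    (hn : closure {a, u} ≤ 𝒩 P) (hR : IsSylowOf r (P ⊓ 𝒞₁ a) B) (R0 : P ⊓ 𝒞₁ a ≠ ⊥) {γ : G}
    (hγ : γ ∈ 𝒩 (closure {a, u})) (h0 : P ⊓ 𝒞₁ (γ * a * γ⁻¹) ≠ ⊥) :
    ∃ c ∈ 𝒞 (closure {a, u}), c * γ ∈ 𝒩 P := by
  have hd := (sylow_ne_bot_iff hR).1 R0
  have r2 := h.toCB.ne_two hd
  have h' := h.cj γ
  have e4 : closure {γ * a * γ⁻¹, γ * u * γ⁻¹} = closure {a, u} := by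
    rw [← cj_four, cj_eq_of_mem_normalizer hγ]
  obtain ⟨x, hx, x1⟩ := exists_ne_one h0
  have hi : ∀ y ∈ P ⊓ 𝒞₁ (γ * a * γ⁻¹), γ * u * γ⁻¹ * y * (γ * u * γ⁻¹)⁻¹ = y⁻¹ := by
    refine inv_of_fpf (odd_of_pGroup r2 hP.2.1.to_inf_left) h'.uu
      (inf_c1_norm (hn (e4 ▸ u_mem_four)) h'.fr.comm.symm) (eq_bot_iff.2 fun y hy => ?_)
    obtain ⟨k1, k2⟩ := mem_cent_four.1 (e4 ▸ mem_cent_four.2 ⟨mem_c1.1 hy.1.2, mem_c1.1 hy.2⟩)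
    exact h.eq_one (hR.1 ⟨hy.1.1, mem_c1.2 k1⟩) k2
  obtain ⟨c, hc, hle⟩ := h'.tcore1 (by rwa [card_cj]) hP.2.1.to_inf_left inf_le_right hx x1 (hi x hx)
  rw [cj_cj] at hle
  have h'' := h.cj (c * γ)
  have hcγ : c * γ ∈ 𝒩 (closure {a, u}) := mul_mem (centralizer_le_normalizer _ (e4 ▸ hc)) hγ
  have e5 : closure {c * γ * a * (c * γ)⁻¹, c * γ * u * (c * γ)⁻¹} = closure {a, u} := by
    rw [← cj_four, cj_eq_of_mem_normalizer hcγ]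
  refine ⟨c, e4 ▸ hc, mem_normalizer_iff_cj.2 (h''.tcore2 r2
    (hP.cj_of_mem_normalizer (by rw [normalizer_eq_top_iff.2 inferInstance]; trivial)) hP ?_
    (e5 ▸ hn) x1 (hle hx) ?_ hx.1)⟩
  · rw [← cj_four, ← cj_normalizer]; exact cj_mono _ hn
  · have h5 := le_syl_of_norm (hR.cj (c * γ)) hP.2.1.to_inf_left hle
      (hle.trans (h''.cc.comm.trans ((cent_anti (hR.cj (c * γ)).1).trans
        (centralizer_le_normalizer _))))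
    exact cj_mono _ inf_le_left (h5 hx)

theorem Rot.inv (h : Rot g a u) (f : Fr a u) : Rot g⁻¹ a (a * u) := by
  constructor
  · nth_rw 1 [← h.third f]; group
  · rw [f.aau, ← h.2]; group

theorem Fr.le_of_cent (f : Fr a u) {P M : Subgroup G} (hP : Odd #P) (hn : closure {a, u} ≤ 𝒩 P)
    (h1 : P ⊓ 𝒞₁ a ≤ M) (h2 : P ⊓ 𝒞₁ u ≤ M) (h3 : P ⊓ 𝒞₁ (a * u) ≤ M) : P ≤ M := by
  refine le_bot_of_cent f.sq f.card.ge hP hn fun v hv v1 => ?_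
  rcases f.mem.1 hv with rfl | rfl | rfl | rfl
  exacts [absurd rfl v1, h1, h2, h3]

/-- the T-lemma -/
theorem BD.tlem (h : BD L B a u) {ρ : G} (hρ : Rot ρ a u) {P : Subgroup G} (hP : IsSylowOf r P ⊤)
    (hn : closure {a, u} ≤ 𝒩 P) (hR : IsSylowOf r (P ⊓ 𝒞₁ a) B) (R0 : P ⊓ 𝒞₁ a ≠ ⊥) :
    P ≤ 𝒞₁ a ∨ ∃ g ∈ 𝒩 P, Rot g a u := by
  have r2 := h.toCB.ne_two ((sylow_ne_bot_iff hR).1 R0)
  by_cases h1 : P ⊓ 𝒞₁ u = ⊥
  · by_cases h2 : P ⊓ 𝒞₁ (a * u) = ⊥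
    · exact Or.inl (h.fr.le_of_cent (odd_of_pGroup r2 hP.2.1) hn inf_le_right (h1 ▸ bot_le)
        (h2 ▸ bot_le))
    · have h3 := hρ.inv h.fr
      obtain ⟨c, hc, h4⟩ := h.tcore hP hn hR R0 (inv_mem (hρ.norm h.fr)) (by rwa [h3.1])
      exact Or.inr ⟨_, mul_mem h4 h4, (h3.cent_mul (by rwa [four_mul])).sq h.fr⟩
  · obtain ⟨c, hc, h4⟩ := h.tcore hP hn hR R0 (hρ.norm h.fr) (by rwa [hρ.1])
    exact Or.inr ⟨_, h4, hρ.cent_mul hc⟩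

theorem Fr.card_eq (f : Fr a u) {P : Subgroup G} (hP : Odd #P) (hc : P ≤ 𝒞 P)
    (hn : closure {a, u} ≤ 𝒩 P) (h0 : ∀ x ∈ P, x * a = a * x → x * u = u * x → x = 1) :
    #P = #(P ⊓ 𝒞₁ a) * (#(P ⊓ 𝒞₁ u) * #(P ⊓ 𝒞₁ (a * u))) := by
  have nn : ∀ X Y : Subgroup G, X ≤ P → Y ≤ P → X ≤ 𝒩 Y := fun X Y h1 h2 =>
    h1.trans (hc.trans ((cent_anti h2).trans (centralizer_le_normalizer _)))
  have k : ∀ x, x * (a * u) = a * u * x → x * a = a * x → x * u = u * x := fun x h1 h2 => by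
    have := comm_mul' h2.symm h1.symm
    rw [f.aua] at this
    exact this.symm
  have i1 := inv_of_fpf (odd_of_le (inf_le_left (b := 𝒞₁ u)) hP) f.aa
    (inf_c1_norm (hn a_mem_four) f.comm)
    (eq_bot_iff.2 fun x hx => h0 x hx.1.1 (mem_c1.1 hx.2) (mem_c1.1 hx.1.2))
  have i2 := inv_of_fpf (odd_of_le (inf_le_left (b := 𝒞₁ (a * u))) hP) f.aa
    (inf_c1_norm (hn a_mem_four) f.mul.comm)
    (eq_bot_iff.2 fun x hx => h0 x hx.1.1 (mem_c1.1 hx.2) (k x (mem_c1.1 hx.1.2) (mem_c1.1 hx.2)))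
  rw [← CfsgH2.card_sup_of_disjoint (nn _ _ inf_le_left inf_le_left),
    ← CfsgH2.card_sup_of_disjoint (nn _ _ inf_le_left (sup_le inf_le_left inf_le_left))]
  · exact congrArg (fun X : Subgroup G => #X) (le_antisymm (f.le_of_cent hP hn le_sup_left
      (le_sup_of_le_right le_sup_left) (le_sup_of_le_right le_sup_right))
      (sup_le inf_le_left (sup_le inf_le_left inf_le_left)))
  · refine eq_bot_iff.2 fun x hx => ?_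
    obtain ⟨y, hy, z, hz, rfl⟩ :=
      (CfsgH2.mem_sup_of_le_normalizer (nn _ _ inf_le_left inf_le_left)).1 hx.2
    refine eq_one_of_inv_of_comm (odd_orderOf_of_mem hP hx.1.1) ?_ (mem_c1.1 hx.1.2).symm
    rw [conj_mul', i1 y hy, i2 z hz, ← mul_inv_rev, le_cent_iff.1 hc z hz.1 y hy.1]
  · refine eq_bot_iff.2 fun x hx => h0 x hx.1.1 ?_ (mem_c1.1 hx.1.2)
    have := comm_mul' (mem_c1.1 hx.1.2).symm (mem_c1.1 hx.2.2).symm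
    rw [f.auu] at this
    exact this.symm

theorem card_inf_c1 {P : Subgroup G} (hg : g ∈ 𝒩 P) (v : G) :
    #(P ⊓ 𝒞₁ (g * v * g⁻¹)) = #(P ⊓ 𝒞₁ v) := by
  rw [← cj_centralizer_singleton, ← card_cj g (P ⊓ 𝒞₁ v), cj_inf, cj_eq_of_mem_normalizer hg]

theorem Rot.card_eq (h : Rot g a u) (f : Fr a u) {P : Subgroup G} (hP : Odd #P) (hc : P ≤ 𝒞 P)
    (hn : closure {a, u} ≤ 𝒩 P) (h0 : ∀ x ∈ P, x * a = a * x → x * u = u * x → x = 1)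
    (hg : g ∈ 𝒩 P) : #P = #(P ⊓ 𝒞₁ a) ^ 3 := by
  rw [f.card_eq hP hc hn h0, ← h.2, card_inf_c1 hg, ← h.1, card_inf_c1 hg]; ring

end CfsgAG.Jl
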