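import Cfsg.Agent.AG.JL1

/-! WP JL, part 2: `C(z)` for `z ∈ Z^#`, and `3 ∤ |Z|`. -/

set_option autoImplicit false
set_option linter.style.haveILetI false
set_option linter.unusedSectionVars false

namespace CfsgAG.Jl

open Subgroup CfsgFT CfsgL0
open scoped commutatorElement

universe u

theorem a5_1 : ∀ x : Equiv.Perm (Fin 5), Equiv.Perm.sign x = 1 →
    x ^ 2 = 1 ∨ x ^ 3 = 1 ∨ x ^ 5 = 1 := by decide +kernel

section
variable {G : Type*} [Group G] [Finite G]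
variable {L K Q A B E H : Subgroup G} {a t s w u g : G} {e : ℤ} {q p : ℕ}

theorem cauchy {r : ℕ} (hr : r.Prime) {X : Subgroup G} (h : r ∣ #X) : ∃ x ∈ X, orderOf x = r := by
  haveI := Fact.mk hr
  obtain ⟨x, hx⟩ := exists_prime_orderOf_dvd_card' r h
  exact ⟨x, x.2, by rw [← hx, orderOf_coe]⟩

theorem ne_one_of_orderOf {r : ℕ} (hr : r.Prime) {x : G} (h : orderOf x = r) : x ≠ 1 := by
  rintro rfl
  rw [orderOf_one] at h
  exact hr.one_lt.ne h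

theorem orderOf_dvd_of_mem {X : Subgroup G} {x : G} (h : x ∈ X) : orderOf x ∣ #X :=
  X.orderOf_dvd_natCard h

theorem JD.types (h : JD L K Q A a t s w e q p) {x j : G} (ho : Odd (orderOf x)) (j1 : j ≠ 1)
    (jj : j * j = 1) (hc : x * j = j * x) : ∃ γ, γ * j * γ⁻¹ = a ∧
      (γ * x * γ⁻¹ ∈ Oc K ∨ γ * x * γ⁻¹ ∈ Q ∨ γ * x * γ⁻¹ ∈ A) := by
  obtain ⟨g, -, rfl⟩ := h.cl.conj j (mem_top j) j1 jj
  have h1 : g⁻¹ * x * g⁻¹⁻¹ ∈ L := by
    refine cl_odd h.cl (by rwa [orderOf_conj']) ?_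
    have := conj_comm hc g⁻¹
    rwa [show g⁻¹ * (g * a * g⁻¹) * g⁻¹⁻¹ = a by group] at this
  obtain ⟨y, hy, h2⟩ := h.ls.cover _ h1
  refine ⟨y * g⁻¹, ?_, ?_⟩
  · nth_rw 2 [← conj_eq_of_comm (cl_comm h.cl hy)]; group
  · rw [show y * g⁻¹ * x * (y * g⁻¹)⁻¹ = y * (g⁻¹ * x * g⁻¹⁻¹) * y⁻¹ by group]
    exact h2.imp_left fun h3 => h.mem_Z h3 (by rwa [orderOf_conj', orderOf_conj'])

theorem JD.conj_Z (h : JD L K Q A a t s w e q p) {r : ℕ} (hr : r.Prime) (hd : r ∣ #(Oc K))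
    {x j : G} (hx : orderOf x = r) (j1 : j ≠ 1) (jj : j * j = 1) (hc : x * j = j * x) :
    ∃ γ, γ * j * γ⁻¹ = a ∧ γ * x * γ⁻¹ ∈ Oc K := by
  obtain ⟨γ, h1, h2⟩ := h.types (hx ▸ (odd_oc K).of_dvd_nat hd) j1 jj hc
  have hK := hd.trans (card_dvd_of_le (oc_le (X := K)))
  refine ⟨γ, h1, h2.resolve_right fun h3 => ?_⟩
  rcases h3 with h3 | h3 <;> have h4 := orderOf_dvd_of_mem h3 <;> rw [orderOf_conj', hx] at h4
  · rw [h.ls.card_Q] at h4
    exact hr.one_lt.ne' (Nat.eq_one_of_dvd_coprimes h.arith.2.2.1 hK h4)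
  · exact hr.one_lt.ne' (Nat.eq_one_of_dvd_coprimes h.arith.2.2.2.1 hK h4)

theorem JD.cent_v (h : JD L K Q A a t s w e q p) {z v : G} (hz : z ∈ Oc K) (z1 : z ≠ 1)
    (hv : v ∈ closure {a, t}) (v1 : v ≠ 1) (h1 : g * v = v * g) (h2 : g * z = z * g) :
    g ∈ K ⊔ zpowers a := by
  obtain ⟨ρ, j, -, hρ, -⟩ := h.rot h.tO.toBH.t_X h.tO.t_ne h.tO.tt
  obtain ⟨k, hk⟩ := hρ.exists_conj h.fr hv v1
  have hn := pow_mem (hρ.norm h.fr) k
  have h3 := conj_comm h1 (ρ ^ k)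
  rw [hk] at h3
  have h4 := h.D_cent' (h.cent_az (conj_mem_of_mem_norm (h.norm_Z hn) hz) (conj_ne_one z1) h3
    (conj_comm h2 _))
  refine h.cent_z hz z1 ?_ h2
  have := conj_mem_of_mem_norm (CfsgH2.le_normalizer_centralizer le_rfl (inv_mem hn)) h4
  simpa [mul_assoc] using this

theorem JD.Z_c1 (h : JD L K Q A a t s w e q p) {z : G} (hz : z ∈ Oc K) : K ⊔ zpowers a ≤ 𝒞₁ z :=
  h.D_cent.trans (cent_le_c1 (oc_le hz))

theorem JD.syl_z (h : JD L K Q A a t s w e q p) (ag : AG (⊤ : Subgroup G)) {z : G} (hz : z ∈ Oc K)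
    (z1 : z ≠ 1) : IsSylowOf 2 (closure {a, t}) (𝒞₁ z) :=
  CfsgH2.isSylowOf_of_maximal h.fr.two (h.four_le.trans (h.Z_c1 hz)) fun _ h2 h3 h4 x hx =>
    h.inv_D (h.cent_az hz z1 (le_cent_iff.1 (ag.comm h2 le_top) x hx a (h3 a_mem_four))
      (mem_c1.1 (h4 hx))) (h.sq_two h2 x hx)

theorem JD.oc_z (h : JD L K Q A a t s w e q p) {z : G} (hz : z ∈ Oc K) (z1 : z ≠ 1) :
    Oc (𝒞₁ z) ≤ Oc K :=
  le_bot_of_cent h.fr.sq h.fr.card.ge (odd_oc _) ((h.four_le.trans (h.Z_c1 hz)).trans le_norm_oc)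
    fun _ hv v1 _ hx => h.odd_D (h.cent_v hz z1 hv v1 (mem_c1.1 hx.2) (mem_c1.1 (oc_le hx.1)))
      (odd_orderOf_of_mem (odd_oc _) hx.1)

theorem JD.four_cent_Z (h : JD L K Q A a t s w e q p) : closure {a, t} ≤ 𝒞 (Oc K) :=
  h.four_le.trans (h.D_cent.trans (cent_anti oc_le))

theorem JD.solv_z (h : JD L K Q A a t s w e q p) (ag : AG (⊤ : Subgroup G)) {z : G}
    (hz : z ∈ Oc K) (z1 : z ≠ 1) (hs : Group.IsSolvable (𝒞₁ z)) : 𝒞₁ z ≤ 𝒩 (closure {a, t}) := by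
  have h1 := (ag.mono le_top).le_pCoreOf_of_cent hs h.fr.two (h.syl_z ag hz z1).1
    (h.four_cent_Z.trans (cent_anti (h.oc_z hz z1)))
  rw [← (h.syl_z ag hz z1).eq_of_le isPGroup_pCoreOf h1 pCoreOf_le]
  exact le_normalizer_pCoreOf

theorem JD.D_le (h : JD L K Q A a t s w e q p) : K ⊔ zpowers a ≤ Oc K ⊔ closure {a, t} :=
  sup_le (h.tO.K_eq'.le.trans (sup_le_sup_left (zpowers_le.2 u_mem_four) _))
    (le_sup_of_le_right (zpowers_le.2 a_mem_four))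

theorem JD.cent_of_norm (h : JD L K Q A a t s w e q p) (hg : g ∈ 𝒩 (closure {a, t}))
    (h1 : g * a = a * g) : g ∈ 𝒞 (closure {a, t}) := by
  refine mem_cent_four.2 ⟨h1, comm_of_conj_eq ?_⟩
  have h2 : g * t * g⁻¹ ∈ L := by
    rcases h.cl.cent g (mem_top g) h1 with h3 | h3
    · exact mul_mem (mul_mem h3 h.tO.toBH.t_X) (inv_mem h3)
    · have := mul_mem (mul_mem h3 h.tO.toBH.t_X) (inv_mem h3)
      rwa [mul_assoc g a t, h.fr.comm, show g * (t * a) * (g * a)⁻¹ = g * t * g⁻¹ by group] at this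
  rcases h.fr.mem.1 (conj_mem_of_mem_norm hg u_mem_four) with e | e | e | e
  · exact absurd e (conj_ne_one h.tO.t_ne)
  · exact absurd (e ▸ h2) h.cl.a_not
  · exact e
  · rw [e] at h2
    exact absurd (by simpa using mul_mem h2 (inv_mem h.tO.toBH.t_X)) h.cl.a_not

/-- the case `C(z) = Z × A₅` -/
structure A5c (K E H : Subgroup G) (a t : G) : Prop where
  t2 : T2 E (closure {a, t}) H
  ze : Oc K ≤ 𝒞 E
  cent : ∀ z ∈ Oc K, z ≠ 1 → 𝒞₁ z = Oc K ⊔ E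

theorem A5c.decomp (h : A5c K E H a t) {y : G} (hy : y ∈ Oc K ⊔ E) :
    ∃ z ∈ Oc K, ∃ x ∈ E, z * x = y :=
  (CfsgH2.mem_sup_of_le_normalizer' (h.ze.trans (centralizer_le_normalizer _))).1 hy

theorem A5c.comm (h : A5c K E H a t) {z x : G} (hz : z ∈ Oc K) (hx : x ∈ E) : z * x = x * z :=
  le_cent_iff.1 h.ze z hz x hx

theorem A5c.eq_one (h : A5c K E H a t) {z : G} (hz : z ∈ Oc K) (hx : z ∈ E) : z = 1 :=
  mem_bot.1 (h.t2.simp.inf_cent ▸ (⟨hx, h.ze hz⟩ : z ∈ E ⊓ 𝒞 E))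

theorem A5c.inv_mem (h : A5c K E H a t) {y : G} (hy : y ∈ Oc K ⊔ E) (yy : y * y = 1) : y ∈ E := by
  obtain ⟨z, hz, x, hx, rfl⟩ := h.decomp hy
  have h1 : z * z = (x * x)⁻¹ := by
    rw [eq_inv_iff_mul_eq_one, ← yy]
    calc _ = z * (z * x) * x := by group
      _ = z * (x * z) * x := by rw [← h.comm hz hx]
      _ = _ := by group
  have h2 := h.eq_one (mul_mem hz hz) (h1 ▸ Subgroup.inv_mem _ (mul_mem hx hx))
  rw [eq_one_of_odd_of_sq (odd_orderOf_of_mem (odd_oc K) hz) h2, one_mul]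
  exact hx

theorem A5c.norm (h : A5c K E H a t) (hK : K ≤ 𝒞 K) (hg : g ∈ 𝒩 (Oc K ⊔ E)) : g ∈ 𝒩 E := by
  refine mem_normalizer_of_cj_le ?_
  rw [← (h.t2.simp.cj g).perfect]
  have h1 : CfsgH1.cj g E ≤ Oc K ⊔ E := cj_le_of_mem_normalizer hg le_sup_right
  refine commutator_le.2 fun x hx0 y hy0 => ?_
  obtain ⟨z, hz, x, hx, rfl⟩ := h.decomp (h1 hx0)
  obtain ⟨z', hz', y, hy, rfl⟩ := h.decomp (h1 hy0)
  have c1 : Commute z x := h.comm hz hx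
  have c2 : Commute z y := h.comm hz hy
  have c3 : Commute z' x := h.comm hz' hx
  have c4 : Commute z' y := h.comm hz' hy
  have c5 : Commute z z' := le_cent_iff.1 hK z (oc_le hz) z' (oc_le hz')
  have : ⁅z * x, z' * y⁆ = ⁅x, y⁆ := by
    have k1 : z * x * (z' * y) = z * z' * (x * y) := by
      rw [mul_assoc, ← mul_assoc x, ← c3.eq]; group
    have k2 : z' * y * (z * x) = z * z' * (y * x) := by
      rw [mul_assoc, ← mul_assoc y, ← c2.eq, c5.eq]; group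
    have k3 : Commute (z * z') (x * y * (y * x)⁻¹) :=
      ((c1.mul_left c3).mul_right (c2.mul_left c4)).mul_right
        ((c2.mul_left c4).mul_right (c1.mul_left c3)).inv_right
    calc _ = z * x * (z' * y) * (z' * y * (z * x))⁻¹ := by rw [commutatorElement_def]; group
      _ = z * z' * (x * y * (y * x)⁻¹) * (z * z')⁻¹ := by rw [k1, k2]; group
      _ = _ := by rw [conj_eq_of_comm k3.eq, commutatorElement_def]; group
  rw [this, commutatorElement_def]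
  exact mul_mem (mul_mem (mul_mem hx hy) (Subgroup.inv_mem _ hx)) (Subgroup.inv_mem _ hy)

theorem A5c.norm_Z (h : A5c K E H a t) (d : JD L K Q A a t s w e q p) (hg : g ∈ 𝒩 (Oc K)) :
    g ∈ 𝒩 E := by
  obtain ⟨z, hz, z1⟩ := d.exists_Z
  refine h.norm d.tO.toBH.K_comm (mem_normalizer_iff_cj.2 ?_)
  nth_rw 1 [← h.cent z hz z1]
  rw [cj_centralizer_singleton, h.cent _ (conj_mem_of_mem_norm hg hz) (conj_ne_one z1)]

theorem A5c.exists_j (h : A5c K E H a t) (d : JD L K Q A a t s w e q p) :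
    ∃ j ∈ 𝒞 E, j ≠ 1 ∧ j * j = 1 ∧ ∀ z ∈ Oc K, j * z * j⁻¹ = z⁻¹ := by
  obtain ⟨-, j, -, -, jj, -, hj, hn⟩ := d.rot d.tO.toBH.t_X d.tO.t_ne d.tO.tt
  have hi := d.inv_Z hj jj hn
  have h1 := inner_of_cent h.t2.simp h.t2.syl d.fr.abel
    (h.norm_Z d (d.norm_Z (centralizer_le_normalizer _ hj))) (two_zpowers jj) hj
  obtain ⟨x, hx, c, hc, e⟩ := (CfsgH2.mem_sup_of_le_normalizer (centralizer_le_normalizer _)).1 h1
  have h2 : x ∈ closure {a, t} := by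
    rw [← h.t2.cent_S]
    refine ⟨hx, ?_⟩
    rw [show x = j * c⁻¹ by rw [← e]; group]
    exact mul_mem hj (Subgroup.inv_mem _ (cent_anti h.t2.cc.le hc))
  have h3 : c = x⁻¹ * j := by rw [← e]; group
  refine ⟨c, hc, fun c1 => hn (by rw [← e, c1, mul_one]; exact h2), ?_, fun z hz => ?_⟩
  · have k := mem_cent_iff.1 hc x hx
    have := d.fr.sq x h2
    calc c * c = c * (x * x) * c := by rw [this, mul_one]
      _ = c * x * (x * c) := by group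
      _ = 1 := by rw [k, e, jj]
  · have k := h.comm (Subgroup.inv_mem _ hz) hx
    calc c * z * c⁻¹ = x⁻¹ * (j * z * j⁻¹) * x := by rw [h3]; group
      _ = z⁻¹ := by rw [hi z (oc_le hz), mul_assoc, k]; group

theorem A5c.cent_of_odd (h : A5c K E H a t) (d : JD L K Q A a t s w e q p) (hg : g ∈ 𝒩 (Oc K))
    (ho : Odd (orderOf g)) : g ∈ Oc K ⊔ E := by
  obtain ⟨z, hz, z1⟩ := d.exists_Z
  have h1 := h.t2.syl.frattini le_normalizer le_rfl
  obtain ⟨x, hx, n, hn, rfl⟩ := (CfsgH2.mem_sup_of_le_normalizer inf_le_left).1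
    (h1.ge (h.norm_Z d hg))
  obtain ⟨y, hy, ey⟩ := h.t2.trans a a_mem_four d.cl.a_ne _ (conj_mem_of_mem_norm hn.2 a_mem_four)
    (conj_ne_one d.cl.a_ne)
  have h2 := d.cent_of_norm (mul_mem (Subgroup.inv_mem _ (h.t2.H_le hy).2) hn.2)
    (comm_of_conj_eq (by
      rw [show y⁻¹ * n * a * (y⁻¹ * n)⁻¹ = y⁻¹ * (n * a * n⁻¹) * y by group, ← ey]; group))
  have h3 : x * n = x * y * (y⁻¹ * n) := by group
  have h4 := mul_mem hx (h.t2.H_le hy).1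
  rcases d.cent_four h2 with h5 | h5
  · rw [h3]
    exact mul_mem (mem_sup_right h4) (sup_le_sup_left h.t2.cc.le _ (d.D_le h5))
  · refine absurd (eq_one_of_odd_of_sq (odd_orderOf_of_mem (odd_oc K) hz)
      (CfsgBS.sq_eq_one_of_odd_inverts ho ?_)) z1
    calc _ = x * y * (y⁻¹ * n * z * (y⁻¹ * n)⁻¹) * (x * y)⁻¹ := by group
      _ = _ := by
        rw [h5 z (oc_le hz), conj_eq_of_comm (h.comm (Subgroup.inv_mem _ hz) h4).symm]

theorem A5c.card (h : A5c K E H a t) (f : Fr a t) : #E = 60 := by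
  rw [h.t2.card_X, f.card]; rfl

theorem A5c.rho (h : A5c K E H a t) (f : Fr a t) : ∃ ρ ∈ E, orderOf ρ = 3 :=
  cauchy Nat.prime_three (by rw [h.card f]; norm_num)

theorem mem_zpowers_three {ρ v : G} (h : orderOf ρ = 3) (hv : v ∈ zpowers ρ) (v1 : v ≠ 1) :
    v = ρ ∨ v = ρ⁻¹ := by
  classical
  rw [mem_zpowers_iff_mem_range_orderOf, h] at hv
  obtain ⟨k, hk, rfl⟩ := Finset.mem_image.1 hv
  have h3 : ρ ^ 3 = 1 := h ▸ pow_orderOf_eq_one ρ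
  obtain rfl | rfl | rfl : k = 0 ∨ k = 1 ∨ k = 2 := by simp at hk; omega
  · simp at v1
  · simp
  · exact Or.inr (eq_inv_of_mul_eq_one_left (by rw [← pow_succ, h3]))

theorem JD.three_N (h : JD L K Q A a t s w e q p) (ag : AG (⊤ : Subgroup G))
    (hN : ∀ z ∈ Oc K, z ≠ 1 → 𝒞₁ z ≤ 𝒩 (closure {a, t})) : ¬ 3 ∣ #(Oc K) := by
  intro hd
  haveI := Fact.mk Nat.prime_three
  obtain ⟨ρ, j, r3, hρ, jj, jρ, hj, hn⟩ := h.rot h.tO.toBH.t_X h.tO.t_ne h.tO.tt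
  have ho := orderOf_eq_prime r3 (hρ.ne_one h.fr)
  obtain ⟨γ, h1, h2⟩ := h.conj_Z Nat.prime_three hd ho (fun e : j = 1 => hn (e ▸ one_mem _)) jj jρ.symm
  obtain ⟨z, hz, oz⟩ := cauchy Nat.prime_three hd
  have h3 := ag.cent_of_norm (isPGroup_zpowers_of_orderOf ho) (isPGroup_zpowers_of_orderOf oz)
    le_top le_top (zpowers_le.2 (normalizer_le_of_isCyclic h.cyc_Z (zpowers_le.2 hz)
      (h.norm_Z (hρ.norm h.fr))))
  have h4 := le_cent_iff.1 h3 ρ (mem_zpowers ρ) z (mem_zpowers z)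
  have h5 := conj_invs (h.inv_Z hj jj hn z (oc_le hz)) γ
  rw [h1] at h5
  exact conj_ne_one (ne_one_of_orderOf Nat.prime_three oz) (h.fr.eq_one
    (hN _ h2 (conj_ne_one (hρ.ne_one h.fr)) (mem_c1.2 (conj_comm h4.symm γ)))
    (by rw [orderOf_conj', oz]; decide) a_mem_four h5)

theorem A5c.three (h : A5c K E H a t) (d : JD L K Q A a t s w e q p) (ag : AG (⊤ : Subgroup G)) :
    ¬ 3 ∣ #(Oc K) := by
  intro hd
  haveI := Fact.mk Nat.prime_three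
  obtain ⟨j, hj, j1, jj, hi⟩ := h.exists_j d
  obtain ⟨ρ, hρ, ho⟩ := h.rho d.fr
  have jρ := mem_cent_iff.1 hj ρ hρ
  obtain ⟨γ, -, h2⟩ := d.conj_Z Nat.prime_three hd ho j1 jj jρ.symm
  have ox : orderOf (γ * ρ * γ⁻¹) = 3 := by rw [orderOf_conj', ho]
  obtain ⟨R, hR, hle⟩ := CfsgH2.exists_isSylowOf_ge
    ((isPGroup_zpowers_of_orderOf ox).to_sup_of_normal_right' (isPGroup_zpowers_of_orderOf ho)
      (zpowers_le.2 (mem_norm_zpowers (h.comm h2 hρ).symm))) le_top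
  have hc := ag.comm hR.2.1 le_top
  have xR := hle (mem_sup_left (mem_zpowers _))
  have ρR := hle (mem_sup_right (mem_zpowers _))
  obtain ⟨n, hn, en⟩ := fusion_of_comm hR hc ρR (mem_top γ) xR
  rw [← en] at h2 ox xR
  set x := n * ρ * n⁻¹ with hx
  have x1 := ne_one_of_orderOf Nat.prime_three ox
  have vR := conj_mem_of_mem_norm hn.2 xR
  have v1 : n * x * n⁻¹ ∈ Oc K ⊔ E := by
    rw [← h.cent x h2 x1]; exact mem_c1.2 (le_cent_iff.1 hc _ vR _ xR)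
  have j2 : n * j * n⁻¹ ∈ E :=
    h.inv_mem (by rw [← h.cent x h2 x1]; exact mem_c1.2 (conj_comm jρ n)) (conj_inv jj)
  have ov : Odd (orderOf (n * x * n⁻¹)) := by rw [orderOf_conj', ox]; decide
  have vE : n * x * n⁻¹ ∈ E := by
    refine mem_of_sq_mem ov ?_
    rw [sq_eq_comm (conj_invs (hi x h2) n)]
    exact mul_mem (conj_mem_of_mem_norm (h.norm d.tO.toBH.K_comm (le_normalizer v1)) j2)
      (Subgroup.inv_mem _ j2)
  have hs : IsSylowOf 3 (zpowers ρ) E := by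
    refine ⟨zpowers_le.2 hρ, isPGroup_zpowers_of_orderOf ho, ?_⟩
    have := CfsgH2.card_mul_relIndex (zpowers_le.2 hρ)
    rw [Nat.card_zpowers, ho, h.card d.fr] at this
    omega
  have h5 := hs.eq_of_le (hR.2.1.to_inf_left (K := E)) (zpowers_le.2 ⟨ρR, hρ⟩) inf_le_right
  have oρ : Odd (orderOf ρ) := by rw [ho]; decide
  refine ne_one_of_orderOf Nat.prime_three ho ?_
  rcases mem_zpowers_three ho (h5.le ⟨vR, vE⟩) (conj_ne_one x1) with e | e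
  · refine d.not_inv (x := j * n) oρ ?_
    calc _ = j * (n * (j * (n * ρ * n⁻¹) * j⁻¹) * n⁻¹) * j⁻¹ := by group
      _ = j * (n * x * n⁻¹)⁻¹ * j⁻¹ := by rw [← hx, hi x h2]; group
      _ = (j * ρ * j⁻¹)⁻¹ := by rw [e]; group
      _ = _ := by rw [conj_eq_of_comm jρ]
  · refine d.not_inv (x := n) oρ ?_
    rw [← e, hx]; group

end

variable {G : Type u} [Group G] [Finite G]
variable {L K Q A B E H : Subgroup G} {a t s w u g : G} {e : ℤ} {q p : ℕ}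

theorem A5c.pow (h : A5c K E H a t) (f : Fr a t) {x : G} (hx : x ∈ E) :
    x ^ 2 = 1 ∨ x ^ 3 = 1 ∨ x ^ 5 = 1 := by
  obtain ⟨⟨φ⟩, -⟩ := specA5 G E _ H h.t2 f.card
  have key : ∀ n : ℕ, ((φ ⟨x, hx⟩ : alternatingGroup (Fin 5)) : Equiv.Perm (Fin 5)) ^ n = 1 →
      x ^ n = 1 := fun n hn => by
    have : φ (⟨x, hx⟩ ^ n) = 1 := by rw [map_pow]; exact Subtype.ext hn
    exact congrArg Subtype.val ((map_eq_one_iff φ φ.injective).1 this)
  exact (a5_1 _ (Equiv.Perm.mem_alternatingGroup.1 (φ ⟨x, hx⟩).2)).imp (key 2)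
    (Or.imp (key 3) (key 5))

theorem JD.c2_z (h : JD L K Q A a t s w e q p) (c : Ctx G) {z : G} (hz : z ∈ Oc K) (z1 : z ≠ 1)
    (hE : C2 (𝒞₁ z) E) : ∃ H, T2 E (closure {a, t}) H := by
  have hY := c.simp.cent_ne_top z1
  have h1 : Oc E ≤ Oc K := hE.oc.le.trans (inf_le_left.trans (h.oc_z hz z1))
  have hs : Simp E := by
    refine hE.simp (c.ag.mono le_top) (le_centralizer_iff.1 ?_)
    rw [← hE.pqs.perfect]
    haveI := h.cyc_Z
    refine le_trans (commutator_le_centralizer_of_isCyclic' (isCyclic_of_le h1) le_norm_oc) ?_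
    rw [hE.pqs.perfect]
  have kf := c.kf hs fun e => hY (top_le_iff.1 (e ▸ hE.le))
  have hS := (hE.pk c hY (h.syl_z c.ag hz z1)).syl
  rw [eq_of_le_of_card_ge (inf_le_left (a := closure {a, t}) (b := E))
    (h.fr.card.le.trans (kf.four hS))] at hS
  refine (kf.four_cases hS h.fr.card).resolve_right fun h2 => ?_
  have h3 := h2 a a_mem_four h.cl.a_ne t u_mem_four h.tO.t_ne h.fr.ne
  obtain ⟨y, hy, y1⟩ := exists_ne_one h3.oc_ne
  have h4 := h3.cent_eq.ge (mem_sup_left (oc_le hy))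
  have h5 := h.D_cent' (h.cent_az hz z1 (mem_c1.1 h4.2) (mem_c1.1 (hE.le h4.1)))
  exact y1 (eq_one_of_inv_of_comm (odd_orderOf_of_mem (odd_oc _) hy) (h3.inv y (oc_le hy))
    (mem_cent_four.1 h5).2.symm)

theorem JD.c2_norm (h : JD L K Q A a t s w e q p) (c : Ctx G) {z : G} (hz : z ∈ Oc K) (z1 : z ≠ 1)
    (hE : C2 (𝒞₁ z) E) : 𝒞₁ z ≤ 𝒩 E := by
  intro g hg
  have h1 := hE.cj_of_mem (le_normalizer hg)
  obtain ⟨H, h2⟩ := h.c2_z c hz z1 hE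
  obtain ⟨H', h3⟩ := h.c2_z c hz z1 h1
  exact mem_normalizer_iff_cj.2 (h1.eq_of_mem' (c.ag.mono le_top) hE (h3.cc.le a_mem_four)
    (h2.cc.le a_mem_four) h.cl.a_ne h.cl.aa)

theorem JD.l2 (h : JD L K Q A a t s w e q p) (c : Ctx G) :
    (∀ z ∈ Oc K, z ≠ 1 → 𝒞₁ z ≤ 𝒩 (closure {a, t})) ∨ ∃ E H, A5c K E H a t := by
  rw [or_iff_not_imp_left]
  intro h0
  push Not at h0
  obtain ⟨z, hz, z1, h0⟩ := h0
  obtain ⟨E, hE⟩ := exists_c2 (mt (h.solv_z c.ag hz z1) h0) (c.ag.mono le_top)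
  obtain ⟨H, h1⟩ := h.c2_z c hz z1 hE
  have hZ : Oc K ≤ K ⊔ zpowers a := le_sup_of_le_left oc_le
  have h2 : Oc K ≤ 𝒞 E := h1.cent_of_odd (odd_oc K)
    ((hZ.trans (h.Z_c1 hz)).trans (h.c2_norm c hz z1 hE)) (hZ.trans h.D_cent')
  refine ⟨E, H, h1, h2, fun y hy y1 => ?_⟩
  have h3 : E ≤ 𝒞₁ y := (le_centralizer_iff.1 h2).trans (cent_le_c1 hy)
  refine le_antisymm ((c.ag.mono le_top).gen_le (h.syl_z c.ag hy y1)
    (le_sup_of_le_left (h.oc_z hy y1)) (fun g hg => ?_) fun E' hE' => ?_)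
    (sup_le (hZ.trans (h.Z_c1 hy)) h3)
  · obtain ⟨x, hx, ex⟩ := h1.trans a a_mem_four h.cl.a_ne _
      (conj_mem_of_mem_norm hg.2 a_mem_four) (conj_ne_one h.cl.a_ne)
    have h4 := h.cent_az hy y1 (g := x⁻¹ * g) (comm_of_conj_eq (by
      rw [show x⁻¹ * g * a * (x⁻¹ * g)⁻¹ = x⁻¹ * (g * a * g⁻¹) * x by group, ← ex]; group))
      (mem_c1.1 (mul_mem (inv_mem (h3 (h1.H_le hx).1)) hg.1))
    have := mul_mem (mem_sup_right (h1.H_le hx).1) (sup_le_sup_left h1.cc.le _ (h.D_le h4))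
    simpa using this
  · obtain ⟨H', h4⟩ := h.c2_z c hy y1 hE'
    have h5 := (h1.simp.normal (inf_le_left (b := E')) (CfsgH2.le_normalizer_inf le_normalizer
      (h3.trans (h.c2_norm c hy y1 hE')))).resolve_left fun e =>
        h.cl.a_ne (mem_bot.1 (e ▸ (⟨h1.cc.le a_mem_four, h4.cc.le a_mem_four⟩ : a ∈ E ⊓ E')))
    rw [← eq_of_le_of_card_ge (inf_eq_left.1 h5) (by rw [h1.card_X, h4.card_X])]
    exact le_sup_right

/-- L1 -/
theorem JD.three (h : JD L K Q A a t s w e q p) (c : Ctx G) : ¬ 3 ∣ #(Oc K) := by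
  rcases h.l2 c with h1 | ⟨E, H, h1⟩
  exacts [h.three_N c.ag h1, h1.three h c.ag]

end CfsgAG.Jl
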