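import Cfsg.Agent.AG.JL2
import Cfsg.Agent.H2.Jor3

/-! WP JL, part 3: `A` is a Hall subgroup of `G`. -/

set_option autoImplicit false
set_option linter.style.haveILetI false
set_option linter.unusedSectionVars false

namespace CfsgAG.Jl

open Subgroup CfsgFT CfsgL0
open scoped commutatorElement

universe u

section
variable {G : Type*} [Group G] [Finite G]
variable {L K Q A B X : Subgroup G} {a t s w u g : G} {e : ℤ} {q p : ℕ}

theorem conj_inv_eq {x y : G} (h : x * y * x⁻¹ = y⁻¹) : x * y⁻¹ * x⁻¹ = y := by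
  rw [show x * y⁻¹ * x⁻¹ = (x * y * x⁻¹)⁻¹ by group, h, inv_inv]

theorem cent_norm_p {r : ℕ} [Fact r.Prime] {S : Subgroup G} (hX : ⁅X, X⁆ = X)
    (hS : IsSylowOf r S X) (hc : S ≤ 𝒞 S) : S ⊓ 𝒞 (X ⊓ 𝒩 S) = ⊥ := by
  have h1 := (isSylowOf_iff_isSylowIn.1 hS).inf_resIn_of_comm hc
  have h2 : X ≤ CfsgH1.resIn r X :=
    le_of_forall_pPrime_elem (p := r) hX fun w hw h => CfsgH1.mem_resIn hw h
  rw [inf_eq_left.2 (hS.1.trans h2)] at h1
  have hT' := isSylowOf_iff_isSylowIn.1 (hS.mono (le_inf hS.1 le_normalizer) inf_le_left)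
  have h3 := (hT'.commutator_sup_centralizer inf_le_right hc).2
  rwa [← h1] at h3

theorem eq_one_of_pgroup {r : ℕ} [hr : Fact r.Prime] {P : Subgroup G} (hP : IsPGroup r P) {x : G}
    (hx : x ∈ P) (h : ¬ r ∣ orderOf x) : x = 1 := by
  obtain ⟨k, hk⟩ := hP ⟨x, hx⟩
  have h1 : orderOf x ∣ r ^ k := orderOf_dvd_of_pow_eq_one (congrArg Subtype.val hk)
  exact orderOf_eq_one_iff.1 (Nat.eq_one_of_dvd_coprimes
    (Nat.Coprime.pow_left k ((Nat.Prime.coprime_iff_not_dvd hr.out).2 h)) h1 dvd_rfl)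

theorem eq_one_of_pp {r : ℕ} [hr : Fact r.Prime] {P U : Subgroup G} (hP : IsPGroup r P)
    (hU : ¬ r ∣ #U) {x : G} (hx : x ∈ P) (h : x ∈ U) : x = 1 :=
  eq_one_of_pgroup hP hx fun d => hU (d.trans (orderOf_dvd_of_mem h))

theorem pqs_hall (ha : AG X) (h : PQS 2 X) : Hall (Oc X) X := by
  refine ⟨oc_le, ?_⟩
  by_contra h0
  obtain ⟨r, hr, d1, d2⟩ := Nat.Prime.not_coprime_iff_dvd.1 h0
  haveI := Fact.mk hr
  obtain ⟨P, hP⟩ := CfsgH2.exists_isSylowOf r X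
  have hc := ha.comm hP.2.1 hP.1
  have h1 := hP.inf_of_normal oc_le le_norm_oc
  have h2 : ¬ P ≤ Oc X := fun hle => hP.2.2 (d2.trans (relIndex_dvd_of_le_left X hle))
  have h3 := h1.mono ((ha.mono oc_le).le_ppCoreOf (solvable_oc X) h1.2.1 h1.1) (ppCoreOf_le r _)
  have h4 := h3.frattini ((ppCoreOf_le r _).trans oc_le)
    (le_norm_oc.trans (normalizer_le_normalizer_ppCoreOf r _))
  rw [← sup_eq_ppCoreOf h3] at h4
  set U := pPrimeCoreOf r (Oc X)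
  set P0 := P ⊓ Oc X
  have hU : X ≤ 𝒩 U := le_norm_oc.trans normalizer_le_normalizer_pPrimeCoreOf
  have hUX : U ≤ X := pPrimeCoreOf_le.trans oc_le
  have h5 : P ≤ X ⊓ 𝒞 P0 := le_inf hP.1 (hc.trans (cent_anti inf_le_left))
  have h6 : U ⊔ X ⊓ 𝒞 P0 = X := by
    refine (pqs_normal ha h (sup_le hUX inf_le_left) ?_).resolve_left
      fun hle => h2 (h5.trans (le_sup_right.trans hle))
    nth_rw 1 [← h4]
    refine sup_le (sup_le (le_sup_left.trans le_normalizer)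
      ((inf_le_left.trans h5).trans (le_sup_right.trans le_normalizer))) ?_
    exact CfsgH2.le_normalizer_sup (inf_le_left.trans hU) (CfsgH2.le_normalizer_inf
      (inf_le_left.trans le_normalizer) (CfsgH2.le_normalizer_centralizer inf_le_right))
  refine (sylow_ne_bot_iff h1).2 d1 (eq_bot_iff.2 fun y hy => ?_)
  rw [← cent_norm_p h.perfect hP hc]
  refine ⟨hy.1, mem_cent_iff.2 fun n hn => ?_⟩
  obtain ⟨v, hv, c, hc', rfl⟩ :=
    (CfsgH2.mem_sup_of_le_normalizer (inf_le_left.trans hU)).1 (h6.ge hn.1)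
  have k1 : v * c * y * (v * c)⁻¹ * y⁻¹ ∈ U := by
    rw [mul_assoc v c y, mem_cent_iff.1 hc'.2 y hy,
      show v * (y * c) * (v * c)⁻¹ * y⁻¹ = v * (y * v⁻¹ * y⁻¹) by group]
    exact mul_mem hv (conj_mem_of_mem_norm (hU (hP.1 hy.1)) (inv_mem hv))
  have k2 := eq_one_of_pp hP.2.1 (not_dvd_pPrime _)
    (mul_mem (conj_mem_of_mem_norm hn.2 hy.1) (inv_mem hy.1)) k1
  exact (comm_of_conj_eq (mul_inv_eq_one.1 k2)).symm

theorem JD.three_cent (h : JD L K Q A a t s w e q p) (h3 : ¬ 3 ∣ #(Oc K)) {x : G}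
    (hx : x ∈ 𝒞 (closure {a, t})) : ¬ 3 ∣ orderOf x := fun d => by
  obtain ⟨y, hy, oy⟩ := cauchy Nat.prime_three (X := zpowers x) (by rwa [Nat.card_zpowers])
  exact h3 (oy ▸ orderOf_dvd_of_mem (h.odd_cent (zpowers_le.2 hx hy) (by rw [oy]; decide)))

theorem Rot.not_mem (h : Rot g a u) (f : Fr a u) {D : Subgroup G} (hD : Odd #D) (ha : a ∈ 𝒩 D) :
    g ∉ D := fun hg => by
  have h1 := mul_mem hg (conj_mem_of_mem_norm ha (inv_mem hg))
  rw [show g * (a * g⁻¹ * a⁻¹) = g * a * g⁻¹ * a⁻¹ by group, h.1, inv_eq_self f.aa, ← f.comm] at h1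
  exact f.au1 (eq_one_of_odd_of_sq (odd_orderOf_of_mem hD h1) f.auau)

theorem JD.rot_inv (h : JD L K Q A a t s w e q p) (h3 : ¬ 3 ∣ #(Oc K)) (hg : Rot g a t)
    (g3 : g ^ 3 = 1) : ∃ v : G, v ≠ 1 ∧ v * v = 1 ∧ g * v = v * g := by
  haveI := Fact.mk Nat.prime_three
  obtain ⟨ρ, j, r3, hρ, jj, jρ, -, hn⟩ := h.rot h.tO.toBH.t_X h.tO.t_ne h.tO.tt
  have hs : IsSylowOf 3 (zpowers ρ) (𝒩 (closure {a, t})) := by
    refine CfsgH2.isSylowOf_of_maximal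
      (isPGroup_zpowers_of_orderOf (orderOf_eq_prime r3 (hρ.ne_one h.fr)))
      (zpowers_le.2 (hρ.norm h.fr)) fun R h1 h2 h4 x hx => ?_
    have hρR := h2 (mem_zpowers ρ)
    rcases h.fr.tri (h4 hx) (odd_orderOf_of_mem (odd_of_pGroup (by decide) h1) hx) with k | k | k
    · rw [eq_one_of_pgroup h1 hx (h.three_cent h3 k)]; exact one_mem _
    · rw [← inv_mul_eq_one.1 (eq_one_of_pgroup h1 (mul_mem (inv_mem hρR) hx)
        (h.three_cent h3 (k.mul_inv hρ)))]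
      exact mem_zpowers ρ
    · rw [← inv_mem_iff, ← inv_mul_eq_one.1 (eq_one_of_pgroup h1
        (mul_mem (inv_mem hρR) (inv_mem hx)) (h.three_cent h3 (k.mul_inv hρ)))]
      exact mem_zpowers ρ
  obtain ⟨x, -, hx⟩ := hs.exists_cj_le
    (isPGroup_zpowers_of_orderOf (orderOf_eq_prime g3 (hg.ne_one h.fr))) (zpowers_le.2 (hg.norm h.fr))
  obtain ⟨k, hk⟩ := mem_zpowers_iff.1 (hx (CfsgH2.conj_mem_cj x (mem_zpowers g)))
  refine ⟨x⁻¹ * j * x⁻¹⁻¹, conj_ne_one fun e : j = 1 => hn (e ▸ one_mem _), conj_inv jj, ?_⟩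
  have := conj_comm ((Commute.zpow_right jρ k).eq.symm) x⁻¹
  rwa [hk, show x⁻¹ * (x * g * x⁻¹) * x⁻¹⁻¹ = g by group] at this

theorem JD.four_norm_A (h : JD L K Q A a t s w e q p) : closure {a, w} ≤ 𝒩 A :=
  Jl.four_le.2 ⟨cl_norm h.cl h.ls.ccA.le, mem_norm_of_inv h.ls.w_inv⟩

theorem JD.norm_A (h : JD L K Q A a t s w e q p) (ag : AG (⊤ : Subgroup G)) {x y : G}
    (hx : x * a = a * x) (hy : y ∈ A) (y1 : y ≠ 1) (h2 : x * y * x⁻¹ ∈ A) :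
    ∃ v ∈ closure {a, w}, x * v ∈ A := by
  have key : ∀ l ∈ L, l * y * l⁻¹ ∈ A → ∃ v ∈ closure {a, w}, l * v ∈ A := fun l h3 h4 => by
    rcases h.ls.norm_A l h3 ((h.cbA ag).norm hy y1 h3 h4) with h5 | h5
    exacts [⟨1, one_mem _, by rwa [mul_one]⟩, ⟨w, u_mem_four, h5⟩]
  rcases h.cl.cent x (mem_top x) hx with h3 | h3
  · exact key x h3 h2
  · obtain ⟨v, hv, h4⟩ := key _ h3 (by
      rwa [mul_assoc x a y, ← cl_comm h.cl (h.ls.ccA.le hy),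
        show x * (y * a) * (x * a)⁻¹ = x * y * x⁻¹ by group])
    exact ⟨a * v, mul_mem a_mem_four hv, by rwa [← mul_assoc]⟩

theorem JD.sq_A (h : JD L K Q A a t s w e q p) (ag : AG (⊤ : Subgroup G)) {x y : G}
    (hx : x * a = a * x) (hy : y ∈ A) (y1 : y ≠ 1) (h2 : x * y * x⁻¹ ∈ A) : x * x ∈ A := by
  obtain ⟨v, hv, h3⟩ := h.norm_A ag hx hy y1 h2
  have := mul_mem h3 (conj_mem_of_mem_norm (h.four_norm_A hv) h3)
  rwa [show x * v * (v * (x * v) * v⁻¹) = x * (v * v) * x by group, h.frw.sq v hv, mul_one] at this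

theorem odd_of_no_inv (h : ∀ v ∈ X, v ≠ 1 → v * v ≠ 1) : Odd #X := by
  rw [Nat.odd_iff, ← Nat.two_dvd_ne_zero]
  intro d
  obtain ⟨v, hv, ov⟩ := cauchy Nat.prime_two d
  exact h v hv (ne_one_of_orderOf Nat.prime_two ov) (by rw [← pow_two, ← ov, pow_orderOf_eq_one])

theorem CB.solv_cent {r : ℕ} [Fact r.Prime] (h : CB L B a) (hd : r ∣ #B) {T : Subgroup G}
    (hT : IsPGroup r T) (T0 : T ≠ ⊥) : Group.IsSolvable (𝒞 T) ∧
      ∀ v ∈ 𝒞 T, v ≠ 1 → v * v = 1 → IsSylowOf 2 (zpowers v) (𝒞 T) := by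
  obtain ⟨y, hy, y1⟩ := exists_ne_one T0
  have key : ∀ v ∈ 𝒞 T, v ≠ 1 → v * v = 1 → Group.IsSolvable (𝒞 T) ∧
      IsSylowOf 2 (zpowers v) (𝒞 T) := fun v hv v1 vv => by
    obtain ⟨γ, rfl, h1⟩ := h.conj_into hd hT v1 vv fun x hx => mem_c1.2 (mem_cent_iff.1 hv x hx).symm
    exact ⟨(h.cj γ).solv (h1 hy) y1 (cent_le_c1 hy) hv, (h.cj γ).syl_a (h1 hy) y1 (cent_le_c1 hy) hv⟩
  refine ⟨?_, fun v hv v1 vv => (key v hv v1 vv).2⟩
  by_contra h0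
  exact h0 (odd_solvable (odd_of_no_inv fun v hv v1 vv => h0 (key v hv v1 vv).1))

/-- an involution of `N(P)` commuting with `g` modulo `C(P)` -/
theorem CB.exists_tau {r : ℕ} [Fact r.Prime] (h : CB L B a) (hd : r ∣ #B) {P : Subgroup G}
    (hP : IsSylowOf r P ⊤) (hC : ∀ v ∈ 𝒞 P, v ≠ 1 → v * v ≠ 1) (hg : g ∈ 𝒩 P)
    (T0 : P ⊓ 𝒞₁ g ≠ ⊥) {T : Subgroup G} (hT : IsPGroup r T) (h1 : P ⊓ 𝒞₁ g ≤ T) (h2 : T ≤ 𝒞₁ g)
    {v : G} (v1 : v ≠ 1) (vv : v * v = 1) (hv : v ∈ 𝒩 T) (vg : g * v = v * g) :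
    ∃ τ ∈ 𝒩 P, τ ≠ 1 ∧ τ * τ = 1 ∧ g * τ * g⁻¹ * τ⁻¹ ∈ 𝒞 P := by
  obtain ⟨hs, hS⟩ := h.solv_cent hd hP.2.1.to_inf_left T0
  have hc := h.ag.comm hP.2.1 le_top
  have hcT := h.ag.comm hT le_top
  set T1 := P ⊓ 𝒞₁ g with hT1
  have k1 : P ≤ 𝒞 T1 := hc.trans (cent_anti inf_le_left)
  have k2 := hP.mono ((h.ag.mono le_top).le_ppCoreOf hs hP.2.1 k1) le_top
  have k3 := sup_eq_ppCoreOf k2
  set U := pPrimeCoreOf r (𝒞 T1)
  have hU : 𝒩 (𝒞 T1) ≤ 𝒩 U := normalizer_le_normalizer_pPrimeCoreOf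
  have hPU := k1.trans (le_normalizer.trans hU)
  have gU : g ∈ 𝒩 U := hU (le_normalizer (mem_cent_iff.2 fun x hx => (mem_c1.1 hx.2).symm))
  have k4 : T = T1 := by
    refine le_antisymm (fun x hx => ?_) h1
    obtain ⟨y, hy, z, hz, rfl⟩ := (CfsgH2.mem_sup_of_le_normalizer hPU).1
      (k3.ge ((h.ag.mono le_top).le_ppCoreOf hs hT (hcT.trans (cent_anti h1)) hx))
    have e1 := conj_eq_of_comm (mem_c1.1 (h2 hx)).symm
    have e2 : g * z * g⁻¹ * z⁻¹ = (g * y * g⁻¹)⁻¹ * y := by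
      calc _ = (g * y * g⁻¹)⁻¹ * (g * (y * z) * g⁻¹) * z⁻¹ := by group
        _ = _ := by rw [e1]; group
    have e3 := eq_one_of_pp hP.2.1 (not_dvd_pPrime _)
      (mul_mem (conj_mem_of_mem_norm hg hz) (inv_mem hz))
      (e2 ▸ mul_mem (inv_mem (conj_mem_of_mem_norm gU hy)) hy)
    have e4 : z ∈ T1 := ⟨hz, mem_c1.2 (comm_of_conj_eq (mul_inv_eq_one.1 e3)).symm⟩
    rw [eq_one_of_pp hT (not_dvd_pPrime _) (by simpa using mul_mem hx (inv_mem (h1 e4))) hy, one_mul]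
    exact e4
  rw [k4] at hv
  have vN := CfsgH2.le_normalizer_centralizer le_rfl hv
  have k5 := k2.frattini le_normalizer le_rfl
  nth_rw 1 [← k3] at k5
  rw [sup_assoc, sup_eq_right.2 (le_inf (k2.1.trans le_normalizer) le_normalizer)] at k5
  have k0 : 𝒩 (ppCoreOf r (𝒞 T1)) ≤ 𝒩 (pPrimeCoreOf r (ppCoreOf r (𝒞 T1))) :=
    normalizer_le_normalizer_pPrimeCoreOf
  rw [pPrimeCoreOf_ppCoreOf] at k0
  obtain ⟨y, hy, n, hn, e⟩ := (CfsgH2.mem_sup_of_le_normalizer (inf_le_left.trans k0)).1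
      (k5.ge (normalizer_le_normalizer_ppCoreOf r _ vN))
  have en : n = y⁻¹ * v := by rw [← e]; group
  have k6 : ∀ x ∈ U, x ∈ 𝒩 P → x ∈ 𝒞 P := fun x h3 h4 => mem_cent_iff.2 fun z hz => by
    refine comm_of_conj_eq (mul_inv_eq_one.1 (eq_one_of_pp hP.2.1 (not_dvd_pPrime (𝒞 T1))
      (mul_mem (conj_mem_of_mem_norm h4 hz) (inv_mem hz)) ?_))
    rw [show x * z * x⁻¹ * z⁻¹ = x * (z * x⁻¹ * z⁻¹) by group]
    exact mul_mem h3 (conj_mem_of_mem_norm (hPU hz) (inv_mem h3))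
  have k7 : n * n ∈ U := by
    rw [en, show y⁻¹ * v * (y⁻¹ * v) = y⁻¹ * (v * y⁻¹ * v⁻¹) * (v * v) by group, vv, mul_one]
    exact mul_mem (inv_mem hy) (conj_mem_of_mem_norm (hU vN) (inv_mem hy))
  have k8 : g * n * g⁻¹ * n⁻¹ ∈ 𝒞 P := by
    refine k6 _ ?_ (mul_mem (mul_mem (mul_mem hg hn.2) (inv_mem hg)) (inv_mem hn.2))
    rw [en, conj_mul', conj_eq_of_comm vg,
      show g * y⁻¹ * g⁻¹ * v * (y⁻¹ * v)⁻¹ = g * y⁻¹ * g⁻¹ * y by group]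
    exact mul_mem (conj_mem_of_mem_norm gU (inv_mem hy)) hy
  have k9 := k6 _ k7 (mul_mem hn.2 hn.2)
  obtain ⟨i, hi⟩ := odd_orderOf_of_mem (odd_of_no_inv hC) k9
  refine ⟨(n * n) ^ i * n, mul_mem (pow_mem (mul_mem hn.2 hn.2) i) hn.2, fun e1 => ?_, ?_, ?_⟩
  · have vU : v ∈ U := by
      rw [← e, eq_inv_of_mul_eq_one_right e1]
      exact mul_mem hy (inv_mem (pow_mem k7 i))
    obtain ⟨S, hS', hn'⟩ := CfsgH2.exists_invariant_sylow 2 hPU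
      (CfsgH2.coprime_card_of_isPGroup hP.2.1 (not_dvd_pPrime _)) (Or.inl (solvable_of_comm hc))
    obtain ⟨x, -, ex⟩ := ((hS v (pPrimeCoreOf_le vU) v1 vv).mono (zpowers_le.2 vU)
      pPrimeCoreOf_le).exists_cj_eq hS'
    change CfsgH1.cj x _ = _ at ex
    rw [← ex, cj_zpowers'] at hn'
    refine hC _ (mem_cent_iff.2 fun z hz => (comm_of_conj_eq ?_).symm) (conj_ne_one (g := x) v1)
      (conj_inv vv)
    exact ((mem_zpowers_inv (conj_inv vv)).1 (conj_mem_of_mem_norm (hn' hz)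
      (mem_zpowers _))).resolve_left (conj_ne_one (conj_ne_one v1))
  · rw [← pow_orderOf_eq_one (n * n), hi, ← pow_two n, ← pow_mul, ← pow_mul, ← pow_succ, ← pow_add]
    congr 1; ring
  · rw [show g * ((n * n) ^ i * n) * g⁻¹ * ((n * n) ^ i * n)⁻¹ =
      g * (n * n) ^ i * g⁻¹ * (g * n * g⁻¹ * n⁻¹) * ((n * n) ^ i)⁻¹ by
        generalize (n * n) ^ i = m; group]
    exact mul_mem (mul_mem (conj_mem_of_mem_norm (CfsgH2.le_normalizer_centralizer le_rfl hg)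
      (pow_mem k9 i)) k8) (inv_mem (pow_mem k9 i))

theorem JD.exists_T (h : JD L K Q A a t s w e q p) (ag : AG (⊤ : Subgroup G)) (h3 : ¬ 3 ∣ #(Oc K))
    {r : ℕ} [Fact r.Prime] (r2 : r ≠ 2) (og : orderOf g = 3) {v : G} (v1 : v ≠ 1) (vv : v * v = 1)
    (vg : g * v = v * g) {T1 : Subgroup G} (hT : IsPGroup r T1) (h1 : T1 ≤ 𝒞₁ g) :
    ∃ (T : Subgroup G) (v : G), IsPGroup r T ∧ T1 ≤ T ∧ T ≤ 𝒞₁ g ∧ v ≠ 1 ∧ v * v = 1 ∧ v ∈ 𝒩 T ∧ g * v = v * g := by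
  have g1 := ne_one_of_orderOf Nat.prime_three og
  have key : ∃ L B, CB L B v ∧ g ∈ B := by
    obtain ⟨γ, e1, h2⟩ := h.types (by rw [og]; decide) v1 vv vg
    have e2 : γ⁻¹ * a * γ⁻¹⁻¹ = v := by rw [← e1]; group
    have e3 : ∀ B : Subgroup G, γ * g * γ⁻¹ ∈ B → g ∈ CfsgH1.cj γ⁻¹ B := fun B hB =>
      mem_cj.2 (by rwa [inv_inv])
    rcases h2 with h2 | h2 | h2
    · exact absurd (by simpa [orderOf_conj', og] using orderOf_dvd_of_mem h2) h3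
    · exact ⟨_, _, e2 ▸ (h.cbQ ag).cj γ⁻¹, e3 _ h2⟩
    · exact ⟨_, _, e2 ▸ (h.cbA ag).cj γ⁻¹, e3 _ h2⟩
  obtain ⟨L', B', cb, hg⟩ := key
  obtain ⟨S, hS, hn⟩ := CfsgH2.exists_invariant_sylow r
    (zpowers_le.2 (le_norm_oc (cb.a_c1 hg))) (coprime_two_of_odd (two_zpowers vv) (odd_oc _))
    (Or.inr (solvable_oc _))
  obtain ⟨x, hx, e⟩ := hS.exists_cj_le hT
    (cb.le_oc hg g1 le_rfl (cb.a_c1 hg) h1 (odd_of_pGroup r2 hT))
  have xg := inv_mem (oc_le hx)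
  refine ⟨CfsgH1.cj x⁻¹ S, x⁻¹ * v * x⁻¹⁻¹, isPGroup_cj _ hS.2.1, cj_le_iff_le_cj_inv.1 e,
    cj_le_of_mem xg (hS.1.trans oc_le), conj_ne_one v1, conj_inv vv, ?_, ?_⟩
  · rw [← cj_normalizer]; exact conj_mem_cj _ (hn (mem_zpowers v))
  · have := conj_comm vg x⁻¹
    rwa [conj_eq_of_comm (mem_c1.1 xg)] at this

end

variable {G : Type u} [Group G] [Finite G]
variable {L K Q A B X : Subgroup G} {a t s w u g : G} {e : ℤ} {q p : ℕ}

theorem no_tyO {r : ℕ} [hr : Fact r.Prime] {P V : Subgroup G} (ha : AG X) (h : PQS 2 X)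
    (hty : TyO X) (hP : IsSylowOf r P (𝒩 P)) (hX : X ≤ 𝒩 P) (hV : IsElementaryAbelian r V)
    (hXV : X ≤ 𝒩 V) (h3 : #V ≤ r ^ 3) (hC : ∀ v ∈ 𝒞 V, v ≠ 1 → v * v ≠ 1) : False := by
  obtain ⟨M, hM⟩ := exists_sdp (pqs_hall ha h) le_norm_oc
  have hMX : M ≤ X := hM.sup_eq ▸ le_sup_right
  obtain ⟨φ⟩ := equiv_qm hM.norm hM.inf_eq
  rw [qm_eq_bar hMX hM.sup_eq.ge] at φ
  obtain ⟨K, t, s, tO⟩ := ex_TO_tr hty φ.symm
  obtain ⟨e, q, p, Q, A, w, ls⟩ := specBSW G M K t s tO.toBH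
  have ar := ls_arith tO ls
  have hr' : ¬ r ∣ #M := fun d => by
    obtain ⟨R, hR⟩ := CfsgH2.exists_isSylowOf r M
    have h1 := le_syl_of_norm hP hR.2.1 (hR.1.trans (hMX.trans hX)) (hR.1.trans (hMX.trans hX))
    have h2 := tO.simp.eq_bot_of_solvable (inf_le_right (a := P))
      (CfsgH2.le_normalizer_inf (hMX.trans hX) le_normalizer)
      (CfsgH2.isSolvable_of_isPGroup hP.2.1.to_inf_left)
    exact (sylow_ne_bot_iff hR).2 d (eq_bot_iff.2 (h2 ▸ le_inf h1 hR.1))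
  have key : ∃ E : Subgroup G, E ≤ M ⊓ 𝒩 Q ∧ (#Q).Coprime #E ∧ 5 ≤ #E := by
    rw [ls.card_Q]
    rcases ls.sign with rfl | rfl
    · exact ⟨K, (ls.borel_pos rfl).1 ▸ le_sup_right, ar.2.2.1.symm, by have := tO.six; omega⟩
    · exact ⟨A, ls.borel_neg rfl ▸ le_sup_right, ar.2.2.2.2.1, ar.2.2.2.2.2.2⟩
  obtain ⟨E, hE, hc, h5⟩ := key
  have hQ := ls.ccQ.le.trans (hMX.trans hXV)
  have rQ : ¬ r ∣ #Q := fun d => hr' (d.trans (card_dvd_of_le ls.ccQ.le))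
  have h6 := CfsgH2.commutator_inf_centralizer_eq_bot hQ
    (CfsgH2.coprime_card_of_isPGroup (isPGroup_of_isElementaryAbelian hV) rQ).symm hV.1
  have h7 : ⁅V, Q⁆ ≤ V := commutator_le_left_of_le_normalizer hQ
  haveI := Fact.mk ls.prime
  have h8 := CfsgH2J.card_eq_pow_of_semiReg (K := Q) (B := E) (fun x hx x1 => eq_bot_iff.2
      fun y hy => by
        by_contra y1
        exact x1 ((CfsgH2.disjoint_of_coprime_card hc).le_bot
          ⟨(ls.ccQ.cent y hy.1 y1).le ⟨(hE hx).1, mem_c1.2 (mem_c1.1 hy.2).symm⟩, hx⟩))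
    (hE.trans inf_le_right) (ls_pQ ls).isNilpotent rQ (CfsgH2.isElementaryAbelian_of_le h7 hV)
    (CfsgH2.le_normalizer_commutator hQ le_normalizer)
    (CfsgH2.le_normalizer_commutator (hE.trans (inf_le_left.trans (hMX.trans hXV)))
      (hE.trans inf_le_right)) h6
  have h9 : ⁅V, Q⁆ ≠ ⊥ := fun e0 => by
    have k1 : Q ≤ 𝒞 V := le_centralizer_iff.1 (le_cent_iff_comm.2 e0)
    rcases tO.simp.normal (inf_le_left (b := 𝒞 V)) (CfsgH2.le_normalizer_inf le_normalizer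
      (CfsgH2.le_normalizer_centralizer (hMX.trans hXV))) with k2 | k2
    · have := card_le_of_le (k2 ▸ le_inf ls.ccQ.le k1)
      rw [card_bot, ls.card_Q] at this
      omega
    · exact hC t (k2.ge tO.toBH.t_X).2 tO.t_ne tO.tt
  obtain ⟨n, hn⟩ := IsPGroup.iff_card.1 (isPGroup_of_isElementaryAbelian
    (CfsgH2.isElementaryAbelian_of_le (inf_le_left.trans h7 : ⁅V, Q⁆ ⊓ 𝒞 E ≤ V) hV))
  have k1 := (card_le_of_le h7).trans h3
  rw [h8, hn, ← pow_mul, Nat.pow_le_pow_iff_right hr.out.one_lt] at k1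
  have k2 : n = 0 := by
    by_contra k; have : 1 ≤ n := by omega
    nlinarith
  rw [hn, k2, pow_zero, one_pow] at h8
  exact h9 (card_eq_one.1 h8)

/-- L4 -/
theorem JD.l4 (h : JD L K Q A a t s w e q p) (c : Ctx G) {r : ℕ} [hr : Fact r.Prime]
    {R : Subgroup G} (hR : IsSylowOf r R A) (R0 : R ≠ ⊥) : IsSylowOf r R ⊤ := by
  have bd := h.bdA c.ag
  have f := h.frw
  have hd := (sylow_ne_bot_iff hR).1 R0
  have r2 := bd.toCB.ne_two hd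
  have nR := h.four_norm_A.trans (normalizer_le_of_isCyclic h.ls.cyc_A hR.1)
  obtain ⟨P, hP, hn, e⟩ := bd.toCB.exists_hat hR R0 nR (coprime_two_of_odd f.two (odd_oc _))
  obtain ⟨ρ, -, -, hρ, -⟩ := h.rot h.ls.w_mem h.ls.w_ne h.ls.ww
  rcases bd.tlem hρ hP hn (e ▸ hR) (e ▸ R0) with h1 | ⟨g0, hg0, h1⟩
  · rwa [← e, inf_eq_left.2 h1]
  exfalso
  obtain ⟨x0, s', w', h'⟩ := h.at h.ls.w_mem h.ls.w_ne h.ls.ww
  have h3 := h'.three c
  obtain ⟨k, g3, hg⟩ := h1.three f (h'.three_cent h3 (h1.cube f))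
  have gN := pow_mem hg0 k
  set g := g0 ^ k
  haveI := Fact.mk Nat.prime_three
  have og := orderOf_eq_prime g3 (hg.ne_one f)
  have hPo := odd_of_pGroup r2 hP.2.1
  have hc := c.ag.comm hP.2.1 le_top
  have hRP : R ≤ P := e ▸ inf_le_left
  have fix : ∀ x ∈ P, x * a = a * x → x * w = w * x → x = 1 := fun x k1 k2 k3 =>
    bd.eq_one (hR.1 (e ▸ (⟨k1, mem_c1.2 k2⟩ : x ∈ P ⊓ 𝒞₁ a))) k3
  obtain ⟨x, hx, ox⟩ := cauchy hr.out (((sylow_ne_bot_iff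
    (hR.mono le_rfl hR.1)).1 R0))
  have x1 := ne_one_of_orderOf hr.out ox
  have xa := cl_comm h.cl (h.ls.ccA.le (hR.1 hx))
  have xr : x ^ r = 1 := ox ▸ pow_orderOf_eq_one x
  -- the elementary abelian subgroup
  have hV := isElementaryAbelian_Om (p := r) (CfsgH1.isMulCommutative_of_le_centralizer hc)
  have hVP : Om r P ≤ P := Om_le
  have hC : ∀ v ∈ 𝒞 (Om r P), v ≠ 1 → v * v ≠ 1 := fun v hv v1 vv => by
    obtain ⟨γ, -, k1⟩ := bd.toCB.conj_into hd (hP.2.1.to_le hVP) v1 vv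
      fun y hy => mem_c1.2 (mem_cent_iff.1 hv y hy).symm
    have k2 := mem_Om (hRP hx) xr
    have k3 := conj_mem_of_mem_norm (normalizer_le_normalizer_Om r P gN) k2
    have k4 := eq_of_isCyclic_of_card (h.cj γ).ls.cyc_A (zpowers_le.2 (k1 k2))
      (zpowers_le.2 (k1 k3)) (by rw [Nat.card_zpowers, Nat.card_zpowers, orderOf_conj'])
    have k5 := conj_comm xa g
    rw [hg.1] at k5
    obtain ⟨i, hi⟩ := mem_zpowers_iff.1 (k4.le (mem_zpowers x))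
    exact x1 (fix x (hRP hx) xa (hi ▸ (Commute.zpow_left k5 i).eq))
  have hC' : ∀ v ∈ 𝒞 P, v ≠ 1 → v * v ≠ 1 := fun v hv => hC v (cent_anti hVP hv)
  have hV3 : #(Om r P) ≤ r ^ 3 := by
    rw [hg.card_eq f (odd_of_le hVP hPo) (hVP.trans (hc.trans (cent_anti hVP)))
      (hn.trans (normalizer_le_normalizer_Om r P)) (fun y hy => fix y (hVP hy))
      (normalizer_le_normalizer_Om r P gN)]
    refine Nat.pow_le_pow_left (Nat.le_of_dvd hr.out.pos ?_) 3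
    haveI := h.ls.cyc_A
    haveI := isCyclic_of_le (((inf_le_inf_right _ hVP).trans e.le).trans hR.1)
    rw [← IsCyclic.exponent_eq_card]
    exact Monoid.exponent_dvd_of_forall_pow_eq_one fun y => Subtype.ext (hV.2 y y.2.1)
  -- `T = C_P(g)`
  have T0 : P ⊓ 𝒞₁ g ≠ ⊥ := by
    intro e0
    have i0 := bd.inv x (hR.1 hx)
    have i1 : a * w * x * (a * w)⁻¹ = x⁻¹ := by
      rw [show a * w * x * (a * w)⁻¹ = a * (w * x * w⁻¹) * a⁻¹ by group, i0,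
        conj_eq_of_comm (Commute.inv_right xa.symm).eq]
    have i2 := conj_invs i1 g
    have i3 := conj_invs (conj_invs i0 g) g
    rw [hg.2] at i3
    rw [hg.third f] at i2 i3
    have m1 := conj_mem_of_mem_norm gN (hRP hx)
    have m2 := conj_mem_of_mem_norm gN m1
    have e1 : g * (g * (g * x * g⁻¹) * g⁻¹) * g⁻¹ = x := by
      rw [show g * (g * (g * x * g⁻¹) * g⁻¹) * g⁻¹ = g ^ 3 * x * (g ^ 3)⁻¹ by
        rw [pow_three]; group, g3]; simp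
    set y := g * x * g⁻¹
    set z := g * y * g⁻¹
    have cm := le_cent_iff.1 hc
    have e2 : x * (y * z) = 1 := by
      refine mem_bot.1 (e0 ▸ (⟨mul_mem (hRP hx) (mul_mem m1 m2), mem_c1.2 (comm_of_conj_eq ?_).symm⟩ :
        x * (y * z) ∈ P ⊓ 𝒞₁ g))
      rw [conj_mul', conj_mul', e1, cm x (hRP hx) _ (mul_mem m1 m2), mul_assoc y z x]
    refine x1 (eq_one_of_inv_of_comm (odd_orderOf_of_mem hPo (hRP hx)) ?_ xa.symm)
    rw [eq_inv_of_mul_eq_one_left e2, inv_inv, mul_inv_rev, conj_mul', conj_inv_eq i2,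
      conj_inv_eq i3, cm z m2 y m1]
  obtain ⟨v0, v1, vv, vg⟩ := h'.rot_inv h3 hg g3
  obtain ⟨T, v, k1, k2, k3, k4, k5, k6, k7⟩ :=
    h'.exists_T c.ag h3 r2 og v1 vv vg hP.2.1.to_inf_left inf_le_right
  obtain ⟨τ, hτ, τ1, ττ, hτg⟩ := bd.toCB.exists_tau hd hP hC' gN T0 k1 k2 k3 k4 k5 k6 k7
  have nR' : ∀ y ∈ 𝒩 P, y * a = a * y → y * x * y⁻¹ ∈ A := fun y k1 k2 =>
    hR.1 (e ▸ conj_mem_of_mem_norm (inf_c1_norm k1 k2) (e ▸ hx))
  have hS : IsSylowOf 2 (closure {a, w}) (𝒩 P) := by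
    refine CfsgH2.isSylowOf_of_maximal f.two hn fun S k1 k2 k3 y hy => ?_
    have k4 := le_cent_iff.1 (c.ag.comm k1 le_top) y hy a (k2 a_mem_four)
    obtain ⟨v, hv, k5⟩ := h.norm_A c.ag k4 (hR.1 hx) x1 (nR' y (k3 hy) k4)
    rw [eq_inv_of_mul_eq_one_left (eq_one_of_two_odd k1 bd.odd (mul_mem hy (k2 hv)) k5)]
    exact inv_mem hv
  obtain ⟨n0, hn0, e0⟩ := exists_conj_mem_syl hS hτ ττ
  obtain ⟨i, hi⟩ := hg.exists_conj f e0 (conj_ne_one τ1)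
  have hn1 := mul_mem (pow_mem gN i) hn0
  set n := g ^ i * n0 with en
  have e1 : n * τ * n⁻¹ = a := by rw [← hi, en]; group
  have hCn : 𝒩 P ≤ 𝒩 (𝒞 P) := CfsgH2.le_normalizer_centralizer le_rfl
  have hCo := odd_of_no_inv hC'
  obtain ⟨c0, hc0, y0, hy0, e2⟩ := CfsgH2.exists_eq_mul_centralizer
    (zpowers_le.2 (hCn (hn a_mem_four))) (coprime_two_of_odd (two_zpowers f.aa) hCo)
    (Or.inl (solv_two (two_zpowers f.aa))) (x := n * g * n⁻¹) fun b hb => by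
      rcases (mem_zpowers_inv f.aa).1 hb with rfl | rfl
      · simp
      · have := conj_mem_of_mem_norm (hCn hn1) hτg
        rwa [conj_mul', conj_mul', conj_mul', e1, show n * τ⁻¹ * n⁻¹ = (n * τ * n⁻¹)⁻¹ by group,
          e1, show n * g⁻¹ * n⁻¹ = (n * g * n⁻¹)⁻¹ by group] at this
  have y0a := mem_cent_iff.1 hy0 a (mem_zpowers a)
  have g1N := mul_mem (mul_mem hn1 gN) (inv_mem hn1)
  have y0N : y0 ∈ 𝒩 P := by
    have := mul_mem (inv_mem (centralizer_le_normalizer _ hc0)) g1N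
    rwa [e2, inv_mul_cancel_left] at this
  have y1A := h.sq_A c.ag y0a (hR.1 hx) x1 (nR' y0 y0N y0a)
  have iD : ∀ y ∈ zpowers (y0 * y0), w * y * w⁻¹ = y⁻¹ := fun y hy =>
    bd.inv y (zpowers_le.2 y1A hy)
  have oD := odd_of_le (zpowers_le.2 y1A) bd.odd
  have hY : 𝒩 P ≠ ⊤ := c.simp.norm_ne_top_of_solvable (fun e => R0 (eq_bot_iff.2 (e ▸ hRP)))
    (solvable_of_comm hc)
  rcases odd_cases c hY hS oD (zpowers_le.2 (mul_mem y0N y0N)) (Om_le.trans (h.four_norm_A.trans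
    (normalizer_le_of_isCyclic h.ls.cyc_A (zpowers_le.2 y1A)))) u_mem_four
    (comm_eq_of_inv oD iD).ge with k | ⟨X, hX, hty, -⟩
  · have k1 := le_oc (centralizer_le_normalizer _) hCn hCo
    have k2 : n * g * n⁻¹ ∈ Oc (𝒩 P) := by
      refine mem_of_sq_mem (by rw [orderOf_conj', og]; decide) ?_
      rw [e2, show c0 * y0 * (c0 * y0) = c0 * (y0 * c0 * y0⁻¹) * (y0 * y0) by group]
      exact mul_mem (k1 (mul_mem hc0 (conj_mem_of_mem_norm (hCn y0N) hc0))) (k (mem_zpowers _))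
    refine hg.not_mem f (odd_oc (𝒩 P)) (le_norm_oc (hn a_mem_four)) ?_
    simpa [mul_assoc] using conj_mem_of_mem_norm (le_norm_oc (inv_mem hn1)) k2
  · exact no_tyO (c.ag.mono le_top) hX.pqs hty (hP.mono le_normalizer le_top) hX.le hV
      (hX.le.trans (normalizer_le_normalizer_Om r P)) hV3 hC

end CfsgAG.Jl
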