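import Cfsg.Agent.AG.JL3

/-! WP JL, part 4: `C(z) ≤ N(ℓ)`, Ward's condition IV, the Sylow `p`-subgroups. -/

set_option autoImplicit false
set_option linter.style.haveILetI false
set_option linter.unusedSectionVars false

namespace CfsgAG.Jl

open Subgroup CfsgFT CfsgL0
open scoped commutatorElement

universe u

theorem a5_2 : ∀ x : Equiv.Perm (Fin 5), x ^ 3 = 1 → ∃ v : Equiv.Perm (Fin 5),
    Equiv.Perm.sign v = 1 ∧ v * x * v⁻¹ = x⁻¹ := by decide +kernel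

variable {G : Type u} [Group G] [Finite G]
variable {L K Q A B E H : Subgroup G} {a t s w u g : G} {e : ℤ} {q p : ℕ}

theorem A5c.inv (h : A5c K E H a t) (f : Fr a t) {x : G} (hx : x ∈ E) (h3 : x ^ 3 = 1) :
    ∃ v ∈ E, v * x * v⁻¹ = x⁻¹ := by
  obtain ⟨⟨φ⟩, -⟩ := specA5 G E _ H h.t2 f.card
  have h1 : (⟨x, hx⟩ : E) ^ 3 = 1 := Subtype.ext h3
  obtain ⟨v, hv, e⟩ := a5_2 (φ ⟨x, hx⟩ : alternatingGroup (Fin 5)) (by
    rw [← SubgroupClass.coe_pow, ← map_pow, h1, map_one]; rfl)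
  obtain ⟨v', e'⟩ := φ.surjective ⟨v, Equiv.Perm.mem_alternatingGroup.2 hv⟩
  refine ⟨v', v'.2, congrArg Subtype.val (φ.injective (a₁ := v' * ⟨x, hx⟩ * v'⁻¹)
    (a₂ := (⟨x, hx⟩ : E)⁻¹) ?_)⟩
  rw [map_mul, map_mul, map_inv, map_inv, e']
  exact Subtype.ext e

theorem JD.conj_A (h : JD L K Q A a t s w e q p) (c : Ctx G) {r : ℕ} [Fact r.Prime] (hd : r ∣ #A)
    {S : Subgroup G} (hS : IsPGroup r S) : ∃ γ, S ≤ CfsgH1.cj γ A := by
  obtain ⟨R, hR⟩ := CfsgH2.exists_isSylowOf r A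
  obtain ⟨x, -, e⟩ := (h.l4 c hR ((sylow_ne_bot_iff hR).2 hd)).exists_cj_le hS le_top
  exact ⟨x⁻¹, cj_le_iff_le_cj_inv.1 (le_trans e hR.1)⟩

theorem JD.hall (h : JD L K Q A a t s w e q p) (c : Ctx G) {y : G} (hy : y ∈ A) (y1 : y ≠ 1) :
    ∃ H : Subgroup G, (#H).Coprime #A ∧ (∀ x, x ∈ H ↔ x ∈ Oc (𝒞₁ y) ∧ a * x * a⁻¹ = x⁻¹) ∧
      Oc (𝒞₁ y) ≤ H ⊔ A := by
  have cb := h.cbA c.ag
  have h1 : IsHallOf (piOf #A) A (Oc (𝒞₁ y)) := by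
    have k := cb.le_oc hy y1 le_rfl (cb.a_c1 hy) (cb.le_c1 hy) cb.odd
    refine ⟨k, isPi_piOf _, fun r hr d hπ => ?_⟩
    haveI := Fact.mk hr
    obtain ⟨R, hR⟩ := CfsgH2.exists_isSylowOf r A
    exact ((h.l4 c hR ((sylow_ne_bot_iff hR).2 hπ.2)).mono (hR.1.trans k) le_top).2.2
      (d.trans (relIndex_dvd_of_le_left _ hR.1))
  obtain ⟨H, hH, hn⟩ := CfsgH2.exists_invariant_hall (piOf #A)ᶜ
    (zpowers_le.2 (le_norm_oc (cb.a_c1 hy))) (coprime_two_of_odd (two_zpowers h.cl.aa) (odd_oc _))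
    (solvable_oc _)
  have h2 := isPi_compl_piOf_iff.1 hH.2.1
  have h3 := inv_of_fpf (odd_of_le hH.1 (odd_oc _)) h.cl.aa (hn (mem_zpowers a))
    (eq_bot_iff.2 fun x hx => (CfsgH2.disjoint_of_coprime_card h2).le_bot ⟨hx.1, cb.odd_ay hy y1
      (mem_c1.1 hx.2) (mem_c1.1 (oc_le (hH.1 hx.1))) (odd_orderOf_of_mem (odd_oc _) (hH.1 hx.1))⟩)
  have h4 := fun x hx => exists_mul_of_hall hH (by rwa [compl_compl]) (x := x) hx
  refine ⟨H, h2, fun x => ⟨fun hx => ⟨hH.1 hx, h3 x hx⟩, fun hx => ?_⟩, fun x hx => ?_⟩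
  · obtain ⟨z, hz, b, hb, e⟩ := h4 x hx.1
    refine mem_of_sq_mem (odd_orderOf_of_mem (odd_oc _) hx.1) ?_
    rw [sq_eq_comm hx.2, ← e, mul_assoc z b a, cl_comm h.cl (cb.cc.le hb),
      show z * (a * b) * (z * b)⁻¹ * a⁻¹ = z * (a * z⁻¹ * a⁻¹) by group, conj_inv_eq (h3 z hz)]
    exact mul_mem hz hz
  · obtain ⟨z, hz, b, hb, rfl⟩ := h4 x hx
    exact mul_mem (mem_sup_left hz) (mem_sup_right hb)

theorem norm_inv_set {W : Subgroup G} (h : ∀ x, x ∈ H ↔ x ∈ W ∧ a * x * a⁻¹ = x⁻¹) (hg : g ∈ 𝒩 W)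
    (ha : g * a = a * g) : g ∈ 𝒩 H := by
  refine mem_normalizer_of_cj_le (cj_le_iff.2 fun x hx => (h _).2 ⟨conj_mem_of_mem_norm hg
    ((h x).1 hx).1, ?_⟩)
  have := conj_invs ((h x).1 hx).2 g
  rwa [conj_eq_of_comm ha] at this

theorem JD.not_inv_Q (h : JD L K Q A a t s w (-1) q p) (ag : AG (⊤ : Subgroup G)) {x v : G}
    (hx : x ∈ Q) (x1 : x ≠ 1) (hv : v * a = a * v) (hi : v * x * v⁻¹ = x⁻¹) : False := by
  have cb := h.cbQ ag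
  have key : ∀ l ∈ L, l * x * l⁻¹ ≠ x⁻¹ := fun l hl k =>
    x1 (eq_one_of_odd_of_sq (odd_orderOf_of_mem cb.odd hx) (CfsgBS.sq_eq_one_of_odd_inverts
      (odd_orderOf_of_mem h.odd_borel ⟨hl, cb.norm hx x1 hl (k ▸ inv_mem hx)⟩) k))
  rcases h.cl.cent v (mem_top v) hv with k | k
  · exact key v k hi
  · refine key _ k ?_
    rw [mul_assoc v a x, ← cl_comm h.cl (cb.cc.le hx), ← hi]; group

theorem JD.p_of_mem (h : JD L K Q A a t s w e q p) {r : ℕ} (hr : r.Prime) {x : G} (hx : x ∈ Q)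
    (ox : orderOf x = r) : r = p :=
  (ls_p_dvd h.tO h.ls hr).1 (ox ▸ h.ls.card_Q ▸ orderOf_dvd_of_mem hx)

/-- L5 -/
theorem A5c.false (h : A5c K E H a t) (d : JD L K Q A a t s w e q p) (c : Ctx G) : False := by
  obtain ⟨j, hj, j1, jj, hi⟩ := h.exists_j d
  obtain ⟨ρ, hρ, ho⟩ := h.rho d.fr
  have ρ1 := ne_one_of_orderOf Nat.prime_three ho
  have jE := mem_cent_iff.1 hj
  obtain ⟨γ, e1, h2⟩ := d.types (by rw [ho]; decide) j1 jj (jE ρ hρ).symm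
  have ox : orderOf (γ * ρ * γ⁻¹) = 3 := by rw [orderOf_conj', ho]
  rcases h2 with h2 | h2 | h2
  · exact d.three c (ox ▸ orderOf_dvd_of_mem h2)
  · rcases d.ls.sign with rfl | rfl
    · exact d.p_ne_three (d.p_of_mem Nat.prime_three h2 ox).symm
    · obtain ⟨v, hv, k⟩ := h.inv d.fr hρ (ho ▸ pow_orderOf_eq_one ρ)
      exact d.not_inv_Q c.ag h2 (conj_ne_one ρ1) (e1 ▸ conj_comm (jE v hv).symm γ) (conj_invs k γ)
  have d' := d.cj γ⁻¹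
  rw [show γ⁻¹ * a * γ⁻¹⁻¹ = j by rw [← e1]; group] at d'
  have h3 : ρ ∈ CfsgH1.cj γ⁻¹ A := mem_cj.2 (by rwa [inv_inv])
  have cb := d'.cbA c.ag
  obtain ⟨M, -, hM, -⟩ := d'.hall c h3 ρ1
  have oZ := fun z hz => odd_orderOf_of_mem (odd_oc K) (x := z) hz
  have k1 : Oc K ≤ M := fun z hz => (hM z).2 ⟨cb.mem_oc h3 ρ1 le_rfl (cb.a_c1 h3)
    (mem_c1.2 (h.comm hz hρ)) (oZ z hz), hi z hz⟩
  have k2 : M = Oc K := by
    refine le_antisymm (fun x hx => ?_) k1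
    obtain ⟨z, hz, z1⟩ := d.exists_Z
    obtain ⟨z', hz', y, hy, rfl⟩ := h.decomp (h.cent z hz z1 ▸ mem_c1.2
      (le_cent_iff.1 (comm_of_inv fun x hx => ((hM x).1 hx).2) x hx z (k1 hz)))
    have k3 : y ∈ M := by simpa using mul_mem (Subgroup.inv_mem _ (k1 hz')) hx
    rw [eq_one_of_inv_of_comm (odd_orderOf_of_mem (odd_oc _) ((hM y).1 k3).1) ((hM y).1 k3).2
      (jE y hy), mul_one]
    exact hz'
  have k3 : CfsgH1.cj γ⁻¹ A ≤ E := fun b hb => by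
    have bj := cl_comm d'.cl (cb.cc.le hb)
    obtain ⟨z, hz, y, hy, rfl⟩ := h.decomp (h.cent_of_odd d
      (k2 ▸ norm_inv_set hM (le_norm_oc (cb.le_c1 h3 hb)) bj) (odd_orderOf_of_mem cb.odd hb))
    have k4 : j * z = z * j := by
      have := comm_mul' (a := y⁻¹) (Commute.inv_left (jE y hy).symm).eq bj
      rw [mul_inv_cancel_right] at this
      exact this.symm
    rwa [eq_one_of_inv_of_comm (oZ z hz) (hi z hz) k4, one_mul]
  haveI := d'.ls.cyc_A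
  obtain ⟨b, hb⟩ := IsCyclic.exists_ofOrder_eq_natCard (α := CfsgH1.cj γ⁻¹ A)
  have k4 := d'.arith.2.2.2.2.2.2
  have k5 := orderOf_dvd_of_mem h3
  rw [← hb, ← orderOf_coe] at k4 k5
  rw [ho] at k5
  rcases h.pow d.fr (k3 b.2) with k | k | k <;>
    have k6 := Nat.le_of_dvd (by norm_num) (orderOf_dvd_of_pow_eq_one k) <;> omega

theorem JD.cz (h : JD L K Q A a t s w e q p) (c : Ctx G) :
    ∀ z ∈ Oc K, z ≠ 1 → 𝒞₁ z ≤ 𝒩 (closure {a, t}) :=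
  (h.l2 c).resolve_right fun ⟨_, _, h1⟩ => h1.false h c

theorem JD.nc (h : JD L K Q A a t s w e q p) (ag : AG (⊤ : Subgroup G)) {y : G} (hy : y ∈ A)
    (hg : g ∈ 𝒩 (zpowers y)) (ho : Odd (orderOf g)) : g * y = y * g := by
  by_cases y1 : y = 1
  · simp [y1]
  have cb := h.cbA ag
  have h1 : g ∈ 𝒩 (𝒞₁ y) := CfsgFT.centralizer_zpowers y ▸ CfsgH2.le_normalizer_centralizer le_rfl hg
  have hS := cb.syl_a hy y1 le_rfl (cb.a_c1 hy)
  obtain ⟨x, hx, e⟩ := (hS.cj_of_mem_normalizer h1).exists_cj_eq hS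
  change CfsgH1.cj x (CfsgH1.cj g _) = _ at e
  rw [cj_cj, cj_zpowers'] at e
  have h2 := ((mem_zpowers_inv h.cl.aa).1 (e.le (mem_zpowers _))).resolve_left
    (conj_ne_one h.cl.a_ne)
  have h3 := h.sq_A ag (comm_of_conj_eq h2) hy y1 (zpowers_le.2 hy (conj_mem_of_mem_norm
    (mul_mem (c1_le_norm_zpowers y hx) hg) (mem_zpowers y)))
  refine mem_c1.1 (mem_of_sq_mem ho ?_)
  have := mul_mem (inv_mem (mul_mem hx (conj_mem_of_mem_norm h1 hx))) (cb.le_c1 hy h3)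
  rwa [show (x * (g * x * g⁻¹))⁻¹ * (x * g * (x * g)) = g * g by group] at this

theorem JD.nc' (h : JD L K Q A a t s w e q p) (c : Ctx G) {r : ℕ} [Fact r.Prime] (hd : r ∣ #A)
    {S : Subgroup G} (hS : IsPGroup r S) (hg : g ∈ 𝒩 S) (ho : Odd (orderOf g)) : g ∈ 𝒞 S := by
  obtain ⟨γ, h1⟩ := h.conj_A c hd hS
  haveI := (h.cj γ).ls.cyc_A
  exact mem_cent_iff.2 fun y hy => (h.cj γ).nc c.ag (h1 hy)
    (normalizer_le_of_isCyclic (isCyclic_of_le h1) (zpowers_le.2 hy) hg) ho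

theorem JD.mem_Z_of_norm (h : JD L K Q A a t s w e q p) (hg : g ∈ 𝒩 (closure {a, t}))
    (ho : Odd (orderOf g)) (h3 : ¬ 3 ∣ orderOf g) : g ∈ Oc K :=
  CfsgH1.mem_of_pow_mem_of_coprime ((Nat.Prime.coprime_iff_not_dvd Nat.prime_three).2 h3).symm
    (h.odd_cent (h.fr.cube hg ho) (ho.of_dvd_nat (orderOf_pow_dvd 3)))

theorem not_dvd_of_pgroup {r r' : ℕ} [hr : Fact r.Prime] (hr' : r'.Prime) (hne : r ≠ r')
    {P : Subgroup G} (hP : IsPGroup r P) {x : G} (hx : x ∈ P) : ¬ r' ∣ orderOf x := fun d => by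
  obtain ⟨k, hk⟩ := hP ⟨x, hx⟩
  have h1 : orderOf x ∣ r ^ k := orderOf_dvd_of_pow_eq_one (congrArg Subtype.val hk)
  exact hne ((Nat.prime_dvd_prime_iff_eq hr' hr.out).1 (hr'.dvd_of_dvd_pow (d.trans h1))).symm

theorem dvd_of_odd {r m n : ℕ} (hr : r.Prime) (h1 : r ∣ 2 * m) (h2 : r ∣ n) (hn : Odd n) : r ∣ m :=
  ((Nat.Prime.dvd_mul hr).1 h1).resolve_left fun k => by
    rw [(Nat.prime_dvd_prime_iff_eq hr Nat.prime_two).1 k] at h2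
    exact absurd (even_iff_two_dvd.2 h2) (Nat.not_even_iff_odd.2 hn)

theorem JD.exists_Q (h : JD L K Q A a t s w e q p) : ∃ y ∈ Q, orderOf y = p :=
  cauchy h.ls.prime (h.ls.card_Q ▸ (ls_p_dvd h.tO h.ls h.ls.prime).2 rfl)

theorem JD.p_dvd (h : JD L K Q A a t s w e q p) : p ∣ q := (ls_p_dvd h.tO h.ls h.ls.prime).2 rfl

theorem JD.cop_Q (h : JD L K Q A a t s w 1 q p) (c : Ctx G) :
    (#(K ⊔ zpowers a)).Coprime #(Oc (𝒞 Q)) := by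
  by_contra h0
  obtain ⟨r, hr, d1, d2⟩ := Nat.Prime.not_coprime_iff_dvd.1 h0
  haveI := Fact.mk hr
  rw [h.card_D, ← h.tO.card_oc] at d1
  have d3 := dvd_of_odd hr (dvd_of_odd hr d1 d2 (odd_oc _)) d2 (odd_oc _)
  have r2 : r ≠ 2 := by
    rintro rfl
    exact absurd (even_iff_two_dvd.2 d3) (Nat.not_even_iff_odd.2 (odd_oc _))
  have r3 : r ≠ 3 := fun e => h.three c (e ▸ d3)
  obtain ⟨R, hR⟩ := CfsgH2.exists_isSylowOf r (Oc K)
  obtain ⟨z, hz, z1⟩ := exists_ne_one ((sylow_ne_bot_iff hR).2 d3)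
  have h1 : IsSylowOf r R ⊤ := CfsgH2.isSylowOf_of_maximal hR.2.1 le_top fun P k1 k2 _ =>
    (hR.eq_of_le k1 k2 fun x hx => h.mem_Z_of_norm
      (h.cz c z (hR.1 hz) z1 (mem_c1.2 (le_cent_iff.1 (c.ag.comm k1 le_top) x hx z (k2 hz))))
      (odd_orderOf_of_mem (odd_of_pGroup r2 k1) hx)
      (not_dvd_of_pgroup Nat.prime_three r3 k1 hx)).le
  obtain ⟨x, hx, ox⟩ := cauchy hr d2
  obtain ⟨γ, -, k⟩ := h1.exists_cj_le (isPGroup_zpowers_of_orderOf ox) le_top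
  obtain ⟨y, hy, oy⟩ := h.exists_Q
  have k1 := h.mem_Z_of_norm (h.cz c _ (hR.1 (k (CfsgH2.conj_mem_cj γ (mem_zpowers x))))
    (conj_ne_one (ne_one_of_orderOf hr ox))
    (mem_c1.2 (conj_comm (mem_cent_iff.1 (oc_le hx) y hy).symm γ)))
    (by rw [orderOf_conj', oy]; exact h.arith.1.of_dvd_nat h.p_dvd)
    (by
      rw [orderOf_conj', oy, Nat.prime_dvd_prime_iff_eq Nat.prime_three h.ls.prime]
      exact h.p_ne_three.symm)
  have k2 := orderOf_dvd_of_mem (oc_le k1)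
  rw [orderOf_conj', oy] at k2
  exact h.ls.prime.one_lt.ne' (Nat.eq_one_of_dvd_coprimes h.arith.2.2.1 k2 h.p_dvd)

theorem JD.D_norm (h : JD L K Q A a t s w 1 q p) : K ⊔ zpowers a ≤ 𝒩 Q :=
  sup_le (le_sup_right.trans ((h.ls.borel_pos rfl).1.ge.trans inf_le_right))
    (zpowers_le.2 (cl_norm h.cl h.ls.ccQ.le))

theorem JD.cent_Q (h : JD L K Q A a t s w 1 q p) (c : Ctx G) {r : ℕ} [hr : Fact r.Prime]
    (hd : r ∣ #A) : ¬ r ∣ #(Oc (𝒞 Q)) := fun d => by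
  obtain ⟨S, hS, hn⟩ := CfsgH2.exists_invariant_sylow r
    ((CfsgH2.le_normalizer_centralizer h.D_norm).trans norm_le_norm_oc) (h.cop_Q c)
    (Or.inr (solvable_oc _))
  obtain ⟨y, hy, oy⟩ := cauchy hr.out (((sylow_ne_bot_iff (hS.mono le_rfl hS.1)).1
    ((sylow_ne_bot_iff hS).2 d)))
  obtain ⟨z, hz, z1⟩ := h.exists_Z
  have oS := odd_of_le hS.1 (odd_oc _)
  have h1 := h.cz c z hz z1 (mem_c1.2 (mem_cent_iff.1 (h.nc' c hd hS.2.1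
    (hn (mem_sup_left (oc_le hz))) (odd_orderOf_of_mem (odd_oc K) hz)) y hy).symm)
  have h2 : y ∈ 𝒞 (closure {a, t}) := mem_cent_iff.2 fun v hv => by
    refine comm_of_conj_eq (mul_inv_eq_one.1 (eq_one_of_two_odd h.fr.two oS
      (mul_mem (conj_mem_of_mem_norm h1 hv) (inv_mem hv)) ?_))
    rw [show y * v * y⁻¹ * v⁻¹ = y * (v * y⁻¹ * v⁻¹) by group]
    exact mul_mem hy (conj_mem_of_mem_norm (hn (h.four_le hv)) (inv_mem hy))
  have h3 := orderOf_dvd_of_mem (oc_le (h.odd_cent h2 (odd_orderOf_of_mem oS hy)))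
  exact hr.out.one_lt.ne' (Nat.eq_one_of_dvd_coprimes h.arith.2.2.2.1 (oy ▸ h3) hd)

theorem BD.at (h : BD L B a u) {v : G} (hv : v ∈ L ⊓ 𝒩 B) (v1 : v ≠ 1) (vv : v * v = 1) :
    BD L B a v := by
  obtain ⟨n, hn, e⟩ := exists_conj_mem_syl h.syl hv vv
  have e1 := ((mem_zpowers_inv h.uu).1 e).resolve_left (conj_ne_one v1)
  have := h.cj n⁻¹
  rwa [cj_eq_of_mem (inv_mem hn.1), cj_eq_of_mem_normalizer (inv_mem hn.2),
    conj_eq_of_comm (cl_comm h.cl (inv_mem hn.1)), ← e1,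
    show n⁻¹ * (n * v * n⁻¹) * n⁻¹⁻¹ = v by group] at this

theorem norm_zpowers_of_inv {x v : G} (h : v * x * v⁻¹ = x⁻¹) : v ∈ 𝒩 (zpowers x) := by
  rw [mem_normalizer_iff_cj, cj_zpowers', h, zpowers_inv]

theorem JD.cy_pos (h : JD L K Q A a t s w 1 q p) (c : Ctx G) {r : ℕ} [hr : Fact r.Prime]
    (hd : r ∣ #A) {x y v : G} (hx : x ∈ Q) (x1 : x ≠ 1) (f : Fr a v) (vx : v * x * v⁻¹ = x⁻¹)
    (oy : orderOf y = r) (yx : y * x = x * y) (yv : y * v = v * y) (ay : a * y * a⁻¹ = y⁻¹) :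
    False := by
  haveI := Fact.mk h.ls.prime
  have cb := h.cbQ c.ag
  have p2 := cb.ne_two (h.ls.card_Q ▸ h.p_dvd)
  have xa := cl_comm h.cl (cb.cc.le hx)
  have key : ∃ u, BD L Q a u ∧ closure {a, u} = closure {a, v} := by
    rcases h.cl.cent v (mem_top v) f.comm.symm with k | k
    · exact ⟨v, (h.bdQ c.ag).at ⟨k, cb.norm hx x1 k (vx ▸ inv_mem hx)⟩ f.u1 f.uu, rfl⟩
    · rw [← f.comm] at k
      refine ⟨a * v, (h.bdQ c.ag).at ⟨k, cb.norm hx x1 k ?_⟩ f.au1 f.auau, four_mul a v⟩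
      rw [show a * v * x * (a * v)⁻¹ = a * (v * x * v⁻¹) * a⁻¹ by group, vx]
      exact conj_mem_of_mem_norm (cl_norm h.cl cb.cc.le) (inv_mem hx)
  obtain ⟨u, bd, e⟩ := key
  have rA : ∀ n, (n.Coprime #A) → ¬ r ∣ n := fun n k d =>
    hr.out.one_lt.ne' (Nat.eq_one_of_dvd_coprimes k d hd)
  have oy' : Odd (orderOf y) := oy ▸ h.arith.2.1.of_dvd_nat hd
  have yW := cb.mem_oc hx x1 le_rfl (cb.a_c1 hx) (mem_c1.2 yx) oy'
  obtain ⟨R, hR⟩ := CfsgH2.exists_isSylowOf r (Oc (𝒞₁ x))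
  have hN := bg1_18 hR fun g hg => h.nc' c hd hR.2.1 hg.2 (odd_orderOf_of_mem (odd_oc _) hg.1)
  have h1 : closure {a, v} ≤ 𝒩 (zpowers y) :=
    Jl.four_le.2 ⟨norm_zpowers_of_inv ay, mem_norm_zpowers yv⟩
  have h2 : closure {a, v} ⊔ zpowers y ≤ 𝒩 (Oc (𝒞₁ x)) :=
    sup_le ((e ▸ bd.four_norm hx).trans norm_le_norm_oc) (zpowers_le.2 (le_normalizer yW))
  have h3 : (#(closure {a, v} ⊔ zpowers y)).Coprime #(pPrimeCoreOf r (Oc (𝒞₁ x))) := by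
    refine Nat.Coprime.coprime_dvd_left ⟨_, (CfsgH2.card_sup_mul_card_inf h1).symm⟩
      (Nat.Coprime.mul_left (coprime_two_of_odd f.two (odd_of_le pPrimeCoreOf_le (odd_oc _))) ?_)
    rw [Nat.card_zpowers, oy]
    exact (Nat.Prime.coprime_iff_not_dvd hr.out).2 (not_dvd_pPrime _)
  have hxp : IsPGroup p (zpowers x) := (ls_pQ h.ls).to_le (zpowers_le.2 hx)
  have xW := cb.mem_oc hx x1 le_rfl (cb.a_c1 hx) (mem_c1.2 rfl) (odd_orderOf_of_mem cb.odd hx)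
  obtain ⟨P, hP, hn, hle⟩ := CfsgH2.exists_invariant_sylow_ge
    (h2.trans normalizer_le_normalizer_pPrimeCoreOf) h3
    (Or.inr (CfsgH2.isSolvable_of_le pPrimeCoreOf_le (solvable_oc _))) hxp
    (le_pPrimeCoreOf_of_pNil hN (zpowers_le.2 xW) fun d => rA q h.arith.2.2.2.2.1
      (h.ls.card_Q ▸ d.trans (card_dvd_of_le (zpowers_le.2 hx))))
    (sup_le (Jl.four_le.2 ⟨mem_norm_zpowers xa, norm_zpowers_of_inv vx⟩)
      (zpowers_le.2 (mem_norm_zpowers yx.symm)))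
  have hP1 := (isSylowOf_hall_iff (pNil_iff_hall.1 hN)
    (fun k : p = r => rA q h.arith.2.2.2.2.1 (k ▸ h.p_dvd)) hP.1).1 hP
  have hP2 := cb.syl_top p2 hx x1 le_rfl (cb.a_c1 hx) hxp (cent_le_c1 (mem_zpowers x)) hP1
  have hn1 := le_sup_left.trans hn
  have yN := hn (mem_sup_right (mem_zpowers y))
  have hQ : IsSylowOf p (P ⊓ 𝒞₁ a) Q := by
    have k := hP1.inf_centralizer (zpowers_le.2 (le_norm_oc (cb.a_c1 hx)))
      (coprime_two_of_odd (two_zpowers h.cl.aa) (odd_oc _)) (Or.inr (solvable_oc _))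
      (zpowers_le.2 (hn1 a_mem_four))
    rw [CfsgFT.centralizer_zpowers] at k
    refine k.mono (fun z hz => cb.odd_ay hx x1 (mem_c1.1 hz.2) (mem_c1.1 (oc_le (hP1.1 hz.1)))
      (odd_orderOf_of_mem (odd_oc _) (hP1.1 hz.1))) (le_inf ?_ fun z hz => ?_)
    · exact cb.le_oc hx x1 le_rfl (cb.a_c1 hx) (cb.le_c1 hx) cb.odd
    · exact mem_c1.2 (cl_comm h.cl (cb.cc.le hz))
  have Q0 : P ⊓ 𝒞₁ a ≠ ⊥ := fun k =>
    x1 (mem_bot.1 (k ▸ (⟨hle (mem_zpowers x), mem_c1.2 xa⟩ : x ∈ P ⊓ 𝒞₁ a)))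
  obtain ⟨ρ, -, -, hρ, -⟩ := h.rot bd.mem bd.u1 bd.uu
  rcases bd.tlem hρ hP2 (e ▸ hn1) hQ Q0 with k | ⟨g, hg, k⟩
  · have k1 : a ∈ 𝒞 P := mem_cent_iff.2 fun z hz => (mem_c1.1 (k hz)).symm
    have k2 : y ∈ 𝒞 P := mem_of_sq_mem oy' (by
      rw [sq_eq_comm ay]
      exact mul_mem (conj_mem_of_mem_norm (CfsgH2.le_normalizer_centralizer le_rfl yN) k1)
        (inv_mem k1))
    have k3 : Q ≤ P := (hQ.eq_of_le (ls_pQ h.ls) hQ.1 le_rfl).le.trans inf_le_left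
    exact h.cent_Q c hd (oy ▸ orderOf_dvd_of_mem (cb.mem_oc hx x1 (cent_le_c1 hx)
      (cent_anti cb.cc.le h.cl.a_cent) (cent_anti k3 k2) oy'))
  · obtain ⟨i, hi⟩ := k.exists_conj bd.fr (e ▸ u_mem_four : v ∈ closure {a, u}) f.u1
    have k1 : P ⊓ 𝒞₁ v ≠ ⊥ := fun k2 => Q0 (by
      rw [← card_eq_one, ← hi, card_inf_c1 (pow_mem hg i), k2, card_bot])
    obtain ⟨z, hz, z1⟩ := exists_ne_one k1
    obtain ⟨γ, k2, k3⟩ := cb.conj_into (h.ls.card_Q ▸ h.p_dvd) hP.2.1.to_inf_left f.u1 f.uu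
      inf_le_right
    have h' := h.cj γ
    have k4 := cl_odd h'.cl oy' (k2 ▸ yv)
    have k5 := orderOf_dvd_of_mem (X := CfsgH1.cj γ L ⊓ 𝒩 (CfsgH1.cj γ Q)) ⟨k4, (cb.cj γ).norm (k3 hz) z1 k4
      (k3 (conj_mem_of_mem_norm (inf_c1_norm yN yv) hz))⟩
    rw [h'.card_borel, card_cj, oy] at k5
    exact rA _ (Nat.Coprime.mul_left h.arith.2.2.2.2.1 h.arith.2.2.2.1) k5

theorem JD.cy_core (h : JD L K Q A a t s w e q p) (c : Ctx G) {r : ℕ} [hr : Fact r.Prime]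
    (hd : r ∣ #A) {x y v b : G} (x1 : x ≠ 1) (ox : Odd (orderOf x)) (hx : (orderOf x).Coprime #A)
    (f : Fr b v) (xb : x * b = b * x) (vx : v * x * v⁻¹ = x⁻¹)
    (oy : orderOf y = r) (yx : y * x = x * y) (yv : y * v = v * y) (hy : b * y * b⁻¹ = y⁻¹) :
    False := by
  obtain ⟨γ, e1, h2⟩ := h.types ox f.a1 f.aa xb
  have f' := f.conj γ
  have hy' := conj_invs hy γ
  rw [e1] at f' hy'
  rcases h2 with h2 | h2 | h2
  · exact conj_ne_one (ne_one_of_orderOf hr.out oy) (h.fr.eq_one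
      (h.cz c _ h2 (conj_ne_one x1) (mem_c1.2 (conj_comm yx γ)))
      (by rw [orderOf_conj', oy]; exact h.arith.2.1.of_dvd_nat hd) a_mem_four hy')
  · rcases h.ls.sign with rfl | rfl
    · exact h.cy_pos c hd h2 (conj_ne_one x1) f' (conj_invs vx γ) (by rw [orderOf_conj', oy])
        (conj_comm yx γ) (conj_comm yv γ) hy'
    · exact h.not_inv_Q c.ag h2 (conj_ne_one x1) f'.comm.symm (conj_invs vx γ)
  · have := orderOf_dvd_of_mem h2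
    rw [orderOf_conj'] at this
    exact x1 (orderOf_eq_one_iff.1 (Nat.eq_one_of_dvd_coprimes hx dvd_rfl this))

/-- Ward's condition IV -/
theorem JD.cy (h : JD L K Q A a t s w e q p) (c : Ctx G) {y : G} (hy : y ∈ A) (y1 : y ≠ 1) :
    𝒞₁ y ≤ A ⊔ zpowers a := by
  have bd := h.bdA c.ag
  have f := h.frw
  obtain ⟨M, hc, hM, hle⟩ := h.hall c hy y1
  have hMW : M ≤ Oc (𝒞₁ y) := fun x hx => ((hM x).1 hx).1
  have oM := odd_of_le hMW (odd_oc _)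
  obtain ⟨k, hk⟩ := CfsgH2.exists_pow_prime_order y1
  haveI := Fact.mk hk
  have hy' := pow_mem hy k
  have ya := cl_comm h.cl (bd.cc.le hy')
  have key : ∀ b, Fr b a → b * y ^ k * b⁻¹ = (y ^ k)⁻¹ → M ⊓ 𝒞₁ b ≤ ⊥ := fun b fb hb x hx => by
    by_contra x1
    exact h.cy_core c (orderOf_dvd_of_mem hy') x1 (odd_orderOf_of_mem oM hx.1)
      (hc.coprime_dvd_left (orderOf_dvd_of_mem hx.1)) fb (mem_c1.1 hx.2) ((hM x).1 hx.1).2 rfl
      (Commute.pow_left (mem_c1.1 (oc_le (hMW hx.1))).symm k).eq ya hb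
  have h0 : M ≤ ⊥ := by
    refine f.le_of_cent oM (fun v hv => norm_inv_set hM (norm_le_norm_oc (bd.four_norm hy hv))
      (le_cent_iff.1 f.abel v hv a a_mem_four)) (fun x hx => ?_) (key w f.symm (bd.inv _ hy'))
      (key _ f.mul.symm ?_)
    · exact eq_one_of_inv_of_comm (odd_orderOf_of_mem oM hx.1) ((hM x).1 hx.1).2
        (mem_c1.1 hx.2).symm
    · rw [show a * w * y ^ k * (a * w)⁻¹ = a * (w * y ^ k * w⁻¹) * a⁻¹ by group, bd.inv _ hy',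
        conj_eq_of_comm (Commute.inv_right ya.symm).eq]
  rw [← bd.toCB.oc_sup hy y1 le_rfl (bd.toCB.a_c1 hy)]
  exact sup_le_sup_right (hle.trans (sup_le (h0.trans bot_le) le_rfl)) _

theorem JD.odd_cy (h : JD L K Q A a t s w e q p) (c : Ctx G) {y : G} (hy : y ∈ A) (y1 : y ≠ 1)
    (hg : g * y = y * g) (ho : Odd (orderOf g)) : g ∈ A :=
  mem_of_odd_of_sup (cl_norm h.cl h.ls.ccA.le) h.cl.aa (h.cy c hy y1 (mem_c1.2 hg)) ho

theorem JD.syl_Q (h : JD L K Q A a t s w e q p) : IsSylowOf p Q Q :=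
  ⟨le_rfl, ls_pQ h.ls, by rw [relIndex_self]; exact h.ls.prime.not_dvd_one⟩

theorem JD.Q_ne (h : JD L K Q A a t s w e q p) : Q ≠ ⊥ := fun e => by
  have := h.ls.card_Q
  have := h.arith.2.2.2.2.2.1
  rw [e, card_bot] at *
  omega

theorem JD.neg (h : JD L K Q A a t s w (-1) q p) (c : Ctx G) :
    ∃ P : Subgroup G, IsSylowOf p P ⊤ ∧ Q ≤ P ∧ a ∈ 𝒩 P ∧ A ≤ 𝒩 P ∧ SemiReg P A := by
  haveI := Fact.mk h.ls.prime
  have cb := h.cbQ c.ag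
  have pA : ¬ p ∣ #A := fun d =>
    h.ls.prime.one_lt.ne' (Nat.eq_one_of_dvd_coprimes h.arith.2.2.2.2.1 h.p_dvd d)
  obtain ⟨P, hP, hn, e⟩ := cb.exists_hat h.syl_Q h.Q_ne (D := A ⊔ zpowers a)
    (sup_le (le_sup_right.trans ((h.ls.borel_neg rfl).ge.trans inf_le_right))
      (zpowers_le.2 (cl_norm h.cl h.ls.ccQ.le))) (by
      by_contra h0
      obtain ⟨r, hr, d1, d2⟩ := Nat.Prime.not_coprime_iff_dvd.1 h0
      haveI := Fact.mk hr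
      rw [card_sup_zpowers (cl_norm h.cl h.ls.ccA.le) h.cl.aa
        fun ha => h.cl.a_not (h.ls.ccA.le ha)] at d1
      obtain ⟨x, hx, ox⟩ := cauchy hr d2
      obtain ⟨γ, k⟩ := h.conj_A c (dvd_of_odd hr d1 d2 (odd_oc _)) (isPGroup_zpowers_of_orderOf ox)
      obtain ⟨y, hy, oy⟩ := h.exists_Q
      have := orderOf_dvd_of_mem ((h.cj γ).odd_cy c (k (mem_zpowers x)) (ne_one_of_orderOf hr ox)
        (mem_cent_iff.1 (oc_le hx) y hy).symm (odd_orderOf_of_mem cb.odd hy))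
      rw [card_cj, oy] at this
      exact pA this)
  exact ⟨P, hP, e ▸ inf_le_left, hn (mem_sup_right (mem_zpowers a)), le_sup_left.trans hn,
    fun y hy y1 => eq_bot_iff.2 fun x hx => eq_one_of_pp hP.2.1 pA hx.1 (h.odd_cy c hy y1
      (mem_c1.1 hx.2) (odd_orderOf_of_mem (odd_of_pGroup (cb.ne_two (h.ls.card_Q ▸ h.p_dvd))
        hP.2.1) hx.1))⟩

theorem JD.pos (h : JD L K Q A a t s w 1 q p) (c : Ctx G) :
    ∃ P : Subgroup G, IsSylowOf p P ⊤ ∧ (#P = q ∨ #P = q ^ 3 ∧ 6 * #K * q ^ 3 ∣ #(𝒩 P)) := by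
  haveI := Fact.mk h.ls.prime
  have bd := h.bdQ c.ag
  obtain ⟨P, hP, hn, e⟩ := bd.toCB.exists_hat h.syl_Q h.Q_ne h.D_norm (h.cop_Q c)
  obtain ⟨ρ, -, -, hρ, -⟩ := h.rot bd.mem bd.u1 bd.uu
  refine ⟨P, hP, (bd.tlem hρ hP (h.four_le.trans hn) (e ▸ h.syl_Q) (e ▸ h.Q_ne)).imp
    (fun k => by rw [← h.ls.card_Q, ← e, inf_eq_left.2 k]) fun ⟨g, hg, k⟩ => ?_⟩
  have h1 : #P = q ^ 3 := by
    rw [k.card_eq h.fr (odd_of_pGroup (bd.toCB.ne_two (h.ls.card_Q ▸ h.p_dvd)) hP.2.1)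
      (c.ag.comm hP.2.1 le_top) (h.four_le.trans hn) (fun x k1 k2 k3 =>
        bd.eq_one (e ▸ (⟨k1, mem_c1.2 k2⟩ : x ∈ P ⊓ 𝒞₁ a)) k3) hg, e, h.ls.card_Q]
  refine ⟨h1, ?_⟩
  haveI := Fact.mk Nat.prime_three
  obtain ⟨i, g3, hi⟩ := k.three h.fr (h.three_cent (h.three c) (k.cube h.fr))
  have h2 := orderOf_dvd_of_mem (pow_mem hg i)
  rw [orderOf_eq_prime g3 (hi.ne_one h.fr)] at h2
  have h3 := card_dvd_of_le hn
  rw [h.card_D] at h3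
  have h4 := card_dvd_of_le (le_normalizer (H := P))
  rw [h1] at h4
  have h5 : ¬ 3 ∣ q := fun d => h.p_ne_three ((ls_p_dvd h.tO h.ls Nat.prime_three).1 d).symm
  have h6 : ¬ 3 ∣ 2 * #K := fun d => h.three c (by
    rw [← h.tO.card_oc] at d; omega)
  rw [show 6 * #K = 3 * (2 * #K) by ring]
  refine Nat.Coprime.mul_dvd_of_dvd_of_dvd (Nat.Coprime.pow_right 3 (Nat.Coprime.mul_left
    ((Nat.Prime.coprime_iff_not_dvd Nat.prime_three).2 h5) (Nat.Coprime.mul_left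
      (Nat.coprime_two_left.2 h.arith.1) h.arith.2.2.1)))
    (Nat.Coprime.mul_dvd_of_dvd_of_dvd ((Nat.Prime.coprime_iff_not_dvd Nat.prime_three).2 h6)
      h2 h3) h4

end CfsgAG.Jl
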