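import Cfsg.Agent.AG.B0a
import Cfsg.Agent.BS.Final
import Cfsg.Agent.SF.ZDF

/-! WP SE: strongly embedded subgroups and abelian Sylow 2-subgroups. -/

set_option autoImplicit false
set_option linter.style.haveILetI false

namespace CfsgAG

open Subgroup CfsgFT CfsgL0

universe u

theorem Simp.isSimple {G : Type*} [Group G] (h : Simp (⊤ : Subgroup G)) : IsSimpleGroup G :=
  haveI := h.simple
  (Subgroup.topEquiv (G := G)).symm.isSimpleGroup

theorem specSE : SpecSE.{u} := by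
  intro G _ _ hs S hS hc M hM
  haveI := hs.isSimple
  haveI : Fact (Nat.Prime 2) := ⟨Nat.prime_two⟩
  have hna : ∃ a b : G, a * b ≠ b * a := by
    obtain ⟨a, -, b, -, h⟩ := hs.nc
    exact ⟨a, b, h⟩
  obtain ⟨h4, _, X, -⟩ := CfsgBS.exists_R1_of_se CfsgBS.thmA hna hM
  obtain ⟨two, hcase⟩ := CfsgBS.thmS _ _ _ X (Nat.lt_succ_self _) h4
  have hQ : IsSylowOf 2 X.Q ⊤ := by
    obtain ⟨P, hP⟩ := X.exists_sylow_le_Q
    have h1 := CfsgH2.isSylowOf_top P
    rwa [← h1.eq_of_le two hP le_top] at h1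
  obtain ⟨g, -, hg⟩ := hQ.exists_cj_eq hS
  have hcQ : ∀ a ∈ X.Q, ∀ b ∈ X.Q, a * b = b * a := fun a ha b hb => by
    have := hc _ (hg ▸ CfsgH2.conj_mem_cj g ha) _ (hg ▸ CfsgH2.conj_mem_cj g hb)
    have e : g * (a * b) * g⁻¹ = g * (b * a) * g⁻¹ := by
      calc _ = g * a * g⁻¹ * (g * b * g⁻¹) := by group
        _ = g * b * g⁻¹ * (g * a * g⁻¹) := this
        _ = _ := by group
    simpa using e
  have hA : X.CaseA := by
    rcases hcase with h | h | h
    · exact h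
    · obtain ⟨x, hx, y, hy, h⟩ := h.noncomm
      exact absurd (hcQ x hx y hy) h
    · obtain ⟨x, hx, y, hy, h⟩ := h.noncomm
      exact absurd (hcQ x hx y hy) h
  obtain ⟨s, r, hd⟩ := X.exists_dist
  have h3 := hA.ord s r hd
  have hL0 : X.L0 = ⊤ := by
    rw [eq_top_iff, ← X.L_eq_top]
    exact sup_le (hA.Q_eq.le.trans (le_sup_left.trans le_sup_left)) le_sup_right
  have hq : #X.Q = X.q := by rw [hA.Q_eq]; rfl
  have hsq : ∀ v ∈ X.Q, v * v = 1 := fun v hv => X.Q0_sq h4 (hA.Q_eq ▸ hv)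
  have key : T2 ⊤ X.Q X.K := by
    refine ⟨hs, ⟨le_top, fun y hy y1 => le_antisymm (fun x hx => ?_) fun x hx => ?_⟩, hsq,
      hq ▸ X.four_le_q h4, le_inf le_top (X.K_le_D.trans (X.D_le_H.trans X.H_le_normalizer_Q)),
      X.isCyclic_K h4, hq ▸ X.card_K h4, fun v hv v1 w hw w1 => ?_, ?_, ?_⟩
    · have hxy : x * y = y * x := mem_c1.1 hx.2
      have hH := X.mem_H_of_comm hy y1 hxy
      rcases (hd.mem_L0 h4 h3 (g := x)).1 (hL0 ▸ mem_top x) with
        ⟨a, ha, k, hk, rfl⟩ | ⟨a, ha, k, hk, b, hb, rfl⟩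
      · have ha' := X.Q0_le_Q ha
        by_cases k1 : k = 1
        · rw [k1, mul_one]; exact ha'
        · refine absurd (X.eq_one_of_Kset_comm_Q ((X.mem_K h4).1 hk) k1 hy ?_) y1
          have := hcQ a ha' y hy
          apply mul_left_cancel (a := a)
          rw [← mul_assoc, hxy, ← mul_assoc, ← mul_assoc, this]
      · exact absurd hH (X.canon_not_mem_H
          (mul_mem (X.Q_le_H (X.Q0_le_Q ha)) (X.D_le_H (X.K_le_D hk))) (X.Q_le_H (X.Q0_le_Q hb)))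
    · exact ⟨mem_top x, mem_c1.2 (hcQ x hx y hy)⟩
    · obtain ⟨k, hk, e⟩ := X.exists_Kset_conj' (X.mem_I_of_mem_Q hv v1 (hsq v hv))
        (X.mem_I_of_mem_Q hw w1 (hsq w hw))
      exact ⟨k, X.Kset_subset_K hk, e⟩
    · rw [← hL0, hd.card_L0 h4 h3, hq, mul_assoc]
      congr 1
      have := X.four_le_q h4
      obtain ⟨n, hn⟩ : ∃ n, X.q = n + 1 := ⟨X.q - 1, by omega⟩
      rw [hn, Nat.add_sub_cancel, eq_comm, Nat.sub_eq_iff_eq_add (Nat.one_le_pow _ _ (by omega))]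
      ring
    · obtain ⟨F, _, _, -, h2, ⟨f⟩⟩ := CfsgBS.specCA _ _ X h4 hA
      exact ⟨F, _, _, h2.trans hq.symm, ⟨(MulEquiv.subgroupCongr X.L_eq_top).symm.trans f⟩⟩
  have := key.cj g
  rw [show cj g (⊤ : Subgroup G) = ⊤ from cj_eq_of_mem (mem_top g)] at this
  subst hg
  exact ⟨_, this⟩

theorem specZA : SpecZA.{u} := by
  intro G _ _ hs S hS hc M T hM hN hT hT0 hsq hNT hC
  haveI := hs.isSimple
  haveI : Fact (Nat.Prime 2) := ⟨Nat.prime_two⟩
  have hc' : S ≤ 𝒞 S := le_cent_iff.2 hc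
  have hSM : S ≤ M := le_normalizer.trans hN
  obtain ⟨v0, hv0, v01⟩ : ∃ v ∈ T, v ≠ 1 := by
    by_contra h
    push Not at h
    exact hT0 ((eq_bot_iff_forall _).2 h)
  let D : G ⧸ M → Set G := fun α => {a | ∃ g : G, (g : G ⧸ M) = α ∧ ∃ v ∈ T, v ≠ 1 ∧ a = g * v * g⁻¹}
  have fus : ∀ v ∈ T, ∀ g : G, g * v * g⁻¹ ∈ S → ∃ n ∈ 𝒩 S, n * v * n⁻¹ = g * v * g⁻¹ :=
    fun v hv g h => by
      obtain ⟨n, hn, e⟩ := fusion_of_comm hS hc' (hT hv) (mem_top g) h
      exact ⟨n, hn.2, e⟩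
  have csq : ∀ v ∈ T, ∀ g : G, g * v * g⁻¹ * (g * v * g⁻¹) = 1 := fun v hv g => by
    rw [show g * v * g⁻¹ * (g * v * g⁻¹) = g * (v * v) * g⁻¹ by group, hsq v hv]; group
  have hZ : CfsgZD.ZH G (G ⧸ M) D := by
    refine ⟨?_, ?_, ?_, ?_, ?_, ?_, ?_⟩
    · rintro h α a ⟨g, rfl, v, hv, v1, rfl⟩
      exact ⟨h * g, rfl, v, hv, v1, by group⟩
    · rintro α a ⟨g, rfl, v, hv, v1, rfl⟩ h
      exact v1 (by simpa using h)
    · rintro α a ⟨g, rfl, v, hv, v1, rfl⟩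
      exact csq v hv g
    · rintro α a ⟨g, rfl, v, hv, v1, rfl⟩
      refine QuotientGroup.eq.2 ?_
      have : (g * v * g⁻¹ * g)⁻¹ * g = v⁻¹ := by group
      exact this ▸ inv_mem (hSM (hT hv))
    · rintro α β a ⟨g, rfl, v, hv, v1, rfl⟩
      obtain ⟨h, rfl⟩ := QuotientGroup.mk_surjective β
      intro e
      have e1 : (g * v * g⁻¹ * h)⁻¹ * h ∈ M := QuotientGroup.eq.1 e
      have e2 : (h⁻¹ * g) * v * (h⁻¹ * g)⁻¹ ∈ M := by
        have := inv_mem e1
        convert this using 1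
        group
      obtain ⟨m, hm, e3⟩ := (hS.mono hSM le_top).exists_cj_le (two_zpowers (csq v hv _))
        (zpowers_le.2 e2)
      have e4 := e3 (CfsgH2.conj_mem_cj m (mem_zpowers _))
      obtain ⟨n, hn, e5⟩ := fus v hv (m * (h⁻¹ * g)) (by convert e4 using 1; group)
      have e6 : n⁻¹ * (m * (h⁻¹ * g)) ∈ M := hC v hv v1 (mem_c1.2 (by
        calc n⁻¹ * (m * (h⁻¹ * g)) * v
            = n⁻¹ * (m * (h⁻¹ * g) * v * (m * (h⁻¹ * g))⁻¹) * (m * (h⁻¹ * g)) := by group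
          _ = _ := by rw [← e5]; group))
      refine QuotientGroup.eq.2 ?_
      have := mul_mem (inv_mem hm) (mul_mem (hN hn) e6)
      convert this using 1
      group
    · rintro α a ⟨g, rfl, v, hv, v1, rfl⟩ b ⟨g', e, v', hv', v1', rfl⟩ hab
      have hw : g⁻¹ * g' * v' * (g⁻¹ * g')⁻¹ ∈ 𝒞₁ v := mem_c1.2 (by
        calc g⁻¹ * g' * v' * (g⁻¹ * g')⁻¹ * v = g⁻¹ * (g' * v' * g'⁻¹ * (g * v * g⁻¹)) * g := by group
          _ = _ := by rw [← hab]; group)
      have hSC : S ≤ 𝒞₁ v := fun x hx => mem_c1.2 (hc x hx v (hT hv))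
      obtain ⟨c, hcv, e3⟩ := (hS.mono hSC le_top).exists_cj_le (two_zpowers (csq v' hv' _))
        (zpowers_le.2 hw)
      have e4 := e3 (CfsgH2.conj_mem_cj c (mem_zpowers _))
      obtain ⟨n, hn, e5⟩ := fus v' hv' (c * (g⁻¹ * g')) (by convert e4 using 1; group)
      have hu : v * (n * v' * n⁻¹) ∈ T := mul_mem hv (conj_mem_of_mem_norm (hNT hn) hv')
      have e6 : g * v * g⁻¹ * (g' * v' * g'⁻¹) = g * c⁻¹ * (v * (n * v' * n⁻¹)) * (g * c⁻¹)⁻¹ := by
        have e7 : c * v = v * c := mem_c1.1 hcv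
        rw [e5]
        calc _ = g * c⁻¹ * (c * v) * (g⁻¹ * g' * v' * g'⁻¹) := by group
          _ = _ := by rw [e7]; group
      by_cases h1 : v * (n * v' * n⁻¹) = 1
      · left
        rw [h1, mul_one, mul_inv_cancel] at e6
        rw [eq_inv_of_mul_eq_one_left e6, inv_eq_of_mul_eq_one_left (csq v' hv' g')]
      · right
        refine ⟨g * c⁻¹, QuotientGroup.eq.2 ?_, _, hu, h1, e6⟩
        have : (g * c⁻¹)⁻¹ * g = c := by group
        rw [this]
        exact hC v hv v1 hcv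
    · intro α
      obtain ⟨g, rfl⟩ := QuotientGroup.mk_surjective α
      exact ⟨_, g, rfl, v0, hv0, v01, rfl⟩
  haveI : Nontrivial (G ⧸ M) := by
    obtain ⟨g, hg⟩ : ∃ g, g ∉ M := by
      by_contra h
      push Not at h
      exact hM ((eq_top_iff' _).2 h)
    exact ⟨(g : G ⧸ M), (1 : G), fun h => hg (by simpa using QuotientGroup.eq.1 h.symm)⟩
  have hgen : closure (CfsgZD.DD D) = ⊤ := by
    have hn : (closure (CfsgZD.DD D)).Normal := by
      refine ⟨fun x hx g => ?_⟩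
      have : cj g (closure (CfsgZD.DD D)) ≤ closure (CfsgZD.DD D) := by
        rw [CfsgH1.cj_closure]
        refine closure_mono ?_
        rintro _ ⟨a, ⟨γ, ha⟩, rfl⟩
        exact ⟨_, hZ.conj g γ a ha⟩
      exact this (conj_mem_cj g hx)
    refine hn.eq_bot_or_eq_top.resolve_left fun h => v01 ?_
    have : v0 ∈ closure (CfsgZD.DD D) :=
      subset_closure ⟨((1 : G) : G ⧸ M), 1, rfl, v0, hv0, v01, by group⟩
    rwa [h, mem_bot] at this
  have hsea := CfsgZD.specZD G (G ⧸ M) D hZ hgen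
  refine specSE G hs S hS hc M ⟨hM, ?_, fun g hg => ?_⟩
  · have h2 : orderOf v0 = 2 := orderOf_eq_prime (by rw [sq]; exact hsq v0 hv0) v01
    exact even_iff_two_dvd.2 (h2 ▸ M.orderOf_dvd_natCard (hSM (hT hv0)))
  · have := hsea.odd_stab ((1 : G) : G ⧸ M) (g : G ⧸ M) fun h =>
      hg (by simpa using QuotientGroup.eq.1 h)
    have e : MulAction.stabilizer G (g : G ⧸ M) = cj g M := by
      ext x
      rw [MulAction.mem_stabilizer_iff, mem_cj, MulAction.Quotient.smul_mk, smul_eq_mul, eq_comm,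
        QuotientGroup.eq, mul_assoc]
    rwa [e, MulAction.stabilizer_quotient] at this

end CfsgAG
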