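import Cfsg.Agent.AG.BL

/-!
Extensions of index two, shifted characters and some arithmetic.
-/

set_option autoImplicit false

namespace CfsgAG

open Subgroup CfsgFT CfsgH4
open scoped ComplexConjugate

variable {G : Type*} [Group G]

/-- `K₀ = K ∪ t K` with `t ∉ K` an involution -/
structure Ex2 (K K₀ : Subgroup G) (t : G) : Prop where
  tt : t * t = 1
  not_mem : t ∉ K
  mem : ∀ y, y ∈ K₀ ↔ y ∈ K ∨ t * y ∈ K

theorem exists_ex2 {K : Subgroup G} {t : G} (tt : t * t = 1) (ht : t ∉ K) (hn : t ∈ 𝒩 K) :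
    ∃ K₀, Ex2 K K₀ t := by
  have hn' := mem_normalizer_iff.1 hn
  have ti : t⁻¹ = t := inv_eq_of_mul_eq_one_right tt
  refine ⟨{ carrier := {y | y ∈ K ∨ t * y ∈ K}, one_mem' := Or.inl K.one_mem, mul_mem' := ?_,
            inv_mem' := ?_ }, tt, ht, fun y => Iff.rfl⟩
  · rintro a b (ha | ha) (hb | hb)
    · exact Or.inl (K.mul_mem ha hb)
    · refine Or.inr ?_
      convert K.mul_mem ((hn' a).1 ha) hb using 1; group
    · exact Or.inr (mul_assoc t a b ▸ K.mul_mem ha hb)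
    · refine Or.inl ?_
      convert K.mul_mem ((hn' _).1 ha) hb using 1
      rw [← mul_assoc t t, tt]; group
  · rintro a (ha | ha)
    · exact Or.inl (K.inv_mem ha)
    · refine Or.inr ?_
      convert (hn' _).1 (K.inv_mem ha) using 1
      rw [mul_inv_rev, mul_assoc, mul_assoc, ← mul_inv_rev, tt, inv_one, mul_one]

namespace Ex2

variable {K K₀ : Subgroup G} {t : G} (h : Ex2 K K₀ t)
include h

theorem le : K ≤ K₀ := fun y hy => (h.mem y).2 (Or.inl hy)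

theorem t_mem : t ∈ K₀ := (h.mem t).2 (Or.inr (h.tt ▸ K.one_mem))

theorem mul_notMem {k : G} (hk : k ∈ K) : t * k ∉ K := fun e =>
  h.not_mem ((K.mul_mem_cancel_right hk).1 e)

theorem ttk (k : G) : t * (t * k) = k := by rw [← mul_assoc, h.tt, one_mul]

theorem le_of {X : Subgroup G} (hK : K ≤ X) (ht : t ∈ X) : K₀ ≤ X := fun y hy =>
  ((h.mem y).1 hy).elim (fun e => hK e) fun e => (X.mul_mem_cancel_left ht).1 (hK e)

variable [Finite G]

theorem sum {M : Type*} [AddCommMonoid M] (f : G → M) :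
    ∑ y ∈ fs (K₀ : Set G), f y = ∑ k ∈ fs (K : Set G), f k + ∑ k ∈ fs (K : Set G), f (t * k) := by
  classical
  rw [← Finset.sum_image (s := fs (K : Set G)) (g := (t * ·)) (f := f) fun a _ b _ e => by
    simpa using e, ← Finset.sum_union]
  · refine Finset.sum_congr ?_ fun _ _ => rfl
    ext y
    simp only [mem_fs, SetLike.mem_coe, h.mem, Finset.mem_union, Finset.mem_image]
    exact or_congr_right ⟨fun e => ⟨_, e, h.ttk y⟩, by rintro ⟨k, hk, rfl⟩; rwa [h.ttk]⟩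
  · refine Finset.disjoint_left.2 fun y hy hy' => ?_
    obtain ⟨k, hk, rfl⟩ := Finset.mem_image.1 hy'
    exact h.mul_notMem (mem_fs.1 hk) (mem_fs.1 hy)

theorem card : #K₀ = 2 * #K := by
  have := h.sum fun _ => (1 : ℕ)
  simp only [sum_fs_const, smul_eq_mul, mul_one] at this
  omega

theorem lin {l : G → ℂ} (hl : l ∈ Lin K) (hs : t ∈ stab l) {ε : ℂ} (hε : ε * ε = 1) :
    (fun y => l y + ε * l (t * y)) ∈ Lin K₀ := by
  have h0 := (lin_mem_CF hl).1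
  have h2 : ∀ w, l (t * w) = l (w * t) := fun w => by rw [← hs (w * t)]; congr 1; group
  have h1 : ∀ a ∈ K, ∀ b, l (t * (a * b)) = l a * l (t * b) := fun a ha b => by
    rw [h2, h2, mul_assoc, lin_mul hl ha]
  refine mem_Lin_of_mul (fun x hx => ?_) ?_ fun x hx y hy => ?_
  · rw [h.mem, not_or] at hx
    rw [h0 _ hx.1, h0 _ hx.2, mul_zero, add_zero]
  · rw [mul_one, h0 _ h.not_mem, (mem_Lin.1 hl).2, mul_zero, add_zero]
  · rcases (h.mem x).1 hx with hx | hx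
    · rw [h1 x hx, lin_mul hl hx, h0 _ (h.mul_notMem hx)]; ring
    · obtain ⟨a, rfl⟩ : ∃ a, x = t * a := ⟨_, (h.ttk x).symm⟩
      rw [h.ttk] at hx
      rw [mul_assoc, h.ttk, h.ttk, h1 a hx, lin_mul hl hx, h0 _ (h.mul_notMem hx)]
      linear_combination (-l a * l (t * y)) * hε

end Ex2

/-- the shifted function `y ↦ f (t y)` -/
def sh (t : G) (f : G → ℂ) : G → ℂ := fun y => f (t * y)

variable [Finite G]

theorem Ex2.ip_eq {K K₀ : Subgroup G} {t : G} (h : Ex2 K K₀ t) (f g : G → ℂ) :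
    2 * ip K₀ f g = ip K f g + ip K (sh t f) (sh t g) := by
  unfold ip
  rw [h.sum, h.card, Nat.cast_mul]
  have := card_ne_zero' K
  simp only [sh]
  field_simp
  norm_num

theorem lin_ne_zero {K : Subgroup G} {l : G → ℂ} (hl : l ∈ Lin K) {x : G} : l x ≠ 0 ↔ x ∈ K :=
  ⟨fun h => by_contra fun e => h ((lin_mem_CF hl).1 x e), fun h e => by
    simpa [e] using norm_lin hl h⟩

theorem mem_normalizer_of_stab {K : Subgroup G} {l : G → ℂ} (hl : l ∈ Lin K) {t : G}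
    (hs : t ∈ stab l) : t ∈ 𝒩 K :=
  mem_normalizer_iff.2 fun x => by rw [← lin_ne_zero hl, ← lin_ne_zero hl, hs x]

theorem Ex2.ip_ext {K K₀ : Subgroup G} {t : G} (h : Ex2 K K₀ t) {l : G → ℂ} (hl : l ∈ Lin K)
    (f : G → ℂ) {ε : ℂ} (hε : conj ε = ε) :
    2 * ip K₀ f (fun y => l y + ε * l (t * y)) = ip K f l + ε * ip K (sh t f) l := by
  have h0 := (lin_mem_CF hl).1
  rw [h.ip_eq, ← hε, ← ip_smul_right, hε]
  congr 1 <;> refine ip_congr fun x hx => ?_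
  · rw [h0 _ (h.mul_notMem hx), mul_zero, add_zero]
  · simp only [sh, h.ttk, h0 _ (h.mul_notMem hx), zero_add, Pi.smul_apply, smul_eq_mul]

theorem int_sh {X K : Subgroup G} {t : G} (tt : t * t = 1) (ht : t ∉ K) {l : G → ℂ}
    (hl : l ∈ Lin K) (hs : t ∈ stab l) (hK : K ≤ X) (htX : t ∈ X) {χ : G → ℂ} (hχ : χ ∈ VC X) :
    ∃ n : ℤ, ip K (sh t χ) l = n := by
  obtain ⟨K₀, h⟩ := exists_ex2 tt ht (mem_normalizer_of_stab hl hs)
  have h1 := res_mem_VC (h.le_of hK htX) hχ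
  obtain ⟨a, ha⟩ := ip_vc h1 (chr_mem_VC (lin_mem_Chr (h.lin hl hs (ε := 1) (by norm_num))))
  obtain ⟨b, hb⟩ := ip_vc h1 (chr_mem_VC (lin_mem_Chr (h.lin hl hs (ε := -1) (by norm_num))))
  rw [ip_res_left le_rfl] at ha hb
  refine ⟨a - b, ?_⟩
  have h2 := h.ip_ext hl χ (ε := 1) (by simp)
  have h3 := h.ip_ext hl χ (ε := -1) (by simp)
  rw [ha] at h2
  rw [hb] at h3
  push_cast
  linear_combination (h3 - h2) / 2

theorem even_sh {X K : Subgroup G} {t s : G} (tt : t * t = 1) (ss : s * s = 1)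
    (hc : t * s = s * t) (ht : t ∉ K) (hs : s ∉ K) (hts : t * s ∉ K) {l : G → ℂ}
    (hl : l ∈ Lin K) (ht' : t ∈ stab l) (hs' : s ∈ stab l) (hK : K ≤ X) (htX : t ∈ X)
    (hsX : s ∈ X) {χ : G → ℂ} (hχ : χ ∈ VC X) :
    ∃ n : ℤ, ip K (sh t χ) l - ip K (sh s χ) l = 2 * n := by
  have h1 := mul_mem ht' hs'
  have h2 : t * s * (t * s) = 1 := by rw [mul_assoc, ← mul_assoc s, ← hc, mul_assoc t, ss, mul_one, tt]
  have h3 : t * s * t = s := by rw [hc, mul_assoc, tt, mul_one]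
  obtain ⟨K₀, h⟩ := exists_ex2 h2 hts (mem_normalizer_of_stab hl h1)
  obtain ⟨n, hn⟩ := int_sh tt (fun e => ((h.mem t).1 e).elim ht (h3.symm ▸ hs))
    (h.lin hl h1 (ε := -1) (by norm_num)) (fun x => by
      rw [ht' x, ← ht' (t * s * x)]
      congr 3
      rw [← mul_assoc, ← mul_assoc, ← mul_assoc, h3, ← mul_assoc, tt, one_mul])
    (h.le_of hK (X.mul_mem htX hsX)) htX hχ
  have h4 := h.ip_ext hl (sh t χ) (ε := -1) (by simp)
  rw [hn, show sh (t * s) (sh t χ) = sh s χ by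
    ext y; simp only [sh]; rw [← mul_assoc, ← mul_assoc, tt, one_mul]] at h4
  exact ⟨n, by linear_combination -h4⟩

theorem four_dvd_sum {X : Subgroup G} {t s : G} (tt : t * t = 1) (ss : s * s = 1)
    (hc : t * s = s * t) (ht : t ≠ 1) (hs : s ≠ 1) (hts : t ≠ s) (htX : t ∈ X) (hsX : s ∈ X)
    {χ : G → ℂ} (hχ : χ ∈ VC X) : ∃ n : ℤ, χ 1 + χ t + χ s + χ (s * t) = 4 * n := by
  obtain ⟨K, h⟩ := exists_ex2 (K := ⊥) tt (mt mem_bot.1 ht) (mem_normalizer_iff.2 (by simp))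
  obtain ⟨V, h'⟩ := exists_ex2 (K := K) ss (fun e => ((h.mem s).1 e).elim (mt mem_bot.1 hs) fun e =>
    hts (by rw [← h.ttk s, mem_bot.1 e, mul_one])) (centralizer_le_normalizer _
      (le_centralizer_iff.1 (h.le_of bot_le (mem_centralizer_iff.2 fun x hx => by
        obtain ⟨n, rfl⟩ := mem_zpowers_iff.1 hx
        exact (Commute.zpow_left hc.symm n).eq)) (mem_zpowers s)))
  obtain ⟨n, hn⟩ := ip_vc (res_mem_VC (h'.le_of (h.le_of bot_le htX) hsX) hχ)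
    (irr_mem_VC (one_mem_Irr V))
  have h1 : fs ((⊥ : Subgroup G) : Set G) = {1} := by ext; simp
  rw [ip_res_left le_rfl, ip_one_right, h'.sum, h.sum, h.sum, h'.card, h.card, card_bot, h1] at hn
  simp only [Finset.sum_singleton, mul_one] at hn
  exact ⟨n, by rw [← hn]; push_cast; ring⟩

theorem exists_four {H : Subgroup G} {f : G → ℂ} (hf : f ∈ VC H) (h4 : nrm H f = 4)
    (h1 : f 1 = 0) : ∃ S : Finset (G → ℂ), S.card = 4 ∧ ONorm H S ∧
      (∀ α ∈ S, DIrr H α ∧ ip H f α = 1) ∧ f = ∑ α ∈ S, α := by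
  classical
  obtain ⟨α, hα, n, hn, h2, h3, h5⟩ := exists_dIrr_of_ne_zero hf (by
    rintro rfl; simp [nrm, ip_zero_left] at h4)
  have h6 := sub_mem hf (natCast_smul_mem n hα.mem_VC)
  have h7 := nrm_nonneg H (f - (n : ℂ) • α)
  have h8 : n ^ 2 ≤ 4 := by exact_mod_cast (show (n : ℝ) ^ 2 ≤ 4 by linarith)
  obtain rfl | rfl : n = 1 ∨ n = 2 := by
    have : n ≤ 2 := by nlinarith
    omega
  · rw [Nat.cast_one, one_smul] at h3 h5 h6
    obtain ⟨S, s1, s2, s3, s4⟩ := exists_oNorm_of_nrm_le_three' 3 h6 (by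
      push_cast at h5 ⊢; linarith) le_rfl
    have h9 : ∀ β ∈ S, ip H β α = 0 := fun β hβ => by
      rcases (s3 β hβ).1.ip_cases hα with ⟨rfl, -⟩ | ⟨rfl, -⟩ | e
      · exact absurd ((s3 _ hβ).2.symm.trans h3) one_ne_zero
      · have := (s3 _ hβ).2
        rw [ip_neg_right, h3] at this
        simp at this
      · exact e.2.2
    have h10 : α ∉ S := fun e => one_ne_zero (hα.ip_self.symm.trans (h9 α e))
    refine ⟨insert α S, by rw [Finset.card_insert_of_notMem h10, s1], ⟨?_, ?_⟩, ?_, ?_⟩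
    · simp only [Finset.forall_mem_insert]
      exact ⟨hα.ip_self, s2.norm⟩
    · simp only [Finset.forall_mem_insert]
      exact ⟨⟨fun e => absurd rfl e, fun β hβ _ => ip_eq_zero_comm.1 (h9 β hβ)⟩,
        fun β hβ => ⟨fun _ => h9 β hβ, s2.orth β hβ⟩⟩
    · simp only [Finset.forall_mem_insert]
      refine ⟨⟨hα, by simpa using h2⟩, fun β hβ => ⟨(s3 β hβ).1, ?_⟩⟩
      have := (s3 β hβ).2
      rwa [ip_sub_left, ip_eq_zero_comm.1 (h9 β hβ), sub_zero] at this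
    · rw [Finset.sum_insert h10, ← s4, add_sub_cancel]
  · have := congrFun (eq_zero_of_nrm_eq_zero (vc_mem_CF h6) (by push_cast at h5 ⊢; linarith)) 1
    simp [h1, hα.apply_one_ne_zero] at this

theorem inv_le_of_mod {y : ℤ} (h : y % 4 = 1) (h1 : y ≠ 1) :
    (y ≤ -7 ∧ -1 / 7 ≤ (y : ℚ)⁻¹ ∧ (y : ℚ)⁻¹ < 0) ∨ y = -3 ∨ y = 5 ∨
      (9 ≤ y ∧ 0 < (y : ℚ)⁻¹ ∧ (y : ℚ)⁻¹ ≤ 1 / 9) := by
  rcases (by omega : y ≤ -7 ∨ y = -3 ∨ y = 5 ∨ 9 ≤ y) with e | e | e | e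
  · have : (y : ℚ) ≤ -7 := by exact_mod_cast e
    refine Or.inl ⟨e, ?_, inv_lt_zero.2 (by linarith)⟩
    rw [← neg_le_neg_iff, neg_inv, inv_le_comm₀ (by linarith) (by norm_num)]
    linarith
  · exact Or.inr (Or.inl e)
  · exact Or.inr (Or.inr (Or.inl e))
  · have : (9 : ℚ) ≤ y := by exact_mod_cast e
    refine Or.inr (Or.inr (Or.inr ⟨e, inv_pos.2 (by linarith), ?_⟩))
    rw [inv_le_comm₀ (by linarith) (by norm_num)]
    linarith

theorem arith_aux {a b : ℤ} (ha : a ≤ -7) (h : 1 + -3 + a + b = 0) :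
    (8 / 15 : ℚ) ≤ 1 + ((-3 : ℤ) : ℚ)⁻¹ + (a : ℚ)⁻¹ + (b : ℚ)⁻¹ := by
  have h1 : (a : ℚ) ≤ -7 := by exact_mod_cast ha
  have h2 : (b : ℚ) = 2 - a := by exact_mod_cast (by omega : b = 2 - a)
  have h3 : (a : ℚ)⁻¹ + (b : ℚ)⁻¹ = -(2 / (-a * (2 - a))) := by
    rw [h2]
    have : (a : ℚ) ≠ 0 := by linarith
    have : (2 - a : ℚ) ≠ 0 := by linarith
    field_simp
    ring
  have h4 : (2 : ℚ) / (-a * (2 - a)) ≤ 2 / 15 :=
    div_le_div_of_nonneg_left (by norm_num) (by norm_num) (by nlinarith)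
  push_cast
  linarith

theorem arith_ge {a b c : ℤ} (ha : a % 4 = 1) (hb : b % 4 = 1) (hc : c % 4 = 1) (ha1 : a ≠ 1)
    (hb1 : b ≠ 1) (hc1 : c ≠ 1) (h : 1 + a + b + c = 0) :
    (8 / 15 : ℚ) ≤ 1 + (a : ℚ)⁻¹ + (b : ℚ)⁻¹ + (c : ℚ)⁻¹ := by
  rcases inv_le_of_mod ha ha1 with ⟨a1, a2, a3⟩ | rfl | rfl | ⟨a1, a2, a3⟩ <;>
  rcases inv_le_of_mod hb hb1 with ⟨b1, b2, b3⟩ | rfl | rfl | ⟨b1, b2, b3⟩ <;>
  rcases inv_le_of_mod hc hc1 with ⟨c1, c2, c3⟩ | rfl | rfl | ⟨c1, c2, c3⟩ <;>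
  first
    | omega
    | (push_cast; linarith)
    | linarith [arith_aux a1 (b := b) (by omega)]
    | linarith [arith_aux a1 (b := c) (by omega)]
    | linarith [arith_aux b1 (b := a) (by omega)]
    | linarith [arith_aux b1 (b := c) (by omega)]
    | linarith [arith_aux c1 (b := a) (by omega)]
    | linarith [arith_aux c1 (b := b) (by omega)]

theorem arith_le {a b c d : ℤ} (ha : a % 4 = 1) (hb : b % 4 = 1) (hc : c % 4 = 1) (hd : d % 4 = 1)
    (ha1 : a ≠ 1) (hb1 : b ≠ 1) (hc1 : c ≠ 1) (hd1 : d ≠ 1) (h : a + b + c + d = 0) :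
    (a : ℚ)⁻¹ + (b : ℚ)⁻¹ + (c : ℚ)⁻¹ + (d : ℚ)⁻¹ ≤ 8 / 15 := by
  have key : ∀ y : ℤ, y = -15 → (y : ℚ)⁻¹ = -1 / 15 := by rintro _ rfl; norm_num
  rcases inv_le_of_mod ha ha1 with ⟨a1, a2, a3⟩ | rfl | rfl | ⟨a1, a2, a3⟩ <;>
  rcases inv_le_of_mod hb hb1 with ⟨b1, b2, b3⟩ | rfl | rfl | ⟨b1, b2, b3⟩ <;>
  rcases inv_le_of_mod hc hc1 with ⟨c1, c2, c3⟩ | rfl | rfl | ⟨c1, c2, c3⟩ <;>
  rcases inv_le_of_mod hd hd1 with ⟨d1, d2, d3⟩ | rfl | rfl | ⟨d1, d2, d3⟩ <;>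
  first
    | omega
    | (push_cast; linarith)
    | (push_cast; linarith [key a (by omega)])
    | (push_cast; linarith [key b (by omega)])
    | (push_cast; linarith [key c (by omega)])
    | (push_cast; linarith [key d (by omega)])

end CfsgAG
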