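import Cfsg.Agent.AG.V4a
import Cfsg.Agent.H1.Centric
import Cfsg.Agent.H4.PCyc
import Cfsg.Agent.BS.R1a

/-!
Simple groups with Sylow 2-subgroups of type `V₄`: the group theoretic setting.
-/

set_option autoImplicit false

namespace CfsgAG

open Subgroup CfsgFT CfsgH4 CfsgH1
open scoped commutatorElement

variable {G : Type*} [Group G]

theorem mem_closure_pair {t s : G} (tt : t * t = 1) (ss : s * s = 1) (hc : t * s = s * t) {x : G} :
    x ∈ closure {t, s} ↔ x = 1 ∨ x = t ∨ x = s ∨ x = t * s := by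
  have h1 : t ∈ closure {t, s} := subset_closure (by simp)
  have h2 : s ∈ closure {t, s} := subset_closure (by simp)
  refine ⟨fun hx => ?_, by
    rintro (rfl | rfl | rfl | rfl)
    exacts [one_mem _, h1, h2, mul_mem h1 h2]⟩
  have a1 : ∀ y, t * (t * y) = y := fun y => by rw [← mul_assoc, tt, one_mul]
  have a2 : ∀ y, s * (t * y) = t * (s * y) := fun y => by rw [← mul_assoc, ← hc, mul_assoc]
  induction hx using closure_induction with
  | mem x hx => rcases hx with rfl | rfl <;> simp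
  | one => simp
  | mul x y _ _ hx hy =>
    rcases hx with rfl | rfl | rfl | rfl <;> rcases hy with rfl | rfl | rfl | rfl <;>
      simp [mul_assoc, a1, a2, tt, ss, ← hc]
  | inv x _ hx =>
    rcases hx with rfl | rfl | rfl | rfl <;>
      simp [inv_eq_of_mul_eq_one_right tt, inv_eq_of_mul_eq_one_right ss, hc]

theorem Simp.top_simple (h : Simp (⊤ : Subgroup G)) : IsSimpleGroup G :=
  have := h.simple
  topEquiv.symm.isSimpleGroup

theorem Simp.lin_eq_one [Finite G] (h : Simp (⊤ : Subgroup G)) {l : G → ℂ}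
    (hl : l ∈ Lin (⊤ : Subgroup G)) : l = CfsgFT.one ⊤ := by
  have := h.top_simple
  have h1 : (cfker ⊤ l).Normal :=
    normalizer_eq_top_iff.1 (eq_top_iff.2 (le_normalizer_cfker (lin_mem_CF hl)))
  refine (eq_one_iff_le_cfker (mem_Lin.1 hl).1).2 (h1.eq_bot_or_eq_top.resolve_left fun e => ?_).ge
  obtain ⟨a, ha, b, hb, hab⟩ := h.nc
  exact hab (commutatorElement_eq_one_iff_mul_comm.1 (mem_bot.1 (e ▸ commutator_le_cfker_lin hl
    (commutator_mem_commutator ha hb))))

/-- The facts on `K = O(C(t))` used in the character theory. -/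
structure VS (t s ρ : G) (K : Subgroup G) : Prop where
  simp : Simp (⊤ : Subgroup G)
  t_ne : t ≠ 1
  s_ne : s ≠ 1
  ts_ne : t ≠ s
  tt : t * t = 1
  ss : s * s = 1
  comm : t * s = s * t
  mem : ∀ k, k ∈ K ↔ k * t = t * k ∧ Odd (orderOf k)
  dec : ∀ h, h * t = t * h → h ∈ K ∨ t * h ∈ K ∨ s * h ∈ K ∨ t * (s * h) ∈ K
  conj : ∀ v, v ≠ 1 → v * v = 1 → ∃ g, g * t * g⁻¹ = v
  ρt : ρ * t * ρ⁻¹ = s
  ρs : ρ * s * ρ⁻¹ = t * s

variable [Finite G]

namespace V4

variable {t s : G} {K U : Subgroup G} (h : V4 t s K U)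
include h

omit [Finite G] in
theorem sylIn : IsSylowIn 2 (closure {t, s}) ⊤ := ⟨h.syl.1, h.syl.2.1, h.syl.2.2⟩

omit [Finite G] in
theorem le_cent : closure {t, s} ≤ 𝒞 (closure {t, s}) := by
  rw [centralizer_closure, closure_le]
  rintro x (rfl | rfl) y (rfl | rfl)
  exacts [rfl, h.comm.symm, h.comm, rfl]

theorem norm_cases {w : G} (hw : w ∈ 𝒩 (closure {t, s})) : w ∈ 𝒞 (closure {t, s}) ∨
    (w * t * w⁻¹ = s ∧ w * s * w⁻¹ = t * s) ∨ (w * t * w⁻¹ = t * s ∧ w * s * w⁻¹ = t) := by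
  have hm := @mem_closure_pair _ _ _ _ h.tt h.ss h.comm
  have h1 := hm.1 ((mem_normalizer_iff.1 hw t).1 (subset_closure (by simp)))
  have h2 := hm.1 ((mem_normalizer_iff.1 hw s).1 (subset_closure (by simp)))
  have h3 : w * t * w⁻¹ ≠ w * s * w⁻¹ := fun e => h.ts_ne (by simpa using e)
  have h4 : w * (t * s) * w⁻¹ = w * t * w⁻¹ * (w * s * w⁻¹) := by group
  have a1 : t * (t * s) = s := by rw [← mul_assoc, h.tt, one_mul]
  have a2 : t * s * s = t := by rw [mul_assoc, h.ss, mul_one]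
  have : Fact (Nat.Prime 2) := ⟨Nat.prime_two⟩
  have key : w * (w * t * w⁻¹) * w⁻¹ = t → w * (w * s * w⁻¹) * w⁻¹ = s →
      w ∈ 𝒞 (closure {t, s}) := fun e1 e2 => by
    have : IsMulCommutative (h.sylIn.sylow : Subgroup G) :=
      isMulCommutative_of_le_centralizer h.le_cent
    refine mem_centralizer_of_pow h.sylIn.sylow hw (k := 1) ?_
    rw [IsSylowIn.coe_sylow, centralizer_closure]
    rintro y (rfl | rfl)
    · rw [pow_one, pow_two, eq_comm, ← mul_inv_eq_iff_eq_mul]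
      exact Eq.trans (by group) e1
    · rw [pow_one, pow_two, eq_comm, ← mul_inv_eq_iff_eq_mul]
      exact Eq.trans (by group) e2
  rcases h1 with e | e | e | e <;> rcases h2 with f | f | f | f <;> first
    | exact absurd (conj_eq_one_iff.1 e) h.t_ne
    | exact absurd (conj_eq_one_iff.1 f) h.s_ne
    | exact absurd (e.trans f.symm) h3
    | exact Or.inr (Or.inl ⟨e, f⟩)
    | exact Or.inr (Or.inr ⟨e, f⟩)
    | exact Or.inl (key (by simp only [e, f, h4, a1, a2]) (by simp only [e, f, h4, a1, a2]))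

theorem exists_rho : ∃ ρ : G, ρ * t * ρ⁻¹ = s ∧ ρ * s * ρ⁻¹ = t * s := by
  have : Fact (Nat.Prime 2) := ⟨Nat.prime_two⟩
  have := h.simp.top_simple
  by_contra hn
  have h1 := h.sylIn.pNil_of_normalizer_le fun w hw => by
    rcases h.norm_cases hw.2 with e | e | ⟨e, f⟩
    · exact e
    · exact absurd ⟨w, e⟩ hn
    · refine absurd ⟨w * w, ?_, ?_⟩ hn
      · calc _ = w * (w * t * w⁻¹) * w⁻¹ := by group
          _ = w * (t * s) * w⁻¹ := by rw [e]
          _ = w * t * w⁻¹ * (w * s * w⁻¹) := by group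
          _ = s := by rw [e, f, h.comm, mul_assoc, h.tt, mul_one]
      · calc _ = w * (w * s * w⁻¹) * w⁻¹ := by group
          _ = _ := by rw [f, e]
  rcases (resIn_normal (p := 2) (⊤ : Subgroup G)).eq_bot_or_eq_top with e | e
  · obtain ⟨a, ha, b, hb, hab⟩ := h.simp.nc
    have h2 := h.sylIn.sup_resIn
    rw [e, sup_bot_eq] at h2
    exact hab (h.le_cent (h2 ▸ hb) a (h2 ▸ ha))
  · have h2 := pNil_iff.1 h1 t (e.ge (mem_top t))
    rw [orderOf_eq_prime (p := 2) (by rw [pow_two, h.tt]) h.t_ne] at h2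
    exact absurd h2 (by decide)

theorem vs {ρ : G} (h1 : ρ * t * ρ⁻¹ = s) (h2 : ρ * s * ρ⁻¹ = t * s) : VS t s ρ K := by
  have : Fact (Nat.Prime 2) := ⟨Nat.prime_two⟩
  have hm := @mem_closure_pair _ _ _ _ h.tt h.ss h.comm
  have h3 : IsSylowIn 2 (closure {t, s}) (𝒞₁ t) := h.sylIn.of_le
    (h.le_cent.trans (centralizer_le (Set.singleton_subset_iff.2 (subset_closure (by simp))))) le_top
  have h4 := h3.pNil_of_normalizer_le fun w hw => by
    have := mul_inv_eq_iff_eq_mul.2 (mem_centralizer_singleton_iff.1 hw.1)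
    rcases h.norm_cases hw.2 with e | e | e
    · exact e
    · exact absurd (this.symm.trans e.1) h.ts_ne
    · exact absurd (left_eq_mul.1 (this.symm.trans e.1)) h.s_ne
  have h5 : resIn 2 (𝒞₁ t) = K := h4.resIn_eq.trans h.K_eq.symm
  refine ⟨h.simp, h.t_ne, h.s_ne, h.ts_ne, h.tt, h.ss, h.comm, fun k => ⟨fun hk => ⟨
    mem_centralizer_singleton_iff.1 (resIn_le _ (h5 ▸ hk)), Nat.coprime_two_right.1
      (pNil_iff.1 h4 k (h5 ▸ hk))⟩, fun hk => h5 ▸ mem_resIn (mem_centralizer_singleton_iff.2 hk.1)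
      (Nat.coprime_two_right.2 hk.2)⟩, fun x hx => ?_, fun v hv vv => ?_, h1, h2⟩
  · obtain ⟨a, ha, b, hb, rfl⟩ := h3.exists_mul_resIn (mem_centralizer_singleton_iff.2 hx)
    rw [h5] at hb
    rcases hm.1 ha with rfl | rfl | rfl | rfl
    · exact Or.inl (by rwa [one_mul])
    · exact Or.inr (Or.inl (by rwa [← mul_assoc, h.tt, one_mul]))
    · exact Or.inr (Or.inr (Or.inl (by rwa [← mul_assoc, h.ss, one_mul])))
    · exact Or.inr (Or.inr (Or.inr (by
        rwa [h.comm, ← mul_assoc s, ← mul_assoc s, h.ss, one_mul, ← mul_assoc, h.tt, one_mul])))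
  · obtain ⟨g, -, hg⟩ := h.sylIn.exists_cj_le (Q := zpowers v)
      (isPGroup_zpowers (k := 1) (by rw [pow_one, pow_two, vv])) le_top
    have h6 : ∀ c, c * t * c⁻¹ = g * v * g⁻¹ → ∃ g, g * t * g⁻¹ = v := fun c e => ⟨g⁻¹ * c, by
      calc _ = g⁻¹ * (c * t * c⁻¹) * g := by group
        _ = v := by rw [e]; group⟩
    rcases hm.1 (hg (conj_mem_cj g (mem_zpowers v))) with e | e | e | e
    · exact absurd (conj_eq_one_iff.1 e) hv
    · exact h6 1 (by rw [e]; group)
    · exact h6 ρ (by rw [e, h1])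
    · exact h6 (ρ * ρ) (by rw [e, ← h2, ← h1]; group)

end V4

end CfsgAG
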