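import Cfsg.Agent.AG.V4b

/-!
Simple groups with Sylow 2-subgroups of type `V₄`: the virtual characters `Θ_λ`.
-/

set_option autoImplicit false
set_option linter.unusedSectionVars false

namespace CfsgAG

open Subgroup CfsgFT CfsgH4 Cfsg
open scoped ComplexConjugate

variable {G : Type*} [Group G]

/-- `Θ_λ` -/
noncomputable def Th [Finite G] (t : G) (l : G → ℂ) : G → ℂ := ind ⊤ (𝒞₁ t) ((4 : ℂ) • sh t l)

namespace VS

variable {t s ρ : G} {K : Subgroup G} (h : VS t s ρ K)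
include h

theorem K_le : K ≤ 𝒞₁ t := fun k hk => mem_centralizer_singleton_iff.2 ((h.mem k).1 hk).1

theorem eq_one {v : G} (hv : v ∈ K) (vv : v * v = 1) : v = 1 := by
  by_contra e
  have := ((h.mem v).1 hv).2
  rw [orderOf_eq_prime (p := 2) (by rw [pow_two, vv]) e] at this
  exact absurd this (by decide)

theorem ttk (k : G) : t * (t * k) = k := by rw [← mul_assoc, h.tt, one_mul]

theorem tinv : t⁻¹ = t := inv_eq_of_mul_eq_one_right h.tt

theorem sinv : s⁻¹ = s := inv_eq_of_mul_eq_one_right h.ss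

theorem t_mem : t ∈ 𝒞₁ t := mem_centralizer_singleton_iff.2 rfl

theorem s_mem : s ∈ 𝒞₁ t := mem_centralizer_singleton_iff.2 h.comm.symm

theorem sq_t_mul {v : G} (hv : v ∈ 𝒞₁ t) : t * v * (t * v) = v * v := by
  rw [mul_assoc, ← mul_assoc v, mem_centralizer_singleton_iff.1 hv, mul_assoc, h.ttk]

theorem t_not : t ∉ K := fun e => h.t_ne (h.eq_one e h.tt)

theorem s_not : s ∉ K := fun e => h.s_ne (h.eq_one e h.ss)

theorem ts_not : t * s ∉ K := fun e => h.ts_ne (by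
  rw [← h.ttk s, h.eq_one e ((h.sq_t_mul h.s_mem).trans h.ss), mul_one])

theorem conj_mem {g k : G} (hg : g ∈ 𝒞₁ t) (hk : k ∈ K) : g * k * g⁻¹ ∈ K :=
  (h.mem _).2 ⟨mem_centralizer_singleton_iff.1 (mul_mem (mul_mem hg (h.K_le hk)) (inv_mem hg)),
    by rw [CfsgH4.orderOf_conj']; exact ((h.mem k).1 hk).2⟩

theorem le_norm : 𝒞₁ t ≤ 𝒩 K := fun g hg => mem_normalizer_iff.2 fun k => ⟨h.conj_mem hg, fun e => by
  simpa [mul_assoc] using h.conj_mem (inv_mem hg) e⟩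

theorem exists_ex : ∃ K₁, Ex2 K K₁ t ∧ Ex2 K₁ (𝒞₁ t) s := by
  obtain ⟨K₁, h1⟩ := exists_ex2 h.tt h.t_not (h.le_norm h.t_mem)
  have h2 := h1.le_of h.K_le h.t_mem
  refine ⟨K₁, h1, h.ss, fun e => ((h1.mem s).1 e).elim h.s_not h.ts_not, fun y => ⟨fun e => ?_,
    fun e => e.elim (fun e => h2 e) fun e => (mul_mem_cancel_left h.s_mem).1 (h2 e)⟩⟩
  rw [h1.mem, h1.mem, or_assoc]
  exact h.dec y (mem_centralizer_singleton_iff.1 e)

theorem inv_iff {a : G} (ha : a ∈ K) : a ∈ invertedBy K s ↔ s * a * (s * a) = 1 := by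
  rw [← mul_assoc, ← eq_inv_iff_mul_eq_one]
  nth_rewrite 3 [← h.sinv]
  exact and_iff_right ha

theorem invol_cases {v : G} (hv : v ∈ 𝒞₁ t) (vv : v * v = 1) (v1 : v ≠ 1) :
    v = t ∨ ∃ a ∈ invertedBy K s, v = s * a ∨ v = t * (s * a) := by
  have h1 : ∀ w, s * (s * w) = w := fun w => by rw [← mul_assoc, h.ss, one_mul]
  rcases h.dec v (mem_centralizer_singleton_iff.1 hv) with e | e | e | e
  · exact absurd (h.eq_one e vv) v1
  · exact Or.inl (by rw [← h.ttk v, h.eq_one e ((h.sq_t_mul hv).trans vv), mul_one])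
  · exact Or.inr ⟨_, (h.inv_iff e).2 (by rwa [h1]), Or.inl (h1 v).symm⟩
  · have h2 : s * (t * (s * v)) = t * v := by rw [← mul_assoc, ← h.comm, mul_assoc, h1]
    exact Or.inr ⟨_, (h.inv_iff e).2 (by rwa [h2, h.sq_t_mul hv]), Or.inr (by rw [h2, h.ttk])⟩

theorem ρts : ρ * (t * s) * ρ⁻¹ = t := by
  calc _ = ρ * t * ρ⁻¹ * (ρ * s * ρ⁻¹) := by group
    _ = t := by rw [h.ρt, h.ρs, h.comm, ← mul_assoc, h.ss, one_mul]

theorem mem_cl {v : G} : v ∈ cl ⊤ t ↔ v ≠ 1 ∧ v * v = 1 := by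
  rw [mem_cl_iff (mem_top t) h.t_ne h.tt fun v _ v1 vv => (h.conj v v1 vv).imp fun g e =>
    ⟨mem_top g, e⟩, and_iff_right (mem_top v)]

variable [Finite G]

theorem odd : Odd #K := by
  by_contra e
  obtain ⟨v, hv⟩ := exists_prime_orderOf_dvd_card' (G := K) 2
    (even_iff_two_dvd.1 (Nat.not_odd_iff_even.1 e))
  have := ((h.mem v).1 v.2).2
  rw [orderOf_coe, hv] at this
  exact absurd this (by decide)

theorem card_cent : #(𝒞₁ t) = 4 * #K := by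
  obtain ⟨K₁, h1, h2⟩ := h.exists_ex
  rw [h2.card, h1.card]; ring

theorem tpow {k : G} (hk : k ∈ K) : (t * k) ^ #K = t := by
  obtain ⟨m, hm⟩ := h.odd
  rw [Commute.mul_pow ((h.mem k).1 hk).1.symm, pow_card_subgroup hk, hm, pow_succ, pow_mul, pow_two,
    h.tt, one_pow, one_mul, mul_one]

theorem commute_of_pow {k : G} (hk : k ∈ K) (x : G) (n : ℕ) (hn : Odd n)
    (hc : Commute x ((t * k) ^ n)) : Commute x t :=
  commute_of_commute_mul_pow (k := 1) (by rw [pow_one, pow_two, h.tt]) hn h.odd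
    (pow_card_subgroup hk) ((h.mem k).1 hk).1.symm hc

theorem exists_conj_s {a : G} (ha : a ∈ invertedBy K s) : ∃ x ∈ K, x * s * x⁻¹ = s * a := by
  obtain ⟨m, hm⟩ := h.odd
  have h1 := pow_card_subgroup ha.1
  have h2 : s * a ^ m * s⁻¹ = (a ^ m)⁻¹ := by rw [← conj_pow, ha.2, inv_pow]
  rw [hm, pow_succ', two_mul, pow_add, ← mul_assoc, ← eq_inv_iff_mul_eq_one,
    ← eq_mul_inv_iff_mul_eq] at h1
  refine ⟨a ^ m, pow_mem ha.1 m, ?_⟩
  conv_rhs => rw [h1]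
  rw [← mul_assoc s]
  congr 1
  rw [← h2, h.sinv, ← mul_assoc, ← mul_assoc, h.ss, one_mul]

theorem nti : NTI {y | t * y ∈ K} ⊤ (𝒞₁ t) := by
  refine ⟨⟨t, by simp [h.tt]⟩, le_top, fun g hg a ha => ?_, fun g _ a ha ha' => ?_⟩
  · have := h.conj_mem hg ha
    rwa [← mul_assoc g, mem_centralizer_singleton_iff.1 hg, mul_assoc t, mul_assoc t] at this
  · have h1 := h.tpow ha
    have h2 := h.tpow ha'
    rw [h.ttk] at h1 h2
    rw [conj_pow, h1] at h2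
    exact mem_centralizer_singleton_iff.2 (mul_inv_eq_iff_eq_mul.1 h2)

theorem pc_eq {k : G} (hk : k ∈ K) : pc ⊤ t (t * k) =
    2 * {a | a ∈ invertedBy K s ∧ a * k ∈ invertedBy K s}.ncard := by
  have hK := h.K_le
  have c1 : ∀ a ∈ K, s * a * (t * k) = t * (s * (a * k)) := fun a ha => by
    rw [← mul_assoc, mem_centralizer_singleton_iff.1 (mul_mem h.s_mem (hK ha))]; group
  have c2 : ∀ a ∈ K, s * a ≠ 1 ∧ t * (s * a) ≠ 1 := fun a ha =>
    ⟨fun e => h.s_not ((mul_mem_cancel_right ha).1 (e ▸ one_mem K)), fun e =>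
      h.ts_not ((mul_mem_cancel_right ha).1 ((mul_assoc t s a).trans e ▸ one_mem K))⟩
  have c3 : ∀ a ∈ K, t * (s * a) * (t * (s * a)) = s * a * (s * a) := fun a ha =>
    h.sq_t_mul (mul_mem h.s_mem (hK ha))
  rw [pc, two_mul]
  refine Eq.trans ?_ (congrArg₂ (· + ·) (Set.ncard_image_of_injective _ (mul_right_injective s))
    (Set.ncard_image_of_injective _ ((mul_right_injective t).comp (mul_right_injective s))))
  rw [← Set.ncard_union_eq]
  · congr 1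
    ext v
    simp only [h.mem_cl, Set.mem_ofPred_eq, Set.mem_union, Set.mem_image, Function.comp]
    constructor
    · rintro ⟨⟨v1, vv⟩, w1, ww⟩
      have vi : v⁻¹ = v := inv_eq_of_mul_eq_one_right vv
      have h1 : v * t * v⁻¹ = t⁻¹ := by
        rw [← h.tpow hk, ← conj_pow, ← inv_pow]
        congr 1
        rw [eq_inv_iff_mul_eq_one, ← ww, vi, mul_assoc]
      rw [vi] at ww w1
      rcases h.invol_cases (mem_centralizer_singleton_iff.2 (mul_inv_eq_iff_eq_mul.1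
        (h1.trans h.tinv))) vv v1 with rfl | ⟨a, ha, rfl | rfl⟩
      · rw [h.ttk] at ww w1
        exact absurd (h.eq_one hk ww) w1
      · rw [c1 a ha.1, c3 _ (mul_mem ha.1 hk)] at ww
        exact Or.inl ⟨a, ⟨ha, (h.inv_iff (mul_mem ha.1 hk)).2 ww⟩, rfl⟩
      · rw [mul_assoc t, c1 a ha.1, h.ttk] at ww
        exact Or.inr ⟨a, ⟨ha, (h.inv_iff (mul_mem ha.1 hk)).2 ww⟩, rfl⟩
    · rintro (⟨a, ⟨ha, hb⟩, rfl⟩ | ⟨a, ⟨ha, hb⟩, rfl⟩)
      · have h1 := (h.inv_iff ha.1).1 ha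
        rw [inv_eq_of_mul_eq_one_right h1, c1 a ha.1, c3 _ hb.1]
        exact ⟨⟨(c2 a ha.1).1, h1⟩, (c2 _ hb.1).2, (h.inv_iff hb.1).1 hb⟩
      · have h1 := (c3 a ha.1).trans ((h.inv_iff ha.1).1 ha)
        rw [inv_eq_of_mul_eq_one_right h1, mul_assoc t (s * a) (t * k), c1 a ha.1, h.ttk]
        exact ⟨⟨(c2 a ha.1).2, h1⟩, (c2 _ hb.1).1, (h.inv_iff hb.1).1 hb⟩
  · rw [Set.disjoint_left]
    rintro _ ⟨a, ha, rfl⟩ ⟨b, hb, e⟩
    refine h.t_not ((mul_mem_cancel_right hb.1.1).1 ?_)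
    have e' : s * (t * b) = s * a := by rw [← mul_assoc, ← h.comm, mul_assoc]; exact e
    exact mul_left_cancel e' ▸ ha.1.1

theorem ncard_inv : (invertedBy K s).ncard = (K ⊓ 𝒞₁ s).relIndex K := by
  have h1 := CfsgBS.card_eq_cent_mul_inv h.ss h.odd fun x hx => by
    simpa [h.sinv] using h.conj_mem h.s_mem hx
  have h2 := card_inv_mul_card (inf_le_left : K ⊓ 𝒞₁ s ≤ K)
  rw [h1, Nat.cast_mul, ← mul_assoc, inv_mul_cancel₀ (card_ne_zero' _), one_mul] at h2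
  exact_mod_cast h2

variable {l m : G → ℂ} (hl : l ∈ Lin K) (hs : s ∈ stab l)
include hl

theorem ip_th (f : G → ℂ) : ip (𝒞₁ t) f ((4 : ℂ) • sh t l) = ip K (sh t f) l := by
  classical
  unfold ip
  rw [← sum_fs_mul_left h.t_mem, h.card_cent, ← Finset.sum_subset (s₁ := fs (K : Set G))
    (fun x hx => mem_fs.2 (h.K_le (mem_fs.1 hx))) fun x _ hx => by
      simp [sh, h.ttk, (lin_mem_CF hl).1 x (mt mem_fs.2 hx)]]
  simp only [sh, h.ttk, Pi.smul_apply, smul_eq_mul, _root_.map_mul, map_ofNat, mul_left_comm _ (4 : ℂ),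
    ← Finset.mul_sum]
  push_cast
  ring

theorem ip_Th {χ : G → ℂ} (hχ : χ ∈ CF (⊤ : Subgroup G)) :
    ip ⊤ χ (Th t l) = ip K (sh t χ) l := by
  rw [Th, ip_ind_right le_top _ hχ, h.ip_th hl]

theorem Th_one : Th t l 1 = 0 := by
  rw [Th, ind_apply_one le_top]
  simp [sh, (lin_mem_CF hl).1 t h.t_not]

include hs

theorem le_stab : 𝒞₁ t ≤ stab l := by
  obtain ⟨K₁, h1, h2⟩ := h.exists_ex
  intro y hy
  exact h2.le_of (h1.le_of (le_stab_of_mem_CF (lin_mem_CF hl)) (centralizer_le_stab (lin_mem_CF hl)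
    fun k hk => ((h.mem k).1 hk).1)) hs hy

theorem th_mem : (4 : ℂ) • sh t l ∈ CFon (𝒞₁ t) {y | t * y ∈ K} := by
  refine Submodule.smul_mem _ _ ⟨⟨fun x hx => (lin_mem_CF hl).1 _ fun e =>
    hx ((mul_mem_cancel_left h.t_mem).1 (h.K_le e)), fun g hg x => ?_⟩, fun x hx =>
      (lin_mem_CF hl).1 _ hx⟩
  rw [sh, sh, ← h.le_stab hl hs hg (t * x), ← mul_assoc g, mem_centralizer_singleton_iff.1 hg]
  simp only [mul_assoc]

theorem Th_mem : Th t l ∈ VC (⊤ : Subgroup G) := by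
  refine ind_mem_VC le_top (mem_VC_iff.2 ⟨(h.th_mem hl hs).1, fun χ hχ => ?_⟩)
  obtain ⟨n, hn⟩ := int_sh h.tt h.t_not hl (h.le_stab hl hs h.t_mem) h.K_le h.t_mem (irr_mem_VC hχ)
  exact ⟨n, by rw [← conj_ip, h.ip_th hl, hn, map_intCast]⟩

theorem ip_Th_Th (hm : m ∈ Lin K) (hs' : s ∈ stab m) :
    ip ⊤ (Th t l) (Th t m) = 4 * ip K l m := by
  rw [Th, Th, h.nti.ip_ind (h.th_mem hl hs) ⟨(h.th_mem hm hs').1, Supp_mono (Set.subset_insert _ _)
    (h.th_mem hm hs').2⟩ (by simpa using h.t_not), h.ip_th hm, ← ip_smul_left]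
  congr 1
  ext y
  simp [sh, h.ttk]

theorem nrm_Th : nrm ⊤ (Th t l) = 4 := by
  rw [nrm, h.ip_Th_Th hl hs hl hs, (oNorm_Irr K).norm l (mem_Lin.1 hl).1]
  simp

theorem lin_inv {a : G} (ha : a ∈ invertedBy K s) : l a = 1 := by
  obtain ⟨m, hm⟩ := h.odd
  have h1 := lin_pow hl ha.1 #K
  have h2 := lin_mul hl ha.1 (y := a⁻¹)
  rw [mul_inv_cancel, ← ha.2, hs a, (mem_Lin.1 hl).2] at h2
  rw [pow_card_subgroup ha.1, (mem_Lin.1 hl).2, hm, pow_succ, pow_mul, pow_two, ← h2] at h1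
  simpa using h1.symm

theorem Lam_Th : Lam ⊤ t (Th t l) =
    (#(𝒞₁ t) : ℂ) ^ 2 * (𝒞₁ t).index * (8 * ((K ⊓ 𝒞₁ s).relIndex K : ℂ) ^ 2) := by
  classical
  rw [Th, Lam_ind (mem_top t) le_top, top_inf_eq, relIndex_top_right, ← sum_fs_mul_left h.t_mem,
    ← Finset.sum_subset (s₁ := fs (K : Set G)) (fun x hx => mem_fs.2 (h.K_le (mem_fs.1 hx)))
      fun x _ hx => by simp [sh, h.ttk, (lin_mem_CF hl).1 x (mt mem_fs.2 hx)], ← h.ncard_inv]
  congr 1
  have h1 : ∀ k ∈ fs (K : Set G), (pc ⊤ t (t * k) : ℂ) * ((4 : ℂ) • sh t l) (t * k) =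
      8 * ∑ a ∈ fs (invertedBy K s), if a * k ∈ invertedBy K s then 1 else 0 := fun k hk => by
    rw [h.pc_eq (mem_fs.1 hk), Finset.sum_boole, ← card_fs, show fs {a | a ∈ invertedBy K s ∧
      a * k ∈ invertedBy K s} = (fs (invertedBy K s)).filter (· * k ∈ invertedBy K s) by ext; simp]
    simp only [sh, h.ttk, Pi.smul_apply, smul_eq_mul]
    rcases ((fs (invertedBy K s)).filter (· * k ∈ invertedBy K s)).eq_empty_or_nonempty with e | ⟨a, ha⟩
    · simp [e]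
    · obtain ⟨h2, h3⟩ := Finset.mem_filter.1 ha
      have h4 := h.lin_inv hl hs h3
      rw [lin_mul hl (mem_fs.1 h2).1, h.lin_inv hl hs (mem_fs.1 h2), one_mul] at h4
      rw [h4]; push_cast; ring
  rw [Finset.sum_congr rfl h1, ← Finset.mul_sum, Finset.sum_comm, Finset.sum_congr rfl fun a ha =>
    sum_fs_mul_left (mem_fs.1 ha).1 fun k => if k ∈ invertedBy K s then (1 : ℂ) else 0,
    Finset.sum_const, Finset.sum_boole, show (fs (K : Set G)).filter (· ∈ invertedBy K s) =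
      fs (invertedBy K s) by ext x; simpa using fun e => e.1, card_fs, nsmul_eq_mul, sq]

theorem sum_div {S : Finset (G → ℂ)} (hS : ∀ ψ ∈ S, DIrr ⊤ ψ) (e : Th t l = ∑ ψ ∈ S, ψ) :
    ((𝒞₁ t).index : ℂ) * ∑ ψ ∈ S, ψ t ^ 2 / ψ 1 = 8 * ((K ⊓ 𝒞₁ s).relIndex K : ℂ) ^ 2 := by
  have h1 := h.Lam_Th hl hs
  rw [e, map_sum, Finset.sum_congr rfl fun ψ hψ => Lam_dIrr (mem_top t) (hS ψ hψ), ← Finset.mul_sum,
    card_top, ← card_mul_index (𝒞₁ t), Nat.cast_mul] at h1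
  refine mul_left_cancel₀ (mul_ne_zero (pow_ne_zero 2 (card_ne_zero' (𝒞₁ t)))
    (Nat.cast_ne_zero.2 (𝒞₁ t).index_ne_zero_of_finite)) ?_
  linear_combination h1

end VS

end CfsgAG
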