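import Cfsg.Agent.AG.V4c

/-!
Simple groups with Sylow 2-subgroups of type `V₄`: the values of characters on `t K`.
-/

set_option autoImplicit false
set_option linter.unusedSectionVars false

namespace CfsgAG

open Subgroup CfsgFT CfsgH4 Cfsg
open scoped ComplexConjugate

variable {G : Type*} [Group G] [Finite G]

/-- the idempotent of a linear character -/
noncomputable def eL (K : Subgroup G) (l : G → ℂ) : GA G := ga ((#K : ℂ)⁻¹ • star l)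

theorem coeff_eL (K : Subgroup G) (l : G → ℂ) (y : G) :
    (eL K l).coeff y = (#K : ℂ)⁻¹ * conj (l y) := coeff_ga _ _

theorem eL_mem (O : ValuationSubring ℂ) (h2 : (2 : ℂ) ∈ O.nonunits) {K : Subgroup G} (hK : Odd #K)
    {l : G → ℂ} (hl : l ∈ Lin K) : eL K l ∈ intGA O G := fun y => by
  rw [coeff_eL]
  exact mul_mem (inv_mem_of_notMem_nonunits O (odd_notMem_nonunits O h2 hK))
    (mem_of_isIntegral O (isIntegral_chr (star_mem_Chr (lin_mem_Chr hl)) y))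

theorem eL_comm (K : Subgroup G) {l : G → ℂ} {g : G} (hg : g ∈ stab l) :
    eL K l * el g = el g * eL K l :=
  (commute_el_iff _ g).2 fun y => by rw [coeff_eL, coeff_eL, hg y]

theorem sum_eq_sum_fs [Fintype G] {K : Subgroup G} {f : G → ℂ} (hf : ∀ x, x ∉ K → f x = 0) :
    ∑ x, f x = ∑ x ∈ fs (K : Set G), f x :=
  (Finset.sum_subset (Finset.subset_univ _) fun x _ hx => hf x (mt mem_fs.2 hx)).symm

theorem eL_mul {K : Subgroup G} {l m : G → ℂ} (hl : l ∈ Lin K) (hm : m ∈ Lin K) :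
    eL K l * eL K m = ip K m l • eL K m := by
  have := Fintype.ofFinite G
  refine ga_ext fun y => ?_
  rw [coeff_mul_left, MonoidAlgebra.coeff_smul_apply, sum_eq_sum_fs (K := K) fun x hx => by
    simp [coeff_eL, (lin_mem_CF hl).1 x hx], ip, smul_eq_mul, Finset.mul_sum, Finset.sum_mul]
  refine Finset.sum_congr rfl fun x hx => ?_
  simp only [coeff_eL]
  rw [lin_mul hm (inv_mem (mem_fs.1 hx)), chr_inv (lin_mem_Chr hm), _root_.map_mul, Complex.conj_conj]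
  ring

theorem chi_mul_eL (D : CharData G) (i : Fin D.n) {K : Subgroup G} {l : G → ℂ} (hl : l ∈ Lin K)
    (x : G) : D.χ i (el x * eL K l) = ip K (sh x fun g => D.χ i (el g)) l := by
  have := Fintype.ofFinite G
  rw [chi_el_mul, sum_eq_sum_fs (K := K) fun x hx => by
    simp [coeff_eL, (lin_mem_CF hl).1 x hx], ip, Finset.mul_sum]
  refine Finset.sum_congr rfl fun y _ => ?_
  simp only [coeff_eL, sh]
  ring

theorem ip_sh_mul {K : Subgroup G} {l : G → ℂ} (hl : l ∈ Lin K) (f : G → ℂ) (x : G) {g : G}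
    (hg : g ∈ K) : ip K (sh (x * g) f) l = ip K (sh x f) l * l g := by
  unfold ip
  rw [← sum_fs_mul_left (inv_mem hg), mul_assoc, Finset.sum_mul]
  congr 1
  refine Finset.sum_congr rfl fun y _ => ?_
  rw [lin_mul hl (inv_mem hg), chr_inv (lin_mem_Chr hl), _root_.map_mul, Complex.conj_conj, sh, sh,
    mul_assoc x, mul_inv_cancel_left]
  ring

theorem exists_Phi {t : G} {F : G → ℂ} (hF : 𝒞₁ t ≤ stab F) :
    ∃ Φ : G → G → ℂ, ∀ y g, Φ (y * t * y⁻¹) g = F (y⁻¹ * g * y) := by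
  classical
  refine ⟨fun v g => if h : ∃ y, y * t * y⁻¹ = v then F (h.choose⁻¹ * g * h.choose) else 0,
    fun y g => ?_⟩
  have h : ∃ y', y' * t * y'⁻¹ = y * t * y⁻¹ := ⟨y, rfl⟩
  have h1 : y⁻¹ * h.choose ∈ 𝒞₁ t := mem_centralizer_singleton_iff.2 (by
    calc _ = y⁻¹ * (h.choose * t * h.choose⁻¹) * h.choose := by group
      _ = _ := by rw [h.choose_spec]; group)
  simp only [dif_pos h]
  rw [← hF h1]
  congr 1; group

namespace VS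

variable {t s ρ : G} {K : Subgroup G} (h : VS t s ρ K)
include h

theorem conj_mem_U {u : G} : ρ⁻¹ * u * ρ ∈ K ⊓ 𝒞₁ s ↔ u ∈ K ⊓ 𝒞₁ s := by
  have h1 : ∀ v, ρ⁻¹ * u * ρ ∈ 𝒞₁ v ↔ u ∈ 𝒞₁ (ρ * v * ρ⁻¹) := fun v => by
    rw [← cj_centralizer_singleton, mem_cj]
  have h2 : ∀ x, x ∈ K ⊓ 𝒞₁ s ↔ (x ∈ 𝒞₁ t ∧ x ∈ 𝒞₁ s) ∧ Odd (orderOf x) := fun x => by
    rw [mem_inf, h.mem, ← mem_centralizer_singleton_iff, and_right_comm]
  rw [h2, h2, h1, h1, h.ρt, h.ρs, ← CfsgH4.orderOf_conj' ρ, show ρ * (ρ⁻¹ * u * ρ) * ρ⁻¹ = u by group]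
  simp only [mem_centralizer_singleton_iff]
  refine and_congr_left' ⟨fun e => ⟨?_, e.1⟩, fun e => ⟨e.2, ?_⟩⟩
  · rw [← mul_left_inj s, mul_assoc, e.2, mul_assoc, ← e.1, mul_assoc]
  · rw [← mul_assoc, e.1, mul_assoc, e.2, mul_assoc]

theorem F_conj {F : G → ℂ} (h0 : ∀ x, x ∉ K → F x = 0)
    (hρ : ∀ u ∈ K ⊓ 𝒞₁ s, F (ρ⁻¹ * u * ρ) = F u) {x : G} (hx : x ∈ 𝒞₁ t) :
    F (ρ⁻¹ * (ρ⁻¹ * x * ρ) * ρ) = F (ρ⁻¹ * x * ρ) := by
  have h1 : ∀ u v, ρ⁻¹ * u * ρ ∈ 𝒞₁ v ↔ u ∈ 𝒞₁ (ρ * v * ρ⁻¹) := fun u v => by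
    rw [← cj_centralizer_singleton, mem_cj]
  have h2 : Commute (ρ⁻¹ * x * ρ) (t * s) :=
    mem_centralizer_singleton_iff.1 ((h1 x _).2 (h.ρts.symm ▸ hx))
  generalize ρ⁻¹ * x * ρ = u at h2
  by_cases hu : u ∈ K ⊓ 𝒞₁ s
  · exact hρ u hu
  rw [h0 u fun e => hu ⟨e, mem_centralizer_singleton_iff.2 (h.ttk s ▸
    (Commute.mul_right ((h.mem u).1 e).1 h2).eq)⟩, h0 _ fun e => hu (h.conj_mem_U.1 ⟨e, ?_⟩)]
  have h3 : Commute u s := mem_centralizer_singleton_iff.1 (h.ρt ▸ (h1 u t).1 (h.K_le e))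
  have h4 := (h1 u s).2 (h.ρs.symm ▸ mem_centralizer_singleton_iff.2 h2)
  exact h4

theorem exists_z (O : ValuationSubring ℂ) (h2 : (2 : ℂ) ∈ O.nonunits) {F : G → ℂ}
    (hO : ∀ x, F x ∈ O) (h0 : ∀ x, x ∉ K → F x = 0) (hF : 𝒞₁ t ≤ stab F)
    (hρ : ∀ u ∈ K ⊓ 𝒞₁ s, F (ρ⁻¹ * u * ρ) = F u) :
    ∃ z ∈ intGA O G, (∀ g, z * el g = el g * z) ∧
      ∀ x, Commute x t → z.coeff x - F x ∈ O.nonunits := by
  classical
  obtain ⟨Φ, hΦ⟩ := exists_Phi hF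
  have hΦO : ∀ v ∈ cl ⊤ t, ∀ g, Φ v g ∈ O := fun v hv g => by
    obtain ⟨y, -, rfl⟩ := CfsgAG.mem_cl.1 hv
    rw [hΦ]; exact hO _
  have hΦc : ∀ v ∈ cl ⊤ t, ∀ x g, Φ (x * v * x⁻¹) (x * g * x⁻¹) = Φ v g := fun v hv x g => by
    obtain ⟨y, -, rfl⟩ := CfsgAG.mem_cl.1 hv
    rw [show x * (y * t * y⁻¹) * x⁻¹ = x * y * t * (x * y)⁻¹ by group, hΦ, hΦ]
    congr 1; group
  refine ⟨ga fun g => ∑ v ∈ fs (cl ⊤ t), Φ v g, fun g => ?_, fun g => (commute_el_iff _ g).2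
    fun x => ?_, fun x hx => ?_⟩
  · rw [coeff_ga]
    exact sum_mem fun v hv => hΦO v (mem_fs.1 hv) g
  · rw [coeff_ga, coeff_ga]
    refine (Finset.sum_bij (fun v _ => g * v * g⁻¹) (fun v hv => mem_fs.2 (conj_mem_cl (mem_top g)
      (mem_fs.1 hv))) (fun a _ b _ e => by simpa using e) (fun v hv => ⟨g⁻¹ * v * g⁻¹⁻¹, mem_fs.2
        (conj_mem_cl (mem_top _) (mem_fs.1 hv)), by group⟩) fun v hv =>
          (hΦc v (mem_fs.1 hv) g x).symm).symm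
  have ht : t ∈ fs (cl ⊤ t) := mem_fs.2 (h.mem_cl.2 ⟨h.t_ne, h.tt⟩)
  have h1 : Φ t x = F x := by simpa using hΦ 1 x
  rw [coeff_ga, ← Finset.add_sum_erase _ _ ht, h1, add_sub_cancel_left]
  have h3 : ∀ v, t * (t * v * t⁻¹) * t⁻¹ = v := fun v => by
    rw [mul_assoc t v, h.ttk, h.tinv, mul_assoc, h.tt, mul_one]
  have h4 : ∀ v, t * v * t⁻¹ ∈ 𝒞₁ t ↔ v ∈ 𝒞₁ t := fun v => conj_mem_iff_of_mem h.t_mem
  refine sum_invol_mem O h2 _ _ (fun v => if v ∈ 𝒞₁ t then t * v else t * v * t⁻¹)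
    (fun v hv => hΦO v (mem_fs.1 (Finset.mem_of_mem_erase hv)) x) (fun v hv => ?_)
    (fun v hv => ?_) (fun v hv => ?_) fun v hv => ?_ <;>
    obtain ⟨v1, v2⟩ := Finset.mem_erase.1 hv <;> rw [mem_fs] at v2 <;>
    obtain ⟨v3, v4⟩ := h.mem_cl.1 v2 <;> by_cases hc : v ∈ 𝒞₁ t <;> simp only [hc, ↓reduceIte]
  · exact Finset.mem_erase.2 ⟨by simpa using v3, mem_fs.2 (h.mem_cl.2 ⟨fun e => v1 (by
      rw [← h.ttk v, e, mul_one]), (h.sq_t_mul hc).trans v4⟩)⟩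
  · exact Finset.mem_erase.2 ⟨fun e => hc ((h4 v).1 (e.symm ▸ h.t_mem)),
      mem_fs.2 (conj_mem_cl (mem_top t) v2)⟩
  · simpa using h.t_ne
  · exact fun e => hc (mem_centralizer_singleton_iff.2 (mul_inv_eq_iff_eq_mul.1 e).symm)
  · rw [if_pos (mul_mem h.t_mem hc), h.ttk]
  · rw [if_neg (mt (h4 v).1 hc), h3]
  · obtain ⟨a, ha, e⟩ := (h.invol_cases hc v4 v3).resolve_left v1
    obtain ⟨y, hy, e'⟩ := h.exists_conj_s ha
    have h5 : Φ (t * (s * a)) x = Φ (s * a) x := by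
      have hy' := h.K_le hy
      have e1 : s * a = y * ρ * t * (y * ρ)⁻¹ := by rw [← e', ← h.ρt]; group
      have e2 : t * (s * a) = y * ρ * ρ * t * (y * ρ * ρ)⁻¹ := by
        calc _ = t * y * s * y⁻¹ := by rw [← e']; group
          _ = y * (ρ * (ρ * t * ρ⁻¹) * ρ⁻¹) * y⁻¹ := by
            rw [h.ρt, h.ρs, ← mem_centralizer_singleton_iff.1 hy']; group
          _ = _ := by group
      rw [e2, e1, hΦ, hΦ]
      convert h.F_conj h0 hρ (mul_mem (mul_mem (inv_mem hy') (mem_centralizer_singleton_iff.2 hx.eq))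
        hy') using 2 <;> group
    rcases e with rfl | rfl
    · exact h5
    · rw [h.ttk, h5]
  · rw [← hΦc v v2 t x, ← hx.eq, mul_inv_cancel_right]

theorem proj {Λ : Finset (G → ℂ)} (hΛ : ∀ l ∈ Λ, l ∈ Lin K ∧ s ∈ stab l)
    (hρ : ∀ u ∈ K ⊓ 𝒞₁ s, ∑ l ∈ Λ, l (ρ⁻¹ * u * ρ) = ∑ l ∈ Λ, l u) {ψ : G → ℂ} (hψ : DIrr ⊤ ψ)
    {l₀ : G → ℂ} (h₀ : l₀ ∈ Λ) (hne : ip K (sh t ψ) l₀ ≠ 0) {g : G} (hg : g ∈ K) :
    ψ (t * g) = ∑ l ∈ Λ, ip K (sh t ψ) l * l g := by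
  classical
  wlog hi : ψ ∈ Irr ⊤ generalizing ψ
  · have e : ∀ l, ip K (sh t (-ψ)) l = -ip K (sh t ψ) l := fun l => ip_neg_left K (sh t ψ) l
    have := this hψ.neg (by rwa [e, neg_ne_zero]) (hψ.resolve_left hi)
    simpa only [e, Pi.neg_apply, neg_mul, Finset.sum_neg_distrib, neg_inj] using this
  obtain ⟨D⟩ := CharData.nonempty (G := G)
  obtain ⟨i, rfl⟩ := exists_chi_of_irr D hi
  obtain ⟨O, h2⟩ := exists_valuationSubring_two
  have hst := fun l hl => h.le_stab (hΛ l hl).1 (hΛ l hl).2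
  obtain ⟨z, hz, hzc, hF⟩ := h.exists_z O h2 (F := fun x => conj (∑ l ∈ Λ, l x))
    (fun x => by
      rw [map_sum]
      exact sum_mem fun l hl => mem_of_isIntegral O
        (isIntegral_chr (star_mem_Chr (lin_mem_Chr (hΛ l hl).1)) x))
    (fun x hx => by rw [Finset.sum_eq_zero fun l hl => (lin_mem_CF (hΛ l hl).1).1 x hx, map_zero])
    (fun y hy x => congrArg conj (Finset.sum_congr rfl fun l hl => hst l hl hy x))
    fun u hu => by rw [hρ u hu]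
  have h3 : ∀ l ∈ Λ, eL K l * ∑ m ∈ Λ, eL K m = eL K l := fun l hl => by
    rw [Finset.mul_sum, Finset.sum_congr rfl fun m hm => (eL_mul (hΛ l hl).1 (hΛ m hm).1).trans (by
      rw [ip_irr (mem_Lin.1 (hΛ m hm).1).1 (mem_Lin.1 (hΛ l hl).1).1])]
    simp [hl]
  have h4 : ∀ y ∈ 𝒞₁ t, (∑ m ∈ Λ, eL K m) * el y = el y * ∑ m ∈ Λ, eL K m := fun y hy => by
    rw [Finset.sum_mul, Finset.mul_sum, Finset.sum_congr rfl fun m hm => eL_comm K (hst m hm hy)]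
  have h5 := block_proj O h2 D hz hzc (eL_mem O h2 h.odd (hΛ _ h₀).1) (by
      rw [eL_mul (hΛ _ h₀).1 (hΛ _ h₀).1, (oNorm_Irr K).norm _ (mem_Lin.1 (hΛ _ h₀).1).1, one_smul])
    (sum_mem fun l hl => eL_mem O h2 h.odd (hΛ l hl).1)
    (by nth_rewrite 1 [Finset.sum_mul]; exact Finset.sum_congr rfl h3) (h3 _ h₀) (natCast_mem O #K)
    (odd_notMem_nonunits O h2 h.odd) (u := t) (x := t * g) (y := t) (k := 1)
    (by rw [pow_one, pow_two, h.tt]) (eL_comm K (hst _ h₀ h.t_mem)) (eL_comm K (hst _ h₀ h.t_mem))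
    (h4 t h.t_mem) (h4 _ (mul_mem h.t_mem (h.K_le hg))) (h.commute_of_pow hg)
    (by simpa using h.commute_of_pow (one_mem K)) (fun x hx => by
      convert hF x hx using 1
      rw [MonoidAlgebra.coeff_sub, Finsupp.sub_apply, MonoidAlgebra.coeff_smul_apply, coeff_sum_apply, map_sum]
      simp only [coeff_eL, ← Finset.mul_sum]
      rw [smul_eq_mul, mul_inv_cancel_left₀ (card_ne_zero' K)]) (i := i)
    (by rwa [chi_mul_eL D i (hΛ _ h₀).1])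
  refine h5.trans ?_
  rw [Finset.mul_sum, map_sum]
  exact Finset.sum_congr rfl fun l hl => by rw [chi_mul_eL D i (hΛ l hl).1, ip_sh_mul (hΛ l hl).1 _ _ hg]

end VS

end CfsgAG
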