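import Cfsg.Agent.AG.Z2
import Cfsg.Agent.AG.SE1

/-! WP Z: `specZ`. -/

set_option autoImplicit false
set_option linter.style.haveILetI false

namespace CfsgAG

open Subgroup CfsgFT CfsgL0 Matrix
open scoped MatrixGroups

universe u

theorem cyc_cent_psl {F : Type*} [Field F] [Fintype F] (h2 : (2 : F) ≠ 0)
    {y : ProjectiveSpecialLinearGroup (Fin 2) F} (hy : y * y ≠ 1) (ho : ((orderOf y : ℕ) : F) ≠ 0) :
    IsCyclic (𝒞₁ y) := by
  obtain ⟨x, rfl⟩ := QuotientGroup.mk_surjective y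
  have hx : x ∉ center SL(2, F) := fun h => hy (by
    rw [(QuotientGroup.eq_one_iff x).2 h, mul_one])
  have hs : CfsgH4.SL2.SS x := CfsgH4.SL2.ss_of_pow hx ho
    ((QuotientGroup.eq_one_iff _).1 (by rw [QuotientGroup.mk_pow]; exact pow_orderOf_eq_one _))
  haveI := hs.cent.1
  have hle : 𝒞₁ (x : ProjectiveSpecialLinearGroup (Fin 2) F) ≤
      (𝒞₁ x).map (QuotientGroup.mk' (center SL(2, F))) := fun g hg => by
    obtain ⟨g, rfl⟩ := QuotientGroup.mk_surjective g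
    refine ⟨g, mem_c1.2 ?_, rfl⟩
    have h1 : (g * x)⁻¹ * (x * g) ∈ center SL(2, F) := QuotientGroup.eq.1 (mem_c1.1 hg)
    rcases CfsgH4.SL2.mem_center.1 h1 with e | e
    · exact inv_mul_eq_one.1 e
    · exfalso
      have e1 : g⁻¹ * x * g⁻¹⁻¹ = -x := by
        calc _ = g⁻¹ * (x * g) := by group
          _ = g⁻¹ * (g * x * ((g * x)⁻¹ * (x * g))) := by group
          _ = _ := by rw [e]; simp
      have e2 := CfsgH4.SL2.tr_conj g⁻¹ x
      rw [e1] at e2
      have e3 : CfsgH4.SL2.tr x = 0 := by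
        have : CfsgH4.SL2.tr (-x) = -CfsgH4.SL2.tr x := by
          simp [CfsgH4.SL2.tr, CfsgH4.SL2.mv, add_comm]
        rw [this] at e2
        exact (mul_eq_zero.1 (by linear_combination -e2 : 2 * CfsgH4.SL2.tr x = 0)).resolve_left h2
      refine hy ((QuotientGroup.eq_one_iff (x * x)).2 (CfsgH4.SL2.mem_center.2 (Or.inr ?_)))
      rw [← neg_neg (x * x), ← mul_neg, ← CfsgH4.SL2.inv_eq_neg e3, mul_inv_cancel]
  haveI : IsCyclic ((𝒞₁ x).map (QuotientGroup.mk' (center SL(2, F)))) :=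
    isCyclic_of_surjective _ (MonoidHom.subgroupMap_surjective _ _)
  exact isCyclic_of_le hle

theorem cyc_of_psl {G : Type*} [Group G] {F : Type*} [Field F] [Fintype F] (h2 : (2 : F) ≠ 0)
    (e : G ≃* ProjectiveSpecialLinearGroup (Fin 2) F) {K : Subgroup G} (hK : K ≤ 𝒞 K)
    (hy : ∃ y ∈ K, y * y ≠ 1) (ho : ((#K : ℕ) : F) ≠ 0) : IsCyclic K := by
  obtain ⟨y, hy, yy⟩ := hy
  haveI := cyc_cent_psl h2 (y := e y) (by rwa [← map_mul, Ne, map_eq_one_iff _ e.injective]) (by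
    obtain ⟨n, hn⟩ := K.orderOf_dvd_natCard hy
    rw [MulEquiv.orderOf_eq]
    rw [hn, Nat.cast_mul] at ho
    exact left_ne_zero_of_mul ho)
  haveI : IsCyclic (K.map e.toMonoidHom) := isCyclic_of_le (H' := 𝒞₁ (e y)) (by
    rintro _ ⟨k, hk, rfl⟩
    refine mem_c1.2 ?_
    show e k * e y = e y * e k
    rw [← map_mul, ← map_mul, le_cent_iff.1 hK k hk y hy])
  exact isCyclic_of_surjective _ (K.equivMapOfInjective e.toMonoidHom e.injective).symm.surjective

theorem exists_not_mem_of_lt {G : Type*} [Group G] [Finite G] {A B : Subgroup G} (h : #A < #B) :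
    ∃ y ∈ B, y ∉ A := by
  by_contra h'
  push Not at h'
  exact absurd (card_le_of_le h') (by omega)

theorem BH.exists_sq {G : Type*} [Group G] [Finite G] {X K : Subgroup G} {t s : G}
    (h : BH X K t s) : ∃ y ∈ K, y * y ≠ 1 := by
  have h2 : orderOf t = 2 := orderOf_eq_prime (by rw [sq]; exact h.tt) h.t_ne
  obtain ⟨y, hy, h1⟩ := exists_not_mem_of_lt (A := zpowers t) (B := K)
    (by rw [Nat.card_zpowers, h2]; have := h.four; omega)
  refine ⟨y, hy, fun yy => h1 ?_⟩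
  by_cases y1 : y = 1
  · rw [y1]; exact one_mem _
  obtain ⟨g, hg, e⟩ := h.conj y (h.K_le hy) y1 yy
  have := h.ti t h.t_mem h.t_ne g hg (e ▸ hy)
  rw [← e, this, mul_inv_cancel_right]
  exact mem_zpowers t

theorem CC.comm {G : Type*} [Group G] {X T : Subgroup G} (h : CC X T) : T ≤ 𝒞 T :=
  le_cent_iff.2 fun a ha b hb => by
    by_cases b1 : b = 1
    · simp [b1]
    · exact mem_c1.1 ((h.cent b hb b1).ge ha).2

theorem specZ_top {G : Type*} [Group G] [Finite G] {K Q A : Subgroup G} {t s w : G} {e : ℤ}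
    {q p : ℕ} (h : BH ⊤ K t s) (l : LS0 ⊤ K t e q p Q A w) :
    IsL2 G q ∧ IsCyclic K ∧ IsCyclic A := by
  haveI := h.simp.isSimple
  haveI := Fact.mk l.prime
  have h2 : orderOf t = 2 := orderOf_eq_prime (by rw [sq]; exact h.tt) h.t_ne
  obtain ⟨k, hk⟩ : 2 ∣ #K := h2 ▸ K.orderOf_dvd_natCard h.t_mem
  have h4 := h.four
  have hq := l.q_eq
  have hA := l.card_A
  have hQ := l.card_Q
  have hs := l.sign
  obtain ⟨n, hn⟩ := IsPGroup.iff_card.1 (show IsPGroup p Q from fun g =>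
    ⟨1, Subtype.ext (by simpa using l.elem.2 g g.2)⟩)
  have n0 : n ≠ 0 := by rintro rfl; rw [pow_zero] at hn; omega
  letI := Fintype.ofFinite (GaloisField p n)
  have hF : Fintype.card (GaloisField p n) = #Q := by
    rw [← Nat.card_eq_fintype_card, GaloisField.card p n n0, hn]
  have hG : 2 * Nat.card G = #Q * (#Q ^ 2 - 1) := by rw [hQ, ← l.card_X, card_top]
  have hKK : K ≤ 𝒞 K := le_cent_iff.2 h.comm
  have yA : ∃ y ∈ A, y * y ≠ 1 := by
    obtain ⟨y, hy, h1⟩ := exists_not_mem_of_lt (A := ⊥) (B := A) (by rw [card_bot]; omega)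
    exact ⟨y, hy, fun yy => h1 (eq_one_of_odd_of_sq
      (odd_orderOf_of_mem (Nat.odd_iff.2 (by omega)) hy) yy)⟩
  have iso : Nonempty (G ≃* ProjectiveSpecialLinearGroup (Fin 2) (GaloisField p n)) := by
    rcases hs with rfl | rfl
    · have hB : 𝒩 Q = Q ⊔ K := by simpa using (l.borel_pos rfl).1
      refine equiv_psl_of l.ccQ hKK hB (by omega) hG h.ss h.inv h.exists_sq
        (Or.inr ⟨by omega, ?_⟩) _ hF
      obtain ⟨g, -, e⟩ := h.conj s (mem_top s) (fun e => h.s_not (e ▸ one_mem K)) h.ss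
      refine ⟨g⁻¹, ?_⟩
      rw [← e, hB]
      simpa [mul_assoc] using mem_sup_right h.t_mem
    · exact equiv_psl_of l.ccQ l.ccA.comm (by simpa using l.borel_neg rfl) (by omega) hG l.ww
        l.w_inv yA (Or.inl (by omega)) _ hF
  obtain ⟨f⟩ := iso
  have c0 : ((q : ℕ) : GaloisField p n) = 0 := by
    rw [← hQ, ← hF]; exact FiniteField.cast_card_eq_zero _
  have nz : ∀ m : ℕ, (2 * m = q + 1 ∨ 2 * m + 1 = q) →
      (2 : GaloisField p n) ≠ 0 ∧ ((m : ℕ) : GaloisField p n) ≠ 0 := fun m hm => by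
    have : (2 : GaloisField p n) * m ≠ 0 := fun e => by
      rcases hm with hm | hm <;> have := congrArg (Nat.cast : ℕ → GaloisField p n) hm <;>
        push_cast at this <;> rw [e, c0] at this <;> simp at this
    exact mul_ne_zero_iff.1 this
  have nK := nz #K (by omega)
  exact ⟨⟨_, _, _, hF.trans hQ, ⟨f⟩⟩, cyc_of_psl nK.1 f hKK h.exists_sq nK.2,
    cyc_of_psl nK.1 f l.ccA.comm yA (nz #A (by omega)).2⟩

theorem specZ : SpecZ.{u} := by
  intro G _ _ X K t s h e q p Q A w l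
  let f : X ≃* (⊤ : Subgroup X) := topEquiv.symm
  obtain ⟨h1, h2, h3⟩ := specZ_top
    (BH.tr (t := ⟨t, h.K_le h.t_mem⟩) (s := ⟨s, h.s_mem⟩) h f)
    (LS0.tr (t := ⟨t, h.K_le h.t_mem⟩) (w := ⟨w, l.w_mem⟩) l h.K_le f)
  exact ⟨l, h1, isCyclic_of_surjective _ (trE f h.K_le).symm.surjective,
    isCyclic_of_surjective _ (trE f l.ccA.le).symm.surjective⟩

theorem specBSW_of (h : SpecBSW0.{u}) : SpecBSW.{u} := fun G _ _ X K t s hb => by
  obtain ⟨e, q, p, Q, A, w, l⟩ := h G X K t s hb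
  exact ⟨e, q, p, Q, A, w, specZ G X K t s hb e q p Q A w l⟩

end CfsgAG
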