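import Cfsg.Agent.AG.SE2
import Cfsg.Agent.BS.C3a

/-! WP Z, first part: coordinates on the Borel subgroup and two lemmas on finite fields. -/

set_option autoImplicit false
set_option linter.style.haveILetI false

namespace CfsgAG

open Subgroup CfsgFT CfsgL0

theorem exists_εκ {G : Type*} [Group G] [Finite G] {Q E : Subgroup G} (hQ : Q ≤ 𝒞 Q)
    (hE : E ≤ 𝒞 E) (hn : E ≤ 𝒩 Q) (hreg : ∀ y ∈ E, ∀ x ∈ Q, x ≠ 1 → y * x = x * y → y = 1)
    (hc : 2 * #E + 1 = #Q) (F : Type*) [Field F] [Fintype F] (hF : Fintype.card F = #Q) :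
    ∃ (ε : F → G) (κ : Fˣ →* G), (∀ x y, ε (x + y) = ε x * ε y) ∧ Function.Injective ε ∧
      (∀ x, ε x ∈ Q) ∧ (∀ z ∈ Q, ∃ x, ε x = z) ∧ (∀ u, κ u ∈ E) ∧ (∀ k ∈ E, ∃ u, κ u = k) ∧
      ∀ u x, κ u * ε x * (κ u)⁻¹ = ε (u ^ 2 * x) := by
  classical
  letI : CommGroup Q := { (inferInstance : Group Q) with
    mul_comm := fun a b => Subtype.ext (le_cent_iff.1 hQ a a.2 b b.2) }
  let φ : E → AddMonoid.End (Additive Q) := fun y => AddMonoidHom.mk'
    (fun x => Additive.ofMul ⟨y * x.toMul * (y : G)⁻¹, conj_mem_of_mem_norm (hn y.2) x.toMul.2⟩)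
    fun a b => congrArg Additive.ofMul (Subtype.ext (by
      show (y : G) * (a.toMul * b.toMul) * (y : G)⁻¹ = y * a.toMul * (y : G)⁻¹ * (y * b.toMul * (y : G)⁻¹)
      group))
  have φv : ∀ y x, ((φ y x).toMul : G) = y * x.toMul * (y : G)⁻¹ := fun _ _ => rfl
  have ext : ∀ a b : Additive Q, ((a.toMul : Q) : G) = b.toMul → a = b := fun a b h =>
    Additive.toMul.injective (Subtype.ext h)
  have φm : ∀ y z x, φ (y * z) x = φ y (φ z x) := fun y z x => ext _ _ (by
    rw [φv, φv, φv, coe_mul]; group)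
  have φ1 : ∀ x, φ 1 x = x := fun x => ext _ _ (by rw [φv]; simp)
  have φi : ∀ x, x ≠ 0 → ∀ y z, φ y x = φ z x → y = z := fun x hx y z h => by
    have h1 := congrArg (fun a : Additive Q => ((a.toMul : Q) : G)) h
    simp only [φv] at h1
    have := hreg ((z : G)⁻¹ * y) (mul_mem (inv_mem z.2) y.2) _ x.toMul.2
      (fun e => hx (ext _ _ e)) (by
        calc (z : G)⁻¹ * y * x.toMul = (z : G)⁻¹ * (y * x.toMul * (y : G)⁻¹) * y := by group
          _ = _ := by rw [h1]; group)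
    exact Subtype.ext (inv_mul_eq_one.1 this).symm
  have φ0 : ∀ y x, φ y x = 0 → x = 0 := fun y x h => by
    rw [← φ1 x, ← inv_mul_cancel y, φm, h, map_zero]
  have hcA : Nat.card (Additive Q) = #Q := rfl
  have hE0 : 0 < #E := Nat.card_pos
  haveI : Nontrivial (Additive Q) := Finite.one_lt_card_iff_nontrivial.1 (by omega)
  obtain ⟨a0, h0⟩ := exists_ne (0 : Additive Q)
  obtain ⟨e, e0, he⟩ := CfsgBS.exists_field_coord (S := Set.range φ)
    (by
      rintro _ ⟨y, rfl⟩ _ ⟨z, rfl⟩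
      refine AddMonoidHom.ext fun x => ?_
      show φ y (φ z x) = φ z (φ y x)
      rw [← φm, ← φm, show y * z = z * y from Subtype.ext (le_cent_iff.1 hE _ y.2 _ z.2)])
    (fun N hN hi => by
      obtain ⟨⟨a, ha⟩, a0⟩ := AddSubgroup.ne_bot_iff_exists_ne_zero.1 hN
      have a0' : a ≠ 0 := fun e => a0 (Subtype.ext e)
      have := Nat.card_le_card_of_injective (α := Option E) (β := N)
        (fun o => o.elim 0 fun y => ⟨φ y a, hi _ ⟨y, rfl⟩ a ha⟩) (by
          rintro (_ | y) (_ | z) h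
          · rfl
          · exact absurd (φ0 z a (congrArg Subtype.val h).symm) a0'
          · exact absurd (φ0 y a (congrArg Subtype.val h)) a0'
          · rw [φi a a0' y z (congrArg Subtype.val h)])
      rw [Finite.card_option] at this
      rw [hcA, ← hc]
      nlinarith) h0 (E := F) hF
  have he' : ∀ y a, e (φ y a) = e (φ y a0) * e a := fun y a => by
    obtain ⟨c, hc⟩ := he _ ⟨y, rfl⟩
    rw [hc, hc, e0, mul_one]
  let ψ : E →* Fˣ := MonoidHom.mk'
    (fun y => Units.mk0 (e (φ y a0)) fun h => h0 (φ0 y a0 (by simpa using h)))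
    fun y z => Units.ext (by simp only [Units.val_mk0, Units.val_mul]; rw [φm, he'])
  have ψi : Function.Injective ψ := fun y z h =>
    φi a0 h0 y z (e.injective (congrArg Units.val h))
  have hcu : Nat.card Fˣ = 2 * #E := by rw [Nat.card_units, Nat.card_eq_fintype_card, hF]; omega
  have hi : ψ.range.index = 2 := by
    have := ψ.range.card_mul_index
    rw [← Nat.card_congr (MonoidHom.ofInjective ψi).toEquiv, hcu, mul_comm] at this
    exact Nat.eq_of_mul_eq_mul_right hE0 this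
  have hle : (powMonoidHom 2 : Fˣ →* Fˣ).range ≤ ψ.range := by
    rintro _ ⟨u, rfl⟩
    exact sq_mem_of_index_two hi u
  have hr : (powMonoidHom 2 : Fˣ →* Fˣ).range = ψ.range := by
    refine eq_of_le_of_card_ge hle ?_
    rw [IsCyclic.card_powMonoidHom_range, ← Nat.card_congr (MonoidHom.ofInjective ψi).toEquiv, hcu,
      Nat.gcd_eq_right (dvd_mul_right _ _), Nat.mul_div_cancel_left _ two_pos]
  let κ' : Fˣ →* E := (MonoidHom.ofInjective ψi).symm.toMonoidHom.comp
    ((powMonoidHom 2).codRestrict ψ.range fun u => hle ⟨u, rfl⟩)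
  have hκ : ∀ u, ψ (κ' u) = u ^ 2 := fun u => MonoidHom.apply_ofInjective_symm ψi _
  refine ⟨fun x => (e.symm x).toMul, E.subtype.comp κ', fun x y => by simp, fun x y h => ?_,
    fun x => (e.symm x).toMul.2, fun z hz => ⟨e (Additive.ofMul ⟨z, hz⟩), by simp⟩,
    fun u => (κ' u).2, fun k hk => ?_, fun u x => ?_⟩
  · exact e.symm.injective (ext _ _ h)
  · obtain ⟨u, hu⟩ := hr.ge ⟨⟨k, hk⟩, rfl⟩
    exact ⟨u, congrArg Subtype.val (ψi ((hκ u).trans hu))⟩
  · show (κ' u : G) * _ * (κ' u : G)⁻¹ = _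
    rw [← φv]
    congr 2
    rw [AddEquiv.eq_symm_apply, he', AddEquiv.apply_symm_apply]
    congr 1
    exact congrArg Units.val (hκ u)

section field

variable {F : Type*} [Field F] [Fintype F]

theorem sq_mul_of_not {a b : F} (ha : ¬ IsSquare a) (hb : ¬ IsSquare b) : IsSquare (a * b) := by
  classical
  have ha0 : a ≠ 0 := fun e => ha (e ▸ IsSquare.zero)
  have hb0 : b ≠ 0 := fun e => hb (e ▸ IsSquare.zero)
  rw [← quadraticChar_one_iff_isSquare (mul_ne_zero ha0 hb0), map_mul,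
    quadraticChar_neg_one_iff_not_isSquare.2 ha, quadraticChar_neg_one_iff_not_isSquare.2 hb]
  norm_num

omit [Fintype F] in
theorem sq_of_mul_sq {a b : F} (hb : IsSquare b) (hb0 : b ≠ 0) (h : IsSquare (a * b)) :
    IsSquare a := by
  have := h.mul hb.inv
  rwa [mul_inv_cancel_right₀ hb0] at this

/-- the homogeneity condition determines `f` on the two square classes -/
theorem f_class {f : F → F} (hf : ∀ u x : F, u ≠ 0 → x ≠ 0 → f (u ^ 2 * x) * u ^ 2 = f x)
    {x y : F} (hx : x ≠ 0) (hy : y ≠ 0) (h : IsSquare x ↔ IsSquare y) : f x * x = f y * y := by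
  have : IsSquare (x * y) := by
    by_cases h1 : IsSquare x
    · exact h1.mul (h.1 h1)
    · exact sq_mul_of_not h1 (mt h.2 h1)
  obtain ⟨c, hc⟩ := this
  have hc0 : c ≠ 0 := by
    rintro rfl
    exact mul_ne_zero hx hy (by simpa using hc)
  have e : x = (c / y) ^ 2 * y := by field_simp; linear_combination hc
  rw [← hf (c / y) y (div_ne_zero hc0 hy) hy, ← e, mul_assoc, ← e]

theorem f_neg {f : F → F} (hf : ∀ u x : F, u ≠ 0 → x ≠ 0 → f (u ^ 2 * x) * u ^ 2 = f x)
    (h0 : ∀ x, x ≠ 0 → f x ≠ 0) (hi : ∀ x, x ≠ 0 → f (f x) = x) (hfix : ∀ x, x ≠ 0 → f x ≠ x)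
    (h3 : ¬ IsSquare (-1 : F)) : ∃ d : F, d ≠ 0 ∧ ∀ x, x ≠ 0 → f x * x = -d ^ 2 := by
  have a0 := h0 1 one_ne_zero
  have ha : ¬ IsSquare (f 1) := by
    rintro ⟨c, hc⟩
    have hc0 : c ≠ 0 := by rintro rfl; exact a0 (by simpa using hc)
    have key : ∀ c : F, c ≠ 0 → f 1 = c * c → IsSquare c → False := fun c hc0 hc h => by
      have := f_class hf hc0 one_ne_zero (iff_of_true h IsSquare.one)
      rw [mul_one, hc] at this
      exact hfix c hc0 (mul_right_cancel₀ hc0 this)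
    by_cases h : IsSquare c
    · exact key c hc0 hc h
    · exact key (-c) (neg_ne_zero.2 hc0) (by rw [hc]; ring) (by simpa using sq_mul_of_not h3 h)
  obtain ⟨d, hd⟩ := sq_mul_of_not h3 ha
  refine ⟨d, by rintro rfl; exact a0 (by simpa using hd), fun x hx => ?_⟩
  have : f x * x = f 1 := by
    by_cases h : IsSquare x
    · rw [f_class hf hx one_ne_zero (iff_of_true h IsSquare.one), mul_one]
    · rw [f_class hf hx a0 (iff_of_false h ha), hi 1 one_ne_zero, one_mul]
  rw [this]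
  linear_combination -hd

theorem f_pos {f : F → F} (hf : ∀ u x : F, u ≠ 0 → x ≠ 0 → f (u ^ 2 * x) * u ^ 2 = f x)
    (h1 : f 1 = 1) {μ : F} (hr : ∀ x, x ≠ 0 → x + 1 ≠ 0 → f (f x + 1) = 1 + μ * f (x + 1))
    (h2 : (2 : F) ≠ 0) (hi : IsSquare (-1 : F)) {c : F} (hc0 : c ≠ 0) (hc : c ^ 4 ≠ 1) :
    ∀ x, x ≠ 0 → f x * x = 1 := by
  have hs : ∀ x, x ≠ 0 → IsSquare x → f x * x = 1 := fun x hx h => by
    rw [f_class hf hx one_ne_zero (iff_of_true h IsSquare.one), h1, one_mul]
  by_contra hn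
  push Not at hn
  obtain ⟨n, n0, hn⟩ := hn
  have hn' : ¬ IsSquare n := fun h => hn (hs n n0 h)
  have hb : ∀ x, ¬ IsSquare x → f x * x = f n * n := fun x h =>
    f_class hf (fun e => h (e ▸ IsSquare.zero)) n0 (iff_of_false h hn')
  generalize f n * n = b at hn hb
  have k1 : ∀ x : F, x ≠ 0 → IsSquare x → ¬ IsSquare (x + 1) → (b - 1) * x = 1 + μ * b :=
    fun x hx h h' => by
      have x1 : x + 1 ≠ 0 := fun e => h' (e ▸ IsSquare.zero)
      have e1 : f x = x⁻¹ := eq_inv_of_mul_eq_one_left (hs x hx h)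
      have e2 : x⁻¹ + 1 = (x + 1) * x⁻¹ := by field_simp; ring
      have e3 := hb (x⁻¹ + 1) fun h'' => h' (sq_of_mul_sq h.inv (inv_ne_zero hx) (e2 ▸ h''))
      have e4 := hr x hx x1
      have e5 := hb _ h'
      rw [e1] at e4
      rw [e4, e2] at e3
      field_simp at e3
      linear_combination μ * e5 - e3
  have k2 : ∀ x : F, IsSquare x → x ≠ 1 → IsSquare (x + 1) := fun x h x1 => by
    by_contra h'
    have hx : x ≠ 0 := by rintro rfl; exact h' (by simp)
    have e2 : x⁻¹ + 1 = (x + 1) * x⁻¹ := by field_simp; ring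
    have e3 := k1 x⁻¹ (inv_ne_zero hx) h.inv
      fun h'' => h' (sq_of_mul_sq h.inv (inv_ne_zero hx) (e2 ▸ h''))
    rw [← k1 x hx h h'] at e3
    have e4 := mul_left_cancel₀ (sub_ne_zero.2 hn) e3
    have e5 : (x - 1) * (x + 1) = 0 := by field_simp at e4; linear_combination -e4
    rcases mul_eq_zero.1 e5 with e | e
    · exact x1 (sub_eq_zero.1 e)
    · exact h' (e ▸ IsSquare.zero)
  have k3 : ∀ x y : F, IsSquare x → IsSquare y → x ≠ y → IsSquare (x + y) := fun x y hx hy h => by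
    by_cases y0 : y = 0
    · rw [y0, add_zero]; exact hx
    · have := (k2 (x * y⁻¹) (hx.mul hy.inv) fun e => h (by field_simp at e; exact e)).mul hy
      rwa [add_mul, inv_mul_cancel_right₀ y0, one_mul] at this
  have k4 : ∀ x : F, ¬ IsSquare x → x ^ 2 = -1 := fun x h => by
    by_contra h'
    obtain ⟨i, hi⟩ := hi
    refine h ?_
    have := k3 (((x + 1) / 2) ^ 2) ((i * (x - 1) / 2) ^ 2) (IsSquare.sq _) (IsSquare.sq _) fun e => h' (by
      field_simp at e
      have : (2 : F) * (x ^ 2 + 1) = 0 := by linear_combination e - (x - 1) ^ 2 * hi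
      exact eq_neg_of_add_eq_zero_left ((mul_eq_zero.1 this).resolve_left h2))
    convert this using 1
    field_simp
    linear_combination (x - 1) ^ 2 * hi
  have e1 := k4 n hn'
  have e2 := k4 (n * c ^ 2) fun h => hn' (sq_of_mul_sq (IsSquare.sq c) (pow_ne_zero 2 hc0) h)
  exact hc (by linear_combination (c ^ 4) * e1 - e2)

end field

end CfsgAG
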