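import Cfsg.Agent.AG.Z1

/-! WP Z, second part: identification of the Zassenhaus group with `PSL(2, q)`. -/

set_option autoImplicit false
set_option linter.style.haveILetI false

namespace CfsgAG

open Subgroup CfsgFT CfsgL0 Matrix OnePoint
open scoped MatrixGroups

section mob

variable {F : Type*} [Field F] [DecidableEq F]

/-- Möbius action of `SL(2, F)` -/
def mob : SL(2, F) →* Equiv.Perm (OnePoint F) :=
  (MulAction.toPermHom (GL (Fin 2) F) (OnePoint F)).comp SpecialLinearGroup.toGL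

theorem mob_infty (g : SL(2, F)) :
    mob g ∞ = if g.1 1 0 = 0 then ∞ else ((g.1 0 0 / g.1 1 0 : F) : OnePoint F) :=
  smul_infty_eq_ite _

theorem mob_coe (g : SL(2, F)) (k : F) : mob g (k : OnePoint F) =
    if g.1 1 0 * k + g.1 1 1 = 0 then ∞
    else (((g.1 0 0 * k + g.1 0 1) / (g.1 1 0 * k + g.1 1 1) : F) : OnePoint F) :=
  smul_some_eq_ite

omit [Field F] [DecidableEq F] in
theorem perm_ext {σ τ : Equiv.Perm (OnePoint F)} (h : σ ∞ = τ ∞) (h' : ∀ x : F, σ x = τ x) :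
    σ = τ := Equiv.ext fun z => by
  cases z with
  | infty => exact h
  | coe x => exact h' x

theorem center_le_ker : center SL(2, F) ≤ (mob (F := F)).ker := fun g hg => by
  rcases CfsgH4.SL2.mem_center.1 hg with rfl | rfl
  · exact one_mem _
  · exact perm_ext (by simp [mob_infty]) fun x => by simp [mob_coe]

theorem mob_trans {σ : Equiv.Perm (OnePoint F)} {a : F} (h : σ ∞ = ∞)
    (h' : ∀ x : F, σ x = (a + x : F)) : σ ∈ (mob (F := F)).range :=
  ⟨⟨!![1, a; 0, 1], by simp⟩, perm_ext ((mob_infty _).trans (by simp [h])) fun x =>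
    (mob_coe _ _).trans (by simp [h', add_comm])⟩

theorem mob_diag {σ : Equiv.Perm (OnePoint F)} {u : F} (hu : u ≠ 0) (h : σ ∞ = ∞)
    (h' : ∀ x : F, σ x = (u ^ 2 * x : F)) : σ ∈ (mob (F := F)).range :=
  ⟨⟨!![u, 0; 0, u⁻¹], by simp [hu]⟩, perm_ext ((mob_infty _).trans (by simp [h])) fun x =>
    (mob_coe _ _).trans (by simp [h', hu]; ring)⟩

theorem mob_inv {σ : Equiv.Perm (OnePoint F)} {d : F} (hd : d ≠ 0) (h : σ ∞ = (0 : F))
    (h0 : σ (0 : F) = ∞) (h' : ∀ x : F, x ≠ 0 → σ x = (-d ^ 2 / x : F)) :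
    σ ∈ (mob (F := F)).range :=
  ⟨⟨!![0, d; -d⁻¹, 0], by simp [hd]⟩, perm_ext ((mob_infty _).trans (by simp [h, hd])) fun x =>
    (mob_coe _ _).trans (by
      by_cases hx : x = 0
      · simp [hx, h0]
      · simp [h' x hx, hd, hx]; field_simp)⟩

theorem equiv_psl_of_le {G : Type*} [Group G] [Fintype F] (ρ : G →* Equiv.Perm (OnePoint F))
    (hi : Function.Injective ρ) (hle : ρ.range ≤ (mob (F := F)).range)
    (hc : Nat.card G = Nat.card (ProjectiveSpecialLinearGroup (Fin 2) F)) :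
    Nonempty (G ≃* ProjectiveSpecialLinearGroup (Fin 2) F) := by
  let π : ProjectiveSpecialLinearGroup (Fin 2) F →* Equiv.Perm (OnePoint F) :=
    QuotientGroup.lift _ mob center_le_ker
  have hr : (mob (F := F)).range = π.range := by
    ext σ
    refine ⟨fun ⟨g, h⟩ => ⟨g, h⟩, fun ⟨g, h⟩ => ?_⟩
    obtain ⟨g, rfl⟩ := QuotientGroup.mk_surjective g
    exact ⟨g, h⟩
  rw [hr] at hle
  have h1 := Nat.card_congr (MonoidHom.ofInjective hi).toEquiv
  have h2 := card_le_of_le hle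
  have h3 : Function.Bijective π.rangeRestrict :=
    π.rangeRestrict_surjective.bijective_of_nat_card_le (by omega)
  have h4 := Nat.card_eq_of_bijective _ h3
  exact ⟨((MonoidHom.ofInjective hi).trans (MulEquiv.subgroupCongr
    (eq_of_le_of_card_ge hle (by omega)))).trans (MulEquiv.ofBijective _ h3).symm⟩

end mob

theorem equiv_psl_of {G : Type*} [Group G] [Finite G] [IsSimpleGroup G] {Q E : Subgroup G} {w : G}
    (hQ : CC ⊤ Q) (hE : E ≤ 𝒞 E) (hB : 𝒩 Q = Q ⊔ E) (hc : 2 * #E + 1 = #Q)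
    (hG : 2 * Nat.card G = #Q * (#Q ^ 2 - 1)) (ww : w * w = 1)
    (winv : ∀ y ∈ E, w * y * w⁻¹ = y⁻¹) (hy : ∃ y ∈ E, y * y ≠ 1)
    (hw : #Q % 4 = 3 ∨ #Q % 4 = 1 ∧ ∃ g, g * w * g⁻¹ ∈ 𝒩 Q)
    (F : Type*) [Field F] [Fintype F] (hF : Fintype.card F = #Q) :
    Nonempty (G ≃* ProjectiveSpecialLinearGroup (Fin 2) F) := by
  classical
  have hQc : ∀ y ∈ Q, y ≠ 1 → 𝒞₁ y = Q := fun y hy y1 => by simpa using hQ.cent y hy y1
  have hQQ : Q ≤ 𝒞 Q := le_cent_iff.2 fun a ha b hb => by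
    by_cases b1 : b = 1
    · simp [b1]
    · exact mem_c1.1 ((hQc b hb b1).ge ha)
  have hn : E ≤ 𝒩 Q := hB ▸ le_sup_right
  have hE0 : 0 < #E := Nat.card_pos
  have hodd : (#Q).Coprime #E := by
    rw [← hc, Nat.coprime_comm, Nat.coprime_mul_right_add_right]; simp
  have hQE : Q ⊓ E = ⊥ := disjoint_iff.1 (disjoint_of_coprime_natCard hodd)
  have one_of : ∀ y ∈ Q, y ∈ E → y = 1 := fun y h h' => by
    rw [← mem_bot, ← hQE]; exact ⟨h, h'⟩
  obtain ⟨ε, κ, εa, εi, εm, εs, κm, κs, κc⟩ := exists_εκ hQQ hE hn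
    (fun y hy x hx x1 h => one_of y ((hQc x hx x1).le (mem_c1.2 h)) hy) hc F hF
  have ε0 : ε 0 = 1 := by simpa using εa 0 0
  have εn : ∀ x, ε (-x) = (ε x)⁻¹ := fun x => eq_inv_of_mul_eq_one_left (by
    rw [← εa, neg_add_cancel, ε0])
  have memB : ∀ g, g ∈ 𝒩 Q ↔ ∃ x u, g = ε x * κ u := fun g => by
    refine ⟨fun h => ?_, ?_⟩
    · obtain ⟨a, ha, b, hb, rfl⟩ := (CfsgH2.mem_sup_of_le_normalizer hn).1 (hB ▸ h)
      obtain ⟨x, rfl⟩ := εs a ha
      obtain ⟨u, rfl⟩ := κs b hb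
      exact ⟨x, u, rfl⟩
    · rintro ⟨x, u, rfl⟩
      exact mul_mem (le_normalizer (εm x)) (hn (κm u))
  have winv' : w⁻¹ = w := inv_eq_of_mul_eq_one_left ww
  have cB : #(𝒩 Q) = #Q * #E := by
    rw [hB, sup_comm, CfsgH2.card_sup_of_disjoint hn (inf_comm Q E ▸ hQE), mul_comm]
  have wB : w ∉ 𝒩 Q := fun h => by
    obtain ⟨x, u, e⟩ := (memB w).1 h
    obtain ⟨y, hy, yy⟩ := hy
    have h1 := winv y hy
    have h2 := le_cent_iff.1 hE _ (κm u) y hy
    refine yy ?_
    have : y⁻¹ * y⁻¹ = ε x * (y * (ε x)⁻¹ * y⁻¹) := by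
      calc y⁻¹ * y⁻¹ = w * y * w⁻¹ * y⁻¹ := by rw [h1]
        _ = ε x * (κ u * y) * (κ u)⁻¹ * (ε x)⁻¹ * y⁻¹ := by rw [e]; group
        _ = _ := by rw [h2]; group
    have h3 := one_of _ (this ▸ mul_mem (εm x) (conj_mem_of_mem_norm (hn hy) (inv_mem (εm x))))
      (mul_mem (inv_mem hy) (inv_mem hy))
    rw [← _root_.inv_inj, _root_.mul_inv_rev, h3, _root_.inv_one]
  have wε : ∀ x, w * ε x * w⁻¹ ∈ 𝒩 Q → x = 0 := fun x h => by
    by_contra hx
    have x1 : ε x ≠ 1 := fun e => hx (εi (e.trans ε0.symm))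
    have h1 : w * ε x * w⁻¹ ∈ Q := by
      obtain ⟨a, u, e⟩ := (memB _).1 h
      have h2 : (w * ε x * w⁻¹) ^ #Q = 1 := by
        rw [conj_pow, orderOf_dvd_iff_pow_eq_one.1 (Q.orderOf_dvd_natCard (εm x))]; group
      have h3 : ∀ n : ℕ, (ε a * κ u) ^ n * (κ u ^ n)⁻¹ ∈ Q := fun n => by
        induction n with
        | zero => simp
        | succ n ih =>
          have := mul_mem (εm a) (conj_mem_of_mem_norm (hn (κm u)) ih)
          convert this using 1
          rw [pow_succ', pow_succ']; group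
      have h4 := h3 #Q
      rw [← e, h2, one_mul] at h4
      have h5 := one_of _ (inv_mem_iff.1 h4) (pow_mem (κm u) _)
      have h6 : κ u = 1 := orderOf_eq_one_iff.1 (Nat.eq_one_of_dvd_coprimes hodd
        (orderOf_dvd_of_pow_eq_one h5) (E.orderOf_dvd_natCard (κm u)))
      rw [e, h6, mul_one]; exact εm a
    refine wB (mem_normalizer_iff_cj.2 ?_)
    rw [← hQc _ (εm x) x1, cj_centralizer_singleton, hQc _ h1 (by simpa using x1),
      hQc _ (εm x) x1]
  let pt : OnePoint F → G ⧸ 𝒩 Q := fun z => z.elim ((1 : G) : G ⧸ 𝒩 Q) fun x => (ε x * w : G)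
  have pti : pt ∞ = ((1 : G) : G ⧸ 𝒩 Q) := rfl
  have ptc : ∀ x : F, pt x = (ε x * w : G) := fun _ => rfl
  have hne : ∀ x : F, pt ∞ ≠ pt x := fun x h => wB (by
    have := mul_mem (inv_mem (le_normalizer (εm x))) (QuotientGroup.eq.1 h)
    simpa using this)
  have hbij : Function.Bijective pt := by
    refine Function.Injective.bijective_of_nat_card_le (fun a b h => ?_) ?_
    · cases a with
      | infty => cases b with
        | infty => rfl
        | coe b => exact absurd h (hne b)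
      | coe a => cases b with
        | infty => exact absurd h.symm (hne a)
        | coe b =>
          have h1 : (ε a * w)⁻¹ * (ε b * w) ∈ 𝒩 Q := QuotientGroup.eq.1 h
          have := wε (-a + b) (by
            rw [εa, εn, winv']
            convert h1 using 1
            rw [_root_.mul_inv_rev, winv']; group)
          rw [neg_add_eq_zero.1 this]
    · have h1 := (𝒩 Q).card_mul_index
      rw [← index_eq_card, show Nat.card (OnePoint F) = #Q + 1 by
        rw [← hF, ← Nat.card_eq_fintype_card]; exact Finite.card_option]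
      have h2 : #Q ^ 2 - 1 = 2 * #E * (#Q + 1) := by
        rw [← hc, Nat.sub_eq_iff_eq_add (Nat.one_le_pow _ _ (by omega))]; ring
      rw [← h1, cB, h2] at hG
      have h3 : 0 < 2 * #Q * #E := Nat.mul_pos (by omega) hE0
      exact (Nat.eq_of_mul_eq_mul_left h3 (by linarith)).le
  let β := Equiv.ofBijective pt hbij
  let ρ : G →* Equiv.Perm (OnePoint F) :=
    (β.symm.permCongrHom : _ →* _).comp (MulAction.toPermHom G (G ⧸ 𝒩 Q))
  have ρi : Function.Injective ρ := β.symm.permCongrHom.injective.comp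
    (CfsgH4.toPermHom_injective_of_simple fun e => wB (e ▸ mem_top w))
  have ρe : ∀ g a b, ρ g a = b ↔ g • pt a = pt b := fun g a b => β.symm_apply_eq
  have ρm : ∀ g h a, ρ (g * h) a = ρ g (ρ h a) := fun g h a => by rw [map_mul]; rfl
  have ρB : ∀ g, ρ g ∞ = ∞ ↔ g ∈ 𝒩 Q := fun g => by
    rw [ρe, pti, MulAction.Quotient.smul_mk, eq_comm, QuotientGroup.eq]; simp
  have ρε : ∀ a x : F, ρ (ε a) x = (a + x : F) := fun a x => by
    rw [ρe, ptc, ptc, MulAction.Quotient.smul_mk, εa, smul_eq_mul, mul_assoc]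
  have ρκ : ∀ (u : Fˣ) (x : F), ρ (κ u) x = ((u : F) ^ 2 * x : F) := fun u x => by
    rw [ρe, ptc, ptc, MulAction.Quotient.smul_mk, ← κc, smul_eq_mul, QuotientGroup.eq]
    have h1 : w⁻¹ * (κ u)⁻¹ * w⁻¹⁻¹ ∈ E := by
      rw [winv', winv _ (inv_mem (κm u))]; exact inv_mem (inv_mem (κm u))
    convert hn h1 using 1
    group
  have ρεi : ∀ a, ρ (ε a) ∞ = ∞ := fun a => (ρB _).2 (le_normalizer (εm a))
  have ρκi : ∀ u, ρ (κ u) ∞ = ∞ := fun u => (ρB _).2 (hn (κm u))
  have ρw : ρ w ∞ = (0 : F) := by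
    rw [ρe, pti, ptc, MulAction.Quotient.smul_mk, ε0, smul_eq_mul, mul_one, one_mul]
  have ρww : ∀ a, ρ w (ρ w a) = a := fun a => by rw [← ρm, ww, map_one]; rfl
  have ρw0 : ρ w (0 : F) = ∞ := by rw [← ρw, ρww]
  have exf : ∀ x : F, ∃ y : F, x ≠ 0 → ρ w x = y ∧ y ≠ 0 := fun x => by
    by_cases hx : x = 0
    · exact ⟨0, fun h => absurd hx h⟩
    cases h : ρ w x with
    | infty => exact absurd (coe_eq_coe.1 (by rw [← ρww x, h, ρw])) hx
    | coe y =>
      refine ⟨y, fun _ => ⟨rfl, ?_⟩⟩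
      rintro rfl
      exact infty_ne_coe x (by rw [← ρww x, h, ρw0])
  choose f hf using exf
  have fh : ∀ u x : F, u ≠ 0 → x ≠ 0 → f (u ^ 2 * x) * u ^ 2 = f x := fun u x hu hx => by
    have h1 : κ (Units.mk0 u hu) * w * κ (Units.mk0 u hu) = w := by
      have := winv _ (κm (Units.mk0 u hu))
      calc _ = κ (Units.mk0 u hu) * (w * κ (Units.mk0 u hu) * w⁻¹) * w := by group
        _ = _ := by rw [this]; group
    have h2 := congrArg (fun g => ρ g x) h1
    simp only [ρm, ρκ, Units.val_mk0] at h2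
    rw [(hf _ (mul_ne_zero (pow_ne_zero 2 hu) hx)).1, (hf x hx).1, ρκ, coe_eq_coe] at h2
    rw [← h2, mul_comm]; rfl
  have h2F : (2 : F) ≠ 0 := fun h => by
    have := FiniteField.cast_card_eq_zero F
    rw [hF, ← hc] at this
    simp [h] at this
  have key : ∃ d : F, d ≠ 0 ∧ ∀ x, x ≠ 0 → f x * x = -d ^ 2 := by
    rcases hw with h3 | ⟨h1, g, hg⟩
    · refine f_neg fh (fun x hx => (hf x hx).2) (fun x hx => ?_) (fun x hx e => ?_)
        (by rw [FiniteField.isSquare_neg_one_iff, hF]; simpa using h3)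
      · rw [← coe_eq_coe, ← (hf _ (hf x hx).2).1, ← (hf x hx).1, ρww]
      · have h4 : ρ ((ε x * w)⁻¹ * w * (ε x * w)) ∞ = ∞ := by
          rw [ρm, ρm, ρm, ρw, ρε, add_zero, (hf x hx).1, e, _root_.mul_inv_rev, ρm, ← εn, ρε,
            neg_add_cancel, winv', ρw0]
        have h5 : Odd #(𝒩 Q) := by
          rw [cB]; exact Odd.mul (Nat.odd_iff.2 (by omega)) (Nat.odd_iff.2 (by omega))
        have h6 := eq_one_of_odd_of_sq (odd_orderOf_of_mem h5 ((ρB _).1 h4)) (by
          calc _ = (ε x * w)⁻¹ * (w * w) * (ε x * w) := by group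
            _ = 1 := by rw [ww]; group)
        exact wB (by
          rw [show w = ε x * w * ((ε x * w)⁻¹ * w * (ε x * w)) * (ε x * w)⁻¹ by group, h6]
          simp)
    · have hi : IsSquare (-1 : F) := by rw [FiniteField.isSquare_neg_one_iff, hF]; omega
      obtain ⟨c, c0, hfc⟩ : ∃ c : F, c ≠ 0 ∧ f c = c := by
        have h4 : ρ w (ρ g⁻¹ ∞) = ρ g⁻¹ ∞ := by
          rw [← ρm, show w * g⁻¹ = g⁻¹ * (g * w * g⁻¹) by group, ρm, (ρB _).2 hg]
        cases h : ρ g⁻¹ ∞ with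
        | infty => rw [h, ρw] at h4; exact absurd h4.symm (infty_ne_coe _)
        | coe c =>
          rw [h] at h4
          have c0 : c ≠ 0 := by rintro rfl; rw [ρw0] at h4; exact infty_ne_coe _ h4
          exact ⟨c, c0, coe_eq_coe.1 ((hf c c0).1.symm.trans h4)⟩
      obtain ⟨i, hi'⟩ := id hi
      have i0 : i ≠ 0 := by rintro rfl; simp at hi'
      have hfc' : f (-c) = -c := by
        have := fh i c i0 c0
        rw [sq, ← hi', hfc, neg_one_mul] at this
        linear_combination -this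
      obtain ⟨u, hu⟩ : ∃ u, ε (-c) * w * ε c * w * ε (-c) * w = κ u := by
        obtain ⟨a, u, e⟩ := (memB (ε (-c) * w * ε c * w * ε (-c) * w)).1 ((ρB _).1 (by
          simp only [ρm]
          rw [ρw, ρε, add_zero, (hf _ (neg_ne_zero.2 c0)).1, hfc', ρε, add_neg_cancel, ρw0, ρεi]))
        have h5 := congrArg (fun g => ρ g (0 : F)) e
        simp only [ρm] at h5
        rw [ρw0, ρεi, ρw, ρε, add_zero, (hf c c0).1, hfc, ρε, ρκ, ρε, coe_eq_coe] at h5
        exact ⟨u, by rw [e, show a = 0 by linear_combination -h5, ε0, one_mul]⟩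
      have hrel : w * ε c * w = ε c * κ u * w * ε c := by
        rw [← hu, εn]
        calc _ = w * ε c * w * (ε c)⁻¹ * (w * w) * ε c := by rw [ww]; group
          _ = _ := by group
      obtain ⟨y, hy, yy⟩ := hy
      obtain ⟨v, rfl⟩ := κs y hy
      have := f_pos (f := fun y => f (c * y) / c) (μ := (u : F) ^ 2) (c := v) (fun u x hu hx => by
          rw [← fh u (c * x) hu (mul_ne_zero c0 hx), mul_left_comm]; ring)
        (by simp [hfc, c0]) (fun x hx x1 => ?_) h2F hi v.ne_zero fun h => yy (ρi ?_)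
      · refine ⟨i * c, mul_ne_zero i0 c0, fun x hx => ?_⟩
        have h6 := this (x / c) (div_ne_zero hx c0)
        simp only [mul_div_cancel₀ x c0] at h6
        field_simp at h6
        linear_combination h6 - c ^ 2 * hi'
      · have cx := mul_ne_zero c0 hx
        have cx1 : c + c * x ≠ 0 := by rw [← mul_one_add, add_comm]; exact mul_ne_zero c0 x1
        have h6 := congrArg (fun g => ρ g (c * x : F)) hrel
        simp only [ρm] at h6
        rw [(hf _ cx).1, ρε, ρε, (hf _ cx1).1, ρκ, ρε] at h6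
        have h7 : c + f (c * x) ≠ 0 := fun e => by
          rw [e, ρw0] at h6; exact infty_ne_coe _ h6
        rw [(hf _ h7).1, coe_eq_coe] at h6
        show f (c * (f (c * x) / c + 1)) / c = 1 + (u : F) ^ 2 * (f (c * (x + 1)) / c)
        rw [show c * (f (c * x) / c + 1) = c + f (c * x) by field_simp; ring, h6,
          show c * (x + 1) = c + c * x by ring]
        field_simp
      · refine perm_ext (by rw [ρm, ρκi, ρκi, map_one]; rfl) fun x => ?_
        rw [ρm, ρκ, ρκ, map_one, ← mul_assoc, ← pow_add, h, one_mul]; rfl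
  obtain ⟨d, d0, hd⟩ := key
  have mB : ∀ g ∈ 𝒩 Q, ρ g ∈ (mob (F := F)).range := fun g hg => by
    obtain ⟨x, u, rfl⟩ := (memB g).1 hg
    rw [map_mul]
    exact mul_mem (mob_trans (ρεi x) (ρε x)) (mob_diag u.ne_zero (ρκi u) (ρκ u))
  refine equiv_psl_of_le ρ ρi ?_ ?_
  · rintro _ ⟨g, rfl⟩
    cases h : ρ g ∞ with
    | infty => exact mB g ((ρB g).1 h)
    | coe x =>
      have h1 : w * ε (-x) * g ∈ 𝒩 Q := (ρB _).1 (by rw [ρm, ρm, h, ρε, neg_add_cancel, ρw0])
      rw [show g = ε x * w * (w * ε (-x) * g) by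
        rw [εn, ← mul_assoc, ← mul_assoc, mul_assoc (ε x), ww]; group, map_mul, map_mul]
      exact mul_mem (mul_mem (mB _ (le_normalizer (εm x))) (mob_inv d0 ρw ρw0 fun x hx => by
        rw [(hf x hx).1, ← hd x hx, mul_div_cancel_right₀ _ hx])) (mB _ h1)
  · have := card_psl2_odd h2F
    rw [hF] at this
    omega

end CfsgAG
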